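import Mathlib
import Groth.Prelude.Def_AlgSpGpd

/-!
# Algebra of T-points of a groupoid scheme, with a total composition operation
-/

set_option autoImplicit false
universe u
open CategoryTheory CategoryTheory.Limits AlgebraicGeometry

namespace Groth.Agent.H28.GrpdSpAlg

variable {S : Scheme.{u}} {B : AlgSp.Sp S} (G : AlgSp.GroupoidSp B) {T : AlgSp.Sp S}

open Classical in
/-- total composition of `T`-points (junk value when not composable) -/
noncomputable def cmp (α β : T ⟶ G.R) : T ⟶ G.R :=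
  if h : α ≫ G.s = β ≫ G.t then pullback.lift α β h ≫ G.c else α

lemma cmp_eq (α β : T ⟶ G.R) (h : α ≫ G.s = β ≫ G.t) :
    cmp G α β = pullback.lift α β h ≫ G.c := dif_pos h

variable {G}

lemma cmp_s {α β : T ⟶ G.R} (h : α ≫ G.s = β ≫ G.t) : cmp G α β ≫ G.s = β ≫ G.s := by
  rw [cmp_eq G α β h]
  exact G.comp_s α β h

lemma cmp_t {α β : T ⟶ G.R} (h : α ≫ G.s = β ≫ G.t) : cmp G α β ≫ G.t = α ≫ G.t := by
  rw [cmp_eq G α β h]
  exact G.comp_t α β h

lemma cmp_assoc {α β gm : T ⟶ G.R} (h₁ : α ≫ G.s = β ≫ G.t) (h₂ : β ≫ G.s = gm ≫ G.t) :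
    cmp G (cmp G α β) gm = cmp G α (cmp G β gm) := by
  rw [cmp_eq G (cmp G α β) gm (by rw [cmp_s h₁]; exact h₂),
    cmp_eq G α (cmp G β gm) (by rw [cmp_t h₂]; exact h₁)]
  have h := G.assoc α β gm h₁ h₂
  simp only [cmp_eq G α β h₁, cmp_eq G β gm h₂]
  exact h

lemma cmp_e (α : T ⟶ G.R) : cmp G α (α ≫ G.s ≫ G.e) = α := by
  rw [cmp_eq G α (α ≫ G.s ≫ G.e)
    (by rw [Category.assoc, Category.assoc, G.e_t, Category.comp_id])]
  exact G.comp_e α

lemma e_cmp (α : T ⟶ G.R) : cmp G (α ≫ G.t ≫ G.e) α = α := by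
  rw [cmp_eq G (α ≫ G.t ≫ G.e) α
    (by rw [Category.assoc, Category.assoc, G.e_s, Category.comp_id])]
  exact G.e_comp α

lemma cmp_i (α : T ⟶ G.R) : cmp G α (α ≫ G.i) = α ≫ G.t ≫ G.e := by
  rw [cmp_eq G α (α ≫ G.i) (by rw [Category.assoc, G.i_t])]
  exact G.comp_i α

lemma i_cmp (α : T ⟶ G.R) : cmp G (α ≫ G.i) α = α ≫ G.s ≫ G.e := by
  rw [cmp_eq G (α ≫ G.i) α (by rw [Category.assoc, G.i_s])]
  exact G.i_comp α

lemma comp_cmp {T' : AlgSp.Sp S} (φ : T' ⟶ T) {α β : T ⟶ G.R} (h : α ≫ G.s = β ≫ G.t) :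
    φ ≫ cmp G α β = cmp G (φ ≫ α) (φ ≫ β) := by
  have h' : (φ ≫ α) ≫ G.s = (φ ≫ β) ≫ G.t := by rw [Category.assoc, Category.assoc, h]
  rw [cmp_eq G α β h, cmp_eq G _ _ h', ← Category.assoc]
  congr 1
  apply pullback.hom_ext
  · rw [Category.assoc, pullback.lift_fst, pullback.lift_fst]
  · rw [Category.assoc, pullback.lift_snd, pullback.lift_snd]

lemma cmp_fst_snd : cmp G (pullback.fst G.s G.t) (pullback.snd G.s G.t) = G.c := by
  rw [cmp_eq G _ _ pullback.condition]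
  have hid : pullback.lift (pullback.fst G.s G.t) (pullback.snd G.s G.t) pullback.condition =
      𝟙 _ := by
    apply pullback.hom_ext <;> simp
  rw [hid, Category.id_comp]

lemma comp_c (m : T ⟶ pullback G.s G.t) :
    m ≫ G.c = cmp G (m ≫ pullback.fst G.s G.t) (m ≫ pullback.snd G.s G.t) := by
  rw [← cmp_fst_snd, comp_cmp m pullback.condition]

/-- right division `d ∘ b⁻¹` -/
lemma cmp_cmp_i {α b : T ⟶ G.R} (h : α ≫ G.s = b ≫ G.t) :
    cmp G (cmp G α b) (b ≫ G.i) = α := by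
  rw [cmp_assoc h (by rw [Category.assoc, G.i_t]), cmp_i, ← Category.assoc, ← h, Category.assoc]
  exact cmp_e α

lemma cmp_i_cmp {d b : T ⟶ G.R} (h : d ≫ G.s = b ≫ G.s) :
    cmp G (cmp G d (b ≫ G.i)) b = d := by
  rw [cmp_assoc (by rw [Category.assoc, G.i_t]; exact h) (by rw [Category.assoc, G.i_s]), i_cmp,
    ← Category.assoc, ← h, Category.assoc]
  exact cmp_e d

/-- left cancellation `b⁻¹ ∘ (b ∘ f) = f` -/
lemma i_cmp_cmp {b f : T ⟶ G.R} (h : b ≫ G.s = f ≫ G.t) :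
    cmp G (b ≫ G.i) (cmp G b f) = f := by
  rw [← cmp_assoc (by rw [Category.assoc, G.i_s]) h, i_cmp, ← Category.assoc, h, Category.assoc]
  exact e_cmp f

/-- left cancellation `b ∘ (b⁻¹ ∘ f) = f` -/
lemma cmp_i_cmp' {b f : T ⟶ G.R} (h : b ≫ G.t = f ≫ G.t) :
    cmp G b (cmp G (b ≫ G.i) f) = f := by
  rw [← cmp_assoc (by rw [Category.assoc, G.i_t]) (by rw [Category.assoc, G.i_s]; exact h), cmp_i,
    ← Category.assoc, h, Category.assoc]
  exact e_cmp f

variable (G)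

/-- the square `(a, b) ↦ (a ∘ b, b)` is cartesian: `R ×_{s,U,t} R ≅ R ×_{s,U,s} R` -/
theorem isPullback_c : IsPullback G.c (pullback.snd G.s G.t) G.s G.s := by
  have hw : G.c ≫ G.s = pullback.snd G.s G.t ≫ G.s := by
    rw [← cmp_fst_snd, cmp_s pullback.condition]
  refine ⟨⟨hw⟩, ⟨PullbackCone.IsLimit.mk _
    (fun k => pullback.lift (cmp G k.fst (k.snd ≫ G.i)) k.snd ?_) ?_ ?_ ?_⟩⟩
  · rw [cmp_s (by rw [Category.assoc, G.i_t]; exact k.condition), Category.assoc, G.i_s]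
  · intro k
    rw [comp_c, pullback.lift_fst, pullback.lift_snd]
    exact cmp_i_cmp k.condition
  · intro k
    exact pullback.lift_snd _ _ _
  · intro k m h1 h2
    have hm : (m ≫ pullback.fst G.s G.t) ≫ G.s = k.snd ≫ G.t := by
      rw [Category.assoc, pullback.condition, ← Category.assoc, h2]
    apply pullback.hom_ext
    · rw [pullback.lift_fst, ← h1, comp_c, h2]
      exact (cmp_cmp_i hm).symm
    · rw [pullback.lift_snd, h2]

end Groth.Agent.H28.GrpdSpAlg
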