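import Mathlib
import Groth.Prelude.Def_AlgGrp

/-!
# The shear isomorphism of a group action
-/

set_option autoImplicit false
universe u
open CategoryTheory MonoidalCategory CartesianMonoidalCategory MonObj AlgebraicGeometry

namespace Groth.Agent.H28.ActShear

variable {S : Scheme.{u}} {G X : Over S} [GrpObj G]

@[reassoc]
theorem lift_one_act (a : AlgGrp.Action G X) {T : Over S} (x : T ⟶ X) :
    lift (1 : T ⟶ G) x ≫ a.act = x := by
  rw [Hom.one_def, ← lift_whiskerRight_assoc (toUnit T) x η[G], a.one_act, leftUnitor_hom, lift_snd]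

@[reassoc]
theorem lift_mul_act (a : AlgGrp.Action G X) {T : Over S} (g h : T ⟶ G) (x : T ⟶ X) :
    lift (g * h) x ≫ a.act = lift g (lift h x ≫ a.act) ≫ a.act := by
  rw [Hom.mul_def, ← lift_whiskerRight_assoc, a.mul_act, lift_lift_associator_hom_assoc,
    lift_whiskerLeft_assoc]

/-- `(g, x) ↦ (g, g • x)` -/
noncomputable def shearIso (a : AlgGrp.Action G X) : G ⊗ X ≅ G ⊗ X where
  hom := lift (fst G X) a.act
  inv := lift (fst G X) (lift (fst G X)⁻¹ (snd G X) ≫ a.act)
  hom_inv_id := by
    apply CartesianMonoidalCategory.hom_ext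
    · simp
    · rw [Category.assoc, lift_snd, comp_lift_assoc, GrpObj.comp_inv, lift_fst, lift_snd]
      have h : lift (fst G X)⁻¹ (lift (fst G X) (snd G X) ≫ a.act) ≫ a.act = snd G X := by
        rw [← lift_mul_act, inv_mul_cancel, lift_one_act]
      rw [lift_fst_snd, Category.id_comp] at h
      rw [h, Category.id_comp]
  inv_hom_id := by
    apply CartesianMonoidalCategory.hom_ext
    · simp
    · rw [Category.assoc, lift_snd, ← lift_mul_act, mul_inv_cancel, lift_one_act,
        Category.id_comp]

@[reassoc (attr := simp)]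
theorem shearIso_hom_snd (a : AlgGrp.Action G X) : (shearIso a).hom ≫ snd G X = a.act :=
  lift_snd _ _

@[reassoc (attr := simp)]
theorem shearIso_hom_fst (a : AlgGrp.Action G X) : (shearIso a).hom ≫ fst G X = fst G X :=
  lift_fst _ _

end Groth.Agent.H28.ActShear
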