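import Mathlib

set_option autoImplicit false

namespace Groth.Agent.H28.AdicLift

open AdicCompletion

variable {R : Type*} [CommRing R] (I : Ideal R) {S : Type*} [CommRing S] [Algebra R S]
  {B : Type*} [CommRing B] [Algebra R B] (ψ : S →ₐ[R] B)

theorem pow_le_comap (n : ℕ) :
    (I.map (algebraMap R S)) ^ n ≤ ((I.map (algebraMap R B)) ^ n).comap (ψ : S →+* B) := by
  have h1 : I.map (algebraMap R S) ≤ (I.map (algebraMap R B)).comap (ψ : S →+* B) := by
    rw [← Ideal.map_le_iff_le_comap, Ideal.map_map]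
    have : (ψ : S →+* B).comp (algebraMap R S) = algebraMap R B := ψ.comp_algebraMap
    rw [this]
  exact (Ideal.pow_right_mono h1 n).trans (Ideal.le_comap_pow _ _)

/-- the level-`n` map `Ŝ → B / I^n B`. -/
noncomputable def lvl (n : ℕ) :
    AdicCompletion (I.map (algebraMap R S)) S →+* B ⧸ (I.map (algebraMap R B)) ^ n :=
  (Ideal.quotientMap _ (ψ : S →+* B) (pow_le_comap I ψ n)).comp
    ((AdicCompletion.evalₐ (I.map (algebraMap R S)) n :
      AdicCompletion (I.map (algebraMap R S)) S →ₐ[S] S ⧸ (I.map (algebraMap R S)) ^ n) :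
      AdicCompletion (I.map (algebraMap R S)) S →+* S ⧸ (I.map (algebraMap R S)) ^ n)

theorem lvl_mk (n : ℕ) (s : AdicCauchySequence (I.map (algebraMap R S)) S) :
    lvl I ψ n (AdicCompletion.mk _ _ s) = Ideal.Quotient.mk _ (ψ (s n)) := by
  simp only [lvl, RingHom.comp_apply, RingHom.coe_coe, evalₐ_mk, Ideal.quotientMap_mk]

theorem lvl_of (n : ℕ) (s : S) :
    lvl I ψ n (AdicCompletion.of _ _ s) = Ideal.Quotient.mk _ (ψ s) := by
  simp only [lvl, RingHom.comp_apply, RingHom.coe_coe, evalₐ_of, Ideal.quotientMap_mk]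

theorem lvl_compat {m n : ℕ} (hle : m ≤ n) :
    (Ideal.Quotient.factorPow _ hle).comp (lvl I ψ n) = lvl I ψ m := by
  ext x
  obtain ⟨s, rfl⟩ := AdicCompletion.mk_surjective _ _ x
  simp only [RingHom.comp_apply, lvl_mk, Ideal.Quotient.factor_mk]
  rw [Ideal.Quotient.eq, ← map_sub]
  apply pow_le_comap I ψ m
  have := (SModEq.sub_mem.mp (s.2 hle).symm)
  simpa using this

variable [IsAdicComplete (I.map (algebraMap R B)) B]

/-- the extension of `ψ` to the completion. -/
noncomputable def lift : AdicCompletion (I.map (algebraMap R S)) S →+* B :=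
  IsAdicComplete.liftRingHom (I.map (algebraMap R B)) (lvl I ψ) (lvl_compat I ψ)

theorem mk_lift (n : ℕ) (x : AdicCompletion (I.map (algebraMap R S)) S) :
    Ideal.Quotient.mk ((I.map (algebraMap R B)) ^ n) (lift I ψ x) = lvl I ψ n x :=
  IsAdicComplete.mk_liftRingHom _ _ _ n x

theorem lift_of (s : S) : lift I ψ (AdicCompletion.of _ S s) = ψ s := by
  rw [IsHausdorff.eq_iff_smodEq (I := I.map (algebraMap R B))]
  intro n
  rw [SModEq.sub_mem, smul_eq_mul, Ideal.mul_top, ← Ideal.Quotient.eq, mk_lift, lvl_of]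

theorem eq_lift (hI : I.FG) (χ : AdicCompletion (I.map (algebraMap R S)) S →+* B)
    (hχ : ∀ s, χ (AdicCompletion.of _ S s) = ψ s) : χ = lift I ψ := by
  apply IsAdicComplete.eq_liftRingHom
  intro n
  ext x
  obtain ⟨s, rfl⟩ := AdicCompletion.mk_surjective _ _ x
  simp only [RingHom.comp_apply, lvl_mk]
  rw [Ideal.Quotient.eq]
  have hy : AdicCompletion.mk _ _ s - AdicCompletion.of _ S (s n) ∈
      LinearMap.ker (AdicCompletion.eval (I.map (algebraMap R S)) S n) := by
    rw [LinearMap.mem_ker, map_sub, sub_eq_zero, eval_of]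
    rfl
  rw [← AdicCompletion.pow_smul_top_eq_ker_eval (hI.map _)] at hy
  have key : ∀ y ∈ ((I.map (algebraMap R S)) ^ n •
      (⊤ : Submodule S (AdicCompletion (I.map (algebraMap R S)) S))),
      χ y ∈ (I.map (algebraMap R B)) ^ n := by
    intro y hy
    refine Submodule.smul_induction_on hy (fun a ha c _ => ?_)
      (fun y1 y2 h1 h2 => by rw [map_add]; exact add_mem h1 h2)
    rw [Algebra.smul_def, map_mul]
    apply Ideal.mul_mem_right
    rw [AdicCompletion.algebraMap_apply, Algebra.algebraMap_self_apply, hχ]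
    exact pow_le_comap I ψ n ha
  have := key _ hy
  rwa [map_sub, hχ] at this

end Groth.Agent.H28.AdicLift
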