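import Mathlib
import Groth.Prelude.Def_AlgSt4
import Groth.Agent.Lib.Helper22.FpSq

/-!
# Pasting of 2-fibre products on the base side: `𝒲 ×_𝒴 𝒳 ≃ 𝒲 ×_𝒵 (𝒵 ×_𝒴 𝒳)`
-/

set_option autoImplicit false
set_option linter.style.haveILetI false
set_option backward.isDefEq.respectTransparency false
set_option backward.isDefEq.respectTransparency.types false

namespace Groth.Agent.H28.FpBase

open CategoryTheory CategoryTheory.Limits FibCat
open Groth.Agent.Helper22 Groth.Agent.Helper22.EquivComp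

universe v u

section base
variable {C : Type u} [Category.{v} C] {𝒲 𝒳 𝒴 𝒵 : BasedCategory.{v, max u v} C}
  (y : 𝒲 ⥤ᵇ 𝒵) (g : 𝒵 ⥤ᵇ 𝒴) (f : 𝒳 ⥤ᵇ 𝒴)

/-- the pasting functor `𝒲 ×_𝒴 𝒳 ⟶ 𝒲 ×_𝒵 (𝒵 ×_𝒴 𝒳)`. -/
def fpBase : FibCat.fp (BasedFunctor.comp y g) f ⥤ᵇ FibCat.fp y (FibCat.fpFst g f) where
  toFunctor :=
    { obj := fun X =>
        ⟨{ fst := X.obj.fst
           snd := ⟨{ fst := y.obj X.obj.fst, snd := X.obj.snd, iso := X.obj.iso },
             lift_id_congr 𝒴.p _ (y.w_obj X.obj.fst).symm X.property⟩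
           iso := Iso.refl (y.obj X.obj.fst) },
          IsHomLift.id (y.w_obj X.obj.fst)⟩
      map := fun {X Y} m => ObjectProperty.homMk
          { fst := m.hom.fst
            snd := ObjectProperty.homMk
              { fst := y.map m.hom.fst, snd := m.hom.snd, w := m.hom.w }
            w := (Category.comp_id _).trans (Category.id_comp _).symm }
      map_id := fun X => by
        apply ObjectProperty.hom_ext
        apply CategoryTheory.Limits.CategoricalPullback.hom_ext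
        · rfl
        · apply ObjectProperty.hom_ext
          apply CategoryTheory.Limits.CategoricalPullback.hom_ext
          · exact y.toFunctor.map_id _
          · rfl
      map_comp := fun m n => by
        apply ObjectProperty.hom_ext
        apply CategoryTheory.Limits.CategoricalPullback.hom_ext
        · rfl
        · apply ObjectProperty.hom_ext
          apply CategoryTheory.Limits.CategoricalPullback.hom_ext
          · exact y.toFunctor.map_comp _ _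
          · rfl }
  w := rfl

theorem fpBase_comp_fpFst :
    BasedFunctor.comp (fpBase y g f) (FibCat.fpFst y (FibCat.fpFst g f)) =
      FibCat.fpFst (BasedFunctor.comp y g) f := rfl

lemma isEquivOver_fpBase : FibCat.IsEquivOver (fpBase y g f) := by
  haveI hfa : (fpBase y g f).toFunctor.Faithful := by
    refine ⟨?_⟩
    intro X Y m m' h
    apply ObjectProperty.hom_ext
    apply CategoryTheory.Limits.CategoricalPullback.hom_ext
    · exact congrArg (fun t => t.hom.fst) h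
    · exact congrArg (fun t => t.hom.snd.hom.snd) h
  haveI hfu : (fpBase y g f).toFunctor.Full := by
    refine ⟨?_⟩
    intro X Y n
    let inner := n.hom.snd
    let k : X.obj.fst ⟶ Y.obj.fst := n.hom.fst
    have hk : inner.hom.fst = y.map k := by
      have h1 : y.map k ≫ 𝟙 _ = 𝟙 _ ≫ inner.hom.fst := n.hom.w
      rw [Category.comp_id, Category.id_comp] at h1
      exact h1.symm
    have hiw : g.map inner.hom.fst ≫ Y.obj.iso.hom = X.obj.iso.hom ≫ f.map inner.hom.snd :=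
      inner.hom.w
    have w : (BasedFunctor.comp y g).map k ≫ Y.obj.iso.hom =
        X.obj.iso.hom ≫ f.map inner.hom.snd := by
      rw [hk] at hiw
      exact hiw
    refine ⟨ObjectProperty.homMk ⟨k, inner.hom.snd, w⟩, ?_⟩
    apply ObjectProperty.hom_ext
    apply CategoryTheory.Limits.CategoricalPullback.hom_ext
    · rfl
    · apply ObjectProperty.hom_ext
      apply CategoryTheory.Limits.CategoricalPullback.hom_ext
      · exact hk.symm
      · rfl
  apply FibLift.isEquivOver_of_ff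
  intro η
  let a : 𝒲.obj := η.obj.fst
  let P : (FibCat.fp g f).obj := η.obj.snd
  let j : y.obj a ≅ P.obj.fst := η.obj.iso
  have hj : 𝒵.p.IsHomLift (𝟙 (𝒲.p.obj a)) j.hom := η.property
  haveI := hj
  have hPz : 𝒵.p.obj P.obj.fst = 𝒲.p.obj a := IsHomLift.codomain_eq 𝒵.p (𝟙 (𝒲.p.obj a)) j.hom
  have hP : 𝒴.p.IsHomLift (𝟙 (𝒲.p.obj a)) P.obj.iso.hom :=
    lift_id_congr 𝒴.p _ hPz P.property
  haveI := hP
  haveI hgj : 𝒴.p.IsHomLift (𝟙 (𝒲.p.obj a)) (g.map j.hom) := inferInstance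
  have hξ : 𝒴.p.IsHomLift (𝟙 (𝒲.p.obj a)) (g.map j.hom ≫ P.obj.iso.hom) :=
    IsHomLift.comp_lift_id_right 𝒴.p (𝟙 (𝒲.p.obj a)) (g.map j.hom) P.obj.iso.hom
  let ξ : (FibCat.fp (BasedFunctor.comp y g) f).obj :=
    ⟨⟨a, P.obj.snd, g.toFunctor.mapIso j ≪≫ P.obj.iso⟩, hξ⟩
  let innerIso : ((fpBase y g f).obj ξ).obj.snd ≅ P :=
    ObjectProperty.isoMk _ (CategoryTheory.Limits.CategoricalPullback.mkIso j (Iso.refl P.obj.snd) (by
      show g.map j.hom ≫ P.obj.iso.hom = (g.map j.hom ≫ P.obj.iso.hom) ≫ f.map (𝟙 P.obj.snd)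
      rw [f.toFunctor.map_id, Category.comp_id]))
  let e : (fpBase y g f).obj ξ ≅ η :=
    ObjectProperty.isoMk _ (CategoryTheory.Limits.CategoricalPullback.mkIso (Iso.refl a) innerIso (by
      show y.map (𝟙 a) ≫ j.hom = 𝟙 _ ≫ j.hom
      rw [y.toFunctor.map_id]))
  refine ⟨ξ, e, ?_⟩
  refine (Groth.Agent.H13.fp_isHomLift_iff y (FibCat.fpFst g f) e.hom _).2 ?_
  exact IsHomLift.id rfl

end base

section AlgStack

open AlgebraicGeometry

variable {S : Scheme.{u}} {𝒳 𝒴 𝒵 : AlgSt.Cat S}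

theorem repByAlgSpWith_fpFst (P : MorphismProperty (AlgSp.Sp S)) (f : 𝒳 ⥤ᵇ 𝒴) (g : 𝒵 ⥤ᵇ 𝒴)
    (hf : AlgSt.RepByAlgSpWith P f) : AlgSt.RepByAlgSpWith P (FibCat.fpFst g f) := by
  intro U y
  obtain ⟨F, e₀, he₀, hP⟩ := hf U (BasedFunctor.comp y g)
  exact ⟨F, BasedFunctor.comp e₀ (fpBase y g f),
    isEquivOver_comp _ _ he₀ (isEquivOver_fpBase y g f), hP⟩

theorem points_map_comp {𝒜 ℬ 𝒞 : AlgSt.Cat S} (F : 𝒜 ⥤ᵇ ℬ) (G : ℬ ⥤ᵇ 𝒞) (p : AlgSt.Points 𝒜) :
    AlgSt.Points.map (BasedFunctor.comp F G) p = AlgSt.Points.map G (AlgSt.Points.map F p) := by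
  obtain ⟨p, rfl⟩ := AlgSt.Points.mk_surjective p
  rfl

theorem points_map_surjective_of_isEquivOver {𝒜 ℬ : AlgSt.Cat S} (F : 𝒜 ⥤ᵇ ℬ)
    (hF : FibCat.IsEquivOver F) : Function.Surjective (AlgSt.Points.map F) := by
  intro q
  obtain ⟨q, rfl⟩ := AlgSt.Points.mk_surjective q
  obtain ⟨ξ, ι, hι⟩ := Groth.Agent.Helper12.exists_iso_lift_of_isEquivOver F hF q.obj
  haveI := hι
  have hξ : 𝒜.p.obj ξ = Over.mk q.str :=
    (F.w_obj ξ).symm.trans ((IsHomLift.domain_eq ℬ.p (𝟙 (ℬ.p.obj q.obj)) ι.hom).trans q.lies)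
  refine ⟨AlgSt.Points.mk { K := q.K, str := q.str, obj := ξ, lies := hξ }, ?_⟩
  rw [AlgSt.Points.map_mk]
  exact AlgSt.Points.sound ⟨_, 𝟙 _, ι.hom, trivial⟩

theorem isUnivInjective_fpFst (K : Precoverage Scheme.{u}) (f : 𝒳 ⥤ᵇ 𝒴) (g : 𝒵 ⥤ᵇ 𝒴)
    (hf : AlgSt.IsUnivInjective K f) : AlgSt.IsUnivInjective K (FibCat.fpFst g f) := by
  intro 𝒲 h𝒲 h a b hab
  obtain ⟨a', rfl⟩ := points_map_surjective_of_isEquivOver _ (isEquivOver_fpBase h g f) a
  obtain ⟨b', rfl⟩ := points_map_surjective_of_isEquivOver _ (isEquivOver_fpBase h g f) b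
  rw [← points_map_comp, ← points_map_comp] at hab
  have := hf 𝒲 h𝒲 (BasedFunctor.comp h g) hab
  rw [this]

end AlgStack

end Groth.Agent.H28.FpBase
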