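import Mathlib
import Groth.Prelude.Def_LiftSq
import Groth.Prelude.Def_FibCat2

/-!
# Lifting squares against a base change (first projection of a 2-fibre product)
-/

set_option autoImplicit false

namespace Groth.Agent.H28.LiftFp

open CategoryTheory LiftSq

universe v₆ u₆ v₅ u₅ v₄ u₄ v₃ u₃ v₂ u₂ v u

variable {C : Type u} [Category.{v} C]
  {𝒜 : BasedCategory.{v₂, u₂} C} {ℬ : BasedCategory.{v₃, u₃} C}
  {𝒳 : BasedCategory.{v₄, u₄} C} {𝒴 : BasedCategory.{v₅, u₅} C} {𝒴' : BasedCategory.{v₆, u₆} C}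

theorem eq_of_app {F G : ℬ ⥤ᵇ 𝒳} {α β : F ⟶ G}
    (h : ∀ x, α.toNatTrans.app x = β.toNatTrans.app x) : α = β := by
  apply BasedNatTrans.homCategory.ext; ext x; exact h x

theorem app_of_eq {F G : ℬ ⥤ᵇ 𝒳} {α β : F ⟶ G} (h : α = β) (x : ℬ.obj) :
    α.toNatTrans.app x = β.toNatTrans.app x := by rw [h]

theorem comp_aux {D E : Type*} [Category D] [Category E] (F : D ⥤ E) {a b c : D} {p q : E}
    (A : a ⟶ b) (T : b ⟶ c) (I₁ : F.obj b ⟶ p) (I₂ : F.obj c ⟶ q) (S : p ⟶ q)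
    (hw : F.map T ≫ I₂ = I₁ ≫ S) (U : a ⟶ c) (h1 : A ≫ T = U) :
    (F.map A ≫ I₁) ≫ S = F.map U ≫ I₂ := by
  subst h1; rw [F.map_comp, Category.assoc, Category.assoc, hw]

theorem hom_inv_app {F G : ℬ ⥤ᵇ 𝒳} (α : F ≅ G) (b : ℬ.obj) :
    α.hom.toNatTrans.app b ≫ α.inv.toNatTrans.app b = 𝟙 _ := app_of_eq α.hom_inv_id b

theorem inv_hom_app {F G : ℬ ⥤ᵇ 𝒳} (α : F ≅ G) (b : ℬ.obj) :
    α.inv.toNatTrans.app b ≫ α.hom.toNatTrans.app b = 𝟙 _ := app_of_eq α.inv_hom_id b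

def whiskerRightIso {F G : ℬ ⥤ᵇ 𝒳} (α : F ≅ G) (f : 𝒳 ⥤ᵇ 𝒴) :
    BasedFunctor.comp F f ≅ BasedFunctor.comp G f where
  hom := BasedCategory.whiskerRight α.hom f
  inv := BasedCategory.whiskerRight α.inv f
  hom_inv_id := by rw [← whiskerRight_comp', Iso.hom_inv_id, whiskerRight_id']
  inv_hom_id := by rw [← whiskerRight_comp', Iso.inv_hom_id, whiskerRight_id']

def whiskerLeftIso (F : 𝒜 ⥤ᵇ ℬ) {G H : ℬ ⥤ᵇ 𝒳} (α : G ≅ H) :
    BasedFunctor.comp F G ≅ BasedFunctor.comp F H where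
  hom := BasedCategory.whiskerLeft F α.hom
  inv := BasedCategory.whiskerLeft F α.inv
  hom_inv_id := by rw [← whiskerLeft_comp', Iso.hom_inv_id, whiskerLeft_id']
  inv_hom_id := by rw [← whiskerLeft_comp', Iso.inv_hom_id, whiskerLeft_id']

variable (j : 𝒜 ⥤ᵇ ℬ) (f : 𝒳 ⥤ᵇ 𝒴) (y : 𝒴' ⥤ᵇ 𝒴)

theorem fp_isHomLift {P₁ P₂ : (FibCat.fp y f).obj} (φ : P₁ ⟶ P₂) {R S : C} (g : R ⟶ S)
    [h : 𝒴'.p.IsHomLift g φ.hom.fst] : (FibCat.fp y f).p.IsHomLift g φ :=
  IsHomLift.of_fac _ g φ (@IsHomLift.domain_eq _ _ _ _ 𝒴'.p _ _ _ _ g φ.hom.fst h)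
    (@IsHomLift.codomain_eq _ _ _ _ 𝒴'.p _ _ _ _ g φ.hom.fst h)
    (@IsHomLift.fac _ _ _ _ 𝒴'.p _ _ _ _ g φ.hom.fst h)

/-- the induced square for `f` -/
def sqDown (sq : Sq j (FibCat.fpFst y f)) : Sq j f where
  top := BasedFunctor.comp sq.top (FibCat.fpSnd y f)
  bot := BasedFunctor.comp sq.bot y
  iso := whiskerRightIso sq.iso y ≪≫ whiskerLeftIso sq.top (FibCat.fpIso y f)

theorem sqDown_iso_app (sq : Sq j (FibCat.fpFst y f)) (a : 𝒜.obj) :
    (sqDown j f y sq).iso.hom.toNatTrans.app a =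
      y.toFunctor.map (sq.iso.hom.toNatTrans.app a) ≫ (sq.top.obj a).obj.iso.hom := rfl

variable {j f y}

/-- a dotted arrow of the induced square gives one of the original square -/
def liftUp (sq : Sq j (FibCat.fpFst y f)) (d' : (sqDown j f y sq).Lift) : sq.Lift where
  fn := FibCat.fpLift sq.bot d'.fn d'.isoBot
  isoTop := BasedNatIso.mkNatIso
    (NatIso.ofComponents (fun a => ObjectProperty.isoMk _ (Limits.CategoricalPullback.mkIso
        (((BasedNatTrans.forgetful _ _).mapIso sq.iso).app a)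
        (((BasedNatTrans.forgetful _ _).mapIso d'.isoTop).app a)
        ((app_of_eq d'.w a).symm)))
      (by
        intro a a' g
        apply ObjectProperty.hom_ext
        apply Limits.CategoricalPullback.hom_ext
        · exact sq.iso.hom.toNatTrans.naturality g
        · exact d'.isoTop.hom.toNatTrans.naturality g))
    (fun a => @fp_isHomLift _ _ _ _ _ f y _ _ _ _ _ _ (sq.iso.hom.isHomLift' a))
  isoBot := BasedNatIso.mkNatIso
    (NatIso.ofComponents (fun b => Iso.refl _) (by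
      intro b b' g
      exact (Category.comp_id _).trans (Category.id_comp _).symm))
    (fun b => IsHomLift.id (sq.bot.w_obj b))
  w := by
    refine eq_of_app (fun a => ?_)
    change 𝟙 _ ≫ sq.iso.hom.toNatTrans.app a = sq.iso.hom.toNatTrans.app a
    exact Category.id_comp _

/-- a dotted arrow of the original square gives one of the induced square -/
def pushLift (sq : Sq j (FibCat.fpFst y f)) (d : sq.Lift) : (sqDown j f y sq).Lift where
  fn := BasedFunctor.comp d.fn (FibCat.fpSnd y f)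
  isoTop := whiskerRightIso d.isoTop (FibCat.fpSnd y f)
  isoBot := whiskerRightIso d.isoBot y ≪≫ whiskerLeftIso d.fn (FibCat.fpIso y f)
  w := by
    refine eq_of_app (fun a => ?_)
    have h1 := app_of_eq d.w a
    change d.isoBot.hom.toNatTrans.app (j.obj a) ≫ (d.isoTop.hom.toNatTrans.app a).hom.fst =
      sq.iso.hom.toNatTrans.app a at h1
    change (y.toFunctor.map (d.isoBot.hom.toNatTrans.app (j.obj a)) ≫
        (d.fn.obj (j.obj a)).obj.iso.hom) ≫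
        f.toFunctor.map ((d.isoTop.hom.toNatTrans.app a).hom.snd) =
      y.toFunctor.map (sq.iso.hom.toNatTrans.app a) ≫ (sq.top.obj a).obj.iso.hom
    exact comp_aux y.toFunctor _ _ _ _ _ ((d.isoTop.hom.toNatTrans.app a).hom.w) _ h1

theorem pushLift_isoBot_app (sq : Sq j (FibCat.fpFst y f)) (d : sq.Lift) (b : ℬ.obj) :
    (pushLift sq d).isoBot.hom.toNatTrans.app b =
      y.toFunctor.map (d.isoBot.hom.toNatTrans.app b) ≫ (d.fn.obj b).obj.iso.hom := rfl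

theorem pushLift_isoTop_app (sq : Sq j (FibCat.fpFst y f)) (d : sq.Lift) (a : 𝒜.obj) :
    (pushLift sq d).isoTop.hom.toNatTrans.app a = (d.isoTop.hom.toNatTrans.app a).hom.snd := rfl

/-- push a morphism of dotted arrows -/
def pushHom {sq : Sq j (FibCat.fpFst y f)} {d₁ d₂ : sq.Lift} (ψ : d₁ ⟶ d₂) :
    pushLift sq d₁ ⟶ pushLift sq d₂ where
  hom := BasedCategory.whiskerRight ψ.hom (FibCat.fpSnd y f)
  w_top := by
    refine eq_of_app (fun a => ?_)
    have h1 := app_of_eq ψ.w_top a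
    exact congrArg (fun k => k.hom.snd) h1
  w_bot := by
    refine eq_of_app (fun b => ?_)
    have h1 := app_of_eq ψ.w_bot b
    change d₁.isoBot.hom.toNatTrans.app b ≫ (ψ.hom.toNatTrans.app b).hom.fst =
      d₂.isoBot.hom.toNatTrans.app b at h1
    change (y.toFunctor.map (d₁.isoBot.hom.toNatTrans.app b) ≫ (d₁.fn.obj b).obj.iso.hom) ≫
        f.toFunctor.map ((ψ.hom.toNatTrans.app b).hom.snd) =
      y.toFunctor.map (d₂.isoBot.hom.toNatTrans.app b) ≫ (d₂.fn.obj b).obj.iso.hom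
    exact comp_aux y.toFunctor _ _ _ _ _ ((ψ.hom.toNatTrans.app b).hom.w) _ h1

theorem nat_aux {D : Type*} [Category D] {x x' m m' z z' : D} (u : x ⟶ x') (i' : x' ⟶ m')
    (i : x ⟶ m) (g : m ⟶ m') (h' : m' ⟶ z') (h : m ⟶ z) (v : z ⟶ z')
    (n1 : u ≫ i' = i ≫ g) (n2 : g ≫ h' = h ≫ v) : u ≫ i' ≫ h' = (i ≫ h) ≫ v := by
  rw [← Category.assoc, n1, Category.assoc, n2, Category.assoc]

theorem top_aux {D : Type*} [Category D] {s b₁ b₂ t : D} (B₁ : s ⟶ b₁) (I₁ : b₁ ⟶ s)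
    (B₂ : s ⟶ b₂) (T₁ : b₁ ⟶ t) (T₂ : b₂ ⟶ t) (σ : s ⟶ t) (h1 : B₁ ≫ T₁ = σ)
    (h2 : B₂ ≫ T₂ = σ) (e : I₁ ≫ B₁ = 𝟙 _) : (I₁ ≫ B₂) ≫ T₂ = T₁ := by
  rw [Category.assoc, h2, ← h1, ← Category.assoc, e, Category.id_comp]

theorem bot_aux {D : Type*} [Category D] {s b₁ b₂ : D} (B₁ : s ⟶ b₁) (I₁ : b₁ ⟶ s)
    (B₂ : s ⟶ b₂) (e : B₁ ≫ I₁ = 𝟙 _) : B₁ ≫ (I₁ ≫ B₂) = B₂ := by
  rw [← Category.assoc, e, Category.id_comp]

theorem uniq_aux {D : Type*} [Category D] {s b₁ b₂ : D} (B₁ : s ⟶ b₁) (I₁ : b₁ ⟶ s)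
    (B₂ : s ⟶ b₂) (φ : b₁ ⟶ b₂) (e : I₁ ≫ B₁ = 𝟙 _) (h : B₁ ≫ φ = B₂) : φ = I₁ ≫ B₂ := by
  rw [← h, ← Category.assoc, e, Category.id_comp]

theorem w_aux {D E : Type*} [Category D] [Category E] (F : D ⥤ E) {b₀ b₁ b₂ : D} {p₁ p₂ : E}
    (h₁ : b₀ ⟶ b₁) (i₁ : b₁ ⟶ b₀) (h₂ : b₀ ⟶ b₂) (I₁ : F.obj b₁ ⟶ p₁) (I₂ : F.obj b₂ ⟶ p₂)
    (S : p₁ ⟶ p₂) (e : i₁ ≫ h₁ = 𝟙 _)
    (hb : (F.map h₁ ≫ I₁) ≫ S = F.map h₂ ≫ I₂) :
    F.map (i₁ ≫ h₂) ≫ I₂ = I₁ ≫ S := by
  rw [F.map_comp, Category.assoc, ← hb, ← Category.assoc, ← Category.assoc, ← F.map_comp, e,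
    F.map_id, Category.id_comp]

/-- lift a morphism of pushed dotted arrows -/
def liftHom {sq : Sq j (FibCat.fpFst y f)} (d₁ d₂ : sq.Lift)
    (θ' : pushLift sq d₁ ⟶ pushLift sq d₂) : d₁ ⟶ d₂ where
  hom :=
    { toNatTrans :=
        { app := fun b => ObjectProperty.homMk
            { fst := d₁.isoBot.inv.toNatTrans.app b ≫ d₂.isoBot.hom.toNatTrans.app b
              snd := θ'.hom.toNatTrans.app b
              w := w_aux y.toFunctor _ _ _ _ _ _ (inv_hom_app d₁.isoBot b)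
                (app_of_eq θ'.w_bot b) }
          naturality := by
            intro b b' g
            apply ObjectProperty.hom_ext
            apply Limits.CategoricalPullback.hom_ext
            · have n1 := d₁.isoBot.inv.toNatTrans.naturality g
              have n2 := d₂.isoBot.hom.toNatTrans.naturality g
              change (d₁.fn.map g).hom.fst ≫ d₁.isoBot.inv.toNatTrans.app b' =
                d₁.isoBot.inv.toNatTrans.app b ≫ sq.bot.map g at n1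
              change sq.bot.map g ≫ d₂.isoBot.hom.toNatTrans.app b' =
                d₂.isoBot.hom.toNatTrans.app b ≫ (d₂.fn.map g).hom.fst at n2
              change (d₁.fn.map g).hom.fst ≫ d₁.isoBot.inv.toNatTrans.app b' ≫
                  d₂.isoBot.hom.toNatTrans.app b' =
                (d₁.isoBot.inv.toNatTrans.app b ≫ d₂.isoBot.hom.toNatTrans.app b) ≫
                  (d₂.fn.map g).hom.fst
              exact nat_aux _ _ _ _ _ _ _ n1 n2
            · exact θ'.hom.toNatTrans.naturality g }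
      isHomLift' := fun b => @fp_isHomLift _ _ _ _ _ f y _ _ _ _ _ _
        (@IsHomLift.comp_of_lift_id _ _ _ _ 𝒴'.p (ℬ.p.obj b) _ _ _ _ _
          (d₁.isoBot.inv.isHomLift' b) (d₂.isoBot.hom.isHomLift' b)) }
  w_top := by
    refine eq_of_app (fun a => ?_)
    apply ObjectProperty.hom_ext
    apply Limits.CategoricalPullback.hom_ext
    · have h1 := app_of_eq d₁.w a
      have h2 := app_of_eq d₂.w a
      change d₁.isoBot.hom.toNatTrans.app (j.obj a) ≫ (d₁.isoTop.hom.toNatTrans.app a).hom.fst =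
        sq.iso.hom.toNatTrans.app a at h1
      change d₂.isoBot.hom.toNatTrans.app (j.obj a) ≫ (d₂.isoTop.hom.toNatTrans.app a).hom.fst =
        sq.iso.hom.toNatTrans.app a at h2
      change (d₁.isoBot.inv.toNatTrans.app (j.obj a) ≫ d₂.isoBot.hom.toNatTrans.app (j.obj a)) ≫
          (d₂.isoTop.hom.toNatTrans.app a).hom.fst = (d₁.isoTop.hom.toNatTrans.app a).hom.fst
      exact top_aux _ _ _ _ _ _ h1 h2 (inv_hom_app d₁.isoBot (j.obj a))
    · exact app_of_eq θ'.w_top a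
  w_bot := by
    refine eq_of_app (fun b => ?_)
    change d₁.isoBot.hom.toNatTrans.app b ≫
        (d₁.isoBot.inv.toNatTrans.app b ≫ d₂.isoBot.hom.toNatTrans.app b) =
      d₂.isoBot.hom.toNatTrans.app b
    exact bot_aux _ _ _ (hom_inv_app d₁.isoBot b)

theorem uniqLift_fpFst (sq : Sq j (FibCat.fpFst y f)) (hU : (sqDown j f y sq).UniqLift) :
    sq.UniqLift := by
  intro d₁ d₂
  obtain ⟨u⟩ := hU (pushLift sq d₁) (pushLift sq d₂)
  refine ⟨{ default := liftHom d₁ d₂ u.default, uniq := fun ψ => ?_ }⟩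
  apply Sq.Lift.hom_ext
  refine eq_of_app (fun b => ?_)
  apply ObjectProperty.hom_ext
  apply Limits.CategoricalPullback.hom_ext
  · have h1 := app_of_eq ψ.w_bot b
    change d₁.isoBot.hom.toNatTrans.app b ≫ (ψ.hom.toNatTrans.app b).hom.fst =
      d₂.isoBot.hom.toNatTrans.app b at h1
    change (ψ.hom.toNatTrans.app b).hom.fst =
      d₁.isoBot.inv.toNatTrans.app b ≫ d₂.isoBot.hom.toNatTrans.app b
    exact uniq_aux _ _ _ _ (inv_hom_app d₁.isoBot b) h1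
  · have h2 := app_of_eq (congrArg Sq.Lift.Hom.hom (u.uniq (pushHom ψ))) b
    exact h2

theorem liftsUniquely_fpFst (h : LiftsUniquely j f) : LiftsUniquely j (FibCat.fpFst y f) :=
  fun sq => ⟨(h (sqDown j f y sq)).1.elim (fun d' => ⟨liftUp sq d'⟩),
    uniqLift_fpFst sq (h (sqDown j f y sq)).2⟩

end Groth.Agent.H28.LiftFp
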