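import Mathlib
import Groth.Agent.H28.FpBase
import Groth.Agent.H28.LiftFp

/-!
# Invariance of `RepByAlgSpWith` under equivalences over the base
-/

set_option autoImplicit false
set_option linter.style.haveILetI false
set_option backward.isDefEq.respectTransparency false
set_option backward.isDefEq.respectTransparency.types false

namespace Groth.Agent.H28.FpBase

open CategoryTheory CategoryTheory.Limits FibCat AlgebraicGeometry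
open Groth.Agent.Helper22 Groth.Agent.Helper22.EquivComp Groth.Agent.Helper22.FpSq
open Groth.Agent.H28.LiftFp

universe u

variable {S : Scheme.{u}}

theorem secHom_congr {F : AlgSp.Sp S} {U : Over S} {Φ Φ' : AlgSt.ofSp F ⥤ᵇ FibCat.overCat U}
    (α : Φ ⟶ Φ') (a : (AlgSt.ofSp F).obj) : AlgSt.secHom Φ a = AlgSt.secHom Φ' a := by
  have h1 : (α.toNatTrans.app a).left ≫ (Φ'.obj a).hom = (Φ.obj a).hom :=
    Over.w (α.toNatTrans.app a)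
  have h2 : (α.toNatTrans.app a).left =
      eqToHom (Φ.w_obj a) ≫ 𝟙 _ ≫ eqToHom (Φ'.w_obj a).symm :=
    @IsHomLift.fac' _ _ _ _ (FibCat.overCat U).p _ _ _ _ (𝟙 ((AlgSt.ofSp F).p.obj a))
      (α.toNatTrans.app a) (α.isHomLift' a)
  simp only [AlgSt.secHom, ← h1, h2, Category.assoc, Category.id_comp, eqToHom_trans_assoc]

theorem spMapOfOver_congr {F : AlgSp.Sp S} {U : Over S} {Φ Φ' : AlgSt.ofSp F ⥤ᵇ FibCat.overCat U}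
    (α : Φ ⟶ Φ') : AlgSt.spMapOfOver Φ = AlgSt.spMapOfOver Φ' := by
  apply ObjectProperty.hom_ext
  ext T x
  exact congrArg ULift.up (secHom_congr α ⟨T.unop, x⟩)

variable {𝒳 𝒴 𝒳' 𝒴' : AlgSt.Cat S}

theorem repByAlgSpWith_of_sq (P : MorphismProperty (AlgSp.Sp S)) (f : 𝒳 ⥤ᵇ 𝒴) (f' : 𝒳' ⥤ᵇ 𝒴')
    (a : 𝒳' ⥤ᵇ 𝒳) (b : 𝒴' ⥤ᵇ 𝒴) (ha : FibCat.IsEquivOver a) (hb : FibCat.IsEquivOver b)
    (e : BasedFunctor.comp f' b ≅ BasedFunctor.comp a f) (hf' : AlgSt.RepByAlgSpWith P f') :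
    AlgSt.RepByAlgSpWith P f := by
  intro U y
  obtain ⟨b', ⟨β₁⟩, ⟨β₂⟩⟩ := id hb
  have ι : BasedFunctor.comp (BasedFunctor.comp y b') b ≅ y := whiskerLeftIso y β₂
  obtain ⟨F, e₀, he₀, hP⟩ := hf' U (BasedFunctor.comp y b')
  exact ⟨F, BasedFunctor.comp e₀ (sqFun y f (BasedFunctor.comp y b') f' a b ι e),
    isEquivOver_comp _ _ he₀ (isEquivOver_sqFun y f (BasedFunctor.comp y b') f' a b ι e ha hb), hP⟩

theorem repByAlgSpWith_of_sq' (P : MorphismProperty (AlgSp.Sp S)) (f : 𝒳 ⥤ᵇ 𝒴) (f' : 𝒳' ⥤ᵇ 𝒴')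
    (a : 𝒳' ⥤ᵇ 𝒳) (b : 𝒴' ⥤ᵇ 𝒴) (ha : FibCat.IsEquivOver a) (hb : FibCat.IsEquivOver b)
    (e : BasedFunctor.comp f' b ≅ BasedFunctor.comp a f) (hf : AlgSt.RepByAlgSpWith P f) :
    AlgSt.RepByAlgSpWith P f' := by
  intro U y'
  obtain ⟨F, e₀, he₀, hP⟩ := hf U (BasedFunctor.comp y' b)
  obtain ⟨Q, ⟨σ₁⟩, ⟨σ₂⟩⟩ :=
    isEquivOver_sqFun (BasedFunctor.comp y' b) f y' f' a b (Iso.refl _) e ha hb
  refine ⟨F, BasedFunctor.comp e₀ Q, isEquivOver_comp _ _ he₀ ⟨_, ⟨σ₂⟩, ⟨σ₁⟩⟩, ?_⟩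
  have α : BasedFunctor.comp (BasedFunctor.comp e₀ Q) (FibCat.fpFst y' f') ≅
      BasedFunctor.comp e₀ (FibCat.fpFst (BasedFunctor.comp y' b) f) :=
    whiskerLeftIso e₀ (whiskerRightIso σ₂ (FibCat.fpFst (BasedFunctor.comp y' b) f))
  rw [spMapOfOver_congr α.hom]
  exact hP

theorem repByAlgSpWith_iff_of_sq (P : MorphismProperty (AlgSp.Sp S)) (f : 𝒳 ⥤ᵇ 𝒴)
    (f' : 𝒳' ⥤ᵇ 𝒴') (a : 𝒳' ⥤ᵇ 𝒳) (b : 𝒴' ⥤ᵇ 𝒴) (ha : FibCat.IsEquivOver a)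
    (hb : FibCat.IsEquivOver b) (e : BasedFunctor.comp f' b ≅ BasedFunctor.comp a f) :
    AlgSt.RepByAlgSpWith P f ↔ AlgSt.RepByAlgSpWith P f' :=
  ⟨repByAlgSpWith_of_sq' P f f' a b ha hb e, repByAlgSpWith_of_sq P f f' a b ha hb e⟩

end Groth.Agent.H28.FpBase
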