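import Mathlib
import Groth.Agent.H28.FpBase2

/-!
# The swap equivalence of 2-fibre products and base change along the second projection
-/

set_option autoImplicit false
set_option linter.style.haveILetI false
set_option backward.isDefEq.respectTransparency false
set_option backward.isDefEq.respectTransparency.types false

namespace Groth.Agent.H28.FpBase

open CategoryTheory CategoryTheory.Limits FibCat AlgebraicGeometry
open Groth.Agent.Helper22 Groth.Agent.Helper22.EquivComp Groth.Agent.Helper22.FpSq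
open Groth.Agent.H28.LiftFp

universe v u

section swap
variable {C : Type u} [Category.{v} C] {𝒳 𝒴 𝒮 : BasedCategory.{v, max u v} C}
  (F : 𝒳 ⥤ᵇ 𝒮) (G : 𝒴 ⥤ᵇ 𝒮)

/-- the swap functor as a functor over the base -/
def fpSwapB : FibCat.fp F G ⥤ᵇ FibCat.fp G F where
  toFunctor := Groth.Agent.H13.fpSwap F G
  w := (FibCat.fpSnd F G).w

theorem fpSwapB_comp_fpFst :
    BasedFunctor.comp (fpSwapB F G) (FibCat.fpFst G F) = FibCat.fpSnd F G := rfl

theorem isEquivOver_fpSwapB : FibCat.IsEquivOver (fpSwapB F G) :=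
  ⟨fpSwapB G F, ⟨Iso.refl _⟩, ⟨Iso.refl _⟩⟩

theorem isEquivOver_id : FibCat.IsEquivOver (BasedFunctor.id 𝒳) :=
  ⟨BasedFunctor.id 𝒳, ⟨Iso.refl _⟩, ⟨Iso.refl _⟩⟩

end swap

section AlgStack

variable {S : Scheme.{u}} {𝒳 𝒴 𝒵 : AlgSt.Cat S}

theorem repByAlgSpWith_fpSnd (P : MorphismProperty (AlgSp.Sp S)) (f : 𝒳 ⥤ᵇ 𝒴) (z : 𝒵 ⥤ᵇ 𝒴)
    (hz : AlgSt.RepByAlgSpWith P z) : AlgSt.RepByAlgSpWith P (FibCat.fpSnd z f) := by
  have h1 : AlgSt.RepByAlgSpWith P (FibCat.fpFst f z) := repByAlgSpWith_fpFst P z f hz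
  exact repByAlgSpWith_of_sq' P (FibCat.fpFst f z) (FibCat.fpSnd z f) (fpSwapB z f)
    (BasedFunctor.id 𝒳) (isEquivOver_fpSwapB z f) isEquivOver_id (Iso.refl _) h1

end AlgStack

end Groth.Agent.H28.FpBase
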