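import Mathlib
import Groth.Agent.H28.FpBase3

/-!
# The diagonal of a base change is a base change of the diagonal
-/

set_option autoImplicit false
set_option linter.style.haveILetI false
set_option backward.isDefEq.respectTransparency false
set_option backward.isDefEq.respectTransparency.types false

namespace Groth.Agent.H28.FpBase

open CategoryTheory CategoryTheory.Limits FibCat AlgebraicGeometry
open Groth.Agent.Helper22 Groth.Agent.Helper22.EquivComp Groth.Agent.Helper22.FpSq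
open Groth.Agent.H28.LiftFp

universe v u

section diag
variable {C : Type u} [Category.{v} C] {𝒳 𝒴 𝒴' : BasedCategory.{v, max u v} C}
  (f : 𝒳 ⥤ᵇ 𝒴) (g : 𝒴' ⥤ᵇ 𝒴)

/-- the base change projection -/
abbrev prj : FibCat.fp g f ⥤ᵇ 𝒴' := FibCat.fpFst g f

/-- the other projection -/
abbrev prq : FibCat.fp g f ⥤ᵇ 𝒳 := FibCat.fpSnd g f

/-- the 2-isomorphism defining `Q2` -/
def thetaIso :
    BasedFunctor.comp (BasedFunctor.comp (FibCat.fpFst (prj f g) (prj f g)) (prq f g)) f ≅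
      BasedFunctor.comp (BasedFunctor.comp (FibCat.fpSnd (prj f g) (prj f g)) (prq f g)) f :=
  whiskerLeftIso (FibCat.fpFst (prj f g) (prj f g)) (FibCat.fpIso g f).symm ≪≫
    whiskerRightIso (FibCat.fpIso (prj f g) (prj f g)) g ≪≫
    whiskerLeftIso (FibCat.fpSnd (prj f g) (prj f g)) (FibCat.fpIso g f)

/-- `𝒫 ×_{𝒴'} 𝒫 ⟶ 𝒳 ×_𝒴 𝒳` -/
def Q2 : FibCat.fp (prj f g) (prj f g) ⥤ᵇ FibCat.fp f f :=
  FibCat.fpLift (BasedFunctor.comp (FibCat.fpFst (prj f g) (prj f g)) (prq f g))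
    (BasedFunctor.comp (FibCat.fpSnd (prj f g) (prj f g)) (prq f g)) (thetaIso f g)

theorem Q2_iso_hom (Z : (FibCat.fp (prj f g) (prj f g)).obj) :
    ((Q2 f g).obj Z).obj.iso.hom =
      Z.obj.fst.obj.iso.inv ≫ g.map Z.obj.iso.hom ≫ Z.obj.snd.obj.iso.hom := rfl

/-- the 2-isomorphism defining `Ediag` -/
def epsIso : BasedFunctor.comp (FibCat.diag (prj f g)) (Q2 f g) ≅
    BasedFunctor.comp (prq f g) (FibCat.diag f) :=
  BasedNatIso.mkNatIso
    (NatIso.ofComponents (fun X => ObjectProperty.isoMk _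
        (CategoryTheory.Limits.CategoricalPullback.mkIso (Iso.refl X.obj.snd) (Iso.refl X.obj.snd) (by
          change f.map (𝟙 X.obj.snd) ≫ 𝟙 (f.obj X.obj.snd) =
            (X.obj.iso.inv ≫ g.map (𝟙 X.obj.fst) ≫ X.obj.iso.hom) ≫ f.map (𝟙 X.obj.snd)
          rw [f.toFunctor.map_id, g.toFunctor.map_id]
          simp)))
      (by
        intro X Y m
        apply ObjectProperty.hom_ext
        apply CategoryTheory.Limits.CategoricalPullback.hom_ext
        · exact (Category.comp_id _).trans (Category.id_comp _).symm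
        · exact (Category.comp_id _).trans (Category.id_comp _).symm))
    (fun X => (Groth.Agent.H13.fp_isHomLift_iff f f _ _).2
      (IsHomLift.id (Groth.Agent.H13.fp_obj_snd_proj g f X)))

/-- the comparison functor `𝒫 ⟶ (𝒫 ×_{𝒴'} 𝒫) ×_{𝒳 ×_𝒴 𝒳} 𝒳` -/
def Ediag : FibCat.fp g f ⥤ᵇ FibCat.fp (Q2 f g) (FibCat.diag f) :=
  FibCat.fpLift (FibCat.diag (prj f g)) (prq f g) (epsIso f g)

theorem Ediag_comp_fpFst :
    BasedFunctor.comp (Ediag f g) (FibCat.fpFst (Q2 f g) (FibCat.diag f)) =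
      FibCat.diag (prj f g) := rfl

theorem tau_key {E : Type*} [Category E] {a₁ a₂ b₁ b₂ c : E} (i₁ : a₁ ≅ b₁) (i₂ : a₂ ≅ b₂)
    (gj : a₁ ⟶ a₂) (K₁ : b₁ ⟶ c) (K₂ : b₂ ≅ c)
    (hw : K₁ ≫ 𝟙 c = (i₁.inv ≫ gj ≫ i₂.hom) ≫ K₂.hom) :
    gj ≫ i₂.hom = i₁.hom ≫ (K₁ ≫ K₂.inv) := by
  rw [Category.comp_id] at hw
  rw [hw]
  simp

lemma isEquivOver_Ediag : FibCat.IsEquivOver (Ediag f g) := by
  haveI hfa : (Ediag f g).toFunctor.Faithful := by
    refine ⟨?_⟩
    intro X Y m m' h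
    exact congrArg (fun t => t.hom.fst.hom.fst) h
  haveI hfu : (Ediag f g).toFunctor.Full := by
    refine ⟨?_⟩
    intro X Y n
    let n₁ : X ⟶ Y := n.hom.fst.hom.fst
    let n₂ : X ⟶ Y := n.hom.fst.hom.snd
    let n₃ : X.obj.snd ⟶ Y.obj.snd := n.hom.snd
    have hπ : n₁.hom.fst = n₂.hom.fst := by
      have h1 : n₁.hom.fst ≫ 𝟙 _ = 𝟙 _ ≫ n₂.hom.fst := n.hom.fst.hom.w
      rw [Category.comp_id, Category.id_comp] at h1
      exact h1
    have hw := n.hom.w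
    have h13 : n₁.hom.snd = n₃ := by
      have h2 : n₁.hom.snd ≫ 𝟙 _ = 𝟙 _ ≫ n₃ := congrArg (fun t => t.hom.fst) hw
      rw [Category.comp_id, Category.id_comp] at h2
      exact h2
    have h23 : n₂.hom.snd = n₃ := by
      have h2 : n₂.hom.snd ≫ 𝟙 _ = 𝟙 _ ≫ n₃ := congrArg (fun t => t.hom.snd) hw
      rw [Category.comp_id, Category.id_comp] at h2
      exact h2
    have h12 : n₁ = n₂ := by
      apply ObjectProperty.hom_ext
      apply CategoryTheory.Limits.CategoricalPullback.hom_ext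
      · exact hπ
      · exact h13.trans h23.symm
    refine ⟨n₁, ?_⟩
    apply ObjectProperty.hom_ext
    apply CategoryTheory.Limits.CategoricalPullback.hom_ext
    · apply ObjectProperty.hom_ext
      apply CategoryTheory.Limits.CategoricalPullback.hom_ext
      · rfl
      · exact h12
    · exact h13
  apply FibLift.isEquivOver_of_ff
  intro η
  let Z : (FibCat.fp (prj f g) (prj f g)).obj := η.obj.fst
  let P₁ : (FibCat.fp g f).obj := Z.obj.fst
  let P₂ : (FibCat.fp g f).obj := Z.obj.snd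
  let j : P₁.obj.fst ≅ P₂.obj.fst := Z.obj.iso
  let x : 𝒳.obj := η.obj.snd
  let k : (Q2 f g).obj Z ≅ (FibCat.diag f).obj x := η.obj.iso
  let k₁ : P₁.obj.snd ≅ x := (FibCat.fpFst f f).toFunctor.mapIso k
  let k₂ : P₂.obj.snd ≅ x := (FibCat.fpSnd f f).toFunctor.mapIso k
  have hkw : f.map k₁.hom ≫ 𝟙 _ =
      (P₁.obj.iso.inv ≫ g.map j.hom ≫ P₂.obj.iso.hom) ≫ f.map k₂.hom := k.hom.hom.w
  have hτw : g.map j.hom ≫ P₂.obj.iso.hom = P₁.obj.iso.hom ≫ f.map (k₁ ≪≫ k₂.symm).hom := by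
    have := tau_key P₁.obj.iso P₂.obj.iso (g.map j.hom) (f.map k₁.hom)
      (f.toFunctor.mapIso k₂) hkw
    rw [this]
    change _ = P₁.obj.iso.hom ≫ f.map (k₁.hom ≫ k₂.inv)
    rw [f.toFunctor.map_comp]
    rfl
  let τ : P₁ ≅ P₂ := ObjectProperty.isoMk _
    (CategoryTheory.Limits.CategoricalPullback.mkIso j (k₁ ≪≫ k₂.symm) hτw)
  let eZ : (FibCat.diag (prj f g)).obj P₁ ≅ Z := ObjectProperty.isoMk _
    (CategoryTheory.Limits.CategoricalPullback.mkIso (Iso.refl P₁) τ (by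
      show (prj f g).map (𝟙 P₁) ≫ j.hom = 𝟙 _ ≫ j.hom
      rw [(prj f g).toFunctor.map_id]
      rfl))
  let e : (Ediag f g).obj P₁ ≅ η := ObjectProperty.isoMk _
    (CategoryTheory.Limits.CategoricalPullback.mkIso eZ k₁ (by
      apply ObjectProperty.hom_ext
      apply CategoryTheory.Limits.CategoricalPullback.hom_ext
      · show 𝟙 _ ≫ k₁.hom = 𝟙 _ ≫ k₁.hom
        rfl
      · show (k₁.hom ≫ k₂.inv) ≫ k₂.hom = 𝟙 _ ≫ k₁.hom
        rw [Category.assoc, Iso.inv_hom_id, Category.comp_id, Category.id_comp]))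
  refine ⟨P₁, e, ?_⟩
  refine (Groth.Agent.H13.fp_isHomLift_iff (Q2 f g) (FibCat.diag f) e.hom _).2 ?_
  refine (Groth.Agent.H13.fp_isHomLift_iff (prj f g) (prj f g) eZ.hom _).2 ?_
  exact IsHomLift.id rfl

end diag

section AlgStack

variable {S : Scheme.{u}} {𝒳 𝒴 𝒴' : AlgSt.Cat S}

theorem repByAlgSpWith_diag_fpFst (P : MorphismProperty (AlgSp.Sp S)) (f : 𝒳 ⥤ᵇ 𝒴)
    (g : 𝒴' ⥤ᵇ 𝒴) (h : AlgSt.RepByAlgSpWith P (FibCat.diag f)) :
    AlgSt.RepByAlgSpWith P (FibCat.diag (FibCat.fpFst g f)) := by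
  have h1 : AlgSt.RepByAlgSpWith P (FibCat.fpFst (Q2 f g) (FibCat.diag f)) :=
    repByAlgSpWith_fpFst P (FibCat.diag f) (Q2 f g) h
  exact repByAlgSpWith_of_sq' P (FibCat.fpFst (Q2 f g) (FibCat.diag f))
    (FibCat.diag (FibCat.fpFst g f)) (Ediag f g) (BasedFunctor.id _) (isEquivOver_Ediag f g)
    isEquivOver_id (Iso.refl _) h1

end AlgStack

end Groth.Agent.H28.FpBase
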