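import Mathlib
import Groth.Agent.H28.FpDiag

/-!
# The base change of the diagonal of a faithful morphism is fully faithful over the base
-/

set_option autoImplicit false
set_option linter.style.haveILetI false
set_option backward.isDefEq.respectTransparency false
set_option backward.isDefEq.respectTransparency.types false

namespace Groth.Agent.H28.DiagFF

open CategoryTheory CategoryTheory.Limits FibCat

universe v u

variable {C : Type u} [Category.{v} C] {ℬ 𝒳 𝒴 : BasedCategory.{v, max u v} C}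
  (f : 𝒳 ⥤ᵇ 𝒴) (z : ℬ ⥤ᵇ FibCat.fp f f)

/-- first component -/
def K₁ (ζ : (FibCat.fp z (FibCat.diag f)).obj) : (z.obj ζ.obj.fst).obj.fst ≅ ζ.obj.snd :=
  (FibCat.fpFst f f).toFunctor.mapIso ζ.obj.iso

/-- second component -/
def K₂ (ζ : (FibCat.fp z (FibCat.diag f)).obj) : (z.obj ζ.obj.fst).obj.snd ≅ ζ.obj.snd :=
  (FibCat.fpSnd f f).toFunctor.mapIso ζ.obj.iso

theorem K_w (ζ : (FibCat.fp z (FibCat.diag f)).obj) :
    f.map (K₁ f z ζ).hom ≫ 𝟙 _ = (z.obj ζ.obj.fst).obj.iso.hom ≫ f.map (K₂ f z ζ).hom :=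
  ζ.obj.iso.hom.hom.w

theorem w_fst {ζ ζ' : (FibCat.fp z (FibCat.diag f)).obj} (m : ζ ⟶ ζ') :
    (z.map m.hom.fst).hom.fst ≫ (K₁ f z ζ').hom = (K₁ f z ζ).hom ≫ m.hom.snd :=
  congrArg (fun t => t.hom.fst) m.hom.w

theorem w_snd {ζ ζ' : (FibCat.fp z (FibCat.diag f)).obj} (m : ζ ⟶ ζ') :
    (z.map m.hom.fst).hom.snd ≫ (K₂ f z ζ').hom = (K₂ f z ζ).hom ≫ m.hom.snd :=
  congrArg (fun t => t.hom.snd) m.hom.w

instance fpFst_diag_faithful : (FibCat.fpFst z (FibCat.diag f)).toFunctor.Faithful := by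
  refine ⟨?_⟩
  intro ζ ζ' m m' h
  have h' : m.hom.fst = m'.hom.fst := h
  have e1 : m.hom.snd = (K₁ f z ζ).inv ≫ (z.map m.hom.fst).hom.fst ≫ (K₁ f z ζ').hom := by
    rw [w_fst f z m, Iso.inv_hom_id_assoc]
  have e2 : m'.hom.snd = (K₁ f z ζ).inv ≫ (z.map m'.hom.fst).hom.fst ≫ (K₁ f z ζ').hom := by
    rw [w_fst f z m', Iso.inv_hom_id_assoc]
  apply ObjectProperty.hom_ext
  apply CategoryTheory.Limits.CategoricalPullback.hom_ext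
  · exact h'
  · rw [e1, e2, h']

theorem full_key {E : Type*} [Category E] {A₁ A₂ X A₁' A₂' X' : E} (a₁ : A₁ ≅ X) (a₂ : A₂ ≅ X)
    (i : A₁ ≅ A₂) (h : a₁.hom ≫ 𝟙 X = i.hom ≫ a₂.hom) (a₁' : A₁' ≅ X') (a₂' : A₂' ≅ X')
    (i' : A₁' ≅ A₂') (h' : a₁'.hom ≫ 𝟙 X' = i'.hom ≫ a₂'.hom) (p₁ : A₁ ⟶ A₁') (p₂ : A₂ ⟶ A₂')
    (hp : p₁ ≫ i'.hom = i.hom ≫ p₂) :
    p₂ ≫ a₂'.hom = a₂.hom ≫ a₁.inv ≫ p₁ ≫ a₁'.hom := by
  rw [Category.comp_id] at h h'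
  obtain rfl : a₁ = i ≪≫ a₂ := Iso.ext h
  obtain rfl : a₁' = i' ≪≫ a₂' := Iso.ext h'
  simp only [Iso.trans_inv, Iso.trans_hom, Category.assoc, Iso.hom_inv_id_assoc]
  rw [reassoc_of% hp, Iso.inv_hom_id_assoc]

instance fpFst_diag_full [f.toFunctor.Faithful] :
    (FibCat.fpFst z (FibCat.diag f)).toFunctor.Full := by
  refine ⟨?_⟩
  intro ζ ζ' n
  let n₁ : ζ.obj.fst ⟶ ζ'.obj.fst := n
  have hp : f.map (z.map n₁).hom.fst ≫ (z.obj ζ'.obj.fst).obj.iso.hom =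
      (z.obj ζ.obj.fst).obj.iso.hom ≫ f.map (z.map n₁).hom.snd := (z.map n₁).hom.w
  have key := full_key (f.toFunctor.mapIso (K₁ f z ζ)) (f.toFunctor.mapIso (K₂ f z ζ))
    (z.obj ζ.obj.fst).obj.iso (K_w f z ζ) (f.toFunctor.mapIso (K₁ f z ζ'))
    (f.toFunctor.mapIso (K₂ f z ζ')) (z.obj ζ'.obj.fst).obj.iso (K_w f z ζ')
    (f.map (z.map n₁).hom.fst) (f.map (z.map n₁).hom.snd) hp
  have hsnd : (z.map n₁).hom.snd ≫ (K₂ f z ζ').hom =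
      (K₂ f z ζ).hom ≫ (K₁ f z ζ).inv ≫ (z.map n₁).hom.fst ≫ (K₁ f z ζ').hom := by
    apply f.toFunctor.map_injective
    simp only [Functor.map_comp]
    exact key
  refine ⟨ObjectProperty.homMk ⟨n₁, (K₁ f z ζ).inv ≫ (z.map n₁).hom.fst ≫ (K₁ f z ζ').hom, ?_⟩,
    rfl⟩
  apply ObjectProperty.hom_ext
  apply CategoryTheory.Limits.CategoricalPullback.hom_ext
  · show (z.map n₁).hom.fst ≫ (K₁ f z ζ').hom =
      (K₁ f z ζ).hom ≫ (K₁ f z ζ).inv ≫ (z.map n₁).hom.fst ≫ (K₁ f z ζ').hom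
    rw [Iso.hom_inv_id_assoc]
  · exact hsnd

/-- the isomorphism between the two components attached to an object of the fibre product -/
def psiOf (ζ : (FibCat.fp z (FibCat.diag f)).obj) :
    (z.obj ζ.obj.fst).obj.fst ≅ (z.obj ζ.obj.fst).obj.snd :=
  K₁ f z ζ ≪≫ (K₂ f z ζ).symm

theorem psiOf_map (ζ : (FibCat.fp z (FibCat.diag f)).obj) :
    f.map (psiOf f z ζ).hom = (z.obj ζ.obj.fst).obj.iso.hom := by
  have h := K_w f z ζ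
  rw [Category.comp_id] at h
  show f.map ((K₁ f z ζ).hom ≫ (K₂ f z ζ).inv) = _
  rw [f.toFunctor.map_comp, h, Category.assoc, ← f.toFunctor.map_comp, Iso.hom_inv_id,
    f.toFunctor.map_id, Category.comp_id]

theorem psiOf_lift (ζ : (FibCat.fp z (FibCat.diag f)).obj) :
    𝒳.p.IsHomLift (𝟙 (ℬ.p.obj ζ.obj.fst)) (psiOf f z ζ).hom := by
  have hk : (FibCat.fp f f).p.IsHomLift (𝟙 (ℬ.p.obj ζ.obj.fst)) ζ.obj.iso.hom := ζ.property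
  haveI h1 : 𝒳.p.IsHomLift (𝟙 (ℬ.p.obj ζ.obj.fst)) (K₁ f z ζ).hom :=
    @BasedFunctor.preserves_isHomLift _ _ _ _ (FibCat.fpFst f f) _ _ _ _ _ ζ.obj.iso.hom hk
  haveI h2 : 𝒳.p.IsHomLift (𝟙 (ℬ.p.obj ζ.obj.fst)) (K₂ f z ζ).hom :=
    @BasedFunctor.preserves_isHomLift _ _ _ _ (FibCat.fpSnd f f) _ _ _ _ _ ζ.obj.iso.hom hk
  haveI h3 : 𝒳.p.IsHomLift (𝟙 (ℬ.p.obj ζ.obj.fst)) (K₂ f z ζ).inv := inferInstance
  show 𝒳.p.IsHomLift (𝟙 (ℬ.p.obj ζ.obj.fst)) ((K₁ f z ζ).hom ≫ (K₂ f z ζ).inv)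
  infer_instance

/-- conversely, an object of the fibre product from an isomorphism of the two components -/
def objOf (b : ℬ.obj) (ψ : (z.obj b).obj.fst ≅ (z.obj b).obj.snd)
    (hψ : f.map ψ.hom = (z.obj b).obj.iso.hom) (hl : 𝒳.p.IsHomLift (𝟙 (ℬ.p.obj b)) ψ.hom) :
    (FibCat.fp z (FibCat.diag f)).obj :=
  ⟨⟨b, (z.obj b).obj.snd, ObjectProperty.isoMk _
      (CategoryTheory.Limits.CategoricalPullback.mkIso ψ (Iso.refl _) (by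
        show f.map ψ.hom ≫ 𝟙 _ = (z.obj b).obj.iso.hom ≫ f.map (𝟙 _)
        rw [hψ, f.toFunctor.map_id]))⟩,
    (Groth.Agent.H13.fp_isHomLift_iff f f _ _).2 hl⟩

theorem objOf_fst (b : ℬ.obj) (ψ : (z.obj b).obj.fst ≅ (z.obj b).obj.snd)
    (hψ : f.map ψ.hom = (z.obj b).obj.iso.hom) (hl : 𝒳.p.IsHomLift (𝟙 (ℬ.p.obj b)) ψ.hom) :
    (FibCat.fpFst z (FibCat.diag f)).obj (objOf f z b ψ hψ hl) = b := rfl

end Groth.Agent.H28.DiagFF
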