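import Mathlib
import Groth.Agent.H28.FpDiag
import Groth.Agent.Lib.Helper22.RepDiag

/-!
# A category over `C` fully faithful over a slice with image a subobject is representable
-/

set_option autoImplicit false
set_option linter.style.haveILetI false
set_option backward.isDefEq.respectTransparency false
set_option backward.isDefEq.respectTransparency.types false

namespace Groth.Agent.H28.MonoRep

open CategoryTheory CategoryTheory.Limits FibCat
open Groth.Agent.Helper22

universe v u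

variable {C : Type u} [Category.{v} C] {𝒵 : BasedCategory.{v, max u v} C} {U V : C}
  (Φ : 𝒵 ⥤ᵇ FibCat.overCat U) (j : V ⟶ U) [Mono j]
  (hfac : ∀ ζ : 𝒵.obj, ∃ h : (Φ.obj ζ).left ⟶ V, h ≫ j = (Φ.obj ζ).hom)

/-- the factorisation through `j` -/
noncomputable def facHom (ζ : 𝒵.obj) : (Φ.obj ζ).left ⟶ V := (hfac ζ).choose

omit [Mono j] in
theorem facHom_spec (ζ : 𝒵.obj) : facHom Φ j hfac ζ ≫ j = (Φ.obj ζ).hom :=
  (hfac ζ).choose_spec

theorem facHom_map {ζ ζ' : 𝒵.obj} (m : ζ ⟶ ζ') :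
    (Φ.map m).left ≫ facHom Φ j hfac ζ' = facHom Φ j hfac ζ := by
  rw [← cancel_mono j, Category.assoc, facHom_spec, facHom_spec]
  exact Over.w (Φ.map m)

/-- the induced functor to the slice over `V` -/
noncomputable def monoFun : 𝒵 ⥤ᵇ FibCat.overCat V where
  toFunctor :=
    { obj := fun ζ => Over.mk (facHom Φ j hfac ζ)
      map := fun {ζ ζ'} m => Over.homMk (Φ.map m).left (facHom_map Φ j hfac m)
      map_id := fun ζ => by
        apply Over.OverMorphism.ext
        show (Φ.map (𝟙 ζ)).left = 𝟙 _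
        rw [Φ.toFunctor.map_id]
        rfl
      map_comp := fun m n => by
        apply Over.OverMorphism.ext
        show (Φ.map (m ≫ n)).left = (Φ.map m).left ≫ (Φ.map n).left
        rw [Φ.toFunctor.map_comp]
        rfl }
  w := CategoryTheory.Functor.ext (fun ζ => Φ.w_obj ζ) (fun ζ ζ' m => Functor.congr_hom Φ.w m)

theorem monoFun_map_left {ζ ζ' : 𝒵.obj} (m : ζ ⟶ ζ') :
    ((monoFun Φ j hfac).map m).left = (Φ.map m).left := rfl

instance monoFun_faithful [Φ.toFunctor.Faithful] : (monoFun Φ j hfac).toFunctor.Faithful := by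
  refine ⟨?_⟩
  intro ζ ζ' m m' h
  apply Φ.toFunctor.map_injective
  apply Over.OverMorphism.ext
  have h' : ((monoFun Φ j hfac).map m).left = ((monoFun Φ j hfac).map m').left :=
    congrArg CommaMorphism.left h
  exact h'

instance monoFun_full [Φ.toFunctor.Full] : (monoFun Φ j hfac).toFunctor.Full := by
  refine ⟨?_⟩
  intro ζ ζ' n
  have hn : n.left ≫ facHom Φ j hfac ζ' = facHom Φ j hfac ζ := Over.w n
  have h2 : n.left ≫ (Φ.obj ζ').hom = (Φ.obj ζ).hom := by
    rw [← facHom_spec Φ j hfac ζ', ← Category.assoc, hn, facHom_spec]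
  obtain ⟨m, hm⟩ := Φ.toFunctor.map_surjective (Over.homMk n.left h2 : Φ.obj ζ ⟶ Φ.obj ζ')
  refine ⟨m, ?_⟩
  apply Over.OverMorphism.ext
  show (Φ.map m).left = n.left
  have := congrArg CommaMorphism.left hm
  exact this

theorem isEquivOver_monoFun [Φ.toFunctor.Faithful] [Φ.toFunctor.Full]
    (hsurj : ∀ {T : C} (h : T ⟶ V), ∃ (ζ : 𝒵.obj) (e : Φ.obj ζ ≅ Over.mk (h ≫ j)),
      (FibCat.overCat U).p.IsHomLift (𝟙 T) e.hom) :
    FibCat.IsEquivOver (monoFun Φ j hfac) := by
  apply FibLift.isEquivOver_of_ff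
  intro η
  obtain ⟨ζ, e, he⟩ := hsurj η.hom
  have hw : ((Over.forget U).mapIso e).hom ≫ η.hom = facHom Φ j hfac ζ := by
    rw [← cancel_mono j, Category.assoc, facHom_spec]
    exact Over.w e.hom
  refine ⟨ζ, Over.isoMk ((Over.forget U).mapIso e) hw, ?_⟩
  haveI he' : (Over.forget U).IsHomLift (𝟙 η.left) e.hom := he
  exact IsHomLift.of_fac _ _ _
    (IsHomLift.domain_eq (Over.forget U) (𝟙 η.left) e.hom)
    (IsHomLift.codomain_eq (Over.forget U) (𝟙 η.left) e.hom)
    (IsHomLift.fac (Over.forget U) (𝟙 η.left) e.hom)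

/-- compatibility of `monoFun` with the original functor -/
noncomputable def monoFunIso :
    BasedFunctor.comp (monoFun Φ j hfac) (RepDiag.overMapB j) ≅ Φ :=
  BasedNatIso.mkNatIso
    (NatIso.ofComponents (fun ζ => Over.isoMk (Iso.refl _) (by
        show 𝟙 _ ≫ (Φ.obj ζ).hom = facHom Φ j hfac ζ ≫ j
        rw [Category.id_comp, facHom_spec]))
      (by
        intro ζ ζ' m
        apply Over.OverMorphism.ext
        show (Φ.map m).left ≫ 𝟙 _ = 𝟙 _ ≫ (Φ.map m).left
        rw [Category.comp_id, Category.id_comp]))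
    (fun ζ => IsHomLift.of_fac _ _ _ (Φ.w_obj ζ) (Φ.w_obj ζ) (by
      show 𝟙 (𝒵.p.obj ζ) = eqToHom _ ≫ 𝟙 _ ≫ eqToHom _
      simp))

end Groth.Agent.H28.MonoRep
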