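import Mathlib
import Groth.Agent.H28.FpDiag
import Groth.Agent.H13.TwoYoneda
import Groth.Agent.H13.FibGrpd

/-!
# A morphism representable by algebraic spaces is faithful
-/

set_option autoImplicit false
set_option linter.style.haveILetI false
set_option backward.isDefEq.respectTransparency false
set_option backward.isDefEq.respectTransparency.types false

namespace Groth.Agent.H28.FpBase

open CategoryTheory CategoryTheory.Limits FibCat AlgebraicGeometry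
open Groth.Agent.Helper22 Groth.Agent.Helper22.EquivComp Groth.Agent.Helper22.FpSq
open Groth.Agent.H28.LiftFp

universe u

variable {S : Scheme.{u}} {𝒳 𝒴 : AlgSt.Cat S}

theorem aut_eq_id_of_rep (h𝒴 : FibCat.IsFibGrpd 𝒴.p) (f : 𝒳 ⥤ᵇ 𝒴) (hf : AlgSt.RepByAlgSp1 f)
    (a : 𝒳.obj) (α : a ⟶ a) (hα : f.map α = 𝟙 (f.obj a)) : α = 𝟙 a := by
  haveI := Groth.Agent.H13.FibGrpd.isFibered h𝒴
  let U : Over S := 𝒳.p.obj a
  let t : (FibCat.overCat U).obj := Over.mk (𝟙 U)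
  have ht : Limits.IsTerminal t := Over.mkIdTerminal
  have hx : 𝒴.p.obj (f.obj a) = (FibCat.overCat U).p.obj t := f.w_obj a
  let y : FibCat.overCat U ⥤ᵇ 𝒴 := Groth.Agent.H13.TwoYoneda.pbFunctor ht (f.obj a) hx
  let π : y.obj t ⟶ f.obj a := Groth.Agent.H13.TwoYoneda.pbπ ht (f.obj a) hx t
  haveI hπl : 𝒴.p.IsHomLift (𝟙 ((FibCat.overCat U).p.obj t)) π :=
    Groth.Agent.H13.TwoYoneda.pbπ_id_lift ht (f.obj a) hx
  haveI hπi : IsIso π := Groth.Agent.H13.TwoYoneda.pbπ_id_isIso ht (f.obj a) hx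
  let ξ : (FibCat.fp y f).obj := ⟨⟨t, a, asIso π⟩, hπl⟩
  let m : ξ ⟶ ξ := ObjectProperty.homMk ⟨𝟙 t, α, by
    show y.map (𝟙 t) ≫ π = π ≫ f.map α
    rw [hα, y.toFunctor.map_id, Category.id_comp, Category.comp_id]⟩
  obtain ⟨F, e₀, he₀⟩ := hf U y
  obtain ⟨G, ⟨β₁⟩, ⟨β₂⟩⟩ := id he₀
  haveI : G.toFunctor.IsEquivalence :=
    Groth.Agent.Helper12.isEquivalence_of_isEquivOver G ⟨e₀, ⟨β₂⟩, ⟨β₁⟩⟩
  have h1 : G.map m = G.map (𝟙 ξ) := by
    apply Stk.EltObj.hom_ext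
    have e1 := Functor.congr_hom G.w m
    have e2 := Functor.congr_hom G.w (𝟙 ξ)
    exact e1.trans e2.symm
  have h2 : m = 𝟙 ξ := G.toFunctor.map_injective h1
  exact congrArg (fun k => k.hom.snd) h2

theorem faithful_of_repByAlgSp1 (h𝒳 : FibCat.IsFibGrpd 𝒳.p) (h𝒴 : FibCat.IsFibGrpd 𝒴.p)
    (f : 𝒳 ⥤ᵇ 𝒴) (hf : AlgSt.RepByAlgSp1 f) : f.toFunctor.Faithful := by
  refine ⟨?_⟩
  intro a b φ φ' h
  have hp : 𝒳.p.map φ = 𝒳.p.map φ' := by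
    have e1 := Functor.congr_hom f.w.symm φ
    have e2 := Functor.congr_hom f.w.symm φ'
    rw [e1, e2, Functor.comp_map, Functor.comp_map, h]
  haveI hsc : 𝒳.p.IsStronglyCartesian (𝒳.p.map φ) φ := h𝒳.isStronglyCartesian φ
  haveI hl' : 𝒳.p.IsHomLift (𝒳.p.map φ) φ' := by
    rw [hp]
    exact IsHomLift.map 𝒳.p φ'
  let α : a ⟶ a :=
    Functor.IsStronglyCartesian.map 𝒳.p (𝒳.p.map φ) φ (Category.id_comp _).symm φ'
  have hα : α ≫ φ = φ' :=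
    Functor.IsStronglyCartesian.fac 𝒳.p (𝒳.p.map φ) φ (Category.id_comp _).symm φ'
  haveI hαl : 𝒳.p.IsHomLift (𝟙 (𝒳.p.obj a)) α := inferInstance
  have hfα : f.map α = 𝟙 (f.obj a) := by
    haveI h1 : 𝒴.p.IsHomLift (𝒳.p.map φ) (f.map φ) :=
      @BasedFunctor.preserves_isHomLift _ _ _ _ f _ _ _ _ _ φ (IsHomLift.map 𝒳.p φ)
    haveI h2 := Groth.Agent.H13.FibGrpd.isStronglyCartesian' h𝒴 (𝒳.p.map φ) (f.map φ)
    haveI h3 : 𝒴.p.IsHomLift (𝟙 (𝒳.p.obj a)) (f.map α) :=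
      @BasedFunctor.preserves_isHomLift _ _ _ _ f _ _ _ _ _ α hαl
    haveI h4 : 𝒴.p.IsHomLift (𝟙 (𝒳.p.obj a)) (𝟙 (f.obj a)) := IsHomLift.id (f.w_obj a)
    apply Functor.IsStronglyCartesian.ext 𝒴.p (𝒳.p.map φ) (f.map φ) (𝟙 (𝒳.p.obj a))
    rw [← f.toFunctor.map_comp, hα, Category.id_comp, h]
  have h5 := aut_eq_id_of_rep h𝒴 f hf a α hfα
  rw [← hα, h5, Category.id_comp]

end Groth.Agent.H28.FpBase
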