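import Mathlib
import Groth.Agent.H28.MonoRep
import Groth.Agent.H28.DiagFF
import Groth.Agent.H28.RepFaithful
import Groth.Agent.S12796

/-!
# The diagonal of a morphism representable by algebraic spaces is a representable monomorphism
-/

set_option autoImplicit false
set_option linter.style.haveILetI false
set_option backward.isDefEq.respectTransparency false
set_option backward.isDefEq.respectTransparency.types false

namespace Groth.Agent.H28.DiagRep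

open CategoryTheory CategoryTheory.Limits FibCat AlgebraicGeometry Opposite
open Groth.Agent.Helper22 Groth.Agent.H28.LiftFp Groth.Agent.H28.FpBase

universe u

variable {S : Scheme.{u}}

theorem exists_equalizer (F : AlgSp.Sp S) (hF : AlgSp.IsAlgSpace F) {U : Over S}
    (es₁ es₂ : F.obj.obj (op U)) :
    ∃ (V : Over S) (j : V ⟶ U), Mono j ∧ ∀ (T : Over S) (h : T ⟶ U),
      (∃ h' : T ⟶ V, h' ≫ j = h) ↔ F.obj.map h.op es₁ = F.obj.map h.op es₂ := by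
  let s₁ : (AlgSp.yon S).obj U ⟶ F := (AlgSp.J S).uliftYonedaEquiv.symm es₁
  let s₂ : (AlgSp.yon S).obj U ⟶ F := (AlgSp.J S).uliftYonedaEquiv.symm es₂
  have key : ∀ (T : Over S) (h : T ⟶ U),
      F.obj.map h.op es₁ = F.obj.map h.op es₂ ↔
        (AlgSp.yon S).map h ≫ s₁ = (AlgSp.yon S).map h ≫ s₂ := by
    intro T h
    have e1 : F.obj.map h.op es₁ =
        (AlgSp.J S).uliftYonedaEquiv ((AlgSp.yon S).map h ≫ s₁) := by
      rw [← GrothendieckTopology.uliftYonedaEquiv_naturality, Equiv.apply_symm_apply]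
    have e2 : F.obj.map h.op es₂ =
        (AlgSp.J S).uliftYonedaEquiv ((AlgSp.yon S).map h ≫ s₂) := by
      rw [← GrothendieckTopology.uliftYonedaEquiv_naturality, Equiv.apply_symm_apply]
    rw [e1, e2]
    exact (AlgSp.J S).uliftYonedaEquiv.injective.eq_iff
  obtain ⟨V, j, fst, hpb⟩ := hF.diag (prod.lift s₁ s₂)
  have hj1 : (AlgSp.yon S).map j ≫ s₁ = fst := by
    have := congrArg (fun k => k ≫ prod.fst) hpb.w
    simpa using this.symm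
  have hj2 : (AlgSp.yon S).map j ≫ s₂ = fst := by
    have := congrArg (fun k => k ≫ prod.snd) hpb.w
    simpa using this.symm
  refine ⟨V, j, ⟨fun a b hab => ?_⟩, fun T h => ?_⟩
  · apply (AlgSp.yon S).map_injective
    apply hpb.hom_ext
    · rw [← hj1, ← Category.assoc, ← Category.assoc, ← Functor.map_comp, ← Functor.map_comp, hab]
    · rw [← Functor.map_comp, ← Functor.map_comp, hab]
  · rw [key]
    constructor
    · rintro ⟨h', rfl⟩
      rw [Functor.map_comp, Category.assoc, Category.assoc, hj1, hj2]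
    · intro hq
      have w : ((AlgSp.yon S).map h ≫ s₁) ≫ Limits.diag F =
          (AlgSp.yon S).map h ≫ prod.lift s₁ s₂ := by
        apply Limits.prod.hom_ext
        · simp
        · simp [hq]
      obtain ⟨h', hh'⟩ := (AlgSp.yon S).map_surjective (hpb.lift _ _ w)
      refine ⟨h', (AlgSp.yon S).map_injective ?_⟩
      rw [Functor.map_comp, hh', hpb.lift_snd]

theorem mu_iff_eq {𝒬 : AlgSt.Cat S} {P : (Over S)ᵒᵖ ⥤ Type (u + 1)} (ε : Stk.ofPsh P ⥤ᵇ 𝒬)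
    (G : 𝒬 ⥤ᵇ Stk.ofPsh P) (β₂ : BasedFunctor.comp G ε ≅ BasedFunctor.id 𝒬) (a b : 𝒬.obj)
    (R : Over S) (ha : 𝒬.p.obj a = R) (hb : 𝒬.p.obj b = R) :
    (∃ μ : a ⟶ b, 𝒬.p.IsHomLift (𝟙 R) μ) ↔ G.obj a = G.obj b := by
  constructor
  · rintro ⟨μ, hμ⟩
    have h1 : (Stk.ofPsh P).p.IsHomLift (𝟙 R) (G.map μ) :=
      @BasedFunctor.preserves_isHomLift _ _ _ _ G _ _ _ _ _ μ hμ
    exact Groth.Agent.S12796aux.elt_eq_of_lift_id (G.map μ) h1
  · intro h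
    subst ha
    have h1 : 𝒬.p.IsHomLift (𝟙 (𝒬.p.obj a)) (β₂.inv.toNatTrans.app a) := β₂.inv.isHomLift' a
    have h2 : (Stk.ofPsh P).p.IsHomLift (𝟙 (𝒬.p.obj a)) (eqToHom h) :=
      IsHomLift.eqToHom_domain_lift_id h (G.w_obj a)
    have h3 : 𝒬.p.IsHomLift (𝟙 (𝒬.p.obj a)) (ε.map (eqToHom h)) :=
      @BasedFunctor.preserves_isHomLift _ _ _ _ ε _ _ _ _ _ (eqToHom h) h2
    have h4 : 𝒬.p.IsHomLift (𝟙 (𝒬.p.obj b)) (β₂.hom.toNatTrans.app b) := β₂.hom.isHomLift' b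
    rw [hb] at h4
    haveI := h1
    haveI := h3
    haveI := h4
    exact ⟨β₂.inv.toNatTrans.app a ≫ ε.map (eqToHom h) ≫ β₂.hom.toNatTrans.app b, inferInstance⟩

variable {𝒳 𝒴 : AlgSt.Cat S} (f : 𝒳 ⥤ᵇ 𝒴) {U : Over S} (z : FibCat.overCat U ⥤ᵇ FibCat.fp f f)

/-- the morphism to the target induced by the first component -/
def yOf : FibCat.overCat U ⥤ᵇ 𝒴 :=
  BasedFunctor.comp (BasedFunctor.comp z (FibCat.fpFst f f)) f

/-- the section given by the first component -/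
def sig₁ : FibCat.overCat U ⥤ᵇ FibCat.fp (yOf f z) f :=
  FibCat.fpLift (BasedFunctor.id _) (BasedFunctor.comp z (FibCat.fpFst f f)) (Iso.refl _)

/-- the section given by the second component -/
def sig₂ : FibCat.overCat U ⥤ᵇ FibCat.fp (yOf f z) f :=
  FibCat.fpLift (BasedFunctor.id _) (BasedFunctor.comp z (FibCat.fpSnd f f))
    (whiskerLeftIso z (FibCat.fpIso f f))

theorem mu_of_psi (T : Over U) (ψ : (z.obj T).obj.fst ≅ (z.obj T).obj.snd)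
    (hψ : f.map ψ.hom = (z.obj T).obj.iso.hom) :
    ∃ μ : (sig₁ f z).obj T ⟶ (sig₂ f z).obj T,
      (FibCat.fp (yOf f z) f).p.IsHomLift (𝟙 T.left) μ := by
  refine ⟨ObjectProperty.homMk ⟨𝟙 T, ψ.hom, ?_⟩, ?_⟩
  · show (yOf f z).map (𝟙 T) ≫ (z.obj T).obj.iso.hom = 𝟙 _ ≫ f.map ψ.hom
    rw [(yOf f z).toFunctor.map_id, Category.id_comp, Category.id_comp, hψ]
  · exact (Groth.Agent.H13.fp_isHomLift_iff _ _ _ _).2 (IsHomLift.id rfl)

theorem psi_of_mu (h𝒳 : FibCat.IsFibGrpd 𝒳.p) (T : Over U)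
    (μ : (sig₁ f z).obj T ⟶ (sig₂ f z).obj T)
    (hμ : (FibCat.fp (yOf f z) f).p.IsHomLift (𝟙 T.left) μ) :
    ∃ ψ : (z.obj T).obj.fst ≅ (z.obj T).obj.snd, f.map ψ.hom = (z.obj T).obj.iso.hom ∧
      𝒳.p.IsHomLift (𝟙 T.left) ψ.hom := by
  have h1 : (Over.forget U).IsHomLift (𝟙 T.left) μ.hom.fst :=
    (Groth.Agent.H13.fp_isHomLift_iff _ _ μ _).1 hμ
  have h0 : μ.hom.fst = 𝟙 T := by
    apply Over.OverMorphism.ext
    have h2 := @IsHomLift.fac' _ _ _ _ (Over.forget U) _ _ _ _ (𝟙 T.left) μ.hom.fst h1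
    exact h2.trans (by simp <;> rfl)
  have hl : 𝒳.p.IsHomLift (𝟙 T.left) μ.hom.snd :=
    @BasedFunctor.preserves_isHomLift _ _ _ _ (FibCat.fpSnd (yOf f z) f) _ _ _ _ _ μ hμ
  haveI := hl
  haveI hiso : IsIso μ.hom.snd :=
    @Groth.Agent.H13.FibGrpd.isIso_of_lift_id _ _ _ _ _ h𝒳 T.left _ _ μ.hom.snd hl
  have hw : (yOf f z).map μ.hom.fst ≫ (z.obj T).obj.iso.hom = 𝟙 _ ≫ f.map μ.hom.snd := μ.hom.w
  have e1 : (yOf f z).map μ.hom.fst = 𝟙 _ := by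
    rw [h0]
    exact (yOf f z).toFunctor.map_id _
  rw [e1, Category.id_comp, Category.id_comp] at hw
  exact ⟨asIso μ.hom.snd, hw.symm, hl⟩

theorem exists_mono_rep (h𝒳 : FibCat.IsFibGrpd 𝒳.p) (h𝒴 : FibCat.IsFibGrpd 𝒴.p)
    (hf : AlgSt.RepByAlgSp1 f) :
    ∃ (V : Over S) (j : V ⟶ U) (_ : Mono j)
      (Ψ : FibCat.fp z (FibCat.diag f) ⥤ᵇ FibCat.overCat V),
      FibCat.IsEquivOver Ψ ∧
        Nonempty (BasedFunctor.comp Ψ (RepDiag.overMapB j) ≅ FibCat.fpFst z (FibCat.diag f)) := by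
  haveI : f.toFunctor.Faithful := faithful_of_repByAlgSp1 h𝒳 h𝒴 f hf
  obtain ⟨F₀, ε, hε⟩ := hf U (yOf f z)
  obtain ⟨G, ⟨β₁⟩, ⟨β₂⟩⟩ := id hε
  obtain ⟨es₁, hes₁⟩ := Groth.Agent.S12796aux.exists_sec (BasedFunctor.comp (sig₁ f z) G)
  obtain ⟨es₂, hes₂⟩ := Groth.Agent.S12796aux.exists_sec (BasedFunctor.comp (sig₂ f z) G)
  obtain ⟨V, j, hj, hV⟩ := exists_equalizer F₀.obj F₀.property es₁ es₂
  haveI := hj
  have crit : ∀ T : Over U, (∃ h' : T.left ⟶ V, h' ≫ j = T.hom) ↔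
      ∃ ψ : (z.obj T).obj.fst ≅ (z.obj T).obj.snd, f.map ψ.hom = (z.obj T).obj.iso.hom ∧
        𝒳.p.IsHomLift (𝟙 T.left) ψ.hom := by
    intro T
    rw [hV T.left T.hom]
    have hB := mu_iff_eq ε G β₂ ((sig₁ f z).obj T) ((sig₂ f z).obj T) T.left rfl rfl
    have hG1 : G.obj ((sig₁ f z).obj T) = ⟨T.left, F₀.obj.obj.map T.hom.op es₁⟩ := hes₁ T
    have hG2 : G.obj ((sig₂ f z).obj T) = ⟨T.left, F₀.obj.obj.map T.hom.op es₂⟩ := hes₂ T
    constructor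
    · intro hsec
      have h3 : G.obj ((sig₁ f z).obj T) = G.obj ((sig₂ f z).obj T) := by rw [hG1, hG2, hsec]
      obtain ⟨μ, hμ⟩ := hB.2 h3
      exact psi_of_mu f z h𝒳 T μ hμ
    · rintro ⟨ψ, hψ, -⟩
      obtain ⟨μ, hμ⟩ := mu_of_psi f z T ψ hψ
      have h3 := hB.1 ⟨μ, hμ⟩
      rw [hG1, hG2] at h3
      exact Groth.Agent.S12796aux.sec_eq h3
  have hfac : ∀ ζ : (FibCat.fp z (FibCat.diag f)).obj,
      ∃ h : ((FibCat.fpFst z (FibCat.diag f)).obj ζ).left ⟶ V,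
        h ≫ j = ((FibCat.fpFst z (FibCat.diag f)).obj ζ).hom := by
    intro ζ
    exact (crit ζ.obj.fst).2 ⟨DiagFF.psiOf f z ζ, DiagFF.psiOf_map f z ζ, DiagFF.psiOf_lift f z ζ⟩
  refine ⟨V, j, hj, MonoRep.monoFun _ j hfac, MonoRep.isEquivOver_monoFun _ j hfac ?_,
    ⟨MonoRep.monoFunIso _ j hfac⟩⟩
  intro T h
  obtain ⟨ψ, hψ, hl⟩ := (crit (Over.mk (h ≫ j))).1 ⟨h, rfl⟩
  exact ⟨DiagFF.objOf f z (Over.mk (h ≫ j)) ψ hψ hl, Iso.refl _, IsHomLift.id rfl⟩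

end Groth.Agent.H28.DiagRep
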