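import Mathlib
import Groth.Agent.H28.DiagRep

/-!
# Consequences: the diagonal of a representable morphism
-/

set_option autoImplicit false
set_option linter.style.haveILetI false
set_option backward.isDefEq.respectTransparency false
set_option backward.isDefEq.respectTransparency.types false

namespace Groth.Agent.H28.DiagRep

open CategoryTheory CategoryTheory.Limits FibCat AlgebraicGeometry Opposite
open Groth.Agent.Helper22 Groth.Agent.Helper22.EquivComp Groth.Agent.H28.LiftFp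
open Groth.Agent.H28.FpBase

universe u

variable {S : Scheme.{u}}

theorem isEquivOver_toOverCat (V : Over S) : FibCat.IsEquivOver (AlgSt.toOverCat V) :=
  ⟨AlgSt.ofOverCat V, ⟨Iso.refl _⟩, ⟨Iso.refl _⟩⟩

theorem spMapOfOver_toOverCat_overMap {V U : Over S} (j : V ⟶ U) :
    AlgSt.spMapOfOver (BasedFunctor.comp (AlgSt.toOverCat V) (RepDiag.overMapB j)) =
      (AlgSp.yon S).map j := by
  apply ObjectProperty.hom_ext
  ext T x
  apply ULift.ext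
  show AlgSt.secHom (BasedFunctor.comp (AlgSt.toOverCat V) (RepDiag.overMapB j)) ⟨T.unop, x⟩ =
    x.down ≫ j
  simp only [AlgSt.secHom]
  exact Category.id_comp _

theorem mono_yon_map {V U : Over S} (j : V ⟶ U) [Mono j] : Mono ((AlgSp.yon S).map j) := by
  refine ⟨fun {Z} a b hab => ?_⟩
  apply ObjectProperty.hom_ext
  ext T x
  apply ULift.ext
  have h1 : (a.hom.app T x).down ≫ j = (b.hom.app T x).down ≫ j :=
    congrArg (fun k => (k.hom.app T x).down) hab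
  exact (cancel_mono j).1 h1

variable {𝒳 𝒴 : AlgSt.Cat S} (f : 𝒳 ⥤ᵇ 𝒴)

theorem isRepresentable1_diag (h𝒳 : FibCat.IsFibGrpd 𝒳.p) (h𝒴 : FibCat.IsFibGrpd 𝒴.p)
    (hf : AlgSt.RepByAlgSp1 f) : FibCat.IsRepresentable1 (FibCat.diag f) := by
  intro U z
  obtain ⟨V, j, hj, Ψ, hΨ, -⟩ := exists_mono_rep f z h𝒳 h𝒴 hf
  exact ⟨V, Ψ, hΨ⟩

theorem repByAlgSpWith_diag_of_mono (P : MorphismProperty (AlgSp.Sp S))
    (hP : ∀ {V U : Over S} (j : V ⟶ U), Mono j → P ((AlgSp.yon S).map j))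
    (h𝒳 : FibCat.IsFibGrpd 𝒳.p) (h𝒴 : FibCat.IsFibGrpd 𝒴.p) (hf : AlgSt.RepByAlgSp1 f) :
    AlgSt.RepByAlgSpWith P (FibCat.diag f) := by
  intro U z
  obtain ⟨V, j, hj, Ψ, hΨ, ⟨κ⟩⟩ := exists_mono_rep f z h𝒳 h𝒴 hf
  obtain ⟨Ψ', ⟨γ₁⟩, ⟨γ₂⟩⟩ := id hΨ
  let F : AlgSp.Space S := ⟨(AlgSp.yon S).obj V, AlgSp.IsAlgSpace.yon_obj V⟩
  let e₀ : AlgSt.ofSp F.obj ⥤ᵇ FibCat.fp z (FibCat.diag f) :=
    BasedFunctor.comp (AlgSt.toOverCat V) Ψ'
  refine ⟨F, e₀, isEquivOver_comp _ _ (isEquivOver_toOverCat V) ⟨Ψ, ⟨γ₂⟩, ⟨γ₁⟩⟩, ?_⟩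
  have α₁ : BasedFunctor.comp Ψ' (FibCat.fpFst z (FibCat.diag f)) ≅
      BasedFunctor.comp (BasedFunctor.comp Ψ' Ψ) (RepDiag.overMapB j) := whiskerLeftIso Ψ' κ.symm
  have α₂ : BasedFunctor.comp (BasedFunctor.comp Ψ' Ψ) (RepDiag.overMapB j) ≅
      RepDiag.overMapB j := whiskerRightIso γ₂ (RepDiag.overMapB j)
  have α : BasedFunctor.comp e₀ (FibCat.fpFst z (FibCat.diag f)) ≅
      BasedFunctor.comp (AlgSt.toOverCat V) (RepDiag.overMapB j) :=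
    whiskerLeftIso (AlgSt.toOverCat V) (α₁ ≪≫ α₂)
  rw [spMapOfOver_congr α.hom, spMapOfOver_toOverCat_overMap]
  exact hP j hj

theorem isMono_diag (h𝒳 : FibCat.IsFibGrpd 𝒳.p) (h𝒴 : FibCat.IsFibGrpd 𝒴.p)
    (hf : AlgSt.RepByAlgSp1 f) : AlgSt.IsMono (FibCat.diag f) :=
  repByAlgSpWith_diag_of_mono f _ (fun j hj => by
    haveI := hj
    exact mono_yon_map j) h𝒳 h𝒴 hf

theorem isSeparated_diag (h𝒳 : FibCat.IsFibGrpd 𝒳.p) (h𝒴 : FibCat.IsFibGrpd 𝒴.p)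
    (hf : AlgSt.RepByAlgSp1 f) :
    AlgSt.RepByAlgSpWith AlgSp.IsSeparatedMor (FibCat.diag f) :=
  repByAlgSpWith_diag_of_mono f _ (fun j hj => by
    haveI := hj
    haveI := mono_yon_map j
    haveI : (AlgSp.RepWith (S := S) @IsClosedImmersion).RespectsIso :=
      MorphismProperty.IsStableUnderBaseChange.respectsIso
    show AlgSp.RepWith @IsClosedImmersion (pullback.diagonal ((AlgSp.yon S).map j))
    exact MorphismProperty.of_isIso _ _) h𝒳 h𝒴 hf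

end Groth.Agent.H28.DiagRep
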