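import Mathlib
import Groth.Prelude.Def_AlgSpRep

set_option autoImplicit false
universe u

open CategoryTheory CategoryTheory.Limits AlgebraicGeometry Opposite

namespace Groth.Agent.H28.RepBySp

open AlgSp

variable {S : Scheme.{u}}

/-- (K0) base change of a map representable by algebraic spaces. -/
theorem of_isPullback {F G X F' : PSp S} {a : F ⟶ G} {ξ : X ⟶ G} {fst : F' ⟶ X} {snd : F' ⟶ F}
    (sq : IsPullback fst snd ξ a) (ha : RepBySp a) : RepBySp fst :=
  fun _ η _ p1 p2 sq2 => ha (η ≫ ξ) (p1 ≫ snd) p2 (sq2.paste_horiz sq.flip)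

/-- (A2) representables are algebraic spaces. -/
theorem isAlgSpaceP_pyon (U : Over S) : IsAlgSpaceP ((pyon S).obj U) :=
  (isAlgSpaceP_obj_iff ((yon S).obj U)).mpr (IsAlgSpace.yon_obj U)

/-- (A4) maps between representables. -/
theorem repBySp_pyon_map {U W : Over S} (g : U ⟶ W) : RepBySp ((pyon S).map g) :=
  Representable.repBySp (representable_yon_map g)

/-- (A3) maps from a representable to an algebraic space. -/
theorem repBySp_of_isAlgSpaceP {E : PSp S} (hE : IsAlgSpaceP E) {U : Over S}
    (s : (pyon S).obj U ⟶ E) : RepBySp s := by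
  obtain ⟨hs, hA⟩ := hE
  exact Representable.repBySp (f := (ObjectProperty.homMk s : (yon S).obj U ⟶ (⟨E, hs⟩ : Sp S)))
    (hA.representable_from_yon _)

/-- (K1) a presheaf with a map representable by algebraic spaces to a sheaf is a sheaf. -/
theorem isSheaf_of_repBySp {F G : PSp S} (a : F ⟶ G) (ha : RepBySp a)
    (hG : Presheaf.IsSheaf (J S) G) : Presheaf.IsSheaf (J S) F := by
  rw [isSheaf_iff_isSheaf_of_type] at hG ⊢
  intro T R hR x hx
  obtain ⟨t, ht, htu⟩ := hG R hR (x.map a) (hx.map a)
  let ξ : (pyon S).obj T ⟶ G := uliftYonedaEquiv.symm t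
  have hξ : ∀ {V : Over S} (f : V ⟶ T), ξ.app (op V) ⟨f⟩ = G.map f.op t := fun f => rfl
  have sq := IsPullback.of_hasPullback a ξ
  obtain ⟨hE, -⟩ := ha ξ (pullback.fst a ξ) (pullback.snd a ξ) sq
  rw [isSheaf_iff_isSheaf_of_type] at hE
  have hex : ∀ ⦃V : Over S⦄ (f : V ⟶ T) (hf : R.arrows f), ∃ e : (pullback a ξ).obj (op V),
      (pullback.fst a ξ).app (op V) e = x f hf ∧ (pullback.snd a ξ).app (op V) e = ⟨f⟩ := by
    intro V f hf
    apply Limits.Types.exists_of_isPullback (sq.app (op V))
    rw [hξ]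
    exact (ht f hf).symm
  choose e he1 he2 using hex
  have hz : Presieve.FamilyOfElements.Compatible (P := pullback a ξ) (R := R.arrows)
      (fun V f hf => e f hf) := by
    intro V1 V2 W g1 g2 f1 f2 h1 h2 comm
    apply Limits.Types.ext_of_isPullback (sq.app (op W))
    · rw [NatTrans.naturality_apply, NatTrans.naturality_apply, he1, he1]
      exact hx g1 g2 h1 h2 comm
    · rw [NatTrans.naturality_apply, NatTrans.naturality_apply, he2, he2]
      exact congrArg ULift.up comm
  obtain ⟨w, hw, hwu⟩ := hE R hR _ hz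
  refine ⟨(pullback.fst a ξ).app (op T) w, ?_, ?_⟩
  · intro V f hf
    rw [← NatTrans.naturality_apply, hw f hf, he1]
  · intro x' hx'
    have hax' : a.app (op T) x' = t := by
      apply htu
      intro V f hf
      rw [← NatTrans.naturality_apply, hx' f hf]
      rfl
    obtain ⟨w', hw'1, hw'2⟩ := Limits.Types.exists_of_isPullback (sq.app (op T)) x' ⟨𝟙 T⟩
      (by rw [hax', hξ]; simp)
    have hww : w' = w := by
      apply hwu
      intro V f hf
      apply Limits.Types.ext_of_isPullback (sq.app (op V))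
      · rw [NatTrans.naturality_apply, hw'1, hx' f hf, he1]
      · rw [NatTrans.naturality_apply, hw'2, he2]
        exact congrArg ULift.up (Category.comp_id f)
    rw [← hww, hw'1]

/-- (K2) a presheaf with a map representable by algebraic spaces to an algebraic space is an
algebraic space. -/
theorem isAlgSpaceP_of_repBySp {F G : PSp S} (a : F ⟶ G) (ha : RepBySp a) (hG : IsAlgSpaceP G) :
    IsAlgSpaceP F := by
  obtain ⟨hGs, hGa⟩ := hG
  have hFs : Presheaf.IsSheaf (J S) F := isSheaf_of_repBySp a ha hGs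
  refine ⟨hFs, ?_⟩
  let a' : (⟨F, hFs⟩ : Sp S) ⟶ (⟨G, hGs⟩ : Sp S) := ObjectProperty.homMk a
  have ha' := (repBySp_hom_iff a').mp ha
  constructor
  · apply Functor.relativelyRepresentable.diag_of_map_from_obj
    intro T g
    have hy : Representable (g ≫ a') := hGa.representable_from_yon _
    have sq := IsPullback.of_hasPullback a' (g ≫ a')
    have hE : IsAlgSpace (pullback a' (g ≫ a')) := ha' (g ≫ a') _ _ sq
    let σ : (yon S).obj T ⟶ pullback a' (g ≫ a') := pullback.lift g (𝟙 _) (by simp)
    have hσ : Representable σ := hE.representable_from_yon σ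
    have hpr : Representable (pullback.fst a' (g ≫ a')) :=
      MorphismProperty.of_isPullback sq.flip hy
    have hg : g = σ ≫ pullback.fst a' (g ≫ a') := (pullback.lift_fst _ _ _).symm
    rw [hg]
    exact MorphismProperty.comp_mem _ _ _ hσ hpr
  · obtain ⟨U, p, hp1, hp2⟩ := hGa.atlas
    have sq := IsPullback.of_hasPullback a' p
    have hE : IsAlgSpace (pullback a' p) := ha' p _ _ sq
    obtain ⟨V, q, hq1, hq2⟩ := hE.atlas
    refine ⟨V, q ≫ pullback.fst a' p, ?_, ?_⟩
    · exact MorphismProperty.comp_mem _ _ _ hq1 (MorphismProperty.of_isPullback sq.flip hp1)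
    · exact MorphismProperty.comp_mem _ _ _ hq2 (MorphismProperty.of_isPullback sq.flip hp2)

end Groth.Agent.H28.RepBySp
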