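import Mathlib
import Groth.Agent.H28.DiagRep2
import Groth.Agent.H28.RepBySp1

/-!
# Dictionary between presheaves and categories fibred in sets
-/

set_option autoImplicit false
set_option linter.style.haveILetI false
set_option backward.isDefEq.respectTransparency false
set_option backward.isDefEq.respectTransparency.types false

namespace Groth.Agent.H28.PshDict

open CategoryTheory CategoryTheory.Limits FibCat AlgebraicGeometry Opposite Stk
open Groth.Agent.Helper22 Groth.Agent.Helper22.EquivComp Groth.Agent.H28.LiftFp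
open Groth.Agent.H28.FpBase Groth.Agent.S12796aux

universe u

variable {S : Scheme.{u}}

theorem eltObj_eqToHom_hom {Q : AlgSp.PSp S} {x y : EltObj Q} (h : x = y) :
    (eqToHom h).hom = eqToHom (congrArg EltObj.base h) := by
  subst h
  rfl

section dict2

variable {A B D : AlgSp.PSp S}

/-- the section attached to the image of an object -/
noncomputable def secOf (Ψ : Stk.ofPsh A ⥤ᵇ Stk.ofPsh B) (U : Over S) (s : A.obj (op U)) :
    B.obj (op U) :=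
  (exists_sec_of_base (Ψ.obj ⟨U, s⟩) (Ψ.w_obj ⟨U, s⟩)).choose

theorem obj_eq (Ψ : Stk.ofPsh A ⥤ᵇ Stk.ofPsh B) (U : Over S) (s : A.obj (op U)) :
    Ψ.obj ⟨U, s⟩ = ⟨U, secOf Ψ U s⟩ :=
  (exists_sec_of_base (Ψ.obj ⟨U, s⟩) (Ψ.w_obj ⟨U, s⟩)).choose_spec

theorem secOf_unique (Ψ : Stk.ofPsh A ⥤ᵇ Stk.ofPsh B) (U : Over S) (s : A.obj (op U))
    (t : B.obj (op U)) (h : Ψ.obj ⟨U, s⟩ = ⟨U, t⟩) : secOf Ψ U s = t :=
  sec_eq ((obj_eq Ψ U s).symm.trans h)

theorem secOf_nat (Ψ : Stk.ofPsh A ⥤ᵇ Stk.ofPsh B) {U V : Over S} (g : V ⟶ U)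
    (s : A.obj (op U)) : secOf Ψ V (A.map g.op s) = B.map g.op (secOf Ψ U s) := by
  apply secOf_unique
  let ψ : (⟨V, A.map g.op s⟩ : EltObj A) ⟶ ⟨U, s⟩ := ⟨g, rfl⟩
  have h0 : (Stk.ofPsh B).p.IsHomLift ((Stk.ofPsh A).p.map ψ) (Ψ.map ψ) :=
    BasedFunctor.preserves_isHomLift Ψ ((Stk.ofPsh A).p.map ψ) ψ
  exact elt_eq_of_lift (Ψ.map ψ) g h0 (secOf Ψ U s) (obj_eq Ψ U s)

/-- the map of presheaves attached to a functor between categories fibred in sets -/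
noncomputable def pshMapOf (Ψ : Stk.ofPsh A ⥤ᵇ Stk.ofPsh B) : A ⟶ B where
  app U := ↾fun s => secOf Ψ U.unop s
  naturality U V g := by
    ext s
    exact secOf_nat Ψ g.unop s

theorem pshMapOf_app (Ψ : Stk.ofPsh A ⥤ᵇ Stk.ofPsh B) (U : Over S) (s : A.obj (op U)) :
    (pshMapOf Ψ).app (op U) s = secOf Ψ U s := rfl

/-- a functor between categories fibred in sets is the functor of its map of presheaves -/
noncomputable def ofPshMapIso (Ψ : Stk.ofPsh A ⥤ᵇ Stk.ofPsh B) :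
    Stk.ofPshMap (pshMapOf Ψ) ≅ Ψ :=
  natIsoOfEq _ _ (fun o => by
    obtain ⟨U, s⟩ := o
    exact (obj_eq Ψ U s).symm)

theorem pshMapOf_ext {φ φ' : A ⟶ B}
    (h : ∀ (U : Over S) (s : A.obj (op U)), φ.app (op U) s = φ'.app (op U) s) : φ = φ' := by
  apply NatTrans.ext
  funext U
  ext s
  exact h U.unop s

theorem pshMapOf_eq (Ψ : Stk.ofPsh A ⥤ᵇ Stk.ofPsh B) (φ : A ⟶ B)
    (h : ∀ (U : Over S) (s : A.obj (op U)), Ψ.obj ⟨U, s⟩ = ⟨U, φ.app (op U) s⟩) :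
    pshMapOf Ψ = φ :=
  pshMapOf_ext (fun U s => secOf_unique Ψ U s _ (h U s))

theorem pshMapOf_congr {Ψ Ψ' : Stk.ofPsh A ⥤ᵇ Stk.ofPsh B} (α : Ψ ⟶ Ψ') :
    pshMapOf Ψ = pshMapOf Ψ' := by
  apply pshMapOf_eq
  intro U s
  have h := elt_eq_of_lift_id (α.toNatTrans.app ⟨U, s⟩) (α.isHomLift' ⟨U, s⟩)
  rw [h]
  exact obj_eq Ψ' U s

theorem pshMapOf_comp (Ψ : Stk.ofPsh A ⥤ᵇ Stk.ofPsh B) (Ψ' : Stk.ofPsh B ⥤ᵇ Stk.ofPsh D) :
    pshMapOf (BasedFunctor.comp Ψ Ψ') = pshMapOf Ψ ≫ pshMapOf Ψ' := by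
  apply pshMapOf_eq
  intro U s
  show Ψ'.obj (Ψ.obj ⟨U, s⟩) = ⟨U, secOf Ψ' U (secOf Ψ U s)⟩
  rw [obj_eq Ψ U s]
  exact obj_eq Ψ' U _

theorem pshMapOf_ofPshMap (a : A ⟶ B) : pshMapOf (Stk.ofPshMap a) = a :=
  pshMapOf_eq _ _ (fun _ _ => rfl)

theorem pshMapOf_id : pshMapOf (BasedFunctor.id (Stk.ofPsh A)) = 𝟙 A :=
  pshMapOf_eq _ _ (fun _ _ => rfl)

theorem isIso_pshMapOf (Ψ : Stk.ofPsh A ⥤ᵇ Stk.ofPsh B) (hΨ : FibCat.IsEquivOver Ψ) :
    IsIso (pshMapOf Ψ) := by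
  obtain ⟨Ψ', ⟨β₁⟩, ⟨β₂⟩⟩ := id hΨ
  refine ⟨pshMapOf Ψ', ?_, ?_⟩
  · rw [← pshMapOf_comp, pshMapOf_congr β₁.hom, pshMapOf_id]
  · rw [← pshMapOf_comp, pshMapOf_congr β₂.hom, pshMapOf_id]

end dict2

section overc

theorem ofOverCat_obj_eq {U T : Over S} (X : Over U) (h : X.left = T) :
    (⟨X.left, ⟨X.hom⟩⟩ : EltObj ((AlgSp.pyon S).obj U)) = ⟨T, ⟨eqToHom h.symm ≫ X.hom⟩⟩ := by
  subst h
  simp

theorem spMapOfOver_hom_eq {F : AlgSp.Sp S} {U : Over S}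
    (Φ : AlgSt.ofSp F ⥤ᵇ FibCat.overCat U) :
    (AlgSt.spMapOfOver Φ).hom = pshMapOf (BasedFunctor.comp Φ (AlgSt.ofOverCat U)) := by
  symm
  apply pshMapOf_eq
  intro T x
  exact ofOverCat_obj_eq (Φ.obj ⟨T, x⟩) (Φ.w_obj ⟨T, x⟩)

end overc

section dict1

variable {A B D P : AlgSp.PSp S} (a : A ⟶ D) (b : B ⟶ D) (fst : P ⟶ A) (snd : P ⟶ B)
  (sq : IsPullback fst snd a b)

include sq in
theorem obj_sq (o : EltObj P) :
    (BasedFunctor.comp (Stk.ofPshMap fst) (Stk.ofPshMap a)).obj o =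
      (BasedFunctor.comp (Stk.ofPshMap snd) (Stk.ofPshMap b)).obj o := by
  obtain ⟨U, p⟩ := o
  have h : a.app (op U) (fst.app (op U) p) = b.app (op U) (snd.app (op U) p) :=
    congrArg (fun k => k.app (op U) p) sq.w
  show (⟨U, a.app (op U) (fst.app (op U) p)⟩ : EltObj D) = ⟨U, b.app (op U) (snd.app (op U) p)⟩
  rw [h]

/-- the comparison functor from the category of a fibre product of presheaves -/
noncomputable def E1 : Stk.ofPsh P ⥤ᵇ FibCat.fp (Stk.ofPshMap a) (Stk.ofPshMap b) :=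
  FibCat.fpLift (Stk.ofPshMap fst) (Stk.ofPshMap snd) (natIsoOfEq _ _ (obj_sq a b fst snd sq))

theorem E1_comp_fpFst :
    BasedFunctor.comp (E1 a b fst snd sq) (FibCat.fpFst (Stk.ofPshMap a) (Stk.ofPshMap b)) =
      Stk.ofPshMap fst := rfl

theorem E1_comp_fpSnd :
    BasedFunctor.comp (E1 a b fst snd sq) (FibCat.fpSnd (Stk.ofPshMap a) (Stk.ofPshMap b)) =
      Stk.ofPshMap snd := rfl

theorem E1_iso_hom_hom (o : EltObj P) :
    ((E1 a b fst snd sq).obj o).obj.iso.hom.hom = 𝟙 o.base := by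
  show (eqToHom (obj_sq a b fst snd sq o)).hom = 𝟙 o.base
  rw [eltObj_eqToHom_hom]
  exact eqToHom_refl _ _

lemma isEquivOver_E1 : FibCat.IsEquivOver (E1 a b fst snd sq) := by
  haveI hfa : (E1 a b fst snd sq).toFunctor.Faithful := by
    refine ⟨?_⟩
    intro o o' m m' h
    apply EltObj.hom_ext
    exact congrArg (fun k => k.hom.fst.hom) h
  haveI hfu : (E1 a b fst snd sq).toFunctor.Full := by
    refine ⟨?_⟩
    intro o o' n
    let g : o.base ⟶ o'.base := n.hom.fst.hom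
    let g' : o.base ⟶ o'.base := n.hom.snd.hom
    have h1 : A.map g.op (fst.app _ o'.sec) = fst.app _ o.sec := n.hom.fst.map_sec
    have h2 : B.map g'.op (snd.app _ o'.sec) = snd.app _ o.sec := n.hom.snd.map_sec
    have hw := congrArg (fun k => k.hom) n.hom.w
    have hgg : g = g' := by
      have e1 := E1_iso_hom_hom a b fst snd sq o
      have e2 := E1_iso_hom_hom a b fst snd sq o'
      have hw' : g ≫ ((E1 a b fst snd sq).obj o').obj.iso.hom.hom =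
          ((E1 a b fst snd sq).obj o).obj.iso.hom.hom ≫ g' := hw
      rw [e1, e2, Category.comp_id] at hw'
      exact hw'.trans (Category.id_comp g')
    have hsec : P.map g.op o'.sec = o.sec := by
      apply Limits.Types.ext_of_isPullback (sq.app (op o.base))
      · rw [NatTrans.naturality_apply]
        exact h1
      · rw [NatTrans.naturality_apply, hgg]
        exact h2
    refine ⟨⟨g, hsec⟩, ?_⟩
    apply ObjectProperty.hom_ext
    apply CategoryTheory.Limits.CategoricalPullback.hom_ext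
    · exact EltObj.hom_ext rfl
    · exact EltObj.hom_ext hgg
  apply FibLift.isEquivOver_of_ff
  intro η
  obtain ⟨⟨⟨U₁, x⟩, ⟨U₂, y⟩, iso⟩, prop⟩ := η
  have hp : (Stk.ofPsh D).p.IsHomLift (𝟙 U₁) iso.hom := prop
  have h := elt_eq_of_lift_id iso.hom hp
  have hU : U₁ = U₂ := congrArg EltObj.base h
  subst hU
  have hxy : a.app (op U₁) x = b.app (op U₁) y := sec_eq h
  obtain ⟨p, rfl, rfl⟩ := Limits.Types.exists_of_isPullback (sq.app (op U₁)) x y hxy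
  have e1 : iso.hom.hom = 𝟙 U₁ :=
    (@IsHomLift.eq_of_isHomLift _ _ _ _ (Stk.ofPsh D).p
      ((Stk.ofPshMap a).obj ⟨U₁, fst.app (op U₁) p⟩) ((Stk.ofPshMap b).obj ⟨U₁, snd.app (op U₁) p⟩)
      (𝟙 U₁) iso.hom hp).symm
  refine ⟨⟨U₁, p⟩, ObjectProperty.isoMk _
    (CategoryTheory.Limits.CategoricalPullback.mkIso (Iso.refl _) (Iso.refl _) ?_), ?_⟩
  · apply EltObj.hom_ext
    have e2 := E1_iso_hom_hom a b fst snd sq ⟨U₁, p⟩
    show 𝟙 U₁ ≫ iso.hom.hom = ((E1 a b fst snd sq).obj ⟨U₁, p⟩).obj.iso.hom.hom ≫ 𝟙 U₁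
    rw [e1, e2]
  · refine (Groth.Agent.H13.fp_isHomLift_iff _ _ _ _).2 ?_
    exact IsHomLift.id rfl

end dict1

end Groth.Agent.H28.PshDict
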