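import Mathlib
import Groth.Agent.H28.PshDict
import Groth.Prelude.Def_StGerb2

/-!
# A category fibred in setoids is equivalent to the category of its presheaf of isomorphism classes
-/

set_option autoImplicit false
set_option linter.style.haveILetI false
set_option backward.isDefEq.respectTransparency false
set_option backward.isDefEq.respectTransparency.types false

namespace Groth.Agent.H28.IsoCl

open CategoryTheory CategoryTheory.Limits FibCat AlgebraicGeometry Opposite Stk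
open Groth.Agent.Helper22 Groth.Agent.Helper22.EquivComp Groth.Agent.H28.LiftFp
open Groth.Agent.H28.FpBase Groth.Agent.S12796aux

universe u

variable {S : Scheme.{u}}

theorem isFibSetoid_ofPsh (G : AlgSp.PSp S) : FibCat.IsFibSetoid (Stk.ofPsh G).p := by
  refine ⟨Stk.isFibGrpd_ofPsh G, fun U a b => ⟨fun μ μ' => ?_⟩⟩
  apply Functor.Fiber.hom_ext
  exact hom_thin (𝟙 U) μ.1 μ'.1 μ.2 μ'.2

section fp

variable {ℬ 𝒳 𝒴 : AlgSt.Cat S} (y' : ℬ ⥤ᵇ 𝒴) (f : 𝒳 ⥤ᵇ 𝒴)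

theorem isFibSetoid_fp (hℬ : FibCat.IsFibSetoid ℬ.p) (h𝒳 : FibCat.IsFibGrpd 𝒳.p)
    (h𝒴 : FibCat.IsFibGrpd 𝒴.p) [f.toFunctor.Faithful] :
    FibCat.IsFibSetoid (FibCat.fp y' f).p := by
  refine ⟨Groth.Agent.H13.fp_isFibGrpd y' f hℬ.1 h𝒳 h𝒴, fun U a b => ⟨fun μ μ' => ?_⟩⟩
  apply Functor.Fiber.hom_ext
  have h1 : ℬ.p.IsHomLift (𝟙 U) μ.1.hom.fst := (Groth.Agent.H13.fp_isHomLift_iff _ _ μ.1 _).1 μ.2
  have h2 : ℬ.p.IsHomLift (𝟙 U) μ'.1.hom.fst :=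
    (Groth.Agent.H13.fp_isHomLift_iff _ _ μ'.1 _).1 μ'.2
  have hfst : μ.1.hom.fst = μ'.1.hom.fst :=
    @Groth.Agent.H13.FibSetoid.hom_ext_of_lift _ _ _ _ _ hℬ _ _ (𝟙 U) _ _ μ.1.hom.fst μ'.1.hom.fst
      h1 h2
  apply ObjectProperty.hom_ext
  apply CategoryTheory.Limits.CategoricalPullback.hom_ext
  · exact hfst
  · apply f.toFunctor.map_injective
    have w1 : y'.map μ.1.hom.fst ≫ b.1.obj.iso.hom = a.1.obj.iso.hom ≫ f.map μ.1.hom.snd :=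
      μ.1.hom.w
    have w2 : y'.map μ'.1.hom.fst ≫ b.1.obj.iso.hom = a.1.obj.iso.hom ≫ f.map μ'.1.hom.snd :=
      μ'.1.hom.w
    rw [hfst] at w1
    have w3 : a.1.obj.iso.hom ≫ f.map μ.1.hom.snd = a.1.obj.iso.hom ≫ f.map μ'.1.hom.snd :=
      w1.symm.trans w2
    exact (cancel_epi a.1.obj.iso.hom).1 w3

end fp

section ecl

variable (𝒲 : AlgSt.Cat S) [FibCat.IsFibGrpd 𝒲.p]

/-- the class of an object -/
def cls (x : 𝒲.obj) : Gerb.IsoCl 𝒲 (𝒲.p.obj x) := Quot.mk _ ⟨x, rfl⟩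

theorem map_cls {x x' : 𝒲.obj} (m : x ⟶ x') :
    (Gerb.isoClPsh 𝒲).map (𝒲.p.map m).op (cls 𝒲 x') = cls 𝒲 x := by
  show Quot.mk _ (Gerb.pullFib 𝒲 (𝒲.p.map m) ⟨x', rfl⟩) = Quot.mk _ ⟨x, rfl⟩
  symm
  have hψ : 𝒲.p.IsHomLift (𝒲.p.map m ≫ eqToHom rfl) m := by
    rw [eqToHom_refl, Category.comp_id]
    infer_instance
  obtain ⟨χ, hχ, -⟩ := Gerb.exists_hom_pull 𝒲 x' (𝒲.p.map m ≫ eqToHom rfl) m hψ
  exact Quot.sound ⟨⟨χ, hχ⟩⟩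

/-- the functor to the category of the presheaf of isomorphism classes -/
noncomputable def Ecl : 𝒲 ⥤ᵇ Stk.ofPsh (Gerb.isoClPsh 𝒲) where
  toFunctor :=
    { obj := fun x => ⟨𝒲.p.obj x, cls 𝒲 x⟩
      map := fun {x x'} m => ⟨𝒲.p.map m, map_cls 𝒲 m⟩
      map_id := fun x => EltObj.hom_ext (𝒲.p.map_id x)
      map_comp := fun m n => EltObj.hom_ext (𝒲.p.map_comp m n) }
  w := rfl

theorem exists_hom_of_cls_eq {U : Over S} (a b : 𝒲.p.Fiber U)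
    (h : Quot.mk (Gerb.IsoRel 𝒲 U) a = Quot.mk (Gerb.IsoRel 𝒲 U) b) : Nonempty (a ⟶ b) := by
  have h' := Quot.eqvGen_exact h
  clear h
  induction h' with
  | rel x y hxy => exact hxy
  | refl x => exact ⟨𝟙 x⟩
  | symm x y _ ih =>
    obtain ⟨φ⟩ := ih
    haveI hl : 𝒲.p.IsHomLift (𝟙 U) φ.1 := φ.2
    haveI hi : IsIso φ.1 :=
      @Groth.Agent.H13.FibGrpd.isIso_of_lift_id _ _ _ _ _ inferInstance U _ _ φ.1 hl
    exact ⟨⟨inv φ.1, inferInstance⟩⟩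
  | trans x y z _ _ ih1 ih2 =>
    obtain ⟨φ⟩ := ih1
    obtain ⟨ψ⟩ := ih2
    exact ⟨φ ≫ ψ⟩

theorem isEquivOver_Ecl (hs : FibCat.IsFibSetoid 𝒲.p) : FibCat.IsEquivOver (Ecl 𝒲) := by
  haveI hfa : (Ecl 𝒲).toFunctor.Faithful := by
    refine ⟨?_⟩
    intro x x' m₁ m₂ h
    have hp : 𝒲.p.map m₁ = 𝒲.p.map m₂ := congrArg EltObj.Hom.hom h
    have h1 : 𝒲.p.IsHomLift (𝒲.p.map m₁) m₁ := inferInstance
    have h2 : 𝒲.p.IsHomLift (𝒲.p.map m₁) m₂ := by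
      rw [hp]
      infer_instance
    exact @Groth.Agent.H13.FibSetoid.hom_ext_of_lift _ _ _ _ _ hs _ _ (𝒲.p.map m₁) _ _ m₁ m₂ h1 h2
  haveI hfu : (Ecl 𝒲).toFunctor.Full := by
    refine ⟨?_⟩
    intro x x' n
    have h : Quot.mk (Gerb.IsoRel 𝒲 (𝒲.p.obj x)) (Gerb.pullFib 𝒲 n.hom ⟨x', rfl⟩) =
        Quot.mk (Gerb.IsoRel 𝒲 (𝒲.p.obj x)) ⟨x, rfl⟩ := n.map_sec
    obtain ⟨φ⟩ := exists_hom_of_cls_eq 𝒲 _ _ h.symm
    haveI h1 : 𝒲.p.IsHomLift (𝟙 (𝒲.p.obj x)) φ.1 := φ.2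
    haveI h2 : 𝒲.p.IsHomLift (n.hom ≫ eqToHom rfl) (Gerb.pullHom 𝒲 x' (n.hom ≫ eqToHom rfl)) :=
      Gerb.pullHom_isHomLift 𝒲 x' (n.hom ≫ eqToHom rfl)
    let m : x ⟶ x' := φ.1 ≫ Gerb.pullHom 𝒲 x' (n.hom ≫ eqToHom rfl)
    have h3 : 𝒲.p.IsHomLift (𝟙 (𝒲.p.obj x) ≫ (n.hom ≫ eqToHom rfl)) m := inferInstance
    have h4 : 𝒲.p.IsHomLift n.hom m := by simpa using h3
    have h5 : n.hom = 𝒲.p.map m := @IsHomLift.eq_of_isHomLift _ _ _ _ 𝒲.p x x' n.hom m h4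
    exact ⟨m, EltObj.hom_ext h5.symm⟩
  apply FibLift.isEquivOver_of_ff
  intro η
  obtain ⟨U, c⟩ := η
  have key : ∀ (a : 𝒲.p.Fiber U), ∃ (ξ : 𝒲.obj)
      (e : (Ecl 𝒲).toFunctor.obj ξ ≅
        (⟨U, (Quot.mk (Gerb.IsoRel 𝒲 U) a : Gerb.IsoCl 𝒲 U)⟩ : EltObj (Gerb.isoClPsh 𝒲))),
      (Stk.ofPsh (Gerb.isoClPsh 𝒲)).p.IsHomLift (𝟙 U) e.hom := by
    rintro ⟨x, hx⟩
    subst hx
    exact ⟨x, Iso.refl _, IsHomLift.id rfl⟩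
  obtain ⟨a, rfl⟩ := Quot.exists_rep (c : Gerb.IsoCl 𝒲 U)
  exact key a

end ecl

end Groth.Agent.H28.IsoCl
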