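import Mathlib
import Groth.Agent.H28.IsoClEquiv
import Groth.Agent.H28.RepBySp1
import Groth.Agent.H25.AlgSp47

/-!
# Composition of morphisms representable by algebraic spaces
-/

set_option autoImplicit false
set_option linter.style.haveILetI false
set_option backward.isDefEq.respectTransparency false
set_option backward.isDefEq.respectTransparency.types false

namespace Groth.Agent.H28.RepComp

open CategoryTheory CategoryTheory.Limits FibCat AlgebraicGeometry Opposite Stk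
open Groth.Agent.Helper22 Groth.Agent.Helper22.EquivComp Groth.Agent.Helper22.FpSq
open Groth.Agent.Helper22.FpEquiv Groth.Agent.H28.LiftFp
open Groth.Agent.H28.FpBase Groth.Agent.H28.PshDict Groth.Agent.H28.IsoCl

universe u

variable {S : Scheme.{u}}

/-- an isomorphism can be cancelled on the left -/
def CancelIso (P : MorphismProperty (AlgSp.Sp S)) : Prop :=
  ∀ ⦃X Y Z : AlgSp.Sp S⦄, AlgSp.IsAlgSpace X → AlgSp.IsAlgSpace Y → AlgSp.IsAlgSpace Z →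
    ∀ (e : X ≅ Y) (g : Y ⟶ Z), P (e.hom ≫ g) → P g

theorem cancelIso_of_baseChange (P : MorphismProperty (AlgSp.Sp S))
    (hPb : ∀ ⦃X₁ Y₁ X₂ Y₂ : AlgSp.Sp S⦄, AlgSp.IsAlgSpace X₁ → AlgSp.IsAlgSpace Y₁ →
      AlgSp.IsAlgSpace X₂ → AlgSp.IsAlgSpace Y₂ → ∀ (a : X₁ ⟶ Y₁) (b : Y₂ ⟶ Y₁) (a' : X₂ ⟶ Y₂)
      (b' : X₂ ⟶ X₁), IsPullback b' a' a b → P a → P a') : CancelIso P := by
  intro X Y Z hX hY hZ e g h
  have sq : IsPullback e.inv g (e.hom ≫ g) (𝟙 Z) := IsPullback.of_horiz_isIso ⟨by simp⟩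
  exact hPb hX hZ hY hZ (e.hom ≫ g) (𝟙 Z) g e.inv sq h

theorem cancelIso_of_respectsIso (P : MorphismProperty (AlgSp.Sp S)) [P.RespectsIso] :
    CancelIso P :=
  fun _ _ _ _ _ _ e g h => (P.cancel_left_of_respectsIso e.hom g).1 h

theorem CancelIso.precomp {P : MorphismProperty (AlgSp.Sp S)} (hP : CancelIso P)
    {X Y Z : AlgSp.Sp S} (hX : AlgSp.IsAlgSpace X) (hY : AlgSp.IsAlgSpace Y)
    (hZ : AlgSp.IsAlgSpace Z) (e : X ≅ Y) (g : Y ⟶ Z) (h : P g) : P (e.hom ≫ g) := by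
  apply hP hY hX hZ e.symm (e.hom ≫ g)
  have : e.symm.hom ≫ e.hom ≫ g = g := by simp
  rw [this]
  exact h

theorem isEquivOver_ofOverCat (U : Over S) : FibCat.IsEquivOver (AlgSt.ofOverCat U) :=
  ⟨AlgSt.toOverCat U, ⟨Iso.refl _⟩, ⟨Iso.refl _⟩⟩

section core

variable {W G₀ : AlgSp.PSp S} (w₀ : W ⟶ G₀) {𝒳' : AlgSt.Cat S} (f' : 𝒳' ⥤ᵇ Stk.ofPsh G₀)
  (Ec : 𝒳' ⥤ᵇ Stk.ofPsh W)

theorem repBySpWith_pt (P : MorphismProperty (AlgSp.Sp S)) (hPiso : CancelIso P)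
    (hEc : FibCat.IsEquivOver Ec) (ε₀ : f' ≅ BasedFunctor.comp Ec (Stk.ofPshMap w₀))
    {U : Over S} (ξ : (AlgSp.pyon S).obj U ⟶ G₀)
    (hpt : ∃ (F_U : AlgSp.Space S) (e_U : AlgSt.ofSp F_U.obj ⥤ᵇ
        FibCat.fp (BasedFunctor.comp (AlgSt.ofOverCat U)
          (Stk.ofPshMap ξ : AlgSt.ofSch U ⥤ᵇ Stk.ofPsh G₀)) f'),
      FibCat.IsEquivOver e_U ∧ P (AlgSt.spMapOfOver (BasedFunctor.comp e_U (FibCat.fpFst _ f'))))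
    {F'' : AlgSp.PSp S} (fst : F'' ⟶ W) (snd : F'' ⟶ (AlgSp.pyon S).obj U)
    (sq : IsPullback fst snd w₀ ξ) :
    ∃ h : Presheaf.IsSheaf (AlgSp.J S) F'',
      AlgSp.IsAlgSpace (⟨F'', h⟩ : AlgSp.Sp S) ∧
        P (ObjectProperty.homMk snd : (⟨F'', h⟩ : AlgSp.Sp S) ⟶ (AlgSp.yon S).obj U) := by
  let ξ' : AlgSt.ofSch U ⥤ᵇ Stk.ofPsh G₀ := Stk.ofPshMap ξ
  let t : FibCat.overCat U ⥤ᵇ Stk.ofPsh G₀ := BasedFunctor.comp (AlgSt.ofOverCat U) ξ'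
  obtain ⟨F_U, e_U, he_U, hP_U⟩ := hpt
  let s3 : FibCat.fp t f' ⥤ᵇ FibCat.fp t (Stk.ofPshMap w₀) :=
    sqFun t (Stk.ofPshMap w₀) t f' Ec (BasedFunctor.id _) (Iso.refl _) ε₀
  have hs3 : FibCat.IsEquivOver s3 :=
    isEquivOver_sqFun t (Stk.ofPshMap w₀) t f' Ec (BasedFunctor.id _) (Iso.refl _) ε₀ hEc
      isEquivOver_id
  let s4 : FibCat.fp t (Stk.ofPshMap w₀) ⥤ᵇ FibCat.fp ξ' (Stk.ofPshMap w₀) :=
    fpPre (AlgSt.ofOverCat U) ξ' (Stk.ofPshMap w₀)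
  have hs4 : FibCat.IsEquivOver s4 :=
    isEquivOver_fpPre (AlgSt.ofOverCat U) ξ' (Stk.ofPshMap w₀) (isEquivOver_ofOverCat U)
  let s5 : FibCat.fp ξ' (Stk.ofPshMap w₀) ⥤ᵇ FibCat.fp (Stk.ofPshMap w₀) ξ' :=
    fpSwapB ξ' (Stk.ofPshMap w₀)
  have hs5 : FibCat.IsEquivOver s5 := isEquivOver_fpSwapB ξ' (Stk.ofPshMap w₀)
  obtain ⟨E1', ⟨ρ₁⟩, ⟨ρ₂⟩⟩ := id (isEquivOver_E1 w₀ ξ fst snd sq)
  have hE1' : FibCat.IsEquivOver E1' := ⟨_, ⟨ρ₂⟩, ⟨ρ₁⟩⟩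
  let pre5 : AlgSt.ofSp F_U.obj ⥤ᵇ FibCat.fp (Stk.ofPshMap w₀) ξ' :=
    BasedFunctor.comp e_U (BasedFunctor.comp s3 (BasedFunctor.comp s4 s5))
  have hpre5 : FibCat.IsEquivOver pre5 :=
    isEquivOver_comp _ _ he_U (isEquivOver_comp _ _ hs3 (isEquivOver_comp _ _ hs4 hs5))
  let Θ : Stk.ofPsh F_U.obj.obj ⥤ᵇ Stk.ofPsh F'' := BasedFunctor.comp pre5 E1'
  have hΘ : FibCat.IsEquivOver Θ := isEquivOver_comp _ _ hpre5 hE1'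
  haveI hiso : IsIso (pshMapOf Θ) := isIso_pshMapOf Θ hΘ
  let θ : F_U.obj.obj ≅ F'' := asIso (pshMapOf Θ)
  have hsh : Presheaf.IsSheaf (AlgSp.J S) F'' :=
    (Presheaf.isSheaf_of_iso_iff θ).1 F_U.obj.property
  let θ' : F_U.obj ≅ (⟨F'', hsh⟩ : AlgSp.Sp S) :=
    (fullyFaithfulSheafToPresheaf (AlgSp.J S) _).preimageIso
      (X := F_U.obj) (Y := (⟨F'', hsh⟩ : AlgSp.Sp S)) θ
  have hF'' : AlgSp.IsAlgSpace (⟨F'', hsh⟩ : AlgSp.Sp S) := F_U.property.of_iso θ'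
  refine ⟨hsh, hF'', ?_⟩
  let Φ : AlgSt.ofSp F_U.obj ⥤ᵇ FibCat.overCat U := BasedFunctor.comp e_U (FibCat.fpFst t f')
  have α : BasedFunctor.comp Θ (Stk.ofPshMap snd) ≅ BasedFunctor.comp Φ (AlgSt.ofOverCat U) :=
    whiskerLeftIso pre5 (whiskerRightIso ρ₂ (FibCat.fpSnd (Stk.ofPshMap w₀) ξ'))
  have hθ : pshMapOf Θ ≫ snd = (AlgSt.spMapOfOver Φ).hom :=
    ((congrArg (fun k => pshMapOf Θ ≫ k) (pshMapOf_ofPshMap snd).symm).trans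
      ((pshMapOf_comp Θ (Stk.ofPshMap snd)).symm.trans
        ((pshMapOf_congr α.hom).trans (spMapOfOver_hom_eq Φ).symm)))
  have h1 : θ'.hom ≫ (ObjectProperty.homMk snd :
      (⟨F'', hsh⟩ : AlgSp.Sp S) ⟶ (AlgSp.yon S).obj U) = AlgSt.spMapOfOver Φ := by
    apply ObjectProperty.hom_ext
    exact hθ
  apply hPiso F_U.property hF'' (AlgSp.IsAlgSpace.yon_obj U) θ'
  rw [h1]
  exact hP_U

theorem repBySpWith_of_equiv (P : MorphismProperty (AlgSp.Sp S)) (hPiso : CancelIso P)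
    (hEc : FibCat.IsEquivOver Ec) (ε₀ : f' ≅ BasedFunctor.comp Ec (Stk.ofPshMap w₀))
    (hf' : AlgSt.RepByAlgSpWith P f') : AlgSp.RepBySpWith P w₀ :=
  fun U ξ _ fst snd sq =>
    repBySpWith_pt w₀ f' Ec P hPiso hEc ε₀ ξ (hf' U _) fst snd sq

end core

section boot

variable {𝒳 𝒴 : AlgSt.Cat S}

theorem boot (P : MorphismProperty (AlgSp.Sp S)) (hPiso : CancelIso P)
    (h𝒳 : FibCat.IsFibGrpd 𝒳.p) (h𝒴 : FibCat.IsFibGrpd 𝒴.p) (f : 𝒳 ⥤ᵇ 𝒴)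
    (hf : AlgSt.RepByAlgSpWith P f) (G₀ : AlgSp.PSp S) (y' : Stk.ofPsh G₀ ⥤ᵇ 𝒴) :
    ∃ (W : AlgSp.PSp S) (w₀ : W ⟶ G₀) (Ew : Stk.ofPsh W ⥤ᵇ FibCat.fp y' f),
      FibCat.IsEquivOver Ew ∧
      Nonempty (BasedFunctor.comp Ew (FibCat.fpFst y' f) ≅ Stk.ofPshMap w₀) ∧
      AlgSp.RepBySpWith P w₀ := by
  have hf1 : AlgSt.RepByAlgSp1 f := fun U y => by
    obtain ⟨F, e, he, -⟩ := hf U y
    exact ⟨F, e, he⟩
  haveI hfa : f.toFunctor.Faithful := faithful_of_repByAlgSp1 h𝒳 h𝒴 f hf1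
  have hs : FibCat.IsFibSetoid (FibCat.fp y' f).p :=
    isFibSetoid_fp y' f (isFibSetoid_ofPsh G₀) h𝒳 h𝒴
  haveI hWg : FibCat.IsFibGrpd (FibCat.fp y' f).p := hs.1
  obtain ⟨Ec', ⟨δ₁⟩, ⟨δ₂⟩⟩ := id (isEquivOver_Ecl (FibCat.fp y' f) hs)
  let W : AlgSp.PSp S := Gerb.isoClPsh (FibCat.fp y' f)
  let Ec : FibCat.fp y' f ⥤ᵇ Stk.ofPsh W := Ecl (FibCat.fp y' f)
  let w₀ : W ⟶ G₀ := pshMapOf (BasedFunctor.comp Ec' (FibCat.fpFst y' f))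
  have κ : BasedFunctor.comp Ec' (FibCat.fpFst y' f) ≅ Stk.ofPshMap w₀ :=
    (ofPshMapIso (BasedFunctor.comp Ec' (FibCat.fpFst y' f))).symm
  have ε₀ : FibCat.fpFst y' f ≅ BasedFunctor.comp Ec (Stk.ofPshMap w₀) :=
    (whiskerRightIso δ₁ (FibCat.fpFst y' f)).symm ≪≫ whiskerLeftIso Ec κ
  refine ⟨W, w₀, Ec', ⟨Ec, ⟨δ₂⟩, ⟨δ₁⟩⟩, ⟨κ⟩, ?_⟩
  exact repBySpWith_of_equiv w₀ (FibCat.fpFst y' f) Ec P hPiso (isEquivOver_Ecl _ hs) ε₀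
    (repByAlgSpWith_fpFst P f y' hf)

end boot

section loc

theorem P_of_repBySpWith (P : MorphismProperty (AlgSp.Sp S))
    (hP : AlgSp.IsLocalOnBase AlgSp.IsFppfCover P)
    {W G' : AlgSp.Sp S} (w : W ⟶ G') (hW : AlgSp.IsAlgSpace W) (hG' : AlgSp.IsAlgSpace G')
    (hrep : AlgSp.RepBySpWith P w.hom) : P w := by
  obtain ⟨V, p, hpe, hps⟩ := hG'.atlas
  have hcov : AlgSp.IsFppfCover (fun _ : PUnit.{u + 1} => (AlgSp.yon S).obj V) (fun _ => p) :=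
    Groth.Agent.H25.AS.isFppfCover_of_etale_charts (fun _ : PUnit.{u + 1} => V) (fun _ => p)
      (fun _ => hpe)
      (fun y => by
        obtain ⟨v, hv⟩ := Groth.Agent.H25.AS.ofPt_surjective p hps y
        exact ⟨PUnit.unit, v, hv⟩)
  have sq := IsPullback.of_hasPullback w p
  have sq' : IsPullback (pullback.fst w p).hom (pullback.snd w p).hom w.hom p.hom :=
    sq.map (sheafToPresheaf (AlgSp.J S) (Type (u + 1)))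
  obtain ⟨h, hA, hPs⟩ := hrep p.hom (pullback.fst w p).hom (pullback.snd w p).hom sq'
  exact (hP (fun _ : PUnit.{u + 1} => (AlgSp.yon S).obj V) (fun _ => p) hG'
    (fun _ => AlgSp.IsAlgSpace.yon_obj V) hcov w hW (fun _ => pullback w p)
    (fun _ => pullback.snd w p) (fun _ => pullback.fst w p) (fun _ => hA) (fun _ => sq)).2
    (fun _ => hPs)

end loc

section comp

variable {𝒳 𝒴 𝒵 : AlgSt.Cat S}

theorem spMapOfOver_ofSpMap_comp {F G : AlgSp.Sp S} {U : Over S} (w : F ⟶ G)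
    (Φ : AlgSt.ofSp G ⥤ᵇ FibCat.overCat U) :
    AlgSt.spMapOfOver (BasedFunctor.comp (AlgSt.ofSpMap w) Φ) = w ≫ AlgSt.spMapOfOver Φ := by
  apply ObjectProperty.hom_ext
  ext T x
  rfl

/-- `P` can be checked after base change to schemes -/
def DescendsP (P : MorphismProperty (AlgSp.Sp S)) : Prop :=
  ∀ ⦃W G' : AlgSp.Sp S⦄ (w : W ⟶ G'), AlgSp.IsAlgSpace W → AlgSp.IsAlgSpace G' →
    AlgSp.RepBySpWith P w.hom → P w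

theorem descendsP_of_fppf (P : MorphismProperty (AlgSp.Sp S))
    (hP : AlgSp.IsLocalOnBase AlgSp.IsFppfCover P) : DescendsP P :=
  fun _ _ w hW hG' hrep => P_of_repBySpWith P hP w hW hG' hrep

theorem repByAlgSpWith_comp' (h𝒳 : FibCat.IsFibGrpd 𝒳.p) (h𝒴 : FibCat.IsFibGrpd 𝒴.p)
    (P : MorphismProperty (AlgSp.Sp S)) (hPiso : CancelIso P)
    (hPc : ∀ ⦃X Y Z : AlgSp.Sp S⦄, AlgSp.IsAlgSpace X → AlgSp.IsAlgSpace Y → AlgSp.IsAlgSpace Z →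
      ∀ (a : X ⟶ Y) (b : Y ⟶ Z), P a → P b → P (a ≫ b))
    (hD : DescendsP P)
    (f : 𝒳 ⥤ᵇ 𝒴) (g : 𝒴 ⥤ᵇ 𝒵) (hf : AlgSt.RepByAlgSpWith P f)
    (hg : AlgSt.RepByAlgSpWith P g) :
    AlgSt.RepByAlgSpWith P (BasedFunctor.comp f g) := by
  intro U z
  obtain ⟨G', e_g, he_g, hPγ⟩ := hg U z
  let y' : AlgSt.ofSp G'.obj ⥤ᵇ 𝒴 := BasedFunctor.comp e_g (FibCat.fpSnd z g)
  obtain ⟨W, w₀, Ew, hEw, ⟨κ⟩, hrep⟩ := boot P hPiso h𝒳 h𝒴 f hf G'.obj.obj y'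
  have hWP : AlgSp.IsAlgSpaceP W :=
    Groth.Agent.H28.RepBySp.isAlgSpaceP_of_repBySp w₀ hrep.repBySp
      ((AlgSp.isAlgSpaceP_obj_iff _).2 G'.property)
  obtain ⟨hWs, hWa⟩ := hWP
  let F' : AlgSp.Space S := ⟨⟨W, hWs⟩, hWa⟩
  let w : F'.obj ⟶ G'.obj := ObjectProperty.homMk w₀
  have hPw : P w := hD w hWa G'.property hrep
  obtain ⟨Q, ⟨σ₁⟩, ⟨σ₂⟩⟩ := id (isEquivOver_paste z g f)
  let pre : FibCat.fp y' f ⥤ᵇ FibCat.fp (FibCat.fpSnd z g) f := fpPre e_g (FibCat.fpSnd z g) f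
  have hpre : FibCat.IsEquivOver pre := isEquivOver_fpPre e_g (FibCat.fpSnd z g) f he_g
  let e : AlgSt.ofSp F'.obj ⥤ᵇ FibCat.fp z (BasedFunctor.comp f g) :=
    BasedFunctor.comp (BasedFunctor.comp Ew pre) Q
  have he : FibCat.IsEquivOver e :=
    isEquivOver_comp _ _ (isEquivOver_comp _ _ hEw hpre) ⟨_, ⟨σ₂⟩, ⟨σ₁⟩⟩
  refine ⟨F', e, he, ?_⟩
  have α1 : BasedFunctor.comp e (FibCat.fpFst z (BasedFunctor.comp f g)) ≅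
      BasedFunctor.comp (BasedFunctor.comp Ew (FibCat.fpFst y' f))
        (BasedFunctor.comp e_g (FibCat.fpFst z g)) :=
    whiskerLeftIso (BasedFunctor.comp Ew pre)
      (whiskerRightIso σ₂
        (BasedFunctor.comp (FibCat.fpFst (FibCat.fpSnd z g) f) (FibCat.fpFst z g)))
  have α2 : BasedFunctor.comp (BasedFunctor.comp Ew (FibCat.fpFst y' f))
        (BasedFunctor.comp e_g (FibCat.fpFst z g)) ≅
      BasedFunctor.comp (AlgSt.ofSpMap w) (BasedFunctor.comp e_g (FibCat.fpFst z g)) :=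
    whiskerRightIso κ (BasedFunctor.comp e_g (FibCat.fpFst z g))
  rw [spMapOfOver_congr (α1 ≪≫ α2).hom, spMapOfOver_ofSpMap_comp]
  exact hPc hWa G'.property (AlgSp.IsAlgSpace.yon_obj U) w _ hPw hPγ

theorem repByAlgSpWith_comp (h𝒳 : FibCat.IsFibGrpd 𝒳.p) (h𝒴 : FibCat.IsFibGrpd 𝒴.p)
    (P : MorphismProperty (AlgSp.Sp S)) (hPiso : CancelIso P)
    (hPc : ∀ ⦃X Y Z : AlgSp.Sp S⦄, AlgSp.IsAlgSpace X → AlgSp.IsAlgSpace Y → AlgSp.IsAlgSpace Z →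
      ∀ (a : X ⟶ Y) (b : Y ⟶ Z), P a → P b → P (a ≫ b))
    (hP : AlgSp.IsLocalOnBase AlgSp.IsFppfCover P)
    (f : 𝒳 ⥤ᵇ 𝒴) (g : 𝒴 ⥤ᵇ 𝒵) (hf : AlgSt.RepByAlgSpWith P f)
    (hg : AlgSt.RepByAlgSpWith P g) :
    AlgSt.RepByAlgSpWith P (BasedFunctor.comp f g) :=
  repByAlgSpWith_comp' h𝒳 h𝒴 P hPiso hPc (descendsP_of_fppf P hP) f g hf hg

theorem repByAlgSpWith_mono {P P' : MorphismProperty (AlgSp.Sp S)}
    (h : ∀ ⦃X Y : AlgSp.Sp S⦄ (a : X ⟶ Y), P a → P' a) {𝒳 𝒴 : AlgSt.Cat S} (f : 𝒳 ⥤ᵇ 𝒴)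
    (hf : AlgSt.RepByAlgSpWith P f) : AlgSt.RepByAlgSpWith P' f := by
  intro U y
  obtain ⟨F, e, he, hP⟩ := hf U y
  exact ⟨F, e, he, h _ hP⟩

end comp

end Groth.Agent.H28.RepComp
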