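import Mathlib
import Groth.Agent.H28.RepComp

/-!
# Representability by algebraic spaces: presheaves versus categories fibred in sets
-/

set_option autoImplicit false
set_option linter.style.haveILetI false
set_option backward.isDefEq.respectTransparency false
set_option backward.isDefEq.respectTransparency.types false

namespace Groth.Agent.H28.RepComp

open CategoryTheory CategoryTheory.Limits FibCat AlgebraicGeometry Opposite Stk
open Groth.Agent.Helper22 Groth.Agent.Helper22.EquivComp Groth.Agent.Helper22.FpSq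
open Groth.Agent.Helper22.FpEquiv Groth.Agent.H28.LiftFp
open Groth.Agent.H28.FpBase Groth.Agent.H28.PshDict Groth.Agent.H28.IsoCl

universe u

variable {S : Scheme.{u}}

section dict

variable {F G : AlgSp.PSp S} (a : F ⟶ G)

theorem repByAlgSpWith_of_repBySpWith (P : MorphismProperty (AlgSp.Sp S))
    (h : AlgSp.RepBySpWith P a) : AlgSt.RepByAlgSpWith P (Stk.ofPshMap a) := by
  intro U y
  let ξ₀ : AlgSt.ofSch U ⥤ᵇ Stk.ofPsh G := BasedFunctor.comp (AlgSt.toOverCat U) y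
  let ξ : (AlgSp.pyon S).obj U ⟶ G := pshMapOf ξ₀
  have κ : Stk.ofPshMap ξ ≅ ξ₀ := ofPshMapIso ξ₀
  have sq := IsPullback.of_hasPullback a ξ
  obtain ⟨hsh, hA, hQ⟩ := h ξ (pullback.fst a ξ) (pullback.snd a ξ) sq
  let s1 : Stk.ofPsh (pullback a ξ) ⥤ᵇ FibCat.fp (Stk.ofPshMap a) (Stk.ofPshMap ξ) :=
    E1 a ξ (pullback.fst a ξ) (pullback.snd a ξ) sq
  have hs1 : FibCat.IsEquivOver s1 := isEquivOver_E1 a ξ (pullback.fst a ξ) (pullback.snd a ξ) sq
  let s2 : FibCat.fp (Stk.ofPshMap a) (Stk.ofPshMap ξ) ⥤ᵇ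
      FibCat.fp (Stk.ofPshMap ξ) (Stk.ofPshMap a) := fpSwapB (Stk.ofPshMap a) (Stk.ofPshMap ξ)
  have hs2 : FibCat.IsEquivOver s2 := isEquivOver_fpSwapB (Stk.ofPshMap a) (Stk.ofPshMap ξ)
  let s3 : FibCat.fp (Stk.ofPshMap ξ) (Stk.ofPshMap a) ⥤ᵇ FibCat.fp ξ₀ (Stk.ofPshMap a) :=
    sqFun ξ₀ (Stk.ofPshMap a) (Stk.ofPshMap ξ) (Stk.ofPshMap a) (BasedFunctor.id _)
      (BasedFunctor.id _) κ (Iso.refl _)
  have hs3 : FibCat.IsEquivOver s3 :=
    isEquivOver_sqFun ξ₀ (Stk.ofPshMap a) (Stk.ofPshMap ξ) (Stk.ofPshMap a) (BasedFunctor.id _)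
      (BasedFunctor.id _) κ (Iso.refl _) isEquivOver_id isEquivOver_id
  let s4 : FibCat.fp ξ₀ (Stk.ofPshMap a) ⥤ᵇ FibCat.fp y (Stk.ofPshMap a) :=
    fpPre (AlgSt.toOverCat U) y (Stk.ofPshMap a)
  have hs4 : FibCat.IsEquivOver s4 :=
    isEquivOver_fpPre (AlgSt.toOverCat U) y (Stk.ofPshMap a)
      (Groth.Agent.H28.DiagRep.isEquivOver_toOverCat U)
  let Fsp : AlgSp.Space S := ⟨⟨pullback a ξ, hsh⟩, hA⟩
  let e : AlgSt.ofSp Fsp.obj ⥤ᵇ FibCat.fp y (Stk.ofPshMap a) :=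
    BasedFunctor.comp s1 (BasedFunctor.comp s2 (BasedFunctor.comp s3 s4))
  have he : FibCat.IsEquivOver e :=
    isEquivOver_comp _ _ hs1 (isEquivOver_comp _ _ hs2 (isEquivOver_comp _ _ hs3 hs4))
  refine ⟨Fsp, e, he, ?_⟩
  have h1 : AlgSt.spMapOfOver (BasedFunctor.comp e (FibCat.fpFst y (Stk.ofPshMap a))) =
      (ObjectProperty.homMk (pullback.snd a ξ) :
        (⟨pullback a ξ, hsh⟩ : AlgSp.Sp S) ⟶ (AlgSp.yon S).obj U) := by
    apply ObjectProperty.hom_ext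
    exact (spMapOfOver_hom_eq _).trans (pshMapOf_ofPshMap (pullback.snd a ξ))
  rw [h1]
  exact hQ

theorem repBySpWith_of_repByAlgSpWith (P : MorphismProperty (AlgSp.Sp S)) (hPiso : CancelIso P)
    (h : AlgSt.RepByAlgSpWith P (Stk.ofPshMap a)) : AlgSp.RepBySpWith P a :=
  repBySpWith_of_equiv a (Stk.ofPshMap a) (BasedFunctor.id _) P hPiso isEquivOver_id
    (Iso.refl _) h

theorem repBySpWith_iff (P : MorphismProperty (AlgSp.Sp S)) (hPiso : CancelIso P) :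
    AlgSp.RepBySpWith P a ↔ AlgSt.RepByAlgSpWith P (Stk.ofPshMap a) :=
  ⟨repByAlgSpWith_of_repBySpWith a P, repBySpWith_of_repByAlgSpWith a P hPiso⟩

end dict

/-- the property that always holds -/
def topP : MorphismProperty (AlgSp.Sp S) := fun _ _ _ => True

theorem cancelIso_topP : CancelIso (topP (S := S)) := fun _ _ _ _ _ _ _ _ _ => trivial

theorem repBySp_iff_top {F G : AlgSp.PSp S} (a : F ⟶ G) :
    AlgSp.RepBySp a ↔ AlgSp.RepBySpWith topP a :=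
  ⟨fun h U ξ F' fst snd sq => by
    obtain ⟨hs, hA⟩ := h ξ fst snd sq
    exact ⟨hs, hA, trivial⟩, fun h => h.repBySp⟩

theorem repByAlgSp1_iff_top {𝒳 𝒴 : AlgSt.Cat S} (f : 𝒳 ⥤ᵇ 𝒴) :
    AlgSt.RepByAlgSp1 f ↔ AlgSt.RepByAlgSpWith topP f :=
  ⟨fun h U y => by
    obtain ⟨F, e, he⟩ := h U y
    exact ⟨F, e, he, trivial⟩, fun h U y => by
    obtain ⟨F, e, he, -⟩ := h U y
    exact ⟨F, e, he⟩⟩

theorem repBySp_iff {F G : AlgSp.PSp S} (a : F ⟶ G) :
    AlgSp.RepBySp a ↔ AlgSt.RepByAlgSp1 (Stk.ofPshMap a) :=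
  (repBySp_iff_top a).trans ((repBySpWith_iff a topP cancelIso_topP).trans
    (repByAlgSp1_iff_top _).symm)

end Groth.Agent.H28.RepComp
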