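import Mathlib
import Groth.Agent.H28.RepDict
import Groth.Agent.Lib.Helper22.OverFib

/-!
# Morphisms between categories representable by algebraic spaces
-/

set_option autoImplicit false
set_option linter.style.haveILetI false
set_option backward.isDefEq.respectTransparency false
set_option backward.isDefEq.respectTransparency.types false

namespace Groth.Agent.H28.RepComp

open CategoryTheory CategoryTheory.Limits FibCat AlgebraicGeometry Opposite Stk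
open Groth.Agent.Helper22 Groth.Agent.Helper22.EquivComp Groth.Agent.Helper22.FpSq
open Groth.Agent.Helper22.FpEquiv Groth.Agent.H28.LiftFp
open Groth.Agent.H28.FpBase Groth.Agent.H28.PshDict Groth.Agent.H28.IsoCl

universe u

variable {S : Scheme.{u}}

theorem repBySp_of_isAlgSpace {F G : AlgSp.Sp S} (hF : AlgSp.IsAlgSpace F)
    (hG : AlgSp.IsAlgSpace G) (a : F ⟶ G) : AlgSp.RepBySp a.hom := by
  rw [AlgSp.repBySp_hom_iff]
  intro U ξ F' fst snd sq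
  exact Groth.Agent.H25.AS.isAlgSpace_of_isPullback hG.diag hF (AlgSp.IsAlgSpace.yon_obj U) sq

theorem repByAlgSp1_of_repByAlgSp {𝒳 𝒴 : AlgSt.Cat S} (hX : AlgSt.RepByAlgSp 𝒳)
    (hY : AlgSt.RepByAlgSp 𝒴) (f : 𝒳 ⥤ᵇ 𝒴) : AlgSt.RepByAlgSp1 f := by
  obtain ⟨F, eX, heX⟩ := hX
  obtain ⟨G, eY, heY⟩ := hY
  obtain ⟨eY', ⟨β₁⟩, ⟨β₂⟩⟩ := id heY
  let f₀ : AlgSt.ofSp F.obj ⥤ᵇ AlgSt.ofSp G.obj :=
    BasedFunctor.comp (BasedFunctor.comp eX f) eY'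
  let a₀ : F.obj.obj ⟶ G.obj.obj := pshMapOf f₀
  let a : F.obj ⟶ G.obj := ObjectProperty.homMk a₀
  have ha : AlgSp.RepBySp a₀ := repBySp_of_isAlgSpace F.property G.property a
  have h1 : AlgSt.RepByAlgSpWith topP (Stk.ofPshMap a₀) :=
    repByAlgSpWith_of_repBySpWith a₀ topP ((repBySp_iff_top a₀).1 ha)
  have κ : BasedFunctor.comp (Stk.ofPshMap a₀) eY ≅ BasedFunctor.comp eX f :=
    whiskerRightIso (ofPshMapIso f₀) eY ≪≫ whiskerLeftIso (BasedFunctor.comp eX f) β₂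
  exact (repByAlgSp1_iff_top f).2
    (repByAlgSpWith_of_sq topP f (Stk.ofPshMap a₀) eX eY heX heY κ h1)

theorem repByAlgSp1_of_source_rep {𝒳 𝒰 : AlgSt.Cat S} (h𝒳 : FibCat.IsFibGrpd 𝒳.p)
    (h : ∀ (U : Over S) (x : FibCat.overCat U ⥤ᵇ 𝒳), AlgSt.RepByAlgSp1 x)
    (hU : AlgSt.RepByAlgSp 𝒰) (x : 𝒰 ⥤ᵇ 𝒳) : AlgSt.RepByAlgSp1 x := by
  obtain ⟨F, eU, heU⟩ := hU
  let x₀ : AlgSt.ofSp F.obj ⥤ᵇ 𝒳 := BasedFunctor.comp eU x
  have h0 : AlgSt.RepByAlgSpWith topP x₀ := by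
    intro V y
    obtain ⟨W, w₀, Ew, hEw, -, hrep⟩ := boot topP cancelIso_topP
      (Groth.Agent.Helper22.OverFib.isFibGrpd_over V) h𝒳 y ((repByAlgSp1_iff_top y).1 (h V y))
      F.obj.obj x₀
    obtain ⟨hWs, hWa⟩ := Groth.Agent.H28.RepBySp.isAlgSpaceP_of_repBySp w₀ hrep.repBySp
      ((AlgSp.isAlgSpaceP_obj_iff _).2 F.property)
    exact ⟨⟨⟨W, hWs⟩, hWa⟩, BasedFunctor.comp Ew (fpSwapB x₀ y),
      isEquivOver_comp _ _ hEw (isEquivOver_fpSwapB x₀ y), trivial⟩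
  exact (repByAlgSp1_iff_top x).2
    (repByAlgSpWith_of_sq topP x x₀ eU (BasedFunctor.id _) heU isEquivOver_id (Iso.refl _) h0)

theorem repByAlgSp1_source_iff {𝒳 : AlgSt.Cat S} (h𝒳 : FibCat.IsFibGrpd 𝒳.p) :
    (∀ (U : Over S) (x : FibCat.overCat U ⥤ᵇ 𝒳), AlgSt.RepByAlgSp1 x) ↔
      ∀ (𝒰 : AlgSt.Cat S), FibCat.IsFibGrpd 𝒰.p → AlgSt.RepByAlgSp 𝒰 →
        ∀ (x : 𝒰 ⥤ᵇ 𝒳), AlgSt.RepByAlgSp1 x :=
  ⟨fun h _ _ hU x => repByAlgSp1_of_source_rep h𝒳 h hU x, fun h' U x =>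
    h' (FibCat.overCat U) (Groth.Agent.Helper22.OverFib.isFibGrpd_over U)
      ⟨⟨(AlgSp.yon S).obj U, AlgSp.IsAlgSpace.yon_obj U⟩, AlgSt.toOverCat U,
        Groth.Agent.H28.DiagRep.isEquivOver_toOverCat U⟩ x⟩

end Groth.Agent.H28.RepComp
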