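import Mathlib
import Groth.Agent.H28.RepDict2

/-!
# Properties of morphisms of algebraic spaces tested on affine schemes (affine, integral, finite)
-/

set_option autoImplicit false
set_option linter.style.haveILetI false
set_option backward.isDefEq.respectTransparency false
set_option backward.isDefEq.respectTransparency.types false

namespace Groth.Agent.H28.RepComp

open CategoryTheory CategoryTheory.Limits FibCat AlgebraicGeometry Opposite Stk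
open Groth.Agent.Helper22 Groth.Agent.Helper22.EquivComp Groth.Agent.Helper22.FpSq
open Groth.Agent.Helper22.FpEquiv Groth.Agent.H28.LiftFp
open Groth.Agent.H28.FpBase Groth.Agent.H28.PshDict Groth.Agent.H28.IsoCl

universe u

variable {S : Scheme.{u}}

/-- a property tested by base change to affine schemes -/
def AffBaseP (Q : ∀ ⦃W Z : Over S⦄, (W ⟶ Z) → Prop) : MorphismProperty (AlgSp.Sp S) :=
  fun F G f => ∀ ⦃Z : Over S⦄, IsAffine Z.left → ∀ (g : (AlgSp.yon S).obj Z ⟶ G),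
    ∃ (W : Over S) (i : W ⟶ Z) (fst : (AlgSp.yon S).obj W ⟶ F),
      IsPullback fst ((AlgSp.yon S).map i) f g ∧ IsAffine W.left ∧ Q i

section affbase

variable (Q : ∀ ⦃W Z : Over S⦄, (W ⟶ Z) → Prop)

theorem cancelIso_affBaseP : CancelIso (AffBaseP Q) := by
  intro X Y Z₀ _ _ _ e g h Z hZ k
  obtain ⟨W, i, fst, sq, hW, hQ⟩ := h hZ k
  refine ⟨W, i, fst ≫ e.hom, ?_, hW, hQ⟩
  exact sq.of_iso (Iso.refl _) e (Iso.refl _) (Iso.refl _) (by simp) (by simp) (by simp) (by simp)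

theorem comp_affBaseP
    (hQc : ∀ ⦃W₂ W₁ Z : Over S⦄ (i₂ : W₂ ⟶ W₁) (i₁ : W₁ ⟶ Z), Q i₂ → Q i₁ → Q (i₂ ≫ i₁))
    ⦃X Y Z₀ : AlgSp.Sp S⦄ (a : X ⟶ Y) (b : Y ⟶ Z₀) (ha : AffBaseP Q a) (hb : AffBaseP Q b) :
    AffBaseP Q (a ≫ b) := by
  intro Z hZ k
  obtain ⟨W₁, i₁, fst₁, sq₁, hW₁, hQ₁⟩ := hb hZ k
  obtain ⟨W₂, i₂, fst₂, sq₂, hW₂, hQ₂⟩ := ha hW₁ fst₁
  refine ⟨W₂, i₂ ≫ i₁, fst₂, ?_, hW₂, hQc i₂ i₁ hQ₂ hQ₁⟩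
  rw [Functor.map_comp]
  exact sq₂.paste_vert sq₁

theorem descendsP_affBaseP : DescendsP (AffBaseP Q) := by
  intro W₀ G' w _ _ hrep Z hZ g
  have hrep' := (AlgSp.repBySpWith_hom_iff (AffBaseP Q) w).1 hrep
  have sq := IsPullback.of_hasPullback w g
  obtain ⟨-, hsnd⟩ := hrep' g (pullback.fst w g) (pullback.snd w g) sq
  obtain ⟨W, i, fst', sq', hW, hQ⟩ := hsnd hZ (𝟙 _)
  refine ⟨W, i, fst' ≫ pullback.fst w g, ?_, hW, hQ⟩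
  have h := sq'.paste_horiz sq
  rwa [Category.id_comp] at h

theorem repByAlgSpWith_comp_affBaseP
    (hQc : ∀ ⦃W₂ W₁ Z : Over S⦄ (i₂ : W₂ ⟶ W₁) (i₁ : W₁ ⟶ Z), Q i₂ → Q i₁ → Q (i₂ ≫ i₁))
    {𝒳 𝒴 𝒵 : AlgSt.Cat S} (h𝒳 : FibCat.IsFibGrpd 𝒳.p) (h𝒴 : FibCat.IsFibGrpd 𝒴.p)
    (f : 𝒳 ⥤ᵇ 𝒴) (g : 𝒴 ⥤ᵇ 𝒵) (hf : AlgSt.RepByAlgSpWith (AffBaseP Q) f)
    (hg : AlgSt.RepByAlgSpWith (AffBaseP Q) g) :
    AlgSt.RepByAlgSpWith (AffBaseP Q) (BasedFunctor.comp f g) :=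
  repByAlgSpWith_comp' h𝒳 h𝒴 (AffBaseP Q) (cancelIso_affBaseP Q)
    (fun _ _ _ _ _ _ a b ha hb => comp_affBaseP Q hQc a b ha hb) (descendsP_affBaseP Q) f g hf hg

end affbase

/-- the trivial condition -/
def QTrue : ∀ ⦃W Z : Over S⦄, (W ⟶ Z) → Prop := fun _ _ _ => True

/-- integrality -/
def QInt : ∀ ⦃W Z : Over S⦄, (W ⟶ Z) → Prop := fun _ _ i => IsIntegralHom i.left

/-- finiteness -/
def QFin : ∀ ⦃W Z : Over S⦄, (W ⟶ Z) → Prop := fun _ _ i => IsFinite i.left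

theorem isAffineMor_iff {X Y : AlgSp.Sp S} (a : X ⟶ Y) :
    AlgSp.IsAffineMor a ↔ AffBaseP QTrue a :=
  ⟨fun h Z hZ g => by
    obtain ⟨W, i, fst, sq, hW⟩ := h hZ g
    exact ⟨W, i, fst, sq, hW, trivial⟩, fun h Z hZ g => by
    obtain ⟨W, i, fst, sq, hW, -⟩ := h hZ g
    exact ⟨W, i, fst, sq, hW⟩⟩

theorem isIntegralMor_iff {X Y : AlgSp.Sp S} (a : X ⟶ Y) :
    AlgSp.IsIntegralMor a ↔ AffBaseP QInt a := Iff.rfl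

theorem isFiniteMor_iff {X Y : AlgSp.Sp S} (a : X ⟶ Y) :
    AlgSp.IsFiniteMor a ↔ AffBaseP QFin a := Iff.rfl

theorem qTrue_comp ⦃W₂ W₁ Z : Over S⦄ (i₂ : W₂ ⟶ W₁) (i₁ : W₁ ⟶ Z) :
    QTrue i₂ → QTrue i₁ → QTrue (i₂ ≫ i₁) := fun _ _ => trivial

theorem qInt_comp ⦃W₂ W₁ Z : Over S⦄ (i₂ : W₂ ⟶ W₁) (i₁ : W₁ ⟶ Z) :
    QInt i₂ → QInt i₁ → QInt (i₂ ≫ i₁) := by
  intro h2 h1
  have h2' : IsIntegralHom i₂.left := h2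
  have h1' : IsIntegralHom i₁.left := h1
  show IsIntegralHom (i₂ ≫ i₁).left
  rw [Over.comp_left]
  infer_instance

theorem qFin_comp ⦃W₂ W₁ Z : Over S⦄ (i₂ : W₂ ⟶ W₁) (i₁ : W₁ ⟶ Z) :
    QFin i₂ → QFin i₁ → QFin (i₂ ≫ i₁) := by
  intro h2 h1
  have h2' : IsFinite i₂.left := h2
  have h1' : IsFinite i₁.left := h1
  show IsFinite (i₂ ≫ i₁).left
  rw [Over.comp_left]
  infer_instance

section stk

variable {𝒳 𝒴 𝒵 : AlgSt.Cat S}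

theorem repByAlgSpWith_affine_iff (f : 𝒳 ⥤ᵇ 𝒴) :
    AlgSt.RepByAlgSpWith AlgSp.IsAffineMor f ↔ AlgSt.RepByAlgSpWith (AffBaseP QTrue) f :=
  ⟨repByAlgSpWith_mono (fun _ _ a => (isAffineMor_iff a).1) f,
    repByAlgSpWith_mono (fun _ _ a => (isAffineMor_iff a).2) f⟩

theorem repByAlgSpWith_comp_affine (h𝒳 : FibCat.IsFibGrpd 𝒳.p) (h𝒴 : FibCat.IsFibGrpd 𝒴.p)
    (f : 𝒳 ⥤ᵇ 𝒴) (g : 𝒴 ⥤ᵇ 𝒵) (hf : AlgSt.RepByAlgSpWith AlgSp.IsAffineMor f)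
    (hg : AlgSt.RepByAlgSpWith AlgSp.IsAffineMor g) :
    AlgSt.RepByAlgSpWith AlgSp.IsAffineMor (BasedFunctor.comp f g) :=
  (repByAlgSpWith_affine_iff _).2 (repByAlgSpWith_comp_affBaseP QTrue qTrue_comp h𝒳 h𝒴 f g
    ((repByAlgSpWith_affine_iff f).1 hf) ((repByAlgSpWith_affine_iff g).1 hg))

theorem repByAlgSpWith_comp_integral (h𝒳 : FibCat.IsFibGrpd 𝒳.p) (h𝒴 : FibCat.IsFibGrpd 𝒴.p)
    (f : 𝒳 ⥤ᵇ 𝒴) (g : 𝒴 ⥤ᵇ 𝒵) (hf : AlgSt.RepByAlgSpWith AlgSp.IsIntegralMor f)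
    (hg : AlgSt.RepByAlgSpWith AlgSp.IsIntegralMor g) :
    AlgSt.RepByAlgSpWith AlgSp.IsIntegralMor (BasedFunctor.comp f g) :=
  repByAlgSpWith_comp_affBaseP QInt qInt_comp h𝒳 h𝒴 f g hf hg

theorem repByAlgSpWith_comp_finite (h𝒳 : FibCat.IsFibGrpd 𝒳.p) (h𝒴 : FibCat.IsFibGrpd 𝒴.p)
    (f : 𝒳 ⥤ᵇ 𝒴) (g : 𝒴 ⥤ᵇ 𝒵) (hf : AlgSt.RepByAlgSpWith AlgSp.IsFiniteMor f)
    (hg : AlgSt.RepByAlgSpWith AlgSp.IsFiniteMor g) :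
    AlgSt.RepByAlgSpWith AlgSp.IsFiniteMor (BasedFunctor.comp f g) :=
  repByAlgSpWith_comp_affBaseP QFin qFin_comp h𝒳 h𝒴 f g hf hg

end stk

end Groth.Agent.H28.RepComp
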