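import Mathlib

set_option autoImplicit false
universe u
open CategoryTheory AlgebraicGeometry TensorProduct

namespace Groth.Agent.H28.FlatComp

/-- If `C` is faithfully flat over `B` and flat over `A`, then `B` is flat over `A`. -/
theorem module_flat_of_faithfullyFlat (A B C : Type u) [CommRing A] [CommRing B] [CommRing C]
    [Algebra A B] [Algebra B C] [Algebra A C] [IsScalarTower A B C]
    [Module.FaithfullyFlat B C] [Module.Flat A C] : Module.Flat A B := by
  rw [Module.Flat.iff_lTensor_preserves_injective_linearMap]
  intro N P _ _ _ _ f hf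
  have h1 : Function.Injective (LinearMap.lTensor C f) :=
    Module.Flat.lTensor_preserves_injective_linearMap f hf
  change Function.Injective (LinearMap.baseChange B f)
  rw [← Module.FaithfullyFlat.lTensor_injective_iff_injective B C]
  have key : ∀ x : C ⊗[B] (B ⊗[A] N),
      AlgebraTensorModule.cancelBaseChange A B C C P (LinearMap.lTensor C (LinearMap.baseChange B f) x) =
        LinearMap.lTensor C f (AlgebraTensorModule.cancelBaseChange A B C C N x) := by
    intro x
    induction x using TensorProduct.induction_on with
    | zero => simp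
    | tmul c y =>
      induction y using TensorProduct.induction_on with
      | zero => simp
      | tmul b n => simp
      | add y₁ y₂ h₁ h₂ =>
        rw [TensorProduct.tmul_add, map_add, map_add, map_add, map_add, h₁, h₂]
    | add x₁ x₂ h₁ h₂ => rw [map_add, map_add, map_add, map_add, h₁, h₂]
  intro x y hxy
  have := congrArg (AlgebraTensorModule.cancelBaseChange A B C C P) hxy
  rw [key, key] at this
  exact (AlgebraTensorModule.cancelBaseChange A B C C N).injective (h1 this)

theorem ringHom_flat_of_comp {A B C : Type u} [CommRing A] [CommRing B] [CommRing C]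
    [IsLocalRing B] [IsLocalRing C]
    (φ : A →+* B) (ψ : B →+* C) [IsLocalHom ψ] (hψ : ψ.Flat) (h : (ψ.comp φ).Flat) : φ.Flat := by
  algebraize [φ, ψ, ψ.comp φ]
  have : IsLocalHom (algebraMap B C) := ‹IsLocalHom ψ›
  have : Module.FaithfullyFlat B C := Module.FaithfullyFlat.of_flat_of_isLocalHom
  exact module_flat_of_faithfullyFlat A B C

/-- Flatness descends along a flat surjective morphism on the source. -/
theorem flat_of_flat_comp {X Y Z : Scheme.{u}} (f : X ⟶ Y) (g : Y ⟶ Z) [Flat f] [Surjective f]
    [Flat (f ≫ g)] : Flat g := by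
  rw [Flat.iff_flat_stalkMap]
  intro y
  obtain ⟨x, rfl⟩ := f.surjective y
  have h1 : ((f ≫ g).stalkMap x).hom.Flat := Flat.stalkMap (f ≫ g) x
  have h2 : (f.stalkMap x).hom.Flat := Flat.stalkMap f x
  rw [Scheme.Hom.stalkMap_comp] at h1
  exact ringHom_flat_of_comp (g.stalkMap (f x)).hom (f.stalkMap x).hom h2 h1

end Groth.Agent.H28.FlatComp
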