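import Mathlib
import Groth.Agent.H28.FlatComp

/-!
# Descent along fpqc covering families

A covering family in the fpqc precoverage can, over every affine open of the base, be refined by
a single flat surjective quasi-compact morphism from an affine scheme.  Consequently, properties
of morphisms which are Zariski-local on the target, stable under base change and descend along
flat surjective quasi-compact morphisms can be checked on the members of an fpqc covering family.
-/

set_option autoImplicit false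
universe u
open CategoryTheory CategoryTheory.Limits AlgebraicGeometry

namespace Groth.Agent.H28.FpqcFam

theorem exists_single_cover {S : Scheme.{u}} {R : Presieve S}
    (hR : R ∈ Scheme.fpqcPrecoverage S) (U : S.Opens) (hU : IsAffineOpen U) :
    ∃ (T : Scheme.{u}) (t : T ⟶ U.toScheme), Flat t ∧ Surjective t ∧ QuasiCompact t ∧
      ∃ (𝒱 : Scheme.OpenCover.{u} T), ∀ j, ∃ (Y : Scheme.{u}) (g : Y ⟶ S) (c : 𝒱.X j ⟶ Y),
        R g ∧ 𝒱.f j ≫ t ≫ U.ι = c ≫ g := by
  obtain ⟨𝒰, hqc, rfl⟩ := Scheme.mem_propQCPrecoverage_iff_exists_quasiCompactCover.mp hR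
  obtain ⟨n, idx, V, hV, hVU⟩ :=
    QuasiCompactCover.exists_isAffineOpen_of_isCompact 𝒰.toPreZeroHypercover hU.isCompact
  let Z : ULift.{u} (Fin n) → Scheme.{u} := fun i => (V i.down).toScheme
  have hrange : ∀ i : ULift.{u} (Fin n),
      Set.range ((V i.down).ι ≫ 𝒰.f (idx i.down)) ⊆ Set.range U.ι := by
    intro i
    rintro _ ⟨x, rfl⟩
    rw [Scheme.Opens.range_ι, ← hVU]
    refine Set.mem_iUnion.mpr ⟨i.down, ⟨x.1, x.2, ?_⟩⟩
    simp
  let r : ∀ i : ULift.{u} (Fin n), Z i ⟶ U.toScheme := fun i =>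
    IsOpenImmersion.lift U.ι ((V i.down).ι ≫ 𝒰.f (idx i.down)) (hrange i)
  have hr : ∀ i, r i ≫ U.ι = (V i.down).ι ≫ 𝒰.f (idx i.down) := fun i =>
    IsOpenImmersion.lift_fac _ _ _
  have haff : ∀ i, IsAffine (Z i) := fun i => hV i.down
  have hflat_r : ∀ i, Flat (r i) := by
    intro i
    have h0 : Flat (𝒰.f (idx i.down)) := 𝒰.map_prop (idx i.down)
    have h1 : Flat (r i ≫ U.ι) := by rw [hr]; infer_instance
    exact MorphismProperty.of_postcomp (W := @Flat) (W' := @IsOpenImmersion) (r i) U.ι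
      inferInstance h1
  have hUaff : IsAffine U.toScheme := hU
  refine ⟨∐ Z, Sigma.desc r, ?_, ?_, ?_, sigmaOpenCover Z, ?_⟩
  · rw [IsZariskiLocalAtSource.iff_of_openCover (P := @Flat) (sigmaOpenCover Z)]
    intro i
    change Flat (Sigma.ι Z i ≫ Sigma.desc r)
    rw [Sigma.ι_desc]
    exact hflat_r i
  · constructor
    intro y
    have hy : U.ι y ∈ Set.range U.ι := ⟨y, rfl⟩
    rw [Scheme.Opens.range_ι, ← hVU] at hy
    obtain ⟨i, x, hx, hxy⟩ := Set.mem_iUnion.mp hy
    refine ⟨(Sigma.ι Z ⟨i⟩) ⟨x, hx⟩, ?_⟩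
    apply U.ι.isOpenEmbedding.injective
    have h2 : Sigma.ι Z ⟨i⟩ ≫ Sigma.desc r ≫ U.ι = (V i).ι ≫ 𝒰.f (idx i) := by
      rw [← Category.assoc, Sigma.ι_desc, hr]
    have h3 := congrArg (fun φ : (Z ⟨i⟩ ⟶ S) => φ ⟨x, hx⟩) h2
    simp only [Scheme.Hom.comp_apply] at h3
    rw [h3]
    exact hxy
  · infer_instance
  · intro j
    refine ⟨𝒰.X (idx j.down), 𝒰.f (idx j.down), (V j.down).ι, ⟨idx j.down⟩, ?_⟩
    change Sigma.ι Z j ≫ Sigma.desc r ≫ U.ι = _
    rw [← Category.assoc, Sigma.ι_desc, hr]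
    rfl

/-- A property of morphisms which is Zariski-local on the target, stable under base change and
descends along flat surjective quasi-compact morphisms holds as soon as it holds after base
change to the members of an fpqc covering family. -/
theorem of_fpqcPrecoverage (P : MorphismProperty Scheme.{u}) [IsZariskiLocalAtTarget P]
    [P.IsStableUnderBaseChange] [P.DescendsAlong (@Surjective ⊓ @Flat ⊓ @QuasiCompact)]
    {X S : Scheme.{u}} (f : X ⟶ S) {R : Presieve S} (hR : R ∈ Scheme.fpqcPrecoverage S)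
    (h : ∀ ⦃Y : Scheme.{u}⦄ (g : Y ⟶ S), R g → P (pullback.snd f g)) : P f := by
  rw [IsZariskiLocalAtTarget.iff_of_iSup_eq_top (P := P) (fun U : S.affineOpens => U.1)
    (iSup_affineOpens_eq_top S)]
  rintro ⟨U, hU⟩
  obtain ⟨T, t, hfl, hsj, hqc, 𝒱, h𝒱⟩ := exists_single_cover hR U hU
  refine MorphismProperty.of_isPullback_of_descendsAlong (P := P)
    (Q := @Surjective ⊓ @Flat ⊓ @QuasiCompact)
    (IsPullback.of_hasPullback t (f ∣_ U)) ⟨⟨hsj, hfl⟩, hqc⟩ ?_
  rw [IsZariskiLocalAtTarget.iff_of_openCover (P := P) 𝒱]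
  intro j
  obtain ⟨Y, g, c, hg, hc⟩ := h𝒱 j
  change P (pullback.snd (pullback.fst t (f ∣_ U)) (𝒱.f j))
  have sqA := IsPullback.of_hasPullback (pullback.fst t (f ∣_ U)) (𝒱.f j)
  have sqB := (IsPullback.of_hasPullback t (f ∣_ U)).flip
  have sqC := (isPullback_morphismRestrict f U).flip
  have big := (sqA.paste_horiz sqB).paste_horiz sqC
  have hc' : (𝒱.f j ≫ t) ≫ U.ι = c ≫ g := by rw [Category.assoc, hc]
  rw [hc'] at big
  have hcomm : (pullback.fst (pullback.fst t (f ∣_ U)) (𝒱.f j) ≫ pullback.snd t (f ∣_ U)) ≫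
      (f ⁻¹ᵁ U).ι ≫ f = (pullback.snd (pullback.fst t (f ∣_ U)) (𝒱.f j) ≫ c) ≫ g := by
    have hw := big.w
    simp only [Category.assoc] at hw ⊢
    exact hw
  have big' : IsPullback
      (pullback.lift ((pullback.fst (pullback.fst t (f ∣_ U)) (𝒱.f j) ≫
        pullback.snd t (f ∣_ U)) ≫ (f ⁻¹ᵁ U).ι)
        (pullback.snd (pullback.fst t (f ∣_ U)) (𝒱.f j) ≫ c)
        (by rw [Category.assoc]; exact hcomm) ≫ pullback.fst f g)
      (pullback.snd (pullback.fst t (f ∣_ U)) (𝒱.f j)) f (c ≫ g) := by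
    rw [pullback.lift_fst]
    exact big
  have left := IsPullback.of_right big' (pullback.lift_snd _ _ _) (IsPullback.of_hasPullback f g)
  exact MorphismProperty.of_isPullback (P := P) left (h g hg)

/-- Quasi-compactness descends along surjective quasi-compact base change. -/
instance descendsAlong_quasiCompact :
    MorphismProperty.DescendsAlong @QuasiCompact (@Surjective ⊓ @Flat ⊓ @QuasiCompact) := by
  apply MorphismProperty.DescendsAlong.mk'
  intro X Y Z f g _ hf hfst
  obtain ⟨⟨hsj, hfl⟩, hqc⟩ := hf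
  rw [quasiCompact_iff_forall_isAffineOpen]
  intro U hU
  have h1 : IsCompact (f ⁻¹ᵁ U : Set X) := f.isCompact_preimage hU.isCompact
  have h2 : IsCompact (pullback.fst f g ⁻¹ᵁ (f ⁻¹ᵁ U) : Set ↥(pullback f g)) :=
    (pullback.fst f g).isCompact_preimage h1
  have h3 : (g ⁻¹ᵁ U : Set Y) =
      (pullback.snd f g) '' (pullback.fst f g ⁻¹ᵁ (f ⁻¹ᵁ U) : Set ↥(pullback f g)) := by
    ext y
    constructor
    · intro hy
      obtain ⟨x, hx⟩ := f.surjective (g y)
      obtain ⟨z, hz1, hz2⟩ := Scheme.Pullback.exists_preimage_pullback x y hx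
      refine ⟨z, ?_, hz2⟩
      change f (pullback.fst f g z) ∈ U
      rw [hz1, hx]
      exact hy
    · rintro ⟨z, hz, rfl⟩
      change g (pullback.snd f g z) ∈ U
      have : g (pullback.snd f g z) = f (pullback.fst f g z) := by
        rw [← Scheme.Hom.comp_apply, ← Scheme.Hom.comp_apply, pullback.condition]
      rw [this]
      exact hz
  rw [h3]
  exact h2.image (pullback.snd f g).continuous

/-- Flatness descends along flat surjective base change. -/
instance descendsAlong_flat :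
    MorphismProperty.DescendsAlong @Flat (@Surjective ⊓ @Flat ⊓ @QuasiCompact) := by
  apply MorphismProperty.DescendsAlong.mk'
  intro X Y Z f g _ hf hfst
  obtain ⟨⟨hsj, hfl⟩, hqc⟩ := hf
  have h1 : Flat (pullback.snd f g) := inferInstance
  have h2 : Surjective (pullback.snd f g) := inferInstance
  have h3 : Flat (pullback.snd f g ≫ g) := by
    rw [← pullback.condition]
    infer_instance
  exact Groth.Agent.H28.FlatComp.flat_of_flat_comp (pullback.snd f g) g

end Groth.Agent.H28.FpqcFam
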