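import Mathlib
import Groth.Agent.H28.FpqcFam

/-!
# fpqc descent of affine morphisms
-/

set_option autoImplicit false
universe u
open CategoryTheory CategoryTheory.Limits AlgebraicGeometry MorphismProperty

namespace Groth.Agent.H28.AffDesc

instance descendsAlong_quasiSeparated :
    MorphismProperty.DescendsAlong @QuasiSeparated (@Surjective ⊓ @Flat ⊓ @QuasiCompact) := by
  rw [quasiSeparated_eq_diagonal_is_quasiCompact]
  infer_instance

/-- The affine case: if the base change of `g : Y ⟶ Spec R` along a faithfully flat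
`Spec S ⟶ Spec R` is affine, then `Y` is affine. -/
theorem isAffine_of_pullback {R S : CommRingCat.{u}} {Y : Scheme.{u}} (φ : R ⟶ S)
    (g : Y ⟶ Spec R) (hsj : Surjective (Spec.map φ)) (hfl : Flat (Spec.map φ))
    (haff : IsAffineHom (pullback.fst (Spec.map φ) g)) : IsAffine Y := by
  have hQ : (@Surjective ⊓ @Flat ⊓ @QuasiCompact : MorphismProperty Scheme.{u}) (Spec.map φ) :=
    ⟨⟨hsj, hfl⟩, inferInstance⟩
  have hY' : IsAffine (pullback (Spec.map φ) g) := isAffine_of_isAffineHom (pullback.fst _ _)
  have hqc : QuasiCompact g :=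
    MorphismProperty.of_pullback_fst_of_descendsAlong (P := @QuasiCompact)
      (Q := @Surjective ⊓ @Flat ⊓ @QuasiCompact) hQ inferInstance
  have hqs : QuasiSeparated g :=
    MorphismProperty.of_pullback_fst_of_descendsAlong (P := @QuasiSeparated)
      (Q := @Surjective ⊓ @Flat ⊓ @QuasiCompact) hQ inferInstance
  have hc : CompactSpace Y := QuasiCompact.compactSpace_of_compactSpace g
  have hs : QuasiSeparatedSpace Y := quasiSeparatedSpace_of_quasiSeparated g
  have H : IsPullback (pullback.snd (Spec.map φ) g) (pullback.fst (Spec.map φ) g) g (Spec.map φ) :=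
    (IsPullback.of_hasPullback (Spec.map φ) g).flip
  have hqs' : IsQuasiSeparated ((⊤ : Y.Opens) : Set Y) := by
    simpa using (isQuasiSeparated_univ (α := Y))
  have hiso := isIso_pushoutSection_of_isQuasiSeparated_of_flat_right H
    (US := ⊤) (UT := ⊤) (UX := ⊤) (UY := ⊤) le_top le_top (by simp)
    (isAffineOpen_top _) (isAffineOpen_top _) isCompact_univ hqs'
  have hpo := (isIso_pushoutSection_iff H _ _ _).mp hiso
  have e1 : g.appLE ⊤ ⊤ le_top = g.appTop := by simp [Scheme.Hom.appLE]
  have e2 : (Spec.map φ).appLE ⊤ ⊤ le_top = (Spec.map φ).appTop := by simp [Scheme.Hom.appLE]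
  have e3 : (pullback.snd (Spec.map φ) g).appLE ⊤ ⊤ le_top =
      (pullback.snd (Spec.map φ) g).appTop := by simp [Scheme.Hom.appLE]
  have e4 : (pullback.fst (Spec.map φ) g).appLE ⊤ ⊤ le_top =
      (pullback.fst (Spec.map φ) g).appTop := by simp [Scheme.Hom.appLE]
  have hpo' : IsPushout g.appTop (Spec.map φ).appTop (pullback.snd (Spec.map φ) g).appTop
      (pullback.fst (Spec.map φ) g).appTop := by
    rw [← e1, ← e2, ← e3, ← e4]
    exact hpo
  have sqR := isPullback_SpecMap_of_isPushout _ _ _ _ hpo'
  have sqI : IsPullback (Spec.map φ) (Spec S).toSpecΓ (Spec R).toSpecΓ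
      (Spec.map (Spec.map φ).appTop) :=
    IsPullback.of_vert_isIso ⟨Scheme.toSpecΓ_naturality (Spec.map φ)⟩
  have big := H.paste_vert sqI
  rw [Scheme.toSpecΓ_naturality, Scheme.toSpecΓ_naturality] at big
  have sqL := IsPullback.of_bot big (Scheme.toSpecΓ_naturality _) sqR
  have hQ' : (@Surjective ⊓ @Flat ⊓ @QuasiCompact : MorphismProperty Scheme.{u})
      (Spec.map (Spec.map φ).appTop) := by
    have h1 : Spec.map (Spec.map φ).appTop =
        inv (Spec S).toSpecΓ ≫ Spec.map φ ≫ (Spec R).toSpecΓ := by
      rw [IsIso.eq_inv_comp, ← Scheme.toSpecΓ_naturality]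
    rw [h1, MorphismProperty.cancel_left_of_respectsIso
        (P := (@Surjective ⊓ @Flat ⊓ @QuasiCompact : MorphismProperty Scheme.{u})),
      MorphismProperty.cancel_right_of_respectsIso
        (P := (@Surjective ⊓ @Flat ⊓ @QuasiCompact : MorphismProperty Scheme.{u}))]
    exact hQ
  have hQsnd : (@Surjective ⊓ @Flat ⊓ @QuasiCompact : MorphismProperty Scheme.{u})
      (Spec.map (pullback.snd (Spec.map φ) g).appTop) :=
    MorphismProperty.of_isPullback sqR.flip hQ'
  have hisoY' : IsIso (pullback (Spec.map φ) g).toSpecΓ := inferInstance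
  have hisoY : IsIso Y.toSpecΓ :=
    MorphismProperty.of_isPullback_of_descendsAlong
      (P := MorphismProperty.isomorphisms Scheme.{u})
      (Q := @Surjective ⊓ @Flat ⊓ @QuasiCompact) sqL.flip hQsnd hisoY'
  exact ⟨hisoY⟩

/-- Affine morphisms descend along flat surjective quasi-compact morphisms. -/
instance descendsAlong_isAffineHom :
    MorphismProperty.DescendsAlong @IsAffineHom (@Surjective ⊓ @Flat ⊓ @QuasiCompact) := by
  refine IsZariskiLocalAtTarget.descendsAlong_inf_quasiCompact @IsAffineHom
    (@Surjective ⊓ @Flat) ?_ ?_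
  · rw [inf_comm]
    gcongr
    exact IsLocalIso.le_of_isZariskiLocalAtSource @Flat
  · intro R S Y φ g hφ hf
    have : IsAffine Y := isAffine_of_pullback φ g hφ.1 hφ.2 hf
    infer_instance

/-- Properties of the form "affine and `Q` on global sections" descend along flat surjective
quasi-compact morphisms when `Q` codescends along faithfully flat ring maps. -/
theorem descendsAlong_of_affineAnd (P : MorphismProperty Scheme.{u})
    {Q : ∀ {R S : Type u} [CommRing R] [CommRing S], (R →+* S) → Prop}
    [P.IsStableUnderBaseChange]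
    (hP : HasAffineProperty P (affineAnd Q))
    (hQ : RingHom.RespectsIso Q) (hQQ' : RingHom.CodescendsAlong Q RingHom.FaithfullyFlat) :
    P.DescendsAlong (@Surjective ⊓ @Flat ⊓ @QuasiCompact) := by
  have H₂ : ∀ {R S : CommRingCat.{u}} {f : R ⟶ S},
      (@Surjective ⊓ @Flat : MorphismProperty Scheme.{u}) (Spec.map f) →
        RingHom.FaithfullyFlat f.hom := by
    intro R S f ⟨hf₁, hf₂⟩
    rw [RingHom.FaithfullyFlat.iff_flat_and_comap_surjective]
    refine ⟨?_, (Spec.map f).surjective⟩
    rwa [HasRingHomProperty.Spec_iff (P := @Flat)] at hf₂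
  refine IsZariskiLocalAtTarget.descendsAlong_inf_quasiCompact P
    (@Surjective ⊓ @Flat) ?_ ?_
  · rw [inf_comm]
    gcongr
    exact IsLocalIso.le_of_isZariskiLocalAtSource @Flat
  · introv h hf
    have : IsAffine Y := isAffine_of_pullback φ g h.1 h.2
      (HasAffineProperty.affineAnd_le_isAffineHom P inferInstance _ hf)
    wlog hY : ∃ S, Y = Spec S generalizing Y
    · rw [← P.cancel_left_of_respectsIso Y.isoSpec.inv]
      have heq : pullback.fst (Spec.map φ) (Y.isoSpec.inv ≫ g) =
          pullback.map _ _ _ _ (𝟙 _) (Y.isoSpec.inv) (𝟙 _) (by simp) (by simp) ≫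
            pullback.fst (Spec.map φ) g := (pullback.lift_fst _ _ _).symm
      refine this _ ?_ inferInstance ⟨_, rfl⟩
      rwa [heq, P.cancel_left_of_respectsIso]
    obtain ⟨Y, rfl⟩ := hY
    apply of_pullback_fst_Spec_of_codescendsAlong _ _ hQQ' H₂ _ h hf
    simp [HasAffineProperty.SpecMap_iff_of_affineAnd _ hQ]

instance descendsAlong_isFinite :
    MorphismProperty.DescendsAlong @IsFinite (@Surjective ⊓ @Flat ⊓ @QuasiCompact) :=
  descendsAlong_of_affineAnd @IsFinite (Q := RingHom.Finite) inferInstance
    RingHom.finite_respectsIso RingHom.Finite.codescendsAlong_faithfullyFlat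

instance descendsAlong_isClosedImmersion :
    MorphismProperty.DescendsAlong @IsClosedImmersion (@Surjective ⊓ @Flat ⊓ @QuasiCompact) :=
  descendsAlong_of_affineAnd @IsClosedImmersion (Q := fun f => Function.Surjective f)
    inferInstance RingHom.surjective_respectsIso
    RingHom.FaithfullyFlat.codescendsAlong_surjective

instance descendsAlong_isSeparated :
    MorphismProperty.DescendsAlong @IsSeparated (@Surjective ⊓ @Flat ⊓ @QuasiCompact) := by
  rw [IsSeparated.isSeparated_eq_diagonal_isClosedImmersion]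
  infer_instance

instance descendsAlong_isProper :
    MorphismProperty.DescendsAlong @IsProper (@Surjective ⊓ @Flat ⊓ @QuasiCompact) := by
  rw [isProper_eq]
  infer_instance

end Groth.Agent.H28.AffDesc
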