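import Mathlib
import Groth.Agent.H28.FpDiag
import Groth.Agent.Lib.Helper22.RepDiag
import Groth.Agent.Lib.Helper22.PostEquiv

/-!
# Algebraic stacks are invariant under equivalences over the base
-/

set_option autoImplicit false
set_option linter.style.haveILetI false
set_option backward.isDefEq.respectTransparency false
set_option backward.isDefEq.respectTransparency.types false

namespace Groth.Agent.H28.FpBase

open CategoryTheory CategoryTheory.Limits FibCat AlgebraicGeometry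
open Groth.Agent.Helper22 Groth.Agent.Helper22.EquivComp Groth.Agent.Helper22.FpSq
open Groth.Agent.H28.LiftFp

universe u

variable {S : Scheme.{u}}

/-- any two functors over the base into the base over itself are isomorphic -/
def selfIso {ℬ : AlgSt.Cat S} (A B : ℬ ⥤ᵇ FibCat.selfOver (Over S)) : A ≅ B :=
  Groth.Agent.Helper22.RepDiag.toSelfIso A B

variable {𝒳 𝒴 : AlgSt.Cat S} (e : 𝒳 ⥤ᵇ 𝒴)

/-- first step -/
def eqS1 : FibCat.fp (FibCat.toSelf 𝒳) (FibCat.toSelf 𝒳) ⥤ᵇ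
    FibCat.fp (FibCat.toSelf 𝒳) (FibCat.toSelf 𝒴) :=
  sqFun (FibCat.toSelf 𝒳) (FibCat.toSelf 𝒴) (FibCat.toSelf 𝒳) (FibCat.toSelf 𝒳) e
    (BasedFunctor.id _) (Iso.refl _) (selfIso _ _)

/-- third step -/
def eqS3 : FibCat.fp (FibCat.toSelf 𝒴) (FibCat.toSelf 𝒳) ⥤ᵇ
    FibCat.fp (FibCat.toSelf 𝒴) (FibCat.toSelf 𝒴) :=
  sqFun (FibCat.toSelf 𝒴) (FibCat.toSelf 𝒴) (FibCat.toSelf 𝒴) (FibCat.toSelf 𝒳) e
    (BasedFunctor.id _) (Iso.refl _) (selfIso _ _)

/-- `𝒳 × 𝒳 ⟶ 𝒴 × 𝒴` (with a swap) -/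
def eqE2 : FibCat.fp (FibCat.toSelf 𝒳) (FibCat.toSelf 𝒳) ⥤ᵇ
    FibCat.fp (FibCat.toSelf 𝒴) (FibCat.toSelf 𝒴) :=
  BasedFunctor.comp (BasedFunctor.comp (eqS1 e) (fpSwapB (FibCat.toSelf 𝒳) (FibCat.toSelf 𝒴)))
    (eqS3 e)

theorem isEquivOver_eqE2 (he : FibCat.IsEquivOver e) : FibCat.IsEquivOver (eqE2 e) :=
  isEquivOver_comp _ _
    (isEquivOver_comp _ _ (isEquivOver_sqFun _ _ _ _ _ _ _ _ he isEquivOver_id)
      (isEquivOver_fpSwapB _ _))
    (isEquivOver_sqFun _ _ _ _ _ _ _ _ he isEquivOver_id)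

/-- compatibility with diagonals -/
def eqDiagIso : BasedFunctor.comp (FibCat.diag (FibCat.toSelf 𝒳)) (eqE2 e) ≅
    BasedFunctor.comp e (FibCat.diag (FibCat.toSelf 𝒴)) :=
  BasedNatIso.mkNatIso
    (NatIso.ofComponents (fun x => Groth.Agent.Helper22.RepDiag.isoP _ _
        (Iso.refl (e.obj x)) (Iso.refl (e.obj x)) (IsHomLift.id rfl) (IsHomLift.id rfl))
      (by
        intro x x' m
        apply ObjectProperty.hom_ext
        apply CategoryTheory.Limits.CategoricalPullback.hom_ext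
        · exact (Category.comp_id _).trans (Category.id_comp _).symm
        · exact (Category.comp_id _).trans (Category.id_comp _).symm))
    (fun x => (Groth.Agent.H13.fp_isHomLift_iff _ _ _ _).2 (IsHomLift.id (e.w_obj x)))

theorem hasAtlas_of_equiv (P : MorphismProperty (AlgSp.Sp S)) (he : FibCat.IsEquivOver e)
    (h : AlgSt.HasAtlas P 𝒳) : AlgSt.HasAtlas P 𝒴 := by
  obtain ⟨U, x, h1, h2⟩ := h
  exact ⟨U, BasedFunctor.comp x e,
    repByAlgSpWith_of_sq P (BasedFunctor.comp x e) x (BasedFunctor.id _) e isEquivOver_id he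
      (Iso.refl _) h1,
    repByAlgSpWith_of_sq _ (BasedFunctor.comp x e) x (BasedFunctor.id _) e isEquivOver_id he
      (Iso.refl _) h2⟩

theorem repByAlgSp1_diag_of_equiv (he : FibCat.IsEquivOver e)
    (h : AlgSt.RepByAlgSp1 (FibCat.diag (FibCat.toSelf 𝒳))) :
    AlgSt.RepByAlgSp1 (FibCat.diag (FibCat.toSelf 𝒴)) := by
  have h1 : AlgSt.RepByAlgSpWith ⊤ (FibCat.diag (FibCat.toSelf 𝒳)) := fun U y => by
    obtain ⟨F, e₀, he₀⟩ := h U y
    exact ⟨F, e₀, he₀, trivial⟩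
  have h2 : AlgSt.RepByAlgSpWith ⊤ (FibCat.diag (FibCat.toSelf 𝒴)) :=
    repByAlgSpWith_of_sq ⊤ (FibCat.diag (FibCat.toSelf 𝒴)) (FibCat.diag (FibCat.toSelf 𝒳)) e
      (eqE2 e) he (isEquivOver_eqE2 e he) (eqDiagIso e) h1
  intro U y
  obtain ⟨F, e₀, he₀, -⟩ := h2 U y
  exact ⟨F, e₀, he₀⟩

theorem isAlgStack_of_equiv (K : Precoverage Scheme.{u}) (he : FibCat.IsEquivOver e)
    (h : AlgSt.IsAlgStack K 𝒳) : AlgSt.IsAlgStack K 𝒴 where
  isStack := Groth.Agent.Helper22.PostEquiv.isStack_of_equiv _ e he h.isStack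
  diag := repByAlgSp1_diag_of_equiv e he h.diag
  atlas := hasAtlas_of_equiv e _ he h.atlas

theorem isDM_of_equiv (K : Precoverage Scheme.{u}) (he : FibCat.IsEquivOver e)
    (h : AlgSt.IsDM K 𝒳) : AlgSt.IsDM K 𝒴 :=
  ⟨isAlgStack_of_equiv e K he h.1, hasAtlas_of_equiv e _ he h.2⟩

end Groth.Agent.H28.FpBase
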