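import Mathlib

set_option autoImplicit false
universe u
open CategoryTheory CategoryTheory.Limits TensorProduct

namespace Groth.Agent.H28.AntiAff

theorem alg_lemma (k A B : Type u) [Field k] [CommRing A] [CommRing B] [Algebra k A] [Algebra k B]
    (h : Function.Bijective (algebraMap k (A ⊗[k] B))) :
    Function.Bijective (algebraMap k A) ∧ Function.Bijective (algebraMap k B) := by
  have hnt : Nontrivial (A ⊗[k] B) := h.injective.nontrivial
  have hB : Nontrivial B := by
    by_contra hB
    rw [not_nontrivial_iff_subsingleton] at hB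
    have : (1 : A ⊗[k] B) = 0 := by
      rw [Algebra.TensorProduct.one_def, Subsingleton.elim (1 : B) 0, TensorProduct.tmul_zero]
    exact one_ne_zero this
  have hA : Nontrivial A := by
    by_contra hA
    rw [not_nontrivial_iff_subsingleton] at hA
    have : (1 : A ⊗[k] B) = 0 := by
      rw [Algebra.TensorProduct.one_def, Subsingleton.elim (1 : A) 0, TensorProduct.zero_tmul]
    exact one_ne_zero this
  have hinjB : Function.Injective (algebraMap k B) := (algebraMap k B).injective
  have hinjA : Function.Injective (algebraMap k A) := (algebraMap k A).injective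
  have hL : Function.Injective (Algebra.TensorProduct.includeLeft : A →ₐ[k] A ⊗[k] B) :=
    Algebra.TensorProduct.includeLeft_injective hinjB
  have hR : Function.Injective (Algebra.TensorProduct.includeRight : B →ₐ[k] A ⊗[k] B) :=
    Algebra.TensorProduct.includeRight_injective hinjA
  refine ⟨⟨hinjA, fun a => ?_⟩, ⟨hinjB, fun b => ?_⟩⟩
  · obtain ⟨r, hr⟩ := h.surjective (a ⊗ₜ 1)
    refine ⟨r, hL ?_⟩
    rw [AlgHom.commutes, hr]; rfl
  · obtain ⟨r, hr⟩ := h.surjective (1 ⊗ₜ b)
    refine ⟨r, hR ?_⟩
    rw [AlgHom.commutes, hr]; rfl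

theorem pushout_lemma (k : Type u) [Field k] {A₁ A₂ P : CommRingCat.{u}}
    (f₁ : CommRingCat.of k ⟶ A₁) (f₂ : CommRingCat.of k ⟶ A₂) (inl : A₁ ⟶ P) (inr : A₂ ⟶ P)
    (h : IsPushout f₁ f₂ inl inr) :
    Function.Bijective (f₁ ≫ inl).hom ↔
      Function.Bijective f₁.hom ∧ Function.Bijective f₂.hom := by
  constructor
  · intro hb
    let _ := f₁.hom.toAlgebra
    let _ := f₂.hom.toAlgebra
    have h' : IsPushout f₁ f₂
        (CommRingCat.ofHom (S := A₁ ⊗[k] A₂) <| Algebra.TensorProduct.includeLeftRingHom)
        (CommRingCat.ofHom (S := A₁ ⊗[k] A₂) <| Algebra.TensorProduct.includeRight.toRingHom) :=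
      CommRingCat.isPushout_tensorProduct k A₁ A₂
    have he : inl ≫ (h.isoIsPushout _ _ h').hom = _ := h.inl_isoIsPushout_hom _ _ h'
    have hb2 : Function.Bijective ((f₁ ≫ inl) ≫ (h.isoIsPushout _ _ h').hom).hom := by
      rw [CommRingCat.hom_comp]
      exact ((ConcreteCategory.isIso_iff_bijective _).mp
        (inferInstance : IsIso (h.isoIsPushout _ _ h').hom)).comp hb
    rw [Category.assoc, he] at hb2
    have hb3 : Function.Bijective (algebraMap k (A₁ ⊗[k] A₂)) := by
      convert hb2 using 1
      funext r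
      rw [Algebra.TensorProduct.algebraMap_apply]
      rfl
    exact alg_lemma k A₁ A₂ hb3
  · rintro ⟨h1, h2⟩
    have i1 : IsIso f₁ := (ConcreteCategory.isIso_iff_bijective _).mpr h1
    have i2 : IsIso f₂ := (ConcreteCategory.isIso_iff_bijective _).mpr h2
    have i3 : IsIso inl := h.isIso_inl_of_isIso
    exact (ConcreteCategory.isIso_iff_bijective _).mp (inferInstance : IsIso (f₁ ≫ inl))

end Groth.Agent.H28.AntiAff
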