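import Mathlib

/-!
# Whiskering squares in a cartesian monoidal category are pullbacks
-/

set_option autoImplicit false
universe v u
open CategoryTheory MonoidalCategory CartesianMonoidalCategory Limits

namespace Groth.Agent.H28.CartPB

variable {C : Type u} [Category.{v} C] [CartesianMonoidalCategory C]

/-- `i ▷ Z` is the base change of `i` along the first projection. -/
lemma isPullback_whiskerRight {A B : C} (i : A ⟶ B) (Z : C) :
    IsPullback (i ▷ Z) (fst A Z) (fst B Z) i := by
  refine ⟨⟨by simp⟩, ⟨PullbackCone.IsLimit.mk _ (fun s => lift s.snd (s.fst ≫ snd B Z)) ?_ ?_ ?_⟩⟩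
  · intro s
    apply CartesianMonoidalCategory.hom_ext
    · simp only [Category.assoc, whiskerRight_fst, lift_fst_assoc]
      exact s.condition.symm
    · simp
  · intro s
    simp
  · intro s m h1 h2
    apply CartesianMonoidalCategory.hom_ext
    · simp [h2]
    · rw [lift_snd, ← h1, Category.assoc, whiskerRight_snd]

/-- `Z ◁ t` is the base change of `t` along the second projection. -/
lemma isPullback_whiskerLeft (Z : C) {A B : C} (t : A ⟶ B) :
    IsPullback (Z ◁ t) (snd Z A) (snd Z B) t := by
  refine ⟨⟨by simp⟩, ⟨PullbackCone.IsLimit.mk _ (fun s => lift (s.fst ≫ fst Z B) s.snd) ?_ ?_ ?_⟩⟩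
  · intro s
    apply CartesianMonoidalCategory.hom_ext
    · simp
    · simp only [Category.assoc, whiskerLeft_snd, lift_snd_assoc]
      exact s.condition.symm
  · intro s
    simp
  · intro s m h1 h2
    apply CartesianMonoidalCategory.hom_ext
    · rw [lift_fst, ← h1, Category.assoc, whiskerLeft_fst]
    · simp [h2]

open AlgebraicGeometry in
/-- Points of a pullback square of schemes surject onto the topological fibre product. -/
lemma exists_preimage_of_isPullback {P X Y S : Scheme.{u}} {fst : P ⟶ X} {snd : P ⟶ Y}
    {f : X ⟶ S} {g : Y ⟶ S} (H : IsPullback fst snd f g) (x : X) (y : Y) (h : f x = g y) :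
    ∃ z : P, fst z = x ∧ snd z = y := by
  obtain ⟨z', hz1, hz2⟩ := Scheme.Pullback.exists_preimage_pullback x y h
  refine ⟨H.isoPullback.inv z', ?_, ?_⟩
  · rw [← Scheme.Hom.comp_apply, H.isoPullback_inv_fst, hz1]
  · rw [← Scheme.Hom.comp_apply, H.isoPullback_inv_snd, hz2]

end Groth.Agent.H28.CartPB
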