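import Mathlib
import Groth.Agent.H28.CartPB

set_option autoImplicit false
universe u
open CategoryTheory CategoryTheory.Limits MonoidalCategory CartesianMonoidalCategory AlgebraicGeometry

namespace Groth.Agent.H28.FpqcCov

/-- `f` generates an fpqc covering sieve. -/
def Cov {X Y : Scheme.{u}} (f : X ⟶ Y) : Prop :=
  Sieve.generate (Presieve.singleton f) ∈ Scheme.fpqcTopology Y

theorem singleton_mem_of_hcov {Z Y : Scheme.{u}} (q : Z ⟶ Y) [Surjective q] [Flat q]
    (hqc : ∀ V : Y.Opens, IsAffineOpen V →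
      ∃ W : Z.Opens, IsCompact (W : Set Z) ∧ q.base '' (W : Set Z) = (V : Set Y)) :
    Presieve.singleton q ∈ Scheme.fpqcPrecoverage Y := by
  change Presieve.singleton q ∈ Scheme.propQCPrecoverage @Flat Y
  refine ⟨?_, ?_⟩
  · rw [Scheme.qcPrecoverage, PreZeroHypercoverFamily.mem_precoverage_iff]
    refine ⟨(q.cover (P := ⊤) trivial).toPreZeroHypercover, ?_, by simp⟩
    simp only [Scheme.qcCoverFamily_property, Scheme.quasiCompactCover_iff]
    constructor
    intro U hU
    obtain ⟨W, hW, hWU⟩ := hqc U hU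
    exact ⟨Set.univ, Set.finite_univ, fun _ _ => W, fun _ _ => hW, by
      simp only [Set.mem_univ, Set.iUnion_true]
      ext y
      simp only [Set.mem_iUnion]
      constructor
      · rintro ⟨_, hy⟩
        rw [← hWU]
        exact hy
      · intro hy
        rw [← hWU] at hy
        exact ⟨⟨⟩, hy⟩⟩
  · grind [Scheme.singleton_mem_precoverage_iff]

theorem cov_of_hcov {X Y : Scheme.{u}} (p : X ⟶ Y)
    (hcov : ∃ (Z : Scheme.{u}) (q : Z ⟶ Y) (r : Z ⟶ X), r ≫ p = q ∧ Surjective q ∧ Flat q ∧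
      ∀ V : Y.Opens, IsAffineOpen V →
        ∃ W : Z.Opens, IsCompact (W : Set Z) ∧ q.base '' (W : Set Z) = (V : Set Y)) : Cov p := by
  obtain ⟨Z, q, r, rfl, hs, hf, hqc⟩ := hcov
  have h1 := Precoverage.generate_mem_toGrothendieck (singleton_mem_of_hcov (r ≫ p) hqc)
  refine Scheme.fpqcTopology.superset_covering ?_ h1
  intro T g hg
  obtain ⟨W, a, b, hb, rfl⟩ := hg
  cases hb
  exact ⟨_, a ≫ r, p, Presieve.singleton.mk, by rw [Category.assoc]⟩

theorem Cov.effectiveEpi {X Y : Scheme.{u}} {f : X ⟶ Y} (h : Cov f) : EffectiveEpi f := by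
  rw [← Sieve.effectiveEpimorphic_singleton,
    Presieve.EffectiveEpimorphic.iff_forall_isSheafFor_yoneda]
  intro Z
  exact (GrothendieckTopology.Subcanonical.isSheaf_of_isRepresentable _).isSheafFor _ h

theorem Cov.epi {X Y : Scheme.{u}} {f : X ⟶ Y} (h : Cov f) : Epi f := by
  have := h.effectiveEpi
  infer_instance

theorem Cov.of_isPullback {P X Y Z : Scheme.{u}} {fst : P ⟶ X} {snd : P ⟶ Y} {f : X ⟶ Z}
    {g : Y ⟶ Z} (sq : IsPullback fst snd f g) (h : Cov f) : Cov snd := by
  have h1 := Scheme.fpqcTopology.pullback_stable g h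
  refine Scheme.fpqcTopology.superset_covering ?_ h1
  intro T k hk
  obtain ⟨W, a, b, hb, hab⟩ := hk
  cases hb
  exact ⟨_, sq.lift a k hab, snd, Presieve.singleton.mk, sq.lift_snd _ _ _⟩

theorem Cov.comp {X Y Z : Scheme.{u}} {f : X ⟶ Y} {g : Y ⟶ Z} (hf : Cov f) (hg : Cov g) :
    Cov (f ≫ g) := by
  refine Scheme.fpqcTopology.transitive hg _ ?_
  intro T k hk
  obtain ⟨W, a, b, hb, rfl⟩ := hk
  cases hb
  have h1 := Scheme.fpqcTopology.pullback_stable a hf
  refine Scheme.fpqcTopology.superset_covering ?_ h1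
  intro T' m hm
  obtain ⟨W', n, b', hb', hnb⟩ := hm
  cases hb'
  exact ⟨_, n, f ≫ g, Presieve.singleton.mk, by
    rw [← Category.assoc, hnb, Category.assoc]⟩

variable {S : Scheme.{u}}

theorem epi_of_cov {X Y : Over S} (f : X ⟶ Y) (h : Cov f.left) : Epi f := by
  have := h.epi
  exact Over.epi_of_epi_left f

theorem desc_of_cov {X Y W : Over S} (f : X ⟶ Y) (hf : Cov f.left) (a : X ⟶ W)
    (h : ∀ (T : Over S) (g₁ g₂ : T ⟶ X), g₁ ≫ f = g₂ ≫ f → g₁ ≫ a = g₂ ≫ a) :
    ∃ b : Y ⟶ W, f ≫ b = a := by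
  have hee := hf.effectiveEpi
  have hepi := hf.epi
  have hcond : ∀ {Z : Scheme.{u}} (g₁ g₂ : Z ⟶ X.left), g₁ ≫ f.left = g₂ ≫ f.left →
      g₁ ≫ a.left = g₂ ≫ a.left := by
    intro Z g₁ g₂ hg
    have hw : g₂ ≫ X.hom = g₁ ≫ X.hom := by
      rw [← Over.w f, ← Category.assoc, ← hg, Category.assoc]
    have := h (Over.mk (g₁ ≫ X.hom)) (Over.homMk g₁ rfl) (Over.homMk g₂ hw)
      (Over.OverMorphism.ext hg)
    exact congrArg (fun w => w.left) this
  have hfac : f.left ≫ EffectiveEpi.desc f.left a.left hcond = a.left := EffectiveEpi.fac _ _ _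
  have hw : EffectiveEpi.desc f.left a.left hcond ≫ W.hom = Y.hom := by
    rw [← cancel_epi f.left, ← Category.assoc, hfac, Over.w a, Over.w f]
  exact ⟨Over.homMk _ hw, Over.OverMorphism.ext hfac⟩

theorem cov_whiskerRight {X Y : Over S} (f : X ⟶ Y) (h : Cov f.left) (Z : Over S) :
    Cov (f ▷ Z).left := by
  have sq : IsPullback (f ▷ Z).left (fst X Z).left (fst Y Z).left f.left :=
    (Groth.Agent.H28.CartPB.isPullback_whiskerRight f Z).map (Over.forget S)
  exact Cov.of_isPullback sq.flip h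

theorem cov_whiskerLeft (Z : Over S) {X Y : Over S} (f : X ⟶ Y) (h : Cov f.left) :
    Cov (Z ◁ f).left := by
  have sq : IsPullback (Z ◁ f).left (snd Z X).left (snd Z Y).left f.left :=
    (Groth.Agent.H28.CartPB.isPullback_whiskerLeft Z f).map (Over.forget S)
  exact Cov.of_isPullback sq.flip h

theorem cov_tensorHom {X Y X' Y' : Over S} (f : X ⟶ Y) (g : X' ⟶ Y') (hf : Cov f.left)
    (hg : Cov g.left) : Cov (f ⊗ₘ g).left := by
  rw [MonoidalCategory.tensorHom_def, Over.comp_left]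
  exact (cov_whiskerRight f hf X').comp (cov_whiskerLeft Y g hg)

/-- Points of the target of a covering morphism lift after passing to a cover. -/
theorem exists_lift {X Y : Over S} (p : X ⟶ Y) (h : Cov p.left) {T : Over S} (x : T ⟶ Y) :
    ∃ (T' : Over S) (c : T' ⟶ T) (a : T' ⟶ X), Epi c ∧ c ≫ x = a ≫ p := by
  have sq : IsPullback (pullback.fst x p).left (pullback.snd x p).left x.left p.left :=
    (IsPullback.of_hasPullback x p).map (Over.forget S)
  exact ⟨pullback x p, pullback.fst x p, pullback.snd x p,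
    epi_of_cov _ (Cov.of_isPullback sq.flip h), pullback.condition⟩

/-- A flat, surjective, quasi-compact morphism generates an fpqc covering sieve. -/
theorem cov_of_flat_surj_qc {X Y : Scheme.{u}} (p : X ⟶ Y) [Flat p] [Surjective p]
    [QuasiCompact p] : Cov p := by
  refine cov_of_hcov p ⟨X, p, 𝟙 X, Category.id_comp p, inferInstance, inferInstance, ?_⟩
  intro V hV
  refine ⟨p ⁻¹ᵁ V, ?_, ?_⟩
  · exact QuasiCompact.isCompact_preimage (f := p) _ V.2 hV.isCompact
  · rw [Scheme.Hom.coe_preimage, Set.image_preimage_eq _ p.surjective]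

end Groth.Agent.H28.FpqcCov
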