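import Mathlib
import Groth.Prelude.Def_ChGrp
import Groth.Agent.H28.FpqcCov

/-!
# Helpers for reductions of structure group of torsors
-/

set_option autoImplicit false
universe u
open CategoryTheory CategoryTheory.Limits MonoidalCategory CartesianMonoidalCategory MonObj
  AlgebraicGeometry

namespace Groth.Agent.H28.TorsRed

lemma isPullback_of_existsUnique {C : Type*} [Category C] {P X Y Z : C} {fst : P ⟶ X}
    {snd : P ⟶ Y} {f : X ⟶ Z} {g : Y ⟶ Z} (w : fst ≫ f = snd ≫ g)
    (h : ∀ (T : C) (x : T ⟶ X) (y : T ⟶ Y), x ≫ f = y ≫ g →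
      ∃! m : T ⟶ P, m ≫ fst = x ∧ m ≫ snd = y) : IsPullback fst snd f g :=
  ⟨⟨w⟩, ⟨PullbackCone.IsLimit.mk _ (fun c => (h c.pt c.fst c.snd c.condition).choose)
    (fun c => (h c.pt c.fst c.snd c.condition).choose_spec.1.1)
    (fun c => (h c.pt c.fst c.snd c.condition).choose_spec.1.2)
    (fun c m h1 h2 => (h c.pt c.fst c.snd c.condition).choose_spec.2 m ⟨h1, h2⟩)⟩⟩

lemma etale_le_fpqc : Scheme.etalePrecoverage.{u} ≤ Scheme.fpqcPrecoverage :=
  le_trans (by
    rw [Scheme.etalePrecoverage, Scheme.fppfPrecoverage]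
    exact Scheme.precoverage_mono (fun _ _ f hf => by
      have : Etale f := hf
      exact ⟨inferInstance, inferInstance⟩)) Scheme.fppfPrecoverage_le_fpqcPrecoverage

theorem cov_of_locTriv {S : Scheme.{u}} (X : Over S) (K : Precoverage Scheme.{u})
    (hK : K ≤ Scheme.fpqcPrecoverage) (h : NonAbH1.IsLocallyTrivialFor K X) :
    Groth.Agent.H28.FpqcCov.Cov X.hom := by
  obtain ⟨R, hR, hsec⟩ := h
  have h1 := Precoverage.generate_mem_toGrothendieck (hK _ hR)
  refine Scheme.fpqcTopology.superset_covering ?_ h1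
  intro T g hg
  obtain ⟨W, a, b, hb, rfl⟩ := hg
  obtain ⟨s, hs⟩ := hsec b hb
  exact ⟨_, a ≫ s, X.hom, Presieve.singleton.mk, by
    rw [Category.assoc]; exact congrArg (a ≫ ·) hs⟩

lemma toUnit_left {S : Scheme.{u}} (X : Over S) : (toUnit X).left = X.hom := by
  have h := Over.w (toUnit X)
  exact (Category.comp_id _).symm.trans h

lemma mono_pt {S : Scheme.{u}} {X' : Over S} (o' : 𝟙_ (Over S) ⟶ X') : Mono o' :=
  ⟨fun g h _ => toUnit_unique g h⟩

end Groth.Agent.H28.TorsRed
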