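import Mathlib
import Groth.Prelude.Def_W4bk4git07Quot
import Groth.Agent.H28.FpqcCov
import Groth.Agent.H28.TorsRed
import Groth.Agent.H28.ActShear

/-!
# Principal bundles in the sense of `GIT.PsiY` and associated bundles (helper28)
-/

set_option autoImplicit false
universe u
open CategoryTheory CategoryTheory.Limits MonoidalCategory CartesianMonoidalCategory MonObj
  AlgebraicGeometry

namespace Groth.Agent.H28.AssocBundle

variable {S : Scheme.{u}}

section Psi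

variable {G : Over S} [GrpObj G] {X Y : Over S} (a : AlgGrp.Action G X) (φ : X ⟶ Y)
  (h : GIT.IsInvariant a φ)

theorem psiY_fst : GIT.PsiY a φ h ≫ pullback.fst φ.left φ.left = a.act.left := by
  rw [GIT.PsiY, pullback.lift_fst]

theorem psiY_snd : GIT.PsiY a φ h ≫ pullback.snd φ.left φ.left = (snd G X).left := by
  rw [GIT.PsiY, pullback.lift_snd]

theorem psiY_unique [IsIso (GIT.PsiY a φ h)] {T : Over S} (g₁ g₂ : T ⟶ G) (y : T ⟶ X)
    (h12 : lift g₁ y ≫ a.act = lift g₂ y ≫ a.act) : g₁ = g₂ := by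
  have e : (lift g₁ y).left = (lift g₂ y).left := by
    rw [← cancel_mono (GIT.PsiY a φ h)]
    apply pullback.hom_ext
    · rw [Category.assoc, Category.assoc, psiY_fst, ← Over.comp_left, ← Over.comp_left, h12]
    · rw [Category.assoc, Category.assoc, psiY_snd, ← Over.comp_left, ← Over.comp_left,
        lift_snd, lift_snd]
  have e' : lift g₁ y = lift g₂ y := Over.OverMorphism.ext e
  have e'' := congrArg (· ≫ fst G X) e'
  simpa using e''

theorem psiY_exists [IsIso (GIT.PsiY a φ h)] {T : Over S} (y' y : T ⟶ X)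
    (hy : y' ≫ φ = y ≫ φ) : ∃ g : T ⟶ G, lift g y ≫ a.act = y' := by
  have hy' : y'.left ≫ φ.left = y.left ≫ φ.left := by
    rw [← Over.comp_left, ← Over.comp_left, hy]
  obtain ⟨u, hu⟩ : ∃ u : T.left ⟶ (G ⊗ X).left,
      u ≫ GIT.PsiY a φ h = pullback.lift y'.left y.left hy' :=
    ⟨pullback.lift y'.left y.left hy' ≫ inv (GIT.PsiY a φ h), by simp⟩
  have hu1 : u ≫ a.act.left = y'.left := by
    rw [← psiY_fst a φ h, ← Category.assoc, hu, pullback.lift_fst]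
  have hu2 : u ≫ (snd G X).left = y.left := by
    rw [← psiY_snd a φ h, ← Category.assoc, hu, pullback.lift_snd]
  have hw : u ≫ (G ⊗ X).hom = T.hom := by
    rw [← Over.w (snd G X), ← Category.assoc, hu2, Over.w]
  obtain ⟨t, ht⟩ : ∃ t : T ⟶ G ⊗ X, t.left = u := ⟨Over.homMk u hw, rfl⟩
  refine ⟨t ≫ fst G X, ?_⟩
  have ht2 : t ≫ snd G X = y := by
    apply Over.OverMorphism.ext
    rw [Over.comp_left, ht, hu2]
  have ht3 : lift (t ≫ fst G X) y = t := by
    apply CartesianMonoidalCategory.hom_ext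
    · simp
    · rw [lift_snd, ht2]
  rw [ht3]
  apply Over.OverMorphism.ext
  rw [Over.comp_left, ht, hu1]

end Psi

/-- The associated bundle `G ×^H X → G/H` pulls back along `G → G/H` to `G × X → G`. -/
theorem bundle_isPullback {H G B X QX : Over S} [GrpObj H] [GrpObj G] (j : H ⟶ G)
    (r : AlgGrp.Action H G)
    (hr : ∀ (T : Over S) (h : T ⟶ H) (g : T ⟶ G), lift h g ≫ r.act = g * (h ≫ j)⁻¹)
    (π : G ⟶ B) (hπinv : GIT.IsInvariant r π) [IsIso (GIT.PsiY r π hπinv)]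
    (aX : AlgGrp.Action H X) (b : AlgGrp.Action H (G ⊗ X))
    (hb : ∀ (T : Over S) (h : T ⟶ H) (g : T ⟶ G) (x : T ⟶ X),
      lift h (lift g x) ≫ b.act = lift (g * (h ≫ j)⁻¹) (lift h x ≫ aX.act))
    (qX : G ⊗ X ⟶ QX) (hqinv : GIT.IsInvariant b qX) [IsIso (GIT.PsiY b qX hqinv)]
    (hcov : FpqcCov.Cov qX.left) (pX : QX ⟶ B) (hp : qX ≫ pX = fst G X ≫ π) :
    IsPullback (fst G X) qX π pX := by
  have hq' : b.act ≫ qX = snd H (G ⊗ X) ≫ qX := hqinv
  have huniq : ∀ (T : Over S) (t₁ t₂ : T ⟶ G ⊗ X), t₁ ≫ fst G X = t₂ ≫ fst G X →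
      t₁ ≫ qX = t₂ ≫ qX → t₁ = t₂ := by
    intro T t₁ t₂ h1 h2
    obtain ⟨h, hh⟩ := psiY_exists b qX hqinv t₂ t₁ h2.symm
    obtain ⟨g₁, hg₁⟩ : ∃ g₁ : T ⟶ G, g₁ = t₁ ≫ fst G X := ⟨_, rfl⟩
    obtain ⟨x₁, hx₁⟩ : ∃ x₁ : T ⟶ X, x₁ = t₁ ≫ snd G X := ⟨_, rfl⟩
    have e1 : t₁ = lift g₁ x₁ := by
      rw [hg₁, hx₁]
      apply CartesianMonoidalCategory.hom_ext <;> simp
    have hh' : lift (g₁ * (h ≫ j)⁻¹) (lift h x₁ ≫ aX.act) = t₂ := by
      rw [← hb, ← e1, hh]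
    have h3 : g₁ * (h ≫ j)⁻¹ = g₁ := by
      have e3 := congrArg (· ≫ fst G X) hh'
      simp only [lift_fst] at e3
      rw [e3, ← h1, hg₁]
    have h4 : h = 1 := by
      refine psiY_unique r π hπinv h 1 g₁ ?_
      rw [hr, h3, ActShear.lift_one_act]
    rw [h4, ActShear.lift_one_act] at hh
    exact hh
  refine TorsRed.isPullback_of_existsUnique hp.symm ?_
  intro T g z hgz
  obtain ⟨T', c, a', hca, hc⟩ : ∃ (T' : Over S) (c : T' ⟶ T) (a' : T' ⟶ G ⊗ X),
      c ≫ z = a' ≫ qX ∧ FpqcCov.Cov c.left := by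
    have sq : IsPullback (pullback.fst z qX).left (pullback.snd z qX).left z.left qX.left :=
      (IsPullback.of_hasPullback z qX).map (Over.forget S)
    exact ⟨pullback z qX, pullback.fst z qX, pullback.snd z qX, pullback.condition,
      FpqcCov.Cov.of_isPullback sq.flip hcov⟩
  have hcepi : Epi c := FpqcCov.epi_of_cov _ hc
  obtain ⟨g', hg'⟩ : ∃ g' : T' ⟶ G, g' = a' ≫ fst G X := ⟨_, rfl⟩
  obtain ⟨x', hx'⟩ : ∃ x' : T' ⟶ X, x' = a' ≫ snd G X := ⟨_, rfl⟩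
  have ha' : a' = lift g' x' := by
    rw [hg', hx']
    apply CartesianMonoidalCategory.hom_ext <;> simp
  have hπ' : (c ≫ g) ≫ π = g' ≫ π := by
    calc (c ≫ g) ≫ π = c ≫ z ≫ pX := by rw [Category.assoc, hgz]
      _ = a' ≫ qX ≫ pX := by rw [← Category.assoc, hca, Category.assoc]
      _ = g' ≫ π := by rw [hp, hg', Category.assoc]
  obtain ⟨h, hh⟩ := psiY_exists r π hπinv (c ≫ g) g' hπ'
  have hh2 : g' * (h ≫ j)⁻¹ = c ≫ g := by rw [← hr, hh]
  obtain ⟨t', ht'⟩ : ∃ t' : T' ⟶ G ⊗ X, t' = lift h a' ≫ b.act := ⟨_, rfl⟩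
  have ht'1 : t' ≫ fst G X = c ≫ g := by
    rw [ht', ha', hb, hh2, lift_fst]
  have ht'2 : t' ≫ qX = c ≫ z := by
    rw [ht', Category.assoc, hq', ← Category.assoc, lift_snd, hca]
  obtain ⟨t, ht⟩ := FpqcCov.desc_of_cov c hc t' (by
    intro T'' g₁ g₂ h12
    apply huniq
    · rw [Category.assoc, Category.assoc, ht'1, ← Category.assoc, ← Category.assoc, h12]
    · rw [Category.assoc, Category.assoc, ht'2, ← Category.assoc, ← Category.assoc, h12])
  have ht1 : t ≫ fst G X = g := by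
    rw [← cancel_epi c, ← Category.assoc, ht, ht'1]
  have ht2 : t ≫ qX = z := by
    rw [← cancel_epi c, ← Category.assoc, ht, ht'2]
  exact ⟨t, ⟨ht1, ht2⟩, fun m hm => huniq T m t (hm.1.trans ht1.symm) (hm.2.trans ht2.symm)⟩

end Groth.Agent.H28.AssocBundle
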