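import Groth.Agent.H28.AssocBundle

/-!
# More on fpqc-local constructions of pullback squares (helper28)
-/

set_option autoImplicit false
universe u
open CategoryTheory CategoryTheory.Limits MonoidalCategory CartesianMonoidalCategory MonObj
  AlgebraicGeometry

namespace Groth.Agent.H28.AssocBundle

variable {S : Scheme.{u}}

theorem quasiCompact_tensor_hom (A B : Over S) [QuasiCompact A.hom] [QuasiCompact B.hom] :
    QuasiCompact (A ⊗ B).hom := by
  have sq : IsPullback (fst A B).left (snd A B).left A.hom B.hom := IsPullback.of_hasPullback _ _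
  have : QuasiCompact (fst A B).left :=
    MorphismProperty.of_isPullback (P := @QuasiCompact) sq.flip inferInstance
  rw [← Over.w (fst A B)]
  infer_instance

theorem cov_of_quot {A Q : Over S} (q : A ⟶ Q) [QuasiCompact A.hom] [QuasiSeparated Q.hom]
    (hs : Function.Surjective q.left.base) (hf : Flat q.left) : FpqcCov.Cov q.left := by
  have : Surjective q.left := ⟨hs⟩
  have : QuasiCompact (q.left ≫ Q.hom) := by
    rw [Over.w q]
    infer_instance
  have : QuasiCompact q.left := QuasiCompact.of_comp q.left Q.hom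
  exact FpqcCov.cov_of_flat_surj_qc q.left

/-- Points of the target of a covering morphism lift after passing to a cover. -/
theorem exists_cov_lift {X Y : Over S} (p : X ⟶ Y) (h : FpqcCov.Cov p.left) {T : Over S}
    (x : T ⟶ Y) :
    ∃ (T' : Over S) (c : T' ⟶ T) (a : T' ⟶ X), c ≫ x = a ≫ p ∧ FpqcCov.Cov c.left := by
  have sq : IsPullback (pullback.fst x p).left (pullback.snd x p).left x.left p.left :=
    (IsPullback.of_hasPullback x p).map (Over.forget S)
  exact ⟨pullback x p, pullback.fst x p, pullback.snd x p, pullback.condition,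
    FpqcCov.Cov.of_isPullback sq.flip h⟩

/-- A commutative square is a pullback as soon as the comparison is injective on points and
fpqc-locally surjective on points. -/
theorem isPullback_of_local {P X Y Z : Over S} {fst' : P ⟶ X} {snd' : P ⟶ Y} {f : X ⟶ Z}
    {g : Y ⟶ Z} (w : fst' ≫ f = snd' ≫ g)
    (huniq : ∀ (T : Over S) (t₁ t₂ : T ⟶ P), t₁ ≫ fst' = t₂ ≫ fst' → t₁ ≫ snd' = t₂ ≫ snd' →
      t₁ = t₂)
    (hex : ∀ (T : Over S) (x : T ⟶ X) (y : T ⟶ Y), x ≫ f = y ≫ g →
      ∃ (T' : Over S) (c : T' ⟶ T) (t' : T' ⟶ P), FpqcCov.Cov c.left ∧ t' ≫ fst' = c ≫ x ∧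
        t' ≫ snd' = c ≫ y) : IsPullback fst' snd' f g := by
  refine TorsRed.isPullback_of_existsUnique w ?_
  intro T x y hxy
  obtain ⟨T', c, t', hc, ht'1, ht'2⟩ := hex T x y hxy
  have hcepi : Epi c := FpqcCov.epi_of_cov _ hc
  obtain ⟨t, ht⟩ := FpqcCov.desc_of_cov c hc t' (by
    intro T'' g₁ g₂ h12
    apply huniq
    · rw [Category.assoc, Category.assoc, ht'1, ← Category.assoc, ← Category.assoc, h12]
    · rw [Category.assoc, Category.assoc, ht'2, ← Category.assoc, ← Category.assoc, h12])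
  have ht1 : t ≫ fst' = x := by
    rw [← cancel_epi c, ← Category.assoc, ht, ht'1]
  have ht2 : t ≫ snd' = y := by
    rw [← cancel_epi c, ← Category.assoc, ht, ht'2]
  exact ⟨t, ⟨ht1, ht2⟩, fun m hm => huniq T m t (hm.1.trans ht1.symm) (hm.2.trans ht2.symm)⟩

/-- Variant of `bundle_isPullback` for an arbitrary action on `G ⊗ Z` whose first coordinate is
right translation. -/
theorem bundle_isPullback' {H G B Z QZ : Over S} [GrpObj H] [GrpObj G] (j : H ⟶ G)
    (r : AlgGrp.Action H G)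
    (hr : ∀ (T : Over S) (h : T ⟶ H) (g : T ⟶ G), lift h g ≫ r.act = g * (h ≫ j)⁻¹)
    (π : G ⟶ B) (hπinv : GIT.IsInvariant r π) [IsIso (GIT.PsiY r π hπinv)]
    (b : AlgGrp.Action H (G ⊗ Z))
    (hb : ∀ (T : Over S) (h : T ⟶ H) (t : T ⟶ G ⊗ Z),
      (lift h t ≫ b.act) ≫ fst G Z = (t ≫ fst G Z) * (h ≫ j)⁻¹)
    (qZ : G ⊗ Z ⟶ QZ) (hqinv : GIT.IsInvariant b qZ) [IsIso (GIT.PsiY b qZ hqinv)]
    (hcov : FpqcCov.Cov qZ.left) (pZ : QZ ⟶ B) (hp : qZ ≫ pZ = fst G Z ≫ π) :
    IsPullback (fst G Z) qZ π pZ := by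
  have hq' : b.act ≫ qZ = snd H (G ⊗ Z) ≫ qZ := hqinv
  refine isPullback_of_local hp.symm ?_ ?_
  · intro T t₁ t₂ h1 h2
    obtain ⟨h, hh⟩ := psiY_exists b qZ hqinv t₂ t₁ h2.symm
    have h3 : (t₁ ≫ fst G Z) * (h ≫ j)⁻¹ = t₁ ≫ fst G Z := by
      rw [← hb, hh, h1]
    have h4 : h = 1 := by
      refine psiY_unique r π hπinv h 1 (t₁ ≫ fst G Z) ?_
      rw [hr, h3, ActShear.lift_one_act]
    rw [h4, ActShear.lift_one_act] at hh
    exact hh
  · intro T g z hgz
    obtain ⟨T', c, a', hca, hc⟩ := exists_cov_lift qZ hcov z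
    have hπ' : (c ≫ g) ≫ π = (a' ≫ fst G Z) ≫ π := by
      calc (c ≫ g) ≫ π = c ≫ z ≫ pZ := by rw [Category.assoc, hgz]
        _ = a' ≫ qZ ≫ pZ := by rw [← Category.assoc, hca, Category.assoc]
        _ = (a' ≫ fst G Z) ≫ π := by rw [hp, Category.assoc]
    obtain ⟨h, hh⟩ := psiY_exists r π hπinv (c ≫ g) (a' ≫ fst G Z) hπ'
    refine ⟨T', c, lift h a' ≫ b.act, hc, ?_, ?_⟩
    · rw [hb, ← hr, hh]
    · rw [Category.assoc, hq', ← Category.assoc, lift_snd, hca]

end Groth.Agent.H28.AssocBundle
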