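import Mathlib

set_option autoImplicit false
open scoped TensorProduct

namespace Groth.Agent.H28.BaseChangeCoord

universe u v w

attribute [local instance] Classical.propDecidable

variable (K : Type u) [Field K] (P : Type v) [AddCommGroup P] [Module K P]

/-- index type of a chosen basis of `P` -/
abbrev ι : Type v := Module.Basis.ofVectorSpaceIndex K P

/-- a chosen basis -/
noncomputable abbrev bP : Module.Basis (ι K P) K P := Module.Basis.ofVectorSpace K P

variable {K P}
variable (M : Type w) [AddCommGroup M] [Module K M]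

/-- coordinate projections `P ⊗ M → M` -/
noncomputable def proj (i : ι K P) : P ⊗[K] M →ₗ[K] M :=
  (TensorProduct.lid K M).toLinearMap ∘ₗ ((bP K P).coord i).rTensor M

variable {M}

@[simp] lemma proj_tmul (i : ι K P) (p : P) (m : M) :
    proj M i (p ⊗ₜ[K] m) = ((bP K P).coord i p) • m := by
  simp [proj]

lemma proj_eq (i : ι K P) (w : P ⊗[K] M) :
    proj M i w = (TensorProduct.equivFinsuppOfBasisLeft (bP K P) w) i := by
  rw [TensorProduct.equivFinsuppOfBasisLeft_apply]
  rfl

lemma eq_zero_of_proj (w : P ⊗[K] M) (h : ∀ i, proj M i w = 0) : w = 0 := by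
  apply (TensorProduct.equivFinsuppOfBasisLeft (bP K P)).injective
  rw [map_zero]
  ext i
  rw [← proj_eq, h]
  rfl

lemma eq_of_proj (w w' : P ⊗[K] M) (h : ∀ i, proj M i w = proj M i w') : w = w' := by
  rw [← sub_eq_zero]
  apply eq_zero_of_proj
  intro i
  rw [map_sub, h, sub_self]

/-- the finite support -/
noncomputable def supp (w : P ⊗[K] M) : Finset (ι K P) :=
  (TensorProduct.equivFinsuppOfBasisLeft (bP K P) w).support

lemma proj_eq_zero_of_not_mem_supp (w : P ⊗[K] M) (i : ι K P) (hi : i ∉ supp w) :
    proj M i w = 0 := by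
  rw [proj_eq]
  simpa [supp] using hi

variable {M' : Type*} [AddCommGroup M'] [Module K M']

lemma proj_lTensor (i : ι K P) (h : M →ₗ[K] M') (w : P ⊗[K] M) :
    proj M' i (h.lTensor P w) = h (proj M i w) := by
  induction w using TensorProduct.induction_on with
  | zero => simp
  | tmul p m => simp
  | add w w' hw hw' => simp only [map_add, hw, hw']

end Groth.Agent.H28.BaseChangeCoord
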