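import Mathlib
import Groth.Agent.H28.FpDiag

/-!
# `𝒳 ×_𝒵 𝒴 ⟶ 𝒳 ×_𝒯 𝒴` is a base change of the diagonal of `𝒵 ⟶ 𝒯`
-/

set_option autoImplicit false
set_option linter.style.haveILetI false
set_option backward.isDefEq.respectTransparency false
set_option backward.isDefEq.respectTransparency.types false

namespace Groth.Agent.H28.FpBase

open CategoryTheory CategoryTheory.Limits FibCat AlgebraicGeometry
open Groth.Agent.Helper22 Groth.Agent.Helper22.EquivComp Groth.Agent.Helper22.FpSq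
open Groth.Agent.H28.LiftFp

universe v u

section prod
variable {C : Type u} [Category.{v} C] {𝒳 𝒴 𝒵 𝒯 : BasedCategory.{v, max u v} C}
  (f : 𝒳 ⥤ᵇ 𝒵) (g : 𝒴 ⥤ᵇ 𝒵) (t : 𝒵 ⥤ᵇ 𝒯)
  (e : BasedFunctor.comp (FibCat.fpFst f g) (BasedFunctor.comp f t) ≅
      BasedFunctor.comp (FibCat.fpSnd f g) (BasedFunctor.comp g t))
  (he : ∀ x, e.hom.toNatTrans.app x = t.map x.obj.iso.hom)

/-- the comparison `𝒳 ×_𝒵 𝒴 ⟶ 𝒳 ×_𝒯 𝒴` -/
def pI : FibCat.fp f g ⥤ᵇ FibCat.fp (BasedFunctor.comp f t) (BasedFunctor.comp g t) :=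
  FibCat.fpLift (FibCat.fpFst f g) (FibCat.fpSnd f g) e

/-- `f × g : 𝒳 ×_𝒯 𝒴 ⟶ 𝒵 ×_𝒯 𝒵` -/
def pB : FibCat.fp (BasedFunctor.comp f t) (BasedFunctor.comp g t) ⥤ᵇ FibCat.fp t t :=
  FibCat.fpLift
    (BasedFunctor.comp (FibCat.fpFst (BasedFunctor.comp f t) (BasedFunctor.comp g t)) f)
    (BasedFunctor.comp (FibCat.fpSnd (BasedFunctor.comp f t) (BasedFunctor.comp g t)) g)
    (FibCat.fpIso (BasedFunctor.comp f t) (BasedFunctor.comp g t))

include he in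
theorem pEps_w (X : (FibCat.fp f g).obj) :
    t.map (𝟙 (f.obj X.obj.fst)) ≫ 𝟙 (t.obj (f.obj X.obj.fst)) =
      e.hom.toNatTrans.app X ≫ t.map X.obj.iso.inv := by
  rw [he, ← t.toFunctor.map_comp, Iso.hom_inv_id, t.toFunctor.map_id, Category.comp_id]

theorem inv_sq {E : Type*} [Category E] {a b a' b' : E} (ψ : a ≅ b) (ψ' : a' ≅ b') (u : a ⟶ a')
    (w : b ⟶ b') (h : w ≫ ψ'.inv = ψ.inv ≫ u) : u ≫ ψ'.hom = ψ.hom ≫ w := by
  rw [← Iso.inv_comp_eq, ← Category.assoc, ← h, Category.assoc, Iso.inv_hom_id, Category.comp_id]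

/-- the 2-isomorphism defining `pE` -/
def pEps : BasedFunctor.comp (pI f g t e) (pB f g t) ≅
    BasedFunctor.comp (BasedFunctor.comp (FibCat.fpFst f g) f) (FibCat.diag t) :=
  BasedNatIso.mkNatIso
    (NatIso.ofComponents (fun X => ObjectProperty.isoMk _
        (CategoryTheory.Limits.CategoricalPullback.mkIso (Iso.refl (f.obj X.obj.fst))
          X.obj.iso.symm (pEps_w f g t e he X)))
      (by
        intro X X' m
        apply ObjectProperty.hom_ext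
        apply CategoryTheory.Limits.CategoricalPullback.hom_ext
        · exact (Category.comp_id _).trans (Category.id_comp _).symm
        · show g.map m.hom.snd ≫ X'.obj.iso.inv = X.obj.iso.inv ≫ f.map m.hom.fst
          rw [Iso.comp_inv_eq, Category.assoc, Iso.eq_inv_comp]
          exact m.hom.w.symm))
    (fun X => (Groth.Agent.H13.fp_isHomLift_iff t t _ _).2 (IsHomLift.id (f.w_obj X.obj.fst)))

/-- the comparison functor `𝒳 ×_𝒵 𝒴 ⟶ (𝒳 ×_𝒯 𝒴) ×_{𝒵 ×_𝒯 𝒵} 𝒵` -/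
def pE : FibCat.fp f g ⥤ᵇ FibCat.fp (pB f g t) (FibCat.diag t) :=
  FibCat.fpLift (pI f g t e) (BasedFunctor.comp (FibCat.fpFst f g) f) (pEps f g t e he)

theorem pE_comp_fpFst :
    BasedFunctor.comp (pE f g t e he) (FibCat.fpFst (pB f g t) (FibCat.diag t)) =
      pI f g t e := rfl

theorem prod_key {E : Type*} [Category E] {A B Z : E} (φ : A ≅ B) (K₁ : A ≅ Z) (K₂ : B ≅ Z)
    (hw : K₁.hom ≫ 𝟙 Z = φ.hom ≫ K₂.hom) : φ.hom = K₁.hom ≫ K₂.inv := by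
  rw [Category.comp_id] at hw
  rw [hw]
  simp

lemma isEquivOver_pE : FibCat.IsEquivOver (pE f g t e he) := by
  haveI hfa : (pE f g t e he).toFunctor.Faithful := by
    refine ⟨?_⟩
    intro X X' m m' h
    apply ObjectProperty.hom_ext
    apply CategoryTheory.Limits.CategoricalPullback.hom_ext
    · exact congrArg (fun k => k.hom.fst.hom.fst) h
    · exact congrArg (fun k => k.hom.fst.hom.snd) h
  haveI hfu : (pE f g t e he).toFunctor.Full := by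
    refine ⟨?_⟩
    intro X X' n
    let n₁ : (pI f g t e).obj X ⟶ (pI f g t e).obj X' := n.hom.fst
    let n₂ : f.obj X.obj.fst ⟶ f.obj X'.obj.fst := n.hom.snd
    have hw := n.hom.w
    have h1 : f.map n₁.hom.fst = n₂ := by
      have h : f.map n₁.hom.fst ≫ 𝟙 _ = 𝟙 _ ≫ n₂ := congrArg (fun k => k.hom.fst) hw
      rw [Category.comp_id, Category.id_comp] at h
      exact h
    have h2 : g.map n₁.hom.snd ≫ X'.obj.iso.inv = X.obj.iso.inv ≫ n₂ :=
      congrArg (fun k => k.hom.snd) hw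
    have hm : f.map n₁.hom.fst ≫ X'.obj.iso.hom = X.obj.iso.hom ≫ g.map n₁.hom.snd := by
      rw [h1]
      exact inv_sq X.obj.iso X'.obj.iso n₂ (g.map n₁.hom.snd) h2
    refine ⟨ObjectProperty.homMk ⟨n₁.hom.fst, n₁.hom.snd, hm⟩, ?_⟩
    apply ObjectProperty.hom_ext
    apply CategoryTheory.Limits.CategoricalPullback.hom_ext
    · apply ObjectProperty.hom_ext
      apply CategoryTheory.Limits.CategoricalPullback.hom_ext
      · rfl
      · rfl
    · exact h1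
  apply FibLift.isEquivOver_of_ff
  intro η
  let W : (FibCat.fp (BasedFunctor.comp f t) (BasedFunctor.comp g t)).obj := η.obj.fst
  let x : 𝒳.obj := W.obj.fst
  let y : 𝒴.obj := W.obj.snd
  let z : 𝒵.obj := η.obj.snd
  let k : (pB f g t).obj W ≅ (FibCat.diag t).obj z := η.obj.iso
  have hk : (FibCat.fp t t).p.IsHomLift (𝟙 (𝒳.p.obj x)) k.hom := η.property
  let k₁ : f.obj x ≅ z := (FibCat.fpFst t t).toFunctor.mapIso k
  let k₂ : g.obj y ≅ z := (FibCat.fpSnd t t).toFunctor.mapIso k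
  have hkw : t.map k₁.hom ≫ 𝟙 _ = W.obj.iso.hom ≫ t.map k₂.hom := k.hom.hom.w
  have hkey : W.obj.iso.hom = t.map k₁.hom ≫ t.map k₂.inv :=
    prod_key W.obj.iso (t.toFunctor.mapIso k₁) (t.toFunctor.mapIso k₂) hkw
  haveI h1 : 𝒵.p.IsHomLift (𝟙 (𝒳.p.obj x)) k₁.hom :=
    @BasedFunctor.preserves_isHomLift _ _ _ _ (FibCat.fpFst t t) _ _ _ _ _ k.hom hk
  haveI h2 : 𝒵.p.IsHomLift (𝟙 (𝒳.p.obj x)) k₂.hom :=
    @BasedFunctor.preserves_isHomLift _ _ _ _ (FibCat.fpSnd t t) _ _ _ _ _ k.hom hk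
  haveI h3 : 𝒵.p.IsHomLift (𝟙 (𝒳.p.obj x)) k₂.inv := inferInstance
  have hψ : 𝒵.p.IsHomLift (𝟙 (𝒳.p.obj x)) (k₁ ≪≫ k₂.symm).hom := by
    show 𝒵.p.IsHomLift (𝟙 (𝒳.p.obj x)) (k₁.hom ≫ k₂.inv)
    infer_instance
  let ξ : (FibCat.fp f g).obj := ⟨⟨x, y, k₁ ≪≫ k₂.symm⟩, hψ⟩
  have ha : t.map (f.map (𝟙 x)) ≫ W.obj.iso.hom =
      e.hom.toNatTrans.app ξ ≫ t.map (g.map (𝟙 y)) := by
    have e1 : t.map (f.map (𝟙 x)) = 𝟙 _ := by
      have h0 : f.map (𝟙 x) = 𝟙 _ := f.toFunctor.map_id _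
      rw [h0]
      exact t.toFunctor.map_id _
    have e2 : t.map (g.map (𝟙 y)) = 𝟙 _ := by
      have h0 : g.map (𝟙 y) = 𝟙 _ := g.toFunctor.map_id _
      rw [h0]
      exact t.toFunctor.map_id _
    have e3 : e.hom.toNatTrans.app ξ = t.map (k₁.hom ≫ k₂.inv) := he ξ
    rw [e1, e2, e3]
    refine (Category.id_comp _).trans (Eq.trans ?_ (Category.comp_id _).symm)
    exact hkey.trans (t.toFunctor.map_comp _ _).symm
  let a : (pI f g t e).obj ξ ≅ W := ObjectProperty.isoMk _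
    (CategoryTheory.Limits.CategoricalPullback.mkIso (Iso.refl x) (Iso.refl y) ha)
  let ee : (pE f g t e he).obj ξ ≅ η := ObjectProperty.isoMk _
    (CategoryTheory.Limits.CategoricalPullback.mkIso a k₁ (by
      apply ObjectProperty.hom_ext
      apply CategoryTheory.Limits.CategoricalPullback.hom_ext
      · show f.map (𝟙 x) ≫ k₁.hom = 𝟙 _ ≫ k₁.hom
        rw [f.toFunctor.map_id]
      · show g.map (𝟙 y) ≫ k₂.hom = (k₁ ≪≫ k₂.symm).inv ≫ k₁.hom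
        show g.map (𝟙 y) ≫ k₂.hom = (k₂.hom ≫ k₁.inv) ≫ k₁.hom
        rw [g.toFunctor.map_id, Category.id_comp, Category.assoc, Iso.inv_hom_id,
          Category.comp_id]))
  refine ⟨ξ, ee, ?_⟩
  refine (Groth.Agent.H13.fp_isHomLift_iff (pB f g t) (FibCat.diag t) ee.hom _).2 ?_
  refine (Groth.Agent.H13.fp_isHomLift_iff (BasedFunctor.comp f t) (BasedFunctor.comp g t)
    a.hom _).2 ?_
  exact IsHomLift.id rfl

end prod

section AlgStack

variable {S : Scheme.{u}} {𝒳 𝒴 𝒵 𝒯 : AlgSt.Cat S}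

theorem repByAlgSpWith_prodDiag (P : MorphismProperty (AlgSp.Sp S)) (f : 𝒳 ⥤ᵇ 𝒵) (g : 𝒴 ⥤ᵇ 𝒵)
    (t : 𝒵 ⥤ᵇ 𝒯)
    (e : BasedFunctor.comp (FibCat.fpFst f g) (BasedFunctor.comp f t) ≅
      BasedFunctor.comp (FibCat.fpSnd f g) (BasedFunctor.comp g t))
    (he : ∀ x, e.hom.toNatTrans.app x = t.map x.obj.iso.hom)
    (h : AlgSt.RepByAlgSpWith P (FibCat.diag t)) :
    AlgSt.RepByAlgSpWith P (FibCat.fpLift (FibCat.fpFst f g) (FibCat.fpSnd f g) e) := by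
  have h1 : AlgSt.RepByAlgSpWith P (FibCat.fpFst (pB f g t) (FibCat.diag t)) :=
    repByAlgSpWith_fpFst P (FibCat.diag t) (pB f g t) h
  exact repByAlgSpWith_of_sq' P (FibCat.fpFst (pB f g t) (FibCat.diag t))
    (FibCat.fpLift (FibCat.fpFst f g) (FibCat.fpSnd f g) e) (pE f g t e he) (BasedFunctor.id _)
    (isEquivOver_pE f g t e he) isEquivOver_id (Iso.refl _) h1

end AlgStack

end Groth.Agent.H28.FpBase
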