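import Mathlib
import Groth.Agent.H28.FpDiag

/-!
# The graph of a morphism over a base is a base change of the diagonal
-/

set_option autoImplicit false
set_option linter.style.haveILetI false
set_option backward.isDefEq.respectTransparency false
set_option backward.isDefEq.respectTransparency.types false

namespace Groth.Agent.H28.FpBase

open CategoryTheory CategoryTheory.Limits FibCat AlgebraicGeometry
open Groth.Agent.Helper22 Groth.Agent.Helper22.EquivComp Groth.Agent.Helper22.FpSq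
open Groth.Agent.H28.LiftFp

universe v u

section graph
variable {C : Type u} [Category.{v} C] {𝒳 𝒴 𝒯 : BasedCategory.{v, max u v} C}
  (p : 𝒳 ⥤ᵇ 𝒯) (q : 𝒴 ⥤ᵇ 𝒯) (g : 𝒳 ⥤ᵇ 𝒴)
  (e : BasedFunctor.comp (BasedFunctor.id 𝒳) p ≅ BasedFunctor.comp g q)

/-- components of `e` -/
def gApp (x : 𝒳.obj) : p.obj x ≅ q.obj (g.obj x) where
  hom := e.hom.toNatTrans.app x
  inv := e.inv.toNatTrans.app x
  hom_inv_id := hom_inv_app e x
  inv_hom_id := inv_hom_app e x

/-- the graph `x ↦ (x, g x)` -/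
def graph : 𝒳 ⥤ᵇ FibCat.fp p q := FibCat.fpLift (BasedFunctor.id 𝒳) g e

/-- the 2-isomorphism defining `gB` -/
def gTheta : BasedFunctor.comp (BasedFunctor.comp (FibCat.fpFst p q) g) q ≅
    BasedFunctor.comp (FibCat.fpSnd p q) q :=
  (whiskerLeftIso (FibCat.fpFst p q) e).symm ≪≫ FibCat.fpIso p q

/-- `g × id : 𝒳 ×_𝒯 𝒴 ⟶ 𝒴 ×_𝒯 𝒴` -/
def gB : FibCat.fp p q ⥤ᵇ FibCat.fp q q :=
  FibCat.fpLift (BasedFunctor.comp (FibCat.fpFst p q) g) (FibCat.fpSnd p q) (gTheta p q g e)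

theorem gB_iso_hom (X : (FibCat.fp p q).obj) :
    ((gB p q g e).obj X).obj.iso.hom = (gApp p q g e X.obj.fst).inv ≫ X.obj.iso.hom := rfl

theorem gEps_w (x : 𝒳.obj) :
    q.map (𝟙 (g.obj x)) ≫ 𝟙 (q.obj (g.obj x)) =
      ((gApp p q g e x).inv ≫ (gApp p q g e x).hom) ≫ q.map (𝟙 (g.obj x)) := by
  rw [Iso.inv_hom_id, q.toFunctor.map_id]

/-- the 2-isomorphism defining `gE` -/
def gEps : BasedFunctor.comp (graph p q g e) (gB p q g e) ≅
    BasedFunctor.comp g (FibCat.diag q) :=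
  BasedNatIso.mkNatIso
    (NatIso.ofComponents (fun x => ObjectProperty.isoMk _
        (CategoryTheory.Limits.CategoricalPullback.mkIso (Iso.refl (g.obj x)) (Iso.refl (g.obj x))
          (gEps_w p q g e x)))
      (by
        intro x x' m
        apply ObjectProperty.hom_ext
        apply CategoryTheory.Limits.CategoricalPullback.hom_ext
        · exact (Category.comp_id _).trans (Category.id_comp _).symm
        · exact (Category.comp_id _).trans (Category.id_comp _).symm))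
    (fun x => (Groth.Agent.H13.fp_isHomLift_iff q q _ _).2 (IsHomLift.id (g.w_obj x)))

/-- the comparison functor `𝒳 ⟶ (𝒳 ×_𝒯 𝒴) ×_{𝒴 ×_𝒯 𝒴} 𝒴` -/
def gE : 𝒳 ⥤ᵇ FibCat.fp (gB p q g e) (FibCat.diag q) :=
  FibCat.fpLift (graph p q g e) g (gEps p q g e)

theorem gE_comp_fpFst :
    BasedFunctor.comp (gE p q g e) (FibCat.fpFst (gB p q g e) (FibCat.diag q)) =
      graph p q g e := rfl

theorem graph_key {E : Type*} [Category E] {P Qg Qy Qy' : E} (φ : P ≅ Qy) (ε : P ≅ Qg)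
    (K₁ : Qg ⟶ Qy') (K₂ : Qy ≅ Qy') (hw : K₁ ≫ 𝟙 Qy' = (ε.inv ≫ φ.hom) ≫ K₂.hom) :
    φ.hom = ε.hom ≫ K₁ ≫ K₂.inv := by
  rw [Category.comp_id] at hw
  rw [hw]
  simp

lemma isEquivOver_gE : FibCat.IsEquivOver (gE p q g e) := by
  haveI hfa : (gE p q g e).toFunctor.Faithful := by
    refine ⟨?_⟩
    intro x x' m m' h
    exact congrArg (fun t => t.hom.fst.hom.fst) h
  haveI hfu : (gE p q g e).toFunctor.Full := by
    refine ⟨?_⟩
    intro x x' n
    let n₁ : (graph p q g e).obj x ⟶ (graph p q g e).obj x' := n.hom.fst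
    let n₂ : g.obj x ⟶ g.obj x' := n.hom.snd
    let m : x ⟶ x' := n₁.hom.fst
    have hw := n.hom.w
    have h1 : g.map m = n₂ := by
      have h : g.map m ≫ 𝟙 _ = 𝟙 _ ≫ n₂ := congrArg (fun t => t.hom.fst) hw
      rw [Category.comp_id, Category.id_comp] at h
      exact h
    have h2 : n₁.hom.snd = n₂ := by
      have h : n₁.hom.snd ≫ 𝟙 _ = 𝟙 _ ≫ n₂ := congrArg (fun t => t.hom.snd) hw
      rw [Category.comp_id, Category.id_comp] at h
      exact h
    refine ⟨m, ?_⟩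
    apply ObjectProperty.hom_ext
    apply CategoryTheory.Limits.CategoricalPullback.hom_ext
    · apply ObjectProperty.hom_ext
      apply CategoryTheory.Limits.CategoricalPullback.hom_ext
      · rfl
      · exact h1.trans h2.symm
    · exact h1
  apply FibLift.isEquivOver_of_ff
  intro η
  let X : (FibCat.fp p q).obj := η.obj.fst
  let x : 𝒳.obj := X.obj.fst
  let y : 𝒴.obj := X.obj.snd
  let y' : 𝒴.obj := η.obj.snd
  let k : (gB p q g e).obj X ≅ (FibCat.diag q).obj y' := η.obj.iso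
  let k₁ : g.obj x ≅ y' := (FibCat.fpFst q q).toFunctor.mapIso k
  let k₂ : y ≅ y' := (FibCat.fpSnd q q).toFunctor.mapIso k
  have hkw : q.map k₁.hom ≫ 𝟙 _ =
      ((gApp p q g e x).inv ≫ X.obj.iso.hom) ≫ q.map k₂.hom := k.hom.hom.w
  have hkey : X.obj.iso.hom = (gApp p q g e x).hom ≫ q.map k₁.hom ≫ q.map k₂.inv :=
    graph_key X.obj.iso (gApp p q g e x) (q.map k₁.hom) (q.toFunctor.mapIso k₂) hkw
  let a : (graph p q g e).obj x ≅ X := ObjectProperty.isoMk _
    (CategoryTheory.Limits.CategoricalPullback.mkIso (Iso.refl x) (k₁ ≪≫ k₂.symm) (by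
      show p.map (𝟙 x) ≫ X.obj.iso.hom = (gApp p q g e x).hom ≫ q.map (k₁.hom ≫ k₂.inv)
      rw [p.toFunctor.map_id, Category.id_comp, q.toFunctor.map_comp]
      exact hkey))
  let ee : (gE p q g e).obj x ≅ η := ObjectProperty.isoMk _
    (CategoryTheory.Limits.CategoricalPullback.mkIso a k₁ (by
      apply ObjectProperty.hom_ext
      apply CategoryTheory.Limits.CategoricalPullback.hom_ext
      · show g.map (𝟙 x) ≫ k₁.hom = 𝟙 _ ≫ k₁.hom
        rw [g.toFunctor.map_id]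
      · show (k₁.hom ≫ k₂.inv) ≫ k₂.hom = 𝟙 _ ≫ k₁.hom
        rw [Category.assoc, Iso.inv_hom_id, Category.comp_id, Category.id_comp]))
  refine ⟨x, ee, ?_⟩
  refine (Groth.Agent.H13.fp_isHomLift_iff (gB p q g e) (FibCat.diag q) ee.hom _).2 ?_
  refine (Groth.Agent.H13.fp_isHomLift_iff p q a.hom _).2 ?_
  exact IsHomLift.id rfl

end graph

section AlgStack

variable {S : Scheme.{u}} {𝒳 𝒴 𝒯 : AlgSt.Cat S}

theorem repByAlgSpWith_graph (P : MorphismProperty (AlgSp.Sp S)) (p : 𝒳 ⥤ᵇ 𝒯) (q : 𝒴 ⥤ᵇ 𝒯)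
    (g : 𝒳 ⥤ᵇ 𝒴) (e : BasedFunctor.comp (BasedFunctor.id 𝒳) p ≅ BasedFunctor.comp g q)
    (h : AlgSt.RepByAlgSpWith P (FibCat.diag q)) :
    AlgSt.RepByAlgSpWith P (FibCat.fpLift (BasedFunctor.id 𝒳) g e) := by
  have h1 : AlgSt.RepByAlgSpWith P (FibCat.fpFst (gB p q g e) (FibCat.diag q)) :=
    repByAlgSpWith_fpFst P (FibCat.diag q) (gB p q g e) h
  exact repByAlgSpWith_of_sq' P (FibCat.fpFst (gB p q g e) (FibCat.diag q))
    (FibCat.fpLift (BasedFunctor.id 𝒳) g e) (gE p q g e) (BasedFunctor.id _)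
    (isEquivOver_gE p q g e) isEquivOver_id (Iso.refl _) h1

end AlgStack

end Groth.Agent.H28.FpBase
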