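import Mathlib
import Groth.Agent.H28.AffBase
import Groth.Agent.H28.FpGraph

/-!
# Cancellation for morphisms representable by algebraic spaces (graph trick)
-/

set_option autoImplicit false
set_option linter.style.haveILetI false
set_option backward.isDefEq.respectTransparency false
set_option backward.isDefEq.respectTransparency.types false

namespace Groth.Agent.H28.RepComp

open CategoryTheory CategoryTheory.Limits FibCat AlgebraicGeometry Opposite Stk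
open Groth.Agent.Helper22 Groth.Agent.Helper22.EquivComp Groth.Agent.Helper22.FpSq
open Groth.Agent.Helper22.FpEquiv Groth.Agent.H28.LiftFp
open Groth.Agent.H28.FpBase Groth.Agent.H28.PshDict Groth.Agent.H28.IsoCl

universe u

variable {S : Scheme.{u}} {𝒳 𝒴 𝒵 : AlgSt.Cat S}

theorem repByAlgSpWith_of_comp_of_diag (h𝒳 : FibCat.IsFibGrpd 𝒳.p) (h𝒴 : FibCat.IsFibGrpd 𝒴.p)
    (h𝒵 : FibCat.IsFibGrpd 𝒵.p)
    (P : MorphismProperty (AlgSp.Sp S)) (hPiso : CancelIso P)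
    (hPc : ∀ ⦃X Y Z : AlgSp.Sp S⦄, AlgSp.IsAlgSpace X → AlgSp.IsAlgSpace Y → AlgSp.IsAlgSpace Z →
      ∀ (a : X ⟶ Y) (b : Y ⟶ Z), P a → P b → P (a ≫ b))
    (hD : DescendsP P)
    (f : 𝒳 ⥤ᵇ 𝒴) (a : 𝒳 ⥤ᵇ 𝒵) (b : 𝒴 ⥤ᵇ 𝒵) (e : BasedFunctor.comp f b ≅ a)
    (ha : AlgSt.RepByAlgSpWith P a) (hΔ : AlgSt.RepByAlgSpWith P (FibCat.diag b)) :
    AlgSt.RepByAlgSpWith P f := by
  let e' : BasedFunctor.comp (BasedFunctor.id 𝒳) a ≅ BasedFunctor.comp f b := e.symm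
  have h1 : AlgSt.RepByAlgSpWith P (FibCat.fpLift (BasedFunctor.id 𝒳) f e') :=
    repByAlgSpWith_graph P a b f e' hΔ
  have h2 : AlgSt.RepByAlgSpWith P (FibCat.fpSnd a b) := repByAlgSpWith_fpSnd P b a ha
  exact repByAlgSpWith_comp' h𝒳 (Groth.Agent.H13.fp_isFibGrpd a b h𝒳 h𝒴 h𝒵) P hPiso hPc hD
    (FibCat.fpLift (BasedFunctor.id 𝒳) f e') (FibCat.fpSnd a b) h1 h2

theorem descendsP_topP : DescendsP (topP (S := S)) := fun _ _ _ _ _ _ => trivial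

theorem repByAlgSp1_of_comp_of_diag (h𝒳 : FibCat.IsFibGrpd 𝒳.p) (h𝒴 : FibCat.IsFibGrpd 𝒴.p)
    (h𝒵 : FibCat.IsFibGrpd 𝒵.p) (f : 𝒳 ⥤ᵇ 𝒴) (g : 𝒴 ⥤ᵇ 𝒵)
    (hgf : AlgSt.RepByAlgSp1 (BasedFunctor.comp f g))
    (hΔ : AlgSt.RepByAlgSp1 (FibCat.diag g)) : AlgSt.RepByAlgSp1 f :=
  (repByAlgSp1_iff_top f).2 (repByAlgSpWith_of_comp_of_diag h𝒳 h𝒴 h𝒵 topP cancelIso_topP
    (fun _ _ _ _ _ _ _ _ _ _ => trivial) descendsP_topP f (BasedFunctor.comp f g) g (Iso.refl _)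
    ((repByAlgSp1_iff_top _).1 hgf) ((repByAlgSp1_iff_top _).1 hΔ))

theorem repByAlgSpWith_affine_of_comp_of_diag (h𝒳 : FibCat.IsFibGrpd 𝒳.p)
    (h𝒴 : FibCat.IsFibGrpd 𝒴.p) (h𝒵 : FibCat.IsFibGrpd 𝒵.p)
    (f : 𝒳 ⥤ᵇ 𝒴) (a : 𝒳 ⥤ᵇ 𝒵) (b : 𝒴 ⥤ᵇ 𝒵) (e : BasedFunctor.comp f b ≅ a)
    (ha : AlgSt.RepByAlgSpWith AlgSp.IsAffineMor a)
    (hΔ : AlgSt.RepByAlgSpWith AlgSp.IsAffineMor (FibCat.diag b)) :
    AlgSt.RepByAlgSpWith AlgSp.IsAffineMor f :=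
  (repByAlgSpWith_affine_iff f).2 (repByAlgSpWith_of_comp_of_diag h𝒳 h𝒴 h𝒵 (AffBaseP QTrue)
    (cancelIso_affBaseP QTrue)
    (fun _ _ _ _ _ _ a b ha hb => comp_affBaseP QTrue qTrue_comp a b ha hb)
    (descendsP_affBaseP QTrue) f a b e ((repByAlgSpWith_affine_iff a).1 ha)
    ((repByAlgSpWith_affine_iff _).1 hΔ))

end Groth.Agent.H28.RepComp
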