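import Mathlib
import Groth.Agent.H28.RepCancel
import Groth.Agent.H25.AlgSp47
import Groth.Agent.S10519
import Groth.Agent.S10520
import Groth.Agent.S10536

/-!
# Properties of morphisms of algebraic spaces that are good for representable morphisms of stacks
-/

set_option autoImplicit false
set_option linter.style.haveILetI false
set_option backward.isDefEq.respectTransparency false
set_option backward.isDefEq.respectTransparency.types false

namespace Groth.Agent.H28.RepComp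

open CategoryTheory CategoryTheory.Limits FibCat AlgebraicGeometry Opposite Stk
open Groth.Agent.Helper22 Groth.Agent.Helper22.EquivComp Groth.Agent.Helper22.FpSq
open Groth.Agent.Helper22.FpEquiv Groth.Agent.H28.LiftFp
open Groth.Agent.H28.FpBase Groth.Agent.H28.PshDict Groth.Agent.H28.IsoCl
open Groth.Agent.H25.AS

universe u

variable {S : Scheme.{u}}

/-- stable under base change (between algebraic spaces) -/
def BaseChangeP (P : MorphismProperty (AlgSp.Sp S)) : Prop :=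
  ∀ ⦃X₁ Y₁ X₂ Y₂ : AlgSp.Sp S⦄, AlgSp.IsAlgSpace X₁ → AlgSp.IsAlgSpace Y₁ →
    AlgSp.IsAlgSpace X₂ → AlgSp.IsAlgSpace Y₂ → ∀ (a : X₁ ⟶ Y₁) (b : Y₂ ⟶ Y₁) (a' : X₂ ⟶ Y₂)
    (b' : X₂ ⟶ X₁), IsPullback b' a' a b → P a → P a'

/-- stable under composition (between algebraic spaces) -/
def CompP (P : MorphismProperty (AlgSp.Sp S)) : Prop :=
  ∀ ⦃X Y Z : AlgSp.Sp S⦄, AlgSp.IsAlgSpace X → AlgSp.IsAlgSpace Y → AlgSp.IsAlgSpace Z →
    ∀ (a : X ⟶ Y) (b : Y ⟶ Z), P a → P b → P (a ≫ b)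

/-- the package of properties used for compositions of representable morphisms of stacks -/
structure GoodP (P : MorphismProperty (AlgSp.Sp S)) : Prop where
  baseChange : BaseChangeP P
  comp : CompP P
  descends : DescendsP P

theorem GoodP.cancelIso {P : MorphismProperty (AlgSp.Sp S)} (h : GoodP P) : CancelIso P :=
  cancelIso_of_baseChange P h.baseChange

theorem isLocalOnBase_fppf_of_fpqc {P : MorphismProperty (AlgSp.Sp S)}
    (h : AlgSp.IsLocalOnBase AlgSp.IsFpqcCover P) : AlgSp.IsLocalOnBase AlgSp.IsFppfCover P := by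
  intro ι Y Yi g hY hYi hcov X f hX Xi p q hXi sq
  exact h Yi g hY hYi (isFpqcCover_of_isFppfCover hY Yi hYi g hcov) f hX Xi p q hXi sq

theorem descendsP_of_et (P : MorphismProperty (AlgSp.Sp S))
    (hP : AlgSp.IsLocalOnBase AlgSp.IsEtCover P) : DescendsP P := by
  intro W G' w hW hG' hrep
  obtain ⟨V, p, hpe, hps⟩ := hG'.atlas
  have hfppf : AlgSp.IsFppfCover (fun _ : PUnit.{u + 1} => (AlgSp.yon S).obj V) (fun _ => p) :=
    isFppfCover_of_etale_charts (fun _ : PUnit.{u + 1} => V) (fun _ => p)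
      (fun _ => hpe)
      (fun y => by
        obtain ⟨v, hv⟩ := ofPt_surjective p hps y
        exact ⟨PUnit.unit, v, hv⟩)
  have hcov : AlgSp.IsEtCover (fun _ : PUnit.{u + 1} => (AlgSp.yon S).obj V) (fun _ => p) :=
    ⟨fun _ U φ hφ => repWith_etale_comp hφ hpe, hfppf.2⟩
  have sq := IsPullback.of_hasPullback w p
  have sq' : IsPullback (pullback.fst w p).hom (pullback.snd w p).hom w.hom p.hom :=
    sq.map (sheafToPresheaf (AlgSp.J S) (Type (u + 1)))
  obtain ⟨h, hA, hPs⟩ := hrep p.hom (pullback.fst w p).hom (pullback.snd w p).hom sq'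
  exact (hP (fun _ : PUnit.{u + 1} => (AlgSp.yon S).obj V) (fun _ => p) hG'
    (fun _ => AlgSp.IsAlgSpace.yon_obj V) hcov w hW (fun _ => pullback w p)
    (fun _ => pullback.snd w p) (fun _ => pullback.fst w p) (fun _ => hA) (fun _ => sq)).2
    (fun _ => hPs)

theorem goodP_of_fppf (P : MorphismProperty (AlgSp.Sp S)) (hPb : BaseChangeP P) (hPc : CompP P)
    (hP : AlgSp.IsLocalOnBase AlgSp.IsFppfCover P) : GoodP P :=
  ⟨hPb, hPc, descendsP_of_fppf P hP⟩

theorem goodP_of_et (P : MorphismProperty (AlgSp.Sp S)) (hPb : BaseChangeP P) (hPc : CompP P)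
    (hP : AlgSp.IsLocalOnBase AlgSp.IsEtCover P) : GoodP P :=
  ⟨hPb, hPc, descendsP_of_et P hP⟩

theorem goodP_topP : GoodP (topP (S := S)) :=
  ⟨fun _ _ _ _ _ _ _ _ _ _ _ _ _ _ => trivial, fun _ _ _ _ _ _ _ _ _ _ => trivial, descendsP_topP⟩

theorem descendsP_locP {Q : MorphismProperty Scheme.{u}} (hQ : EtLoc Q) :
    DescendsP (AlgSp.LocP (S := S) Q) := by
  intro W G' w hW hG' hrep
  obtain ⟨V, p, hpe, hps⟩ := hG'.atlas
  have hrep' := (AlgSp.repBySpWith_hom_iff _ w).1 hrep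
  have sq := IsPullback.of_hasPullback w p
  exact locP_of_isPullback_chart hQ hW hG' w p hpe hps _ _ sq (hrep' p _ _ sq).2

theorem goodP_locP {Q : MorphismProperty Scheme.{u}} (hQ : EtLoc Q) :
    GoodP (AlgSp.LocP (S := S) Q) :=
  ⟨fun _ _ _ _ hX₁ hY₁ _ hY₂ _ _ _ _ sq ha => locP_of_isPullback hQ hX₁ hY₁ hY₂ sq ha,
    fun _ _ _ hX hY hZ a b ha hb => locP_comp hQ hX hY hZ a b ha hb, descendsP_locP hQ⟩

theorem etLoc_unramified : EtLoc (@LocallyOfFiniteType ⊓ @FormallyUnramified) :=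
  etLoc_of_listed _ (Or.inr (Or.inr (Or.inr (Or.inr (Or.inr (Or.inr (fun _ _ _ => Iff.rfl)))))))

theorem etLoc_lqf : EtLoc (@LocallyQuasiFinite ⊓ @LocallyOfFiniteType) :=
  etLoc_of_listed _ (Or.inr (Or.inr (Or.inr (Or.inr (Or.inr (Or.inl (fun _ _ _ => Iff.rfl)))))))

theorem goodP_proper : GoodP (AlgSp.IsProperMor (S := S)) :=
  goodP_of_fppf _
    (fun _ _ _ _ hX₁ hY₁ _ hY₂ _ _ _ _ sq ha => isProperMor_of_isPullback hX₁ hY₁ hY₂ sq ha)
    (fun _ _ _ hX hY hZ a b ha hb => isProperMor_comp hX hY hZ a b ha hb)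
    (isLocalOnBase_fppf_of_fpqc (Groth.Agent.S10536.result S))

theorem isLocalOnBase_inf {τ : AlgSp.CovNotion S} {P P' : MorphismProperty (AlgSp.Sp S)}
    (h : AlgSp.IsLocalOnBase τ P) (h' : AlgSp.IsLocalOnBase τ P') :
    AlgSp.IsLocalOnBase τ (P ⊓ P') := by
  intro ι Y Yi g hY hYi hcov X f hX Xi p q hXi sq
  have h1 := h Yi g hY hYi hcov f hX Xi p q hXi sq
  have h2 := h' Yi g hY hYi hcov f hX Xi p q hXi sq
  constructor
  · intro hf i
    exact ⟨h1.1 hf.1 i, h2.1 hf.2 i⟩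
  · intro hi
    exact ⟨h1.2 (fun i => (hi i).1), h2.2 (fun i => (hi i).2)⟩

theorem goodP_qcqs : GoodP (AlgSp.IsQuasiCompactMor (S := S) ⊓ AlgSp.IsQuasiSeparatedMor) :=
  goodP_of_fppf _
    (fun _ _ _ _ _ _ _ _ _ _ _ _ sq ha =>
      ⟨isQuasiCompactMor_of_isPullback sq ha.1, isQuasiSeparatedMor_of_isPullback sq ha.2⟩)
    (fun _ _ _ _ hY hZ a b ha hb =>
      ⟨isQuasiCompactMor_comp hY hZ.diag a b ha.1 hb.1, isQuasiSeparatedMor_comp a b ha.2 hb.2⟩)
    (isLocalOnBase_fppf_of_fpqc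
      (isLocalOnBase_inf (Groth.Agent.S10519.result S) (Groth.Agent.S10520.result S)))

theorem goodP_affBaseP (Q : ∀ ⦃W Z : Over S⦄, (W ⟶ Z) → Prop)
    (hQc : ∀ ⦃W₂ W₁ Z : Over S⦄ (i₂ : W₂ ⟶ W₁) (i₁ : W₁ ⟶ Z), Q i₂ → Q i₁ → Q (i₂ ≫ i₁))
    (hQb : BaseChangeP (AffBaseP Q)) : GoodP (AffBaseP Q) :=
  ⟨hQb, fun _ _ _ _ _ _ a b ha hb => comp_affBaseP Q hQc a b ha hb, descendsP_affBaseP Q⟩

end Groth.Agent.H28.RepComp
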