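import Mathlib
import Groth.Agent.H28.GoodP
import Groth.Agent.H28.FpProdDiag

/-!
# The diagonal of a composition
-/

set_option autoImplicit false
set_option linter.style.haveILetI false
set_option backward.isDefEq.respectTransparency false
set_option backward.isDefEq.respectTransparency.types false

namespace Groth.Agent.H28.RepComp

open CategoryTheory CategoryTheory.Limits FibCat AlgebraicGeometry Opposite Stk
open Groth.Agent.Helper22 Groth.Agent.Helper22.EquivComp Groth.Agent.Helper22.FpSq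
open Groth.Agent.Helper22.FpEquiv Groth.Agent.H28.LiftFp
open Groth.Agent.H28.FpBase Groth.Agent.H28.PshDict Groth.Agent.H28.IsoCl
open Groth.Agent.H25.AS

universe v u

section cfun
variable {C : Type u} [Category.{v} C] {𝒳 𝒴 𝒵 : BasedCategory.{v, max u v} C}
  (f : 𝒳 ⥤ᵇ 𝒴) (g : 𝒴 ⥤ᵇ 𝒵)

/-- the 2-isomorphism defining `cFun` -/
def cIso : BasedFunctor.comp (FibCat.fpFst f f) (BasedFunctor.comp f g) ≅
    BasedFunctor.comp (FibCat.fpSnd f f) (BasedFunctor.comp f g) :=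
  whiskerRightIso (FibCat.fpIso f f) g

theorem cIso_app (x : (FibCat.fp f f).obj) :
    (cIso f g).hom.toNatTrans.app x = g.map x.obj.iso.hom := rfl

/-- the comparison `𝒳 ×_𝒴 𝒳 ⟶ 𝒳 ×_𝒵 𝒳` -/
def cFun : FibCat.fp f f ⥤ᵇ FibCat.fp (BasedFunctor.comp f g) (BasedFunctor.comp f g) :=
  FibCat.fpLift (FibCat.fpFst f f) (FibCat.fpSnd f f) (cIso f g)

theorem diagComp_w (x : 𝒳.obj) :
    (BasedFunctor.comp f g).map (𝟙 x) ≫ g.map (𝟙 (f.obj x)) =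
      𝟙 ((BasedFunctor.comp f g).obj x) ≫ (BasedFunctor.comp f g).map (𝟙 x) := by
  rw [g.toFunctor.map_id]
  exact (Category.comp_id _).trans (Category.id_comp _).symm

/-- the diagonal of a composition is the composition of the diagonal with the comparison -/
def diagCompIso : FibCat.diag (BasedFunctor.comp f g) ≅
    BasedFunctor.comp (FibCat.diag f) (cFun f g) :=
  BasedNatIso.mkNatIso
    (NatIso.ofComponents (fun x => ObjectProperty.isoMk _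
        (CategoryTheory.Limits.CategoricalPullback.mkIso (Iso.refl x) (Iso.refl x)
          (diagComp_w f g x)))
      (by
        intro x x' m
        apply ObjectProperty.hom_ext
        apply CategoryTheory.Limits.CategoricalPullback.hom_ext
        · exact (Category.comp_id _).trans (Category.id_comp _).symm
        · exact (Category.comp_id _).trans (Category.id_comp _).symm))
    (fun x => (Groth.Agent.H13.fp_isHomLift_iff _ _ _ _).2 (IsHomLift.id rfl))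

end cfun

section AlgStack

variable {S : Scheme.{u}} {𝒳 𝒴 𝒵 : AlgSt.Cat S}

theorem repByAlgSpWith_of_iso (P : MorphismProperty (AlgSp.Sp S)) {f f' : 𝒳 ⥤ᵇ 𝒴} (e : f' ≅ f)
    (hf' : AlgSt.RepByAlgSpWith P f') : AlgSt.RepByAlgSpWith P f :=
  repByAlgSpWith_of_sq P f f' (BasedFunctor.id _) (BasedFunctor.id _) isEquivOver_id
    isEquivOver_id e hf'

theorem repByAlgSpWith_cFun (P : MorphismProperty (AlgSp.Sp S)) (f : 𝒳 ⥤ᵇ 𝒴) (g : 𝒴 ⥤ᵇ 𝒵)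
    (hg : AlgSt.RepByAlgSpWith P (FibCat.diag g)) : AlgSt.RepByAlgSpWith P (cFun f g) :=
  repByAlgSpWith_prodDiag P f f g (cIso f g) (cIso_app f g) hg

theorem repByAlgSpWith_diag_comp (h𝒳 : FibCat.IsFibGrpd 𝒳.p) (h𝒴 : FibCat.IsFibGrpd 𝒴.p)
    {P : MorphismProperty (AlgSp.Sp S)} (hP : GoodP P) (f : 𝒳 ⥤ᵇ 𝒴) (g : 𝒴 ⥤ᵇ 𝒵)
    (hf : AlgSt.RepByAlgSpWith P (FibCat.diag f)) (hg : AlgSt.RepByAlgSpWith P (FibCat.diag g)) :
    AlgSt.RepByAlgSpWith P (FibCat.diag (BasedFunctor.comp f g)) := by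
  have hc : AlgSt.RepByAlgSpWith P (cFun f g) := repByAlgSpWith_cFun P f g hg
  have h1 := repByAlgSpWith_comp' h𝒳 (Groth.Agent.H13.fp_isFibGrpd f f h𝒳 h𝒳 h𝒴) P hP.cancelIso
    hP.comp hP.descends (FibCat.diag f) (cFun f g) hf hc
  exact repByAlgSpWith_of_iso P (diagCompIso f g).symm h1

theorem isDMMor_comp (h𝒳 : FibCat.IsFibGrpd 𝒳.p) (h𝒴 : FibCat.IsFibGrpd 𝒴.p)
    (f : 𝒳 ⥤ᵇ 𝒴) (g : 𝒴 ⥤ᵇ 𝒵) (hf : AlgSt.IsDMMor f) (hg : AlgSt.IsDMMor g) :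
    AlgSt.IsDMMor (BasedFunctor.comp f g) :=
  repByAlgSpWith_diag_comp h𝒳 h𝒴 (goodP_locP etLoc_unramified) f g hf hg

theorem isQuasiDMMor_comp (h𝒳 : FibCat.IsFibGrpd 𝒳.p) (h𝒴 : FibCat.IsFibGrpd 𝒴.p)
    (f : 𝒳 ⥤ᵇ 𝒴) (g : 𝒴 ⥤ᵇ 𝒵) (hf : AlgSt.IsQuasiDMMor f) (hg : AlgSt.IsQuasiDMMor g) :
    AlgSt.IsQuasiDMMor (BasedFunctor.comp f g) :=
  repByAlgSpWith_diag_comp h𝒳 h𝒴 (goodP_locP etLoc_lqf) f g hf hg

theorem isSeparatedMor_comp (h𝒳 : FibCat.IsFibGrpd 𝒳.p) (h𝒴 : FibCat.IsFibGrpd 𝒴.p)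
    (f : 𝒳 ⥤ᵇ 𝒴) (g : 𝒴 ⥤ᵇ 𝒵) (hf : AlgSt.IsSeparatedMor f) (hg : AlgSt.IsSeparatedMor g) :
    AlgSt.IsSeparatedMor (BasedFunctor.comp f g) :=
  repByAlgSpWith_diag_comp h𝒳 h𝒴 goodP_proper f g hf hg

theorem isQuasiSeparatedMor_comp' (h𝒳 : FibCat.IsFibGrpd 𝒳.p) (h𝒴 : FibCat.IsFibGrpd 𝒴.p)
    (f : 𝒳 ⥤ᵇ 𝒴) (g : 𝒴 ⥤ᵇ 𝒵) (hf : AlgSt.IsQuasiSeparatedMor f)
    (hg : AlgSt.IsQuasiSeparatedMor g) : AlgSt.IsQuasiSeparatedMor (BasedFunctor.comp f g) :=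
  repByAlgSpWith_diag_comp h𝒳 h𝒴 goodP_qcqs f g hf hg

end AlgStack

end Groth.Agent.H28.RepComp
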