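import Mathlib
import Groth.Agent.H28.DiagComp

/-!
# Cancellation for morphisms representable by algebraic spaces
-/

set_option autoImplicit false
set_option linter.style.haveILetI false
set_option backward.isDefEq.respectTransparency false
set_option backward.isDefEq.respectTransparency.types false

namespace Groth.Agent.H28.RepComp

open CategoryTheory CategoryTheory.Limits FibCat AlgebraicGeometry Opposite Stk MorphismProperty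
open Groth.Agent.Helper22 Groth.Agent.Helper22.EquivComp Groth.Agent.Helper22.FpSq
open Groth.Agent.Helper22.FpEquiv Groth.Agent.H28.LiftFp
open Groth.Agent.H28.FpBase Groth.Agent.H28.PshDict Groth.Agent.H28.IsoCl
open Groth.Agent.H25.AS

universe u

variable {S : Scheme.{u}}

theorem repBySpWith_of_P {P : MorphismProperty (AlgSp.Sp S)} (hPb : BaseChangeP P)
    {B C₀ : AlgSp.Sp S} (hB : AlgSp.IsAlgSpace B) (hC : AlgSp.IsAlgSpace C₀) (b : B ⟶ C₀)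
    (hb : P b) : AlgSp.RepBySpWith P b.hom := by
  rw [AlgSp.repBySpWith_hom_iff]
  intro U ξ F' fst snd sq
  have hF' : AlgSp.IsAlgSpace F' :=
    isAlgSpace_of_isPullback hC.diag hB (AlgSp.IsAlgSpace.yon_obj U) sq
  exact ⟨hF', hPb hB hC hF' (AlgSp.IsAlgSpace.yon_obj U) b ξ snd fst sq hb⟩

section cancel

variable {𝒳 𝒴 𝒵 : AlgSt.Cat S}

theorem repByAlgSpWith_cancel {P P' : MorphismProperty (AlgSp.Sp S)} (hPb : BaseChangeP P)
    (hcancel : ∀ ⦃X Y Z : AlgSp.Sp S⦄, AlgSp.IsAlgSpace X → AlgSp.IsAlgSpace Y →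
      AlgSp.IsAlgSpace Z → ∀ (a : X ⟶ Y) (b : Y ⟶ Z), P' b → P (a ≫ b) → P a)
    (f : 𝒳 ⥤ᵇ 𝒴) (c : 𝒴 ⥤ᵇ 𝒵) (hc : AlgSt.RepByAlgSpWith P' c)
    (hfc : AlgSt.RepByAlgSpWith P (BasedFunctor.comp f c)) : AlgSt.RepByAlgSpWith P f := by
  intro U y
  let z : FibCat.overCat U ⥤ᵇ 𝒵 := BasedFunctor.comp y c
  obtain ⟨C₀, eC, heC, hP'C⟩ := hc U z
  obtain ⟨B₀, eB, heB, hPB⟩ := hfc U z
  obtain ⟨eC', ⟨β₁⟩, ⟨β₂⟩⟩ := id heC
  let ff : FibCat.fp z (BasedFunctor.comp f c) ⥤ᵇ FibCat.fp z c :=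
    BasedFunctor.comp (paste z c f) (FibCat.fpFst (FibCat.fpSnd z c) f)
  let b₀' : AlgSt.ofSp B₀.obj ⥤ᵇ AlgSt.ofSp C₀.obj :=
    BasedFunctor.comp (BasedFunctor.comp eB ff) eC'
  let b₀ : B₀.obj.obj ⟶ C₀.obj.obj := pshMapOf b₀'
  let b : B₀.obj ⟶ C₀.obj := ObjectProperty.homMk b₀
  have κ : BasedFunctor.comp (Stk.ofPshMap b₀) eC ≅ BasedFunctor.comp eB ff :=
    whiskerRightIso (ofPshMapIso b₀') eC ≪≫ whiskerLeftIso (BasedFunctor.comp eB ff) β₂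
  have hγ : AlgSt.spMapOfOver (BasedFunctor.comp eB (FibCat.fpFst z (BasedFunctor.comp f c))) =
      b ≫ AlgSt.spMapOfOver (BasedFunctor.comp eC (FibCat.fpFst z c)) :=
    (spMapOfOver_congr (whiskerRightIso κ (FibCat.fpFst z c)).hom).symm.trans
      (spMapOfOver_ofSpMap_comp b (BasedFunctor.comp eC (FibCat.fpFst z c)))
  have hPB' : P (b ≫ AlgSt.spMapOfOver (BasedFunctor.comp eC (FibCat.fpFst z c))) := by
    rw [← hγ]
    exact hPB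
  have hPb' : P b :=
    hcancel B₀.property C₀.property (AlgSp.IsAlgSpace.yon_obj U) b _ hP'C hPB'
  have hrepb : AlgSp.RepBySpWith P b₀ := repBySpWith_of_P hPb B₀.property C₀.property b hPb'
  have h1 : AlgSt.RepByAlgSpWith P (Stk.ofPshMap b₀) := repByAlgSpWith_of_repBySpWith b₀ P hrepb
  have h2 : AlgSt.RepByAlgSpWith P ff :=
    repByAlgSpWith_of_sq P ff (Stk.ofPshMap b₀) eB eC heB heC κ h1
  have h3 : AlgSt.RepByAlgSpWith P (FibCat.fpFst (FibCat.fpSnd z c) f) :=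
    repByAlgSpWith_of_sq P (FibCat.fpFst (FibCat.fpSnd z c) f) ff (paste z c f)
      (BasedFunctor.id _) (isEquivOver_paste z c f) isEquivOver_id (Iso.refl _) h2
  let s : FibCat.overCat U ⥤ᵇ FibCat.fp z c :=
    FibCat.fpLift (BasedFunctor.id _) y (Iso.refl _)
  obtain ⟨F, e₀, he₀, hP⟩ := h3 U s
  obtain ⟨Qb, ⟨σ₁⟩, ⟨σ₂⟩⟩ := id (isEquivOver_fpBase s (FibCat.fpSnd z c) f)
  refine ⟨F, BasedFunctor.comp e₀ Qb, isEquivOver_comp _ _ he₀ ⟨_, ⟨σ₂⟩, ⟨σ₁⟩⟩, ?_⟩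
  have α : BasedFunctor.comp (BasedFunctor.comp e₀ Qb) (FibCat.fpFst y f) ≅
      BasedFunctor.comp e₀ (FibCat.fpFst s (FibCat.fpFst (FibCat.fpSnd z c) f)) :=
    whiskerLeftIso e₀ (whiskerRightIso σ₂ (FibCat.fpFst s (FibCat.fpFst (FibCat.fpSnd z c) f)))
  rw [spMapOfOver_congr α.hom]
  exact hP

theorem repByAlgSpWith_diag_of_comp (P : MorphismProperty (AlgSp.Sp S)) (hPb : BaseChangeP P)
    (hcancel : ∀ ⦃X Y Z : AlgSp.Sp S⦄, AlgSp.IsAlgSpace X → AlgSp.IsAlgSpace Y →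
      AlgSp.IsAlgSpace Z → ∀ (a : X ⟶ Y) (b : Y ⟶ Z), P b → P (a ≫ b) → P a)
    (f : 𝒳 ⥤ᵇ 𝒴) (g : 𝒴 ⥤ᵇ 𝒵) (hg : AlgSt.RepByAlgSpWith P (FibCat.diag g))
    (hfg : AlgSt.RepByAlgSpWith P (FibCat.diag (BasedFunctor.comp f g))) :
    AlgSt.RepByAlgSpWith P (FibCat.diag f) :=
  repByAlgSpWith_cancel (P := P) (P' := P) hPb hcancel (FibCat.diag f) (cFun f g)
    (repByAlgSpWith_cFun P f g hg) (repByAlgSpWith_of_iso P (diagCompIso f g) hfg)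

theorem toSelf_comp (g : 𝒴 ⥤ᵇ 𝒵) :
    BasedFunctor.comp g (FibCat.toSelf 𝒵) = FibCat.toSelf 𝒴 := by
  have h : ∀ (F₁ F₂ : 𝒴 ⥤ᵇ FibCat.selfOver (Over S)), F₁.toFunctor = F₂.toFunctor → F₁ = F₂ := by
    rintro ⟨F₁, w₁⟩ ⟨F₂, w₂⟩ (h : F₁ = F₂)
    subst h
    rfl
  exact h _ _ g.w

theorem repByAlgSp1_diag_of_toSelf (g : 𝒴 ⥤ᵇ 𝒵)
    (hY : AlgSt.RepByAlgSp1 (FibCat.diag (FibCat.toSelf 𝒴)))
    (hZ : AlgSt.RepByAlgSp1 (FibCat.diag (FibCat.toSelf 𝒵))) :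
    AlgSt.RepByAlgSp1 (FibCat.diag g) := by
  have h0 : AlgSt.RepByAlgSp1 (FibCat.diag (BasedFunctor.comp g (FibCat.toSelf 𝒵))) := by
    rw [toSelf_comp]
    exact hY
  have hc : AlgSt.RepByAlgSpWith topP (cFun g (FibCat.toSelf 𝒵)) :=
    repByAlgSpWith_cFun topP g (FibCat.toSelf 𝒵) ((repByAlgSp1_iff_top _).1 hZ)
  have h1 : AlgSt.RepByAlgSpWith topP
      (BasedFunctor.comp (FibCat.diag g) (cFun g (FibCat.toSelf 𝒵))) :=
    repByAlgSpWith_of_iso topP (diagCompIso g (FibCat.toSelf 𝒵)) ((repByAlgSp1_iff_top _).1 h0)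
  exact (repByAlgSp1_iff_top _).2 (repByAlgSpWith_cancel (P := topP) (P' := topP)
    goodP_topP.baseChange (fun _ _ _ _ _ _ _ _ _ _ => trivial) (FibCat.diag g)
    (cFun g (FibCat.toSelf 𝒵)) hc h1)

theorem isQuasiSeparatedMor_of_comp {X Y Z : AlgSp.Sp S} (hY : AlgSp.IsAlgSpace Y) (f : X ⟶ Y)
    (g : Y ⟶ Z) (hgf : AlgSp.IsQuasiSeparatedMor (f ≫ g)) : AlgSp.IsQuasiSeparatedMor f := by
  have sq := pullback_map_diagonal_isPullback f f g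
  have hm : AlgSp.RepWith (monomorphisms Scheme.{u}) (pullback.mapDesc f f g) :=
    repWith_snd_of_isPullback sq (repWith_diagonal_all hY g).2.2.1
  have : Mono (pullback.mapDesc f f g) :=
    mono_of_repWith (monomorphisms Scheme.{u}) (fun _ h => h) _ hm
  have h : AlgSp.RepWith @QuasiCompact (pullback.diagonal f ≫ pullback.mapDesc f f g) := by
    rw [diagonal_comp_mapDesc]
    exact hgf
  exact repWith_of_comp_mono h

theorem isSeparatedMor_of_comp' (f : 𝒳 ⥤ᵇ 𝒴) (g : 𝒴 ⥤ᵇ 𝒵)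
    (h1 : AlgSt.IsSeparatedMor (BasedFunctor.comp f g))
    (h2 : AlgSt.RepByAlgSpWith AlgSp.IsSeparatedMor (FibCat.diag g)) :
    AlgSt.IsSeparatedMor f :=
  repByAlgSpWith_cancel (P := AlgSp.IsProperMor) (P' := AlgSp.IsSeparatedMor)
    goodP_proper.baseChange
    (fun _ _ _ hX hY hZ a b hb hab => isProperMor_of_comp hX hY hZ a b hab hb) (FibCat.diag f)
    (cFun f g) (repByAlgSpWith_cFun _ f g h2) (repByAlgSpWith_of_iso _ (diagCompIso f g) h1)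

theorem isQuasiSeparatedMor_of_comp' (f : 𝒳 ⥤ᵇ 𝒴) (g : 𝒴 ⥤ᵇ 𝒵)
    (h1 : AlgSt.IsQuasiSeparatedMor (BasedFunctor.comp f g))
    (h2 : AlgSt.RepByAlgSpWith AlgSp.IsQuasiSeparatedMor (FibCat.diag g)) :
    AlgSt.IsQuasiSeparatedMor f :=
  repByAlgSpWith_cancel (P := AlgSp.IsQuasiCompactMor ⊓ AlgSp.IsQuasiSeparatedMor)
    (P' := AlgSp.IsQuasiSeparatedMor) goodP_qcqs.baseChange
    (fun _ _ _ hX hY hZ a b hb hab =>
      ⟨isQuasiCompactMor_of_comp hX hY hZ a b hab.1 hb, isQuasiSeparatedMor_of_comp hY a b hab.2⟩)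
    (FibCat.diag f) (cFun f g) (repByAlgSpWith_cFun _ f g h2)
    (repByAlgSpWith_of_iso _ (diagCompIso f g) h1)

theorem cancel_unramified {A B C : Scheme.{u}} (h : A ⟶ B) (k : B ⟶ C)
    (_ : (⊤ : MorphismProperty Scheme.{u}) k)
    (hhk : (@LocallyOfFiniteType ⊓ @FormallyUnramified) (h ≫ k)) :
    (@LocallyOfFiniteType ⊓ @FormallyUnramified) h := by
  have h1 : LocallyOfFiniteType (h ≫ k) := hhk.1
  have h2 : FormallyUnramified (h ≫ k) := hhk.2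
  exact ⟨locallyOfFiniteType_of_comp h k, FormallyUnramified.of_comp h k⟩

theorem cancel_lqf {A B C : Scheme.{u}} (h : A ⟶ B) (k : B ⟶ C)
    (_ : (⊤ : MorphismProperty Scheme.{u}) k)
    (hhk : (@LocallyQuasiFinite ⊓ @LocallyOfFiniteType) (h ≫ k)) :
    (@LocallyQuasiFinite ⊓ @LocallyOfFiniteType) h := by
  have h1 : LocallyQuasiFinite (h ≫ k) := hhk.1
  have h2 : LocallyOfFiniteType (h ≫ k) := hhk.2
  exact ⟨LocallyQuasiFinite.of_comp h k, locallyOfFiniteType_of_comp h k⟩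

theorem repByAlgSpWith_locP_diag_of_comp {Q : MorphismProperty Scheme.{u}} (hQ : EtLoc Q)
    (hQc : ∀ {A B C : Scheme.{u}} (h : A ⟶ B) (k : B ⟶ C),
      (⊤ : MorphismProperty Scheme.{u}) k → Q (h ≫ k) → Q h)
    (hY : AlgSt.RepByAlgSp1 (FibCat.diag (FibCat.toSelf 𝒴)))
    (hZ : AlgSt.RepByAlgSp1 (FibCat.diag (FibCat.toSelf 𝒵)))
    (f : 𝒳 ⥤ᵇ 𝒴) (g : 𝒴 ⥤ᵇ 𝒵)
    (h : AlgSt.RepByAlgSpWith (AlgSp.LocP Q) (FibCat.diag (BasedFunctor.comp f g))) :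
    AlgSt.RepByAlgSpWith (AlgSp.LocP Q) (FibCat.diag f) := by
  have hΔg := repByAlgSp1_diag_of_toSelf g hY hZ
  have hc := repByAlgSpWith_cFun topP f g ((repByAlgSp1_iff_top _).1 hΔg)
  have h3 := repByAlgSpWith_of_iso _ (diagCompIso f g) h
  exact repByAlgSpWith_cancel (P := AlgSp.LocP Q) (P' := topP) (goodP_locP hQ).baseChange
    (fun _ _ _ hX hY hZ a b _ hab =>
      locP_cancel (Q := ⊤) hQ hQc hX hY hZ a b (fun _ _ _ _ _ _ _ _ => trivial) hab)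
    (FibCat.diag f) (cFun f g) hc h3

theorem isDMMor_of_comp (hY : AlgSt.RepByAlgSp1 (FibCat.diag (FibCat.toSelf 𝒴)))
    (hZ : AlgSt.RepByAlgSp1 (FibCat.diag (FibCat.toSelf 𝒵)))
    (f : 𝒳 ⥤ᵇ 𝒴) (g : 𝒴 ⥤ᵇ 𝒵) (h : AlgSt.IsDMMor (BasedFunctor.comp f g)) :
    AlgSt.IsDMMor f :=
  repByAlgSpWith_locP_diag_of_comp etLoc_unramified cancel_unramified hY hZ f g h

theorem isQuasiDMMor_of_comp (hY : AlgSt.RepByAlgSp1 (FibCat.diag (FibCat.toSelf 𝒴)))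
    (hZ : AlgSt.RepByAlgSp1 (FibCat.diag (FibCat.toSelf 𝒵)))
    (f : 𝒳 ⥤ᵇ 𝒴) (g : 𝒴 ⥤ᵇ 𝒵) (h : AlgSt.IsQuasiDMMor (BasedFunctor.comp f g)) :
    AlgSt.IsQuasiDMMor f :=
  repByAlgSpWith_locP_diag_of_comp etLoc_lqf cancel_lqf hY hZ f g h

end cancel

end Groth.Agent.H28.RepComp
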