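import Mathlib
import Groth.Agent.H28.RepCancel2
import Groth.Agent.S10546

/-!
# More consequences of the composition theorem
-/

set_option autoImplicit false
set_option linter.style.haveILetI false
set_option backward.isDefEq.respectTransparency false
set_option backward.isDefEq.respectTransparency.types false

namespace Groth.Agent.H28.RepComp

open CategoryTheory CategoryTheory.Limits FibCat AlgebraicGeometry Opposite Stk MorphismProperty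
open Groth.Agent.Helper22 Groth.Agent.Helper22.EquivComp Groth.Agent.Helper22.FpSq
open Groth.Agent.Helper22.FpEquiv Groth.Agent.H28.LiftFp
open Groth.Agent.H28.FpBase Groth.Agent.H28.PshDict Groth.Agent.H28.IsoCl
open Groth.Agent.H25.AS

universe u

variable {S : Scheme.{u}}

section fprep

variable {𝒳 𝒴 𝒵 : AlgSt.Cat S}

theorem repByAlgSp_fp (h𝒳 : FibCat.IsFibGrpd 𝒳.p) (h𝒴 : FibCat.IsFibGrpd 𝒴.p)
    (f : 𝒳 ⥤ᵇ 𝒴) (g : 𝒵 ⥤ᵇ 𝒴) (hf : AlgSt.RepByAlgSp1 f) (hZ : AlgSt.RepByAlgSp 𝒵) :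
    AlgSt.RepByAlgSp (FibCat.fp g f) := by
  obtain ⟨Z₀, eZ, heZ⟩ := hZ
  obtain ⟨W, w₀, Ew, hEw, -, hrep⟩ := boot topP cancelIso_topP h𝒳 h𝒴 f
    ((repByAlgSp1_iff_top f).1 hf) Z₀.obj.obj (BasedFunctor.comp eZ g)
  obtain ⟨hWs, hWa⟩ := Groth.Agent.H28.RepBySp.isAlgSpaceP_of_repBySp w₀ hrep.repBySp
    ((AlgSp.isAlgSpaceP_obj_iff _).2 Z₀.property)
  exact ⟨⟨⟨W, hWs⟩, hWa⟩, BasedFunctor.comp Ew (fpPre eZ g f),
    isEquivOver_comp _ _ hEw (isEquivOver_fpPre eZ g f heZ)⟩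

end fprep

section repwith

variable (Q : MorphismProperty Scheme.{u}) [Q.IsStableUnderBaseChange]

theorem descendsP_repWith : DescendsP (AlgSp.RepWith (S := S) Q) := by
  intro W G' w _ _ hrep
  have hrep' := (AlgSp.repBySpWith_hom_iff (AlgSp.RepWith Q) w).1 hrep
  refine ⟨?_, ?_⟩
  · intro U g
    have sq := IsPullback.of_hasPullback w g
    obtain ⟨-, hsnd⟩ := hrep' g (pullback.fst w g) (pullback.snd w g) sq
    obtain ⟨V, snd, fst', sq'⟩ := hsnd.rep (𝟙 ((AlgSp.yon S).obj U))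
    refine ⟨V, snd, fst' ≫ pullback.fst w g, ?_⟩
    have h := sq'.paste_horiz sq
    rwa [Category.id_comp] at h
  · intro U V g fst snd sq
    obtain ⟨-, hsnd⟩ := hrep' g fst ((AlgSp.yon S).map snd) sq
    exact (AlgSp.repWith_yon_map_iff Q snd).1 hsnd

theorem goodP_repWith [Q.IsMultiplicative] : GoodP (AlgSp.RepWith (S := S) Q) :=
  ⟨fun _ _ _ _ _ _ _ _ _ _ _ _ sq ha => repWith_snd_of_isPullback sq ha,
    fun _ _ _ _ _ _ a b ha hb => (AlgSp.RepWith (S := S) Q).comp_mem a b ha hb,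
    descendsP_repWith Q⟩

end repwith

theorem goodP_mono : GoodP (MorphismProperty.monomorphisms (AlgSp.Sp S)) :=
  goodP_of_fppf _
    (fun _ _ _ _ _ _ _ _ _ _ _ _ sq ha =>
      MorphismProperty.of_isPullback (P := MorphismProperty.monomorphisms (AlgSp.Sp S)) sq ha)
    (fun _ _ _ _ _ _ a b ha hb => (MorphismProperty.monomorphisms (AlgSp.Sp S)).comp_mem a b ha hb)
    (isLocalOnBase_fppf_of_fpqc (Groth.Agent.S10546.result S))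

section stk

variable {𝒳 𝒴 𝒵 : AlgSt.Cat S}

theorem repByAlgSpWith_comp_goodP {P : MorphismProperty (AlgSp.Sp S)} (hP : GoodP P)
    (h𝒳 : FibCat.IsFibGrpd 𝒳.p) (h𝒴 : FibCat.IsFibGrpd 𝒴.p)
    (f : 𝒳 ⥤ᵇ 𝒴) (g : 𝒴 ⥤ᵇ 𝒵) (hf : AlgSt.RepByAlgSpWith P f)
    (hg : AlgSt.RepByAlgSpWith P g) : AlgSt.RepByAlgSpWith P (BasedFunctor.comp f g) :=
  repByAlgSpWith_comp' h𝒳 h𝒴 P hP.cancelIso hP.comp hP.descends f g hf hg

theorem isMono_comp (h𝒳 : FibCat.IsFibGrpd 𝒳.p) (h𝒴 : FibCat.IsFibGrpd 𝒴.p)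
    (f : 𝒳 ⥤ᵇ 𝒴) (g : 𝒴 ⥤ᵇ 𝒵) (hf : AlgSt.IsMono f) (hg : AlgSt.IsMono g) :
    AlgSt.IsMono (BasedFunctor.comp f g) :=
  repByAlgSpWith_comp_goodP goodP_mono h𝒳 h𝒴 f g hf hg

theorem isImm_comp (h𝒳 : FibCat.IsFibGrpd 𝒳.p) (h𝒴 : FibCat.IsFibGrpd 𝒴.p)
    (f : 𝒳 ⥤ᵇ 𝒴) (g : 𝒴 ⥤ᵇ 𝒵) (hf : AlgSt.IsImm f) (hg : AlgSt.IsImm g) :
    AlgSt.IsImm (BasedFunctor.comp f g) :=
  repByAlgSpWith_comp_goodP (goodP_repWith @IsImmersion) h𝒳 h𝒴 f g hf hg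

theorem isOpenImm_comp (h𝒳 : FibCat.IsFibGrpd 𝒳.p) (h𝒴 : FibCat.IsFibGrpd 𝒴.p)
    (f : 𝒳 ⥤ᵇ 𝒴) (g : 𝒴 ⥤ᵇ 𝒵) (hf : AlgSt.IsOpenImm f) (hg : AlgSt.IsOpenImm g) :
    AlgSt.IsOpenImm (BasedFunctor.comp f g) :=
  repByAlgSpWith_comp_goodP (goodP_repWith @IsOpenImmersion) h𝒳 h𝒴 f g hf hg

theorem isClosedImm_comp (h𝒳 : FibCat.IsFibGrpd 𝒳.p) (h𝒴 : FibCat.IsFibGrpd 𝒴.p)
    (f : 𝒳 ⥤ᵇ 𝒴) (g : 𝒴 ⥤ᵇ 𝒵) (hf : AlgSt.IsClosedImm f) (hg : AlgSt.IsClosedImm g) :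
    AlgSt.IsClosedImm (BasedFunctor.comp f g) :=
  repByAlgSpWith_comp_goodP (goodP_repWith @IsClosedImmersion) h𝒳 h𝒴 f g hf hg

theorem isMono_of_isImm (f : 𝒳 ⥤ᵇ 𝒴) (hf : AlgSt.IsImm f) : AlgSt.IsMono f :=
  repByAlgSpWith_mono (fun _ _ a ha =>
    mono_of_repWith @IsImmersion (fun g hg => by
      haveI : IsImmersion g := hg
      infer_instance) a ha) f hf

end stk

end Groth.Agent.H28.RepComp
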