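import Mathlib
import Groth.Agent.H28.RepMore
import Groth.Agent.S12790

/-!
# Products of representable morphisms; base change to algebraic spaces
-/

set_option autoImplicit false
set_option linter.style.haveILetI false
set_option backward.isDefEq.respectTransparency false
set_option backward.isDefEq.respectTransparency.types false

namespace Groth.Agent.H28.RepComp

open CategoryTheory CategoryTheory.Limits FibCat AlgebraicGeometry Opposite Stk MorphismProperty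
open Groth.Agent.Helper22 Groth.Agent.Helper22.EquivComp Groth.Agent.Helper22.FpSq
open Groth.Agent.Helper22.FpEquiv Groth.Agent.H28.LiftFp
open Groth.Agent.H28.FpBase Groth.Agent.H28.PshDict Groth.Agent.H28.IsoCl
open Groth.Agent.H25.AS Groth.Agent.S12790aux

universe u

variable {S : Scheme.{u}}

section prod

variable {𝒳₁ 𝒳₂ 𝒴₁ 𝒴₂ : AlgSt.Cat S}

theorem repByAlgSpWith_prodMap (h𝒳₂ : FibCat.IsFibGrpd 𝒳₂.p) (h𝒴₂ : FibCat.IsFibGrpd 𝒴₂.p)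
    {P : MorphismProperty (AlgSp.Sp S)} (hP : GoodP P)
    (f₁ : 𝒳₁ ⥤ᵇ 𝒴₁) (f₂ : 𝒳₂ ⥤ᵇ 𝒴₂) (hf₁ : AlgSt.RepByAlgSpWith P f₁)
    (hf₂ : AlgSt.RepByAlgSpWith P f₂)
    (e : BasedFunctor.comp (BasedFunctor.comp
        (FibCat.fpFst (FibCat.toSelf 𝒳₁) (FibCat.toSelf 𝒳₂)) f₁) (FibCat.toSelf 𝒴₁) ≅
      BasedFunctor.comp (BasedFunctor.comp
        (FibCat.fpSnd (FibCat.toSelf 𝒳₁) (FibCat.toSelf 𝒳₂)) f₂) (FibCat.toSelf 𝒴₂)) :
    AlgSt.RepByAlgSpWith P (FibCat.fpLift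
      (BasedFunctor.comp (FibCat.fpFst (FibCat.toSelf 𝒳₁) (FibCat.toSelf 𝒳₂)) f₁)
      (BasedFunctor.comp (FibCat.fpSnd (FibCat.toSelf 𝒳₁) (FibCat.toSelf 𝒳₂)) f₂) e) := by
  intro U y
  obtain ⟨A, eA, heA, hPA⟩ := hf₁ U (y₁ y)
  let Y₂' : AlgSt.ofSp A.obj ⥤ᵇ 𝒴₂ := BasedFunctor.comp eA (Y₂ f₁ y)
  obtain ⟨W, w₀, Ew, hEw, ⟨κ⟩, hrep⟩ := boot P hP.cancelIso h𝒳₂ h𝒴₂ f₂ hf₂ A.obj.obj Y₂'
  obtain ⟨hWs, hWa⟩ := Groth.Agent.H28.RepBySp.isAlgSpaceP_of_repBySp w₀ hrep.repBySp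
    ((AlgSp.isAlgSpaceP_obj_iff _).2 A.property)
  let F' : AlgSp.Space S := ⟨⟨W, hWs⟩, hWa⟩
  let w : F'.obj ⟶ A.obj := ObjectProperty.homMk w₀
  have hPw : P w := hP.descends w hWa A.property hrep
  let pre : FibCat.fp Y₂' f₂ ⥤ᵇ FibCat.fp (Y₂ f₁ y) f₂ := fpPre eA (Y₂ f₁ y) f₂
  have hpre : FibCat.IsEquivOver pre := isEquivOver_fpPre eA (Y₂ f₁ y) f₂ heA
  let e' : AlgSt.ofSp F'.obj ⥤ᵇ FibCat.fp y (PP f₁ f₂ e) :=
    BasedFunctor.comp (BasedFunctor.comp Ew pre) (Ξ f₁ f₂ e y)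
  have he' : FibCat.IsEquivOver e' :=
    isEquivOver_comp _ _ (isEquivOver_comp _ _ hEw hpre) (isEquivOver_Ξ f₁ f₂ e y)
  refine ⟨F', e', he', ?_⟩
  have α : BasedFunctor.comp e' (FibCat.fpFst y (PP f₁ f₂ e)) ≅
      BasedFunctor.comp (AlgSt.ofSpMap w) (BasedFunctor.comp eA (FibCat.fpFst (y₁ y) f₁)) :=
    whiskerRightIso κ (BasedFunctor.comp eA (FibCat.fpFst (y₁ y) f₁))
  rw [spMapOfOver_congr α.hom, spMapOfOver_ofSpMap_comp]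
  exact hP.comp hWa A.property (AlgSp.IsAlgSpace.yon_obj U) w _ hPw hPA

end prod

section space

variable {𝒳 𝒴 : AlgSt.Cat S}

theorem spMapOfOver_toOverCat (U : Over S) :
    AlgSt.spMapOfOver (AlgSt.toOverCat U) = 𝟙 ((AlgSp.yon S).obj U) := by
  apply ObjectProperty.hom_ext
  ext T x
  apply ULift.ext
  show AlgSt.secHom (AlgSt.toOverCat U) ⟨T.unop, x⟩ = x.down
  simp only [AlgSt.secHom]
  exact Category.id_comp _

theorem repByAlgSpWith_iff_space (h𝒳 : FibCat.IsFibGrpd 𝒳.p) (h𝒴 : FibCat.IsFibGrpd 𝒴.p)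
    (P : MorphismProperty (AlgSp.Sp S)) (hPiso : CancelIso P) (hD : DescendsP P)
    (f : 𝒳 ⥤ᵇ 𝒴) :
    AlgSt.RepByAlgSpWith P f ↔
      ∀ (Z : AlgSp.Space S) (z : AlgSt.ofSp Z.obj ⥤ᵇ 𝒴),
        ∃ (V : AlgSp.Space S) (a : V ⟶ Z) (e : AlgSt.ofSp V.obj ⥤ᵇ FibCat.fp z f),
          FibCat.IsEquivOver e ∧
            Nonempty (BasedFunctor.comp e (FibCat.fpFst z f) ≅ AlgSt.ofSpMap a.hom) ∧
            P a.hom := by
  constructor
  · intro hf Z z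
    obtain ⟨W, w₀, Ew, hEw, ⟨κ⟩, hrep⟩ := boot P hPiso h𝒳 h𝒴 f hf Z.obj.obj z
    obtain ⟨hWs, hWa⟩ := Groth.Agent.H28.RepBySp.isAlgSpaceP_of_repBySp w₀ hrep.repBySp
      ((AlgSp.isAlgSpaceP_obj_iff _).2 Z.property)
    let V : AlgSp.Space S := ⟨⟨W, hWs⟩, hWa⟩
    let w : V.obj ⟶ Z.obj := ObjectProperty.homMk w₀
    exact ⟨V, ObjectProperty.homMk w, Ew, hEw, ⟨κ⟩, hD w hWa Z.property hrep⟩
  · intro h U y
    obtain ⟨V, a, e, he, ⟨κ⟩, hPa⟩ := h ⟨(AlgSp.yon S).obj U, AlgSp.IsAlgSpace.yon_obj U⟩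
      (BasedFunctor.comp (AlgSt.toOverCat U) y)
    refine ⟨V, BasedFunctor.comp e (fpPre (AlgSt.toOverCat U) y f),
      isEquivOver_comp _ _ he (isEquivOver_fpPre (AlgSt.toOverCat U) y f
        (Groth.Agent.H28.DiagRep.isEquivOver_toOverCat U)), ?_⟩
    have α : BasedFunctor.comp (BasedFunctor.comp e (fpPre (AlgSt.toOverCat U) y f))
        (FibCat.fpFst y f) ≅ BasedFunctor.comp (AlgSt.ofSpMap a.hom) (AlgSt.toOverCat U) :=
      whiskerRightIso κ (AlgSt.toOverCat U)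
    rw [spMapOfOver_congr α.hom, spMapOfOver_ofSpMap_comp, spMapOfOver_toOverCat,
      Category.comp_id]
    exact hPa

end space

end Groth.Agent.H28.RepComp
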