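import Mathlib
import Groth.Agent.H28.RepProd

/-!
# Descent of properties of representable morphisms along fppf covers
-/

set_option autoImplicit false
set_option linter.style.haveILetI false
set_option backward.isDefEq.respectTransparency false
set_option backward.isDefEq.respectTransparency.types false

namespace Groth.Agent.H28.RepComp

open CategoryTheory CategoryTheory.Limits FibCat AlgebraicGeometry Opposite Stk MorphismProperty
open Groth.Agent.Helper22 Groth.Agent.Helper22.EquivComp Groth.Agent.Helper22.FpSq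
open Groth.Agent.Helper22.FpEquiv Groth.Agent.H28.LiftFp
open Groth.Agent.H28.FpBase Groth.Agent.H28.PshDict Groth.Agent.H28.IsoCl
open Groth.Agent.H25.AS

universe u

variable {S : Scheme.{u}}

section aux

/-- a functor to a slice is the functor of its map of sheaves -/
noncomputable def toOverCatIso {G : AlgSp.Sp S} {U : Over S}
    (Φ : AlgSt.ofSp G ⥤ᵇ FibCat.overCat U) :
    Φ ≅ BasedFunctor.comp (AlgSt.ofSpMap (AlgSt.spMapOfOver Φ)) (AlgSt.toOverCat U) := by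
  have h : AlgSt.ofSpMap (AlgSt.spMapOfOver Φ) =
      Stk.ofPshMap (pshMapOf (BasedFunctor.comp Φ (AlgSt.ofOverCat U))) :=
    congrArg (fun k => Stk.ofPshMap k) (spMapOfOver_hom_eq Φ)
  rw [h]
  exact (whiskerRightIso (ofPshMapIso (BasedFunctor.comp Φ (AlgSt.ofOverCat U)))
    (AlgSt.toOverCat U)).symm

variable {𝒳 𝒴 : AlgSt.Cat S}

/-- the property holds for every representing space -/
theorem repByAlgSpWith_any {P : MorphismProperty (AlgSp.Sp S)} (hPiso : CancelIso P)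
    (f : 𝒳 ⥤ᵇ 𝒴) (hf : AlgSt.RepByAlgSpWith P f) {U : Over S} (y : FibCat.overCat U ⥤ᵇ 𝒴)
    (F' : AlgSp.Space S) (e' : AlgSt.ofSp F'.obj ⥤ᵇ FibCat.fp y f)
    (he' : FibCat.IsEquivOver e') :
    P (AlgSt.spMapOfOver (BasedFunctor.comp e' (FibCat.fpFst y f))) := by
  obtain ⟨F, e, he, hPγ⟩ := hf U y
  obtain ⟨eI, ⟨β₁⟩, ⟨β₂⟩⟩ := id he
  let Θ : AlgSt.ofSp F'.obj ⥤ᵇ AlgSt.ofSp F.obj := BasedFunctor.comp e' eI
  have hΘ : FibCat.IsEquivOver Θ := isEquivOver_comp _ _ he' ⟨e, ⟨β₂⟩, ⟨β₁⟩⟩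
  haveI hiso : IsIso (pshMapOf Θ) := isIso_pshMapOf Θ hΘ
  let θ : F'.obj.obj ≅ F.obj.obj := asIso (pshMapOf Θ)
  let θ' : F'.obj ≅ F.obj :=
    (fullyFaithfulSheafToPresheaf (AlgSp.J S) _).preimageIso (X := F'.obj) (Y := F.obj) θ
  have α : BasedFunctor.comp (AlgSt.ofSpMap θ'.hom)
      (BasedFunctor.comp e (FibCat.fpFst y f)) ≅ BasedFunctor.comp e' (FibCat.fpFst y f) :=
    whiskerRightIso (ofPshMapIso Θ) (BasedFunctor.comp e (FibCat.fpFst y f)) ≪≫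
      whiskerLeftIso e' (whiskerRightIso β₂ (FibCat.fpFst y f))
  rw [← spMapOfOver_congr α.hom, spMapOfOver_ofSpMap_comp]
  exact hPiso.precomp F'.property F.property (AlgSp.IsAlgSpace.yon_obj U) θ' _ hPγ

end aux

section pd

variable {𝒳 𝒴 : AlgSt.Cat S}

/-- the functor between slices attached to a map of representable sheaves -/
def sliceFun {T' U : Over S} (q : (AlgSp.yon S).obj T' ⟶ (AlgSp.yon S).obj U) :
    FibCat.overCat T' ⥤ᵇ FibCat.overCat U :=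
  BasedFunctor.comp (AlgSt.ofOverCat T') (BasedFunctor.comp (AlgSt.ofSpMap q) (AlgSt.toOverCat U))

/-- pointwise descent along a one-element fppf covering by a scheme -/
theorem descent_pt (P : MorphismProperty (AlgSp.Sp S)) (hPiso : CancelIso P)
    (hP : AlgSp.IsLocalOnBase AlgSp.IsFppfCover P)
    (f : 𝒳 ⥤ᵇ 𝒴) {U : Over S} (y : FibCat.overCat U ⥤ᵇ 𝒴)
    (F : AlgSp.Space S) (e : AlgSt.ofSp F.obj ⥤ᵇ FibCat.fp y f) (he : FibCat.IsEquivOver e)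
    {T' : Over S} (q : (AlgSp.yon S).obj T' ⟶ (AlgSp.yon S).obj U)
    (hq : AlgSp.IsFppfCover (fun _ : PUnit.{u + 1} => (AlgSp.yon S).obj T') (fun _ => q))
    (F' : AlgSp.Space S)
    (e' : AlgSt.ofSp F'.obj ⥤ᵇ FibCat.fp (BasedFunctor.comp (sliceFun q) y) f)
    (he' : FibCat.IsEquivOver e')
    (hP' : P (AlgSt.spMapOfOver
      (BasedFunctor.comp e' (FibCat.fpFst (BasedFunctor.comp (sliceFun q) y) f)))) :
    P (AlgSt.spMapOfOver (BasedFunctor.comp e (FibCat.fpFst y f))) := by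
  obtain ⟨eI, ⟨β₁⟩, ⟨β₂⟩⟩ := id he
  let Φ : AlgSt.ofSp F.obj ⥤ᵇ FibCat.overCat U := BasedFunctor.comp e (FibCat.fpFst y f)
  let γ : F.obj ⟶ (AlgSp.yon S).obj U := AlgSt.spMapOfOver Φ
  let f' : FibCat.fp y f ⥤ᵇ AlgSt.ofSch U :=
    BasedFunctor.comp (FibCat.fpFst y f) (AlgSt.ofOverCat U)
  have κ₀ : Stk.ofPshMap γ.hom ≅ BasedFunctor.comp e f' := by
    have h : Stk.ofPshMap γ.hom =
        Stk.ofPshMap (pshMapOf (BasedFunctor.comp Φ (AlgSt.ofOverCat U))) :=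
      congrArg (fun k => Stk.ofPshMap k) (spMapOfOver_hom_eq Φ)
    rw [h]
    exact ofPshMapIso (BasedFunctor.comp Φ (AlgSt.ofOverCat U))
  have ε₀ : f' ≅ BasedFunctor.comp eI (Stk.ofPshMap γ.hom) :=
    (whiskerRightIso β₂ f').symm ≪≫ whiskerLeftIso eI κ₀.symm
  let t₀ : FibCat.overCat T' ⥤ᵇ FibCat.overCat U := sliceFun q
  let t : FibCat.overCat T' ⥤ᵇ AlgSt.ofSch U :=
    BasedFunctor.comp (AlgSt.ofOverCat T') (Stk.ofPshMap q.hom : AlgSt.ofSch T' ⥤ᵇ AlgSt.ofSch U)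
  let s2 : FibCat.fp t₀ (FibCat.fpFst y f) ⥤ᵇ FibCat.fp t f' :=
    sqFun t f' t₀ (FibCat.fpFst y f) (BasedFunctor.id _) (AlgSt.ofOverCat U) (Iso.refl _)
      (Iso.refl _)
  have hs2 : FibCat.IsEquivOver s2 :=
    isEquivOver_sqFun t f' t₀ (FibCat.fpFst y f) (BasedFunctor.id _) (AlgSt.ofOverCat U)
      (Iso.refl _) (Iso.refl _) isEquivOver_id (isEquivOver_ofOverCat U)
  let e_U : AlgSt.ofSp F'.obj ⥤ᵇ FibCat.fp t f' :=
    BasedFunctor.comp e' (BasedFunctor.comp (fpBase t₀ y f) s2)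
  have he_U : FibCat.IsEquivOver e_U :=
    isEquivOver_comp _ _ he' (isEquivOver_comp _ _ (isEquivOver_fpBase t₀ y f) hs2)
  have sq := IsPullback.of_hasPullback γ q
  have sq' : IsPullback (pullback.fst γ q).hom (pullback.snd γ q).hom γ.hom q.hom :=
    sq.map (sheafToPresheaf (AlgSp.J S) (Type (u + 1)))
  obtain ⟨h, hA, hPs⟩ := repBySpWith_pt γ.hom f' eI P hPiso ⟨e, ⟨β₂⟩, ⟨β₁⟩⟩ ε₀ q.hom
    ⟨F', e_U, he_U, hP'⟩ (pullback.fst γ q).hom (pullback.snd γ q).hom sq'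
  exact (hP (fun _ : PUnit.{u + 1} => (AlgSp.yon S).obj T') (fun _ => q)
    (AlgSp.IsAlgSpace.yon_obj U) (fun _ => AlgSp.IsAlgSpace.yon_obj T') hq γ F.property
    (fun _ => pullback γ q) (fun _ => pullback.snd γ q) (fun _ => pullback.fst γ q)
    (fun _ => hA) (fun _ => sq)).2 (fun _ => hPs)

end pd

end Groth.Agent.H28.RepComp

namespace Groth.Agent.H28.RepComp

open CategoryTheory CategoryTheory.Limits FibCat AlgebraicGeometry Opposite Stk MorphismProperty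
open Groth.Agent.Helper22 Groth.Agent.Helper22.EquivComp Groth.Agent.Helper22.FpSq
open Groth.Agent.Helper22.FpEquiv Groth.Agent.H28.LiftFp
open Groth.Agent.H28.FpBase Groth.Agent.H28.PshDict Groth.Agent.H28.IsoCl
open Groth.Agent.H25.AS

universe u

variable {S : Scheme.{u}}

theorem cancelIso_isSurjectiveMor : CancelIso (AlgSp.IsSurjectiveMor (S := S)) := by
  intro X Y Z _ _ _ e g h z
  obtain ⟨x, hx⟩ := h z
  exact ⟨AlgSp.Points.map e.hom x, by rw [← AlgSp.Points.map_comp]; exact hx⟩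

theorem isFppfCover_atlas_comp {V : AlgSp.Sp S} (hV : AlgSp.IsAlgSpace V) {U T' : Over S}
    (γV : V ⟶ (AlgSp.yon S).obj U) (hflat : AlgSp.LocP @Flat γV)
    (hlfp : AlgSp.LocP @LocallyOfFinitePresentation γV) (hsurj : AlgSp.IsSurjectiveMor γV)
    (aV : (AlgSp.yon S).obj T' ⟶ V) (hae : AlgSp.RepWith @Etale aV)
    (has : AlgSp.RepWith @Surjective aV) :
    AlgSp.IsFppfCover (fun _ : PUnit.{u + 1} => (AlgSp.yon S).obj T') (fun _ => aV ≫ γV) := by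
  have h0 : AlgSp.IsFppfCover (fun _ : PUnit.{u + 1} => (AlgSp.yon S).obj T') (fun _ => aV) :=
    isFppfCover_of_etale_charts (fun _ : PUnit.{u + 1} => T') (fun _ => aV) (fun _ => hae)
      (fun y => by
        obtain ⟨v, hv⟩ := ofPt_surjective aV has y
        exact ⟨PUnit.unit, v, hv⟩)
  have hT' := AlgSp.IsAlgSpace.yon_obj T'
  have hU := AlgSp.IsAlgSpace.yon_obj U
  refine ⟨fun _ => ⟨locP_comp etLoc_flat hT' hV hU aV γV (h0.1 PUnit.unit).1 hflat,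
    locP_comp etLoc_locallyOfFinitePresentation hT' hV hU aV γV (h0.1 PUnit.unit).2 hlfp⟩, ?_⟩
  intro x
  obtain ⟨v, hv⟩ := hsurj x
  obtain ⟨i, t, ht⟩ := h0.2 v
  exact ⟨i, t, by rw [AlgSp.Points.map_comp, ht, hv]⟩

section descent

variable {𝒳 𝒴 𝒵 : AlgSt.Cat S}

theorem repByAlgSpWith_of_fpFst_cover (P : MorphismProperty (AlgSp.Sp S)) (hPiso : CancelIso P)
    (hP : AlgSp.IsLocalOnBase AlgSp.IsFppfCover P)
    (f : 𝒳 ⥤ᵇ 𝒴) (hf : AlgSt.RepByAlgSp1 f) (z : 𝒵 ⥤ᵇ 𝒴)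
    (hz₁ : AlgSt.RepByAlgSpWith (AlgSp.LocP @Flat) z)
    (hz₂ : AlgSt.RepByAlgSpWith (AlgSp.LocP @LocallyOfFinitePresentation) z)
    (hz₃ : AlgSt.RepByAlgSpWith AlgSp.IsSurjectiveMor z)
    (h' : AlgSt.RepByAlgSpWith P (FibCat.fpFst z f)) : AlgSt.RepByAlgSpWith P f := by
  intro U y
  obtain ⟨F, e, he⟩ := hf U y
  refine ⟨F, e, he, ?_⟩
  obtain ⟨V₁, eV, heV, hflat⟩ := hz₁ U y
  have hlfp := repByAlgSpWith_any (goodP_locP etLoc_locallyOfFinitePresentation).cancelIso z hz₂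
    y V₁ eV heV
  have hsurj := repByAlgSpWith_any cancelIso_isSurjectiveMor z hz₃ y V₁ eV heV
  let γV : V₁.obj ⟶ (AlgSp.yon S).obj U :=
    AlgSt.spMapOfOver (BasedFunctor.comp eV (FibCat.fpFst y z))
  obtain ⟨T', aV, hae, has⟩ := V₁.property.atlas
  let q : (AlgSp.yon S).obj T' ⟶ (AlgSp.yon S).obj U := aV ≫ γV
  have hcov : AlgSp.IsFppfCover (fun _ : PUnit.{u + 1} => (AlgSp.yon S).obj T') (fun _ => q) :=
    isFppfCover_atlas_comp V₁.property γV hflat hlfp hsurj aV hae has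
  let τ : FibCat.overCat T' ⥤ᵇ 𝒵 :=
    BasedFunctor.comp (AlgSt.ofOverCat T')
      (BasedFunctor.comp (AlgSt.ofSpMap aV) (BasedFunctor.comp eV (FibCat.fpSnd y z)))
  obtain ⟨F', e'', he'', hP''⟩ := h' T' τ
  have lam : BasedFunctor.comp eV (FibCat.fpFst y z) ≅
      BasedFunctor.comp (AlgSt.ofSpMap γV) (AlgSt.toOverCat U) := toOverCatIso _
  have ι' : BasedFunctor.comp τ z ≅ BasedFunctor.comp (sliceFun q) y :=
    whiskerLeftIso (BasedFunctor.comp (AlgSt.ofOverCat T') (AlgSt.ofSpMap aV))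
      (whiskerLeftIso eV (FibCat.fpIso y z).symm ≪≫ whiskerRightIso lam y)
  obtain ⟨Qb, ⟨σ₁⟩, ⟨σ₂⟩⟩ := id (isEquivOver_fpBase τ z f)
  let s1 : FibCat.fp (BasedFunctor.comp τ z) f ⥤ᵇ FibCat.fp (BasedFunctor.comp (sliceFun q) y) f :=
    sqFun (BasedFunctor.comp (sliceFun q) y) f (BasedFunctor.comp τ z) f (BasedFunctor.id _)
      (BasedFunctor.id _) ι' (Iso.refl _)
  have hs1 : FibCat.IsEquivOver s1 :=
    isEquivOver_sqFun (BasedFunctor.comp (sliceFun q) y) f (BasedFunctor.comp τ z) f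
      (BasedFunctor.id _) (BasedFunctor.id _) ι' (Iso.refl _) isEquivOver_id isEquivOver_id
  let e' : AlgSt.ofSp F'.obj ⥤ᵇ FibCat.fp (BasedFunctor.comp (sliceFun q) y) f :=
    BasedFunctor.comp e'' (BasedFunctor.comp Qb s1)
  have he' : FibCat.IsEquivOver e' :=
    isEquivOver_comp _ _ he'' (isEquivOver_comp _ _ ⟨_, ⟨σ₂⟩, ⟨σ₁⟩⟩ hs1)
  have α : BasedFunctor.comp e' (FibCat.fpFst (BasedFunctor.comp (sliceFun q) y) f) ≅
      BasedFunctor.comp e'' (FibCat.fpFst τ (FibCat.fpFst z f)) :=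
    whiskerLeftIso e'' (whiskerRightIso σ₂ (FibCat.fpFst τ (FibCat.fpFst z f)))
  have hP' : P (AlgSt.spMapOfOver
      (BasedFunctor.comp e' (FibCat.fpFst (BasedFunctor.comp (sliceFun q) y) f))) := by
    rw [spMapOfOver_congr α.hom]
    exact hP''
  exact descent_pt P hPiso hP f y F e he q hcov F' e' he' hP'

theorem repByAlgSpWith_iff_fpFst_cover (P : MorphismProperty (AlgSp.Sp S)) (hPiso : CancelIso P)
    (hP : AlgSp.IsLocalOnBase AlgSp.IsFppfCover P)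
    (f : 𝒳 ⥤ᵇ 𝒴) (hf : AlgSt.RepByAlgSp1 f) (z : 𝒵 ⥤ᵇ 𝒴)
    (hz₁ : AlgSt.RepByAlgSpWith (AlgSp.LocP @Flat) z)
    (hz₂ : AlgSt.RepByAlgSpWith (AlgSp.LocP @LocallyOfFinitePresentation) z)
    (hz₃ : AlgSt.RepByAlgSpWith AlgSp.IsSurjectiveMor z) :
    AlgSt.RepByAlgSpWith P f ↔ AlgSt.RepByAlgSpWith P (FibCat.fpFst z f) :=
  ⟨fun h => repByAlgSpWith_fpFst P f z h,
    repByAlgSpWith_of_fpFst_cover P hPiso hP f hf z hz₁ hz₂ hz₃⟩

theorem repByAlgSpWith_iff_space_cover (h𝒳 : FibCat.IsFibGrpd 𝒳.p) (h𝒴 : FibCat.IsFibGrpd 𝒴.p)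
    (P : MorphismProperty (AlgSp.Sp S)) (hPb : BaseChangeP P)
    (hP : AlgSp.IsLocalOnBase AlgSp.IsFppfCover P)
    (f : 𝒳 ⥤ᵇ 𝒴) (hf : AlgSt.RepByAlgSp1 f) (W : AlgSp.Space S) (w : AlgSt.ofSp W.obj ⥤ᵇ 𝒴)
    (hw₁ : AlgSt.RepByAlgSpWith (AlgSp.LocP @Flat) w)
    (hw₂ : AlgSt.RepByAlgSpWith (AlgSp.LocP @LocallyOfFinitePresentation) w)
    (hw₃ : AlgSt.RepByAlgSpWith AlgSp.IsSurjectiveMor w) :
    AlgSt.RepByAlgSpWith P f ↔
      ∃ (V : AlgSp.Space S) (a : V ⟶ W) (e : AlgSt.ofSp V.obj ⥤ᵇ FibCat.fp w f),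
        FibCat.IsEquivOver e ∧
          Nonempty (BasedFunctor.comp e (FibCat.fpFst w f) ≅ AlgSt.ofSpMap a.hom) ∧ P a.hom := by
  have hPiso : CancelIso P := cancelIso_of_baseChange P hPb
  constructor
  · intro h
    exact (repByAlgSpWith_iff_space h𝒳 h𝒴 P hPiso (descendsP_of_fppf P hP) f).1 h W w
  · rintro ⟨V, a, e, he, ⟨κ⟩, hPa⟩
    have hrep : AlgSp.RepBySpWith P a.hom.hom :=
      repBySpWith_of_P hPb V.property W.property a.hom hPa
    have h1 : AlgSt.RepByAlgSpWith P (Stk.ofPshMap a.hom.hom) :=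
      repByAlgSpWith_of_repBySpWith a.hom.hom P hrep
    have h2 : AlgSt.RepByAlgSpWith P (FibCat.fpFst w f) :=
      repByAlgSpWith_of_sq P (FibCat.fpFst w f) (Stk.ofPshMap a.hom.hom) e (BasedFunctor.id _) he
        isEquivOver_id κ.symm h1
    exact repByAlgSpWith_of_fpFst_cover P hPiso hP f hf w hw₁ hw₂ hw₃ h2

end descent

end Groth.Agent.H28.RepComp
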