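import Mathlib
import Groth.Agent.H28.Descent
import Groth.Agent.H28.FpProdDiag
import Groth.Agent.H28.RepProd
import Groth.Agent.H28.RepCancel2
import Groth.Agent.H28.RepDict2

/-!
# The diagonal over the base of a stack with a cover by an algebraic space
-/

set_option autoImplicit false
set_option linter.style.haveILetI false
set_option backward.isDefEq.respectTransparency false
set_option backward.isDefEq.respectTransparency.types false

namespace Groth.Agent.H28.RepComp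

open CategoryTheory CategoryTheory.Limits FibCat AlgebraicGeometry Opposite Stk MorphismProperty
open Groth.Agent.Helper22 Groth.Agent.Helper22.EquivComp Groth.Agent.Helper22.FpSq
open Groth.Agent.Helper22.FpEquiv Groth.Agent.H28.LiftFp
open Groth.Agent.H28.FpBase Groth.Agent.H28.PshDict Groth.Agent.H28.IsoCl
open Groth.Agent.H25.AS

universe v u

variable {S : Scheme.{u}}

section surj

theorem descendsP_surj : DescendsP (AlgSp.IsSurjectiveMor (S := S)) := by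
  intro W G' w hW hG' hrep
  obtain ⟨V, p, hpe, hps⟩ := hG'.atlas
  have sq := IsPullback.of_hasPullback w p
  have sq' : IsPullback (pullback.fst w p).hom (pullback.snd w p).hom w.hom p.hom :=
    sq.map (sheafToPresheaf (AlgSp.J S) (Type (u + 1)))
  obtain ⟨h, hA, hPs⟩ := hrep p.hom (pullback.fst w p).hom (pullback.snd w p).hom sq'
  have hPs' : AlgSp.IsSurjectiveMor (pullback.snd w p) := hPs
  have hp : AlgSp.IsSurjectiveMor p := isSurjectiveMor_of_repWith p hps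
  intro y
  obtain ⟨v, rfl⟩ := hp y
  obtain ⟨x, rfl⟩ := hPs' v
  refine ⟨AlgSp.Points.map (pullback.fst w p) x, ?_⟩
  rw [← AlgSp.Points.map_comp, ← AlgSp.Points.map_comp, sq.w]

theorem goodP_surj : GoodP (AlgSp.IsSurjectiveMor (S := S)) :=
  ⟨fun _ _ _ _ _ _ _ _ _ _ _ _ sq ha => isSurjectiveMor_of_isPullback sq ha,
    fun _ _ _ _ _ _ a b ha hb z => by
      obtain ⟨y, rfl⟩ := hb z
      obtain ⟨x, rfl⟩ := ha y
      exact ⟨x, AlgSp.Points.map_comp a b x⟩,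
    descendsP_surj⟩

end surj

section selfrep

theorem repByAlgSp_selfOver : AlgSt.RepByAlgSp (FibCat.selfOver (Over S)) := by
  let T : Over S := Over.mk (𝟙 S)
  let F : FibCat.overCat T ⥤ᵇ FibCat.selfOver (Over S) := FibCat.toSelf (FibCat.overCat T)
  haveI : F.toFunctor.Faithful := ⟨fun {X X'} m m' h => Over.OverMorphism.ext h⟩
  haveI : F.toFunctor.Full :=
    ⟨fun {X X'} n => ⟨Over.homMk n (Over.mkIdTerminal.hom_ext _ _), rfl⟩⟩
  have hF : FibCat.IsEquivOver F := by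
    apply FibLift.isEquivOver_of_ff
    intro η
    exact ⟨Over.mk (Over.mkIdTerminal.from η), Iso.refl _, IsHomLift.id rfl⟩
  exact ⟨⟨(AlgSp.yon S).obj T, AlgSp.IsAlgSpace.yon_obj T⟩,
    BasedFunctor.comp (AlgSt.toOverCat T) F,
    isEquivOver_comp _ _ (Groth.Agent.H28.DiagRep.isEquivOver_toOverCat T) hF⟩

theorem repByAlgSp1_toSelf_of_rep {𝒲 : AlgSt.Cat S} (h : AlgSt.RepByAlgSp 𝒲) :
    AlgSt.RepByAlgSp1 (FibCat.toSelf 𝒲) :=
  repByAlgSp1_of_repByAlgSp h repByAlgSp_selfOver _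

end selfrep

section main

variable {𝒲 𝒳 : AlgSt.Cat S}

theorem prodMap_gen (h𝒲 : FibCat.IsFibGrpd 𝒲.p) (h𝒳 : FibCat.IsFibGrpd 𝒳.p)
    {P : MorphismProperty (AlgSp.Sp S)} (hP : GoodP P) (w : 𝒲 ⥤ᵇ 𝒳)
    (hw : AlgSt.RepByAlgSpWith P w) (s : 𝒲 ⥤ᵇ FibCat.selfOver (Over S))
    (hs : FibCat.toSelf 𝒲 = s)
    (e : BasedFunctor.comp (BasedFunctor.comp (FibCat.fpFst s s) w) (FibCat.toSelf 𝒳) ≅
      BasedFunctor.comp (BasedFunctor.comp (FibCat.fpSnd s s) w) (FibCat.toSelf 𝒳)) :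
    AlgSt.RepByAlgSpWith P (FibCat.fpLift (BasedFunctor.comp (FibCat.fpFst s s) w)
      (BasedFunctor.comp (FibCat.fpSnd s s) w) e) := by
  subst hs
  exact repByAlgSpWith_prodMap h𝒲 h𝒳 hP w w hw hw e

theorem repByAlgSpWith_diag_toSelf_of_cover {Q : MorphismProperty Scheme.{u}} (hQ : EtLoc Q)
    (hQc : ∀ {A B C : Scheme.{u}} (h : A ⟶ B) (k : B ⟶ C),
      (⊤ : MorphismProperty Scheme.{u}) k → Q (h ≫ k) → Q h)
    (hP : AlgSp.IsLocalOnBase AlgSp.IsFppfCover (AlgSp.LocP (S := S) Q))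
    (h𝒲 : FibCat.IsFibGrpd 𝒲.p) (h𝒲r : AlgSt.RepByAlgSp 𝒲) (h𝒳 : FibCat.IsFibGrpd 𝒳.p)
    (hΔ : AlgSt.RepByAlgSp1 (FibCat.diag (FibCat.toSelf 𝒳))) (w : 𝒲 ⥤ᵇ 𝒳)
    (hw₁ : AlgSt.RepByAlgSpWith (AlgSp.LocP @Flat) w)
    (hw₂ : AlgSt.RepByAlgSpWith (AlgSp.LocP @LocallyOfFinitePresentation) w)
    (hw₃ : AlgSt.RepByAlgSpWith AlgSp.IsSurjectiveMor w)
    (hw₄ : AlgSt.RepByAlgSpWith (AlgSp.LocP Q) w) :
    AlgSt.RepByAlgSpWith (AlgSp.LocP Q) (FibCat.diag (FibCat.toSelf 𝒳)) := by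
  let t : 𝒳 ⥤ᵇ FibCat.selfOver (Over S) := FibCat.toSelf 𝒳
  let s : 𝒲 ⥤ᵇ FibCat.selfOver (Over S) := BasedFunctor.comp w t
  have hs : FibCat.toSelf 𝒲 = s := (toSelf_comp w).symm
  let z : FibCat.fp s s ⥤ᵇ FibCat.fp t t := pB w w t
  have hz₁ : AlgSt.RepByAlgSpWith (AlgSp.LocP @Flat) z :=
    prodMap_gen h𝒲 h𝒳 (goodP_locP etLoc_flat) w hw₁ s hs (FibCat.fpIso s s)
  have hz₂ : AlgSt.RepByAlgSpWith (AlgSp.LocP @LocallyOfFinitePresentation) z :=
    prodMap_gen h𝒲 h𝒳 (goodP_locP etLoc_locallyOfFinitePresentation) w hw₂ s hs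
      (FibCat.fpIso s s)
  have hz₃ : AlgSt.RepByAlgSpWith AlgSp.IsSurjectiveMor z :=
    prodMap_gen h𝒲 h𝒳 goodP_surj w hw₃ s hs (FibCat.fpIso s s)
  let e : BasedFunctor.comp (FibCat.fpFst w w) (BasedFunctor.comp w t) ≅
      BasedFunctor.comp (FibCat.fpSnd w w) (BasedFunctor.comp w t) :=
    whiskerRightIso (FibCat.fpIso w w) t
  have he : ∀ x, e.hom.toNatTrans.app x = t.map x.obj.iso.hom := fun _ => rfl
  have hs1 : AlgSt.RepByAlgSp1 s := by
    rw [← hs]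
    exact repByAlgSp1_toSelf_of_rep h𝒲r
  have hc : AlgSt.RepByAlgSpWith topP (FibCat.fpFst s s) :=
    repByAlgSpWith_fpFst topP s s ((repByAlgSp1_iff_top s).1 hs1)
  have h4 : AlgSt.RepByAlgSpWith (AlgSp.LocP Q) (FibCat.fpFst w w) :=
    repByAlgSpWith_fpFst _ w w hw₄
  have hpI : AlgSt.RepByAlgSpWith (AlgSp.LocP Q) (pI w w t e) :=
    repByAlgSpWith_cancel (P := AlgSp.LocP Q) (P' := topP) (goodP_locP hQ).baseChange
      (fun _ _ _ hX hY hZ a b _ hab =>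
        locP_cancel (Q := ⊤) hQ hQc hX hY hZ a b (fun _ _ _ _ _ _ _ _ => trivial) hab)
      (pI w w t e) (FibCat.fpFst s s) hc h4
  have h' : AlgSt.RepByAlgSpWith (AlgSp.LocP Q) (FibCat.fpFst z (FibCat.diag t)) :=
    repByAlgSpWith_of_sq _ (FibCat.fpFst z (FibCat.diag t)) (pI w w t e) (pE w w t e he)
      (BasedFunctor.id _) (isEquivOver_pE w w t e he) isEquivOver_id (Iso.refl _) hpI
  exact repByAlgSpWith_of_fpFst_cover _ (goodP_locP hQ).cancelIso hP (FibCat.diag t) hΔ z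
    hz₁ hz₂ hz₃ h'

end main

end Groth.Agent.H28.RepComp
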