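import Mathlib
import Groth.Agent.H28.Descent
import Groth.Agent.H28.FpDiag

/-!
# Descent of properties of the diagonal along fppf covers
-/

set_option autoImplicit false
set_option linter.style.haveILetI false
set_option backward.isDefEq.respectTransparency false
set_option backward.isDefEq.respectTransparency.types false

namespace Groth.Agent.H28.RepComp

open CategoryTheory CategoryTheory.Limits FibCat AlgebraicGeometry Opposite Stk MorphismProperty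
open Groth.Agent.Helper22 Groth.Agent.Helper22.EquivComp Groth.Agent.Helper22.FpSq
open Groth.Agent.Helper22.FpEquiv Groth.Agent.H28.LiftFp
open Groth.Agent.H28.FpBase Groth.Agent.H28.PshDict Groth.Agent.H28.IsoCl
open Groth.Agent.H25.AS

universe v u

section sigma
variable {C : Type u} [Category.{v} C] {𝒯 𝒲 𝒳 𝒴 : BasedCategory.{v, max u v} C}
  (f : 𝒳 ⥤ᵇ 𝒴) (w : 𝒲 ⥤ᵇ 𝒴) (Z : 𝒯 ⥤ᵇ FibCat.fp f f) (τ : 𝒯 ⥤ᵇ 𝒲)
  (ι₁ : BasedFunctor.comp τ w ≅ BasedFunctor.comp (BasedFunctor.comp Z (FibCat.fpFst f f)) f)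

/-- first lifted point -/
def sA₁ : 𝒯 ⥤ᵇ FibCat.fp w f :=
  FibCat.fpLift τ (BasedFunctor.comp Z (FibCat.fpFst f f)) ι₁

/-- second lifted point -/
def sA₂ : 𝒯 ⥤ᵇ FibCat.fp w f :=
  FibCat.fpLift τ (BasedFunctor.comp Z (FibCat.fpSnd f f))
    (ι₁ ≪≫ whiskerLeftIso Z (FibCat.fpIso f f))

/-- the lifted point of `𝒫 ×_𝒲 𝒫` -/
def sSigma : 𝒯 ⥤ᵇ FibCat.fp (prj f w) (prj f w) :=
  FibCat.fpLift (sA₁ f w Z τ ι₁) (sA₂ f w Z τ ι₁) (Iso.refl _)

theorem sigma_w (c : 𝒯.obj) :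
    f.map (𝟙 (Z.obj c).obj.fst) ≫ (Z.obj c).obj.iso.hom =
      (ι₁.inv.toNatTrans.app c ≫ w.map (𝟙 (τ.obj c)) ≫
        (ι₁.hom.toNatTrans.app c ≫ (Z.obj c).obj.iso.hom)) ≫ f.map (𝟙 (Z.obj c).obj.snd) := by
  rw [f.toFunctor.map_id, f.toFunctor.map_id, w.toFunctor.map_id]
  have h := inv_hom_app ι₁ c
  refine (Category.id_comp _).trans ?_
  refine Eq.trans ?_ (Category.comp_id _).symm
  refine Eq.trans ?_
    (congrArg (fun t => ι₁.inv.toNatTrans.app c ≫ t) (Category.id_comp _).symm)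
  refine Eq.trans ?_ (Category.assoc _ _ _)
  exact ((congrArg (fun t => t ≫ (Z.obj c).obj.iso.hom) h).trans (Category.id_comp _)).symm

/-- the lifted point maps to the given one -/
def sigmaIso : BasedFunctor.comp (sSigma f w Z τ ι₁) (Q2 f w) ≅ Z :=
  BasedNatIso.mkNatIso
    (NatIso.ofComponents (fun c => ObjectProperty.isoMk _
        (CategoryTheory.Limits.CategoricalPullback.mkIso (Iso.refl (Z.obj c).obj.fst)
          (Iso.refl (Z.obj c).obj.snd) (sigma_w f w Z τ ι₁ c)))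
      (by
        intro c c' m
        apply ObjectProperty.hom_ext
        apply CategoryTheory.Limits.CategoricalPullback.hom_ext
        · exact (Category.comp_id _).trans (Category.id_comp _).symm
        · exact (Category.comp_id _).trans (Category.id_comp _).symm))
    (fun c => (Groth.Agent.H13.fp_isHomLift_iff f f _ _).2
      (IsHomLift.id ((BasedFunctor.comp Z (FibCat.fpFst f f)).w_obj c)))

end sigma

section AlgStack

variable {S : Scheme.{u}}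

theorem descent_of_lift (P : MorphismProperty (AlgSp.Sp S)) (hPiso : CancelIso P)
    (hP : AlgSp.IsLocalOnBase AlgSp.IsFppfCover P) {𝒜 ℬ ℬ' : AlgSt.Cat S}
    (g : 𝒜 ⥤ᵇ ℬ) (Q : ℬ' ⥤ᵇ ℬ) (h' : AlgSt.RepByAlgSpWith P (FibCat.fpFst Q g))
    {T : Over S} (ζ : FibCat.overCat T ⥤ᵇ ℬ) (F : AlgSp.Space S)
    (e : AlgSt.ofSp F.obj ⥤ᵇ FibCat.fp ζ g) (he : FibCat.IsEquivOver e)
    {T' : Over S} (q : (AlgSp.yon S).obj T' ⟶ (AlgSp.yon S).obj T)
    (hcov : AlgSp.IsFppfCover (fun _ : PUnit.{u + 1} => (AlgSp.yon S).obj T') (fun _ => q))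
    (σ : FibCat.overCat T' ⥤ᵇ ℬ')
    (ι' : BasedFunctor.comp σ Q ≅ BasedFunctor.comp (sliceFun q) ζ) :
    P (AlgSt.spMapOfOver (BasedFunctor.comp e (FibCat.fpFst ζ g))) := by
  obtain ⟨F', e'', he'', hP''⟩ := h' T' σ
  obtain ⟨Qb, ⟨σ₁⟩, ⟨σ₂⟩⟩ := id (isEquivOver_fpBase σ Q g)
  let s1 : FibCat.fp (BasedFunctor.comp σ Q) g ⥤ᵇ FibCat.fp (BasedFunctor.comp (sliceFun q) ζ) g :=
    sqFun (BasedFunctor.comp (sliceFun q) ζ) g (BasedFunctor.comp σ Q) g (BasedFunctor.id _)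
      (BasedFunctor.id _) ι' (Iso.refl _)
  have hs1 : FibCat.IsEquivOver s1 :=
    isEquivOver_sqFun (BasedFunctor.comp (sliceFun q) ζ) g (BasedFunctor.comp σ Q) g
      (BasedFunctor.id _) (BasedFunctor.id _) ι' (Iso.refl _) isEquivOver_id isEquivOver_id
  let e' : AlgSt.ofSp F'.obj ⥤ᵇ FibCat.fp (BasedFunctor.comp (sliceFun q) ζ) g :=
    BasedFunctor.comp e'' (BasedFunctor.comp Qb s1)
  have he' : FibCat.IsEquivOver e' :=
    isEquivOver_comp _ _ he'' (isEquivOver_comp _ _ ⟨_, ⟨σ₂⟩, ⟨σ₁⟩⟩ hs1)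
  have α : BasedFunctor.comp e' (FibCat.fpFst (BasedFunctor.comp (sliceFun q) ζ) g) ≅
      BasedFunctor.comp e'' (FibCat.fpFst σ (FibCat.fpFst Q g)) :=
    whiskerLeftIso e'' (whiskerRightIso σ₂ (FibCat.fpFst σ (FibCat.fpFst Q g)))
  have hP' : P (AlgSt.spMapOfOver
      (BasedFunctor.comp e' (FibCat.fpFst (BasedFunctor.comp (sliceFun q) ζ) g))) := by
    rw [spMapOfOver_congr α.hom]
    exact hP''
  exact descent_pt P hPiso hP g ζ F e he q hcov F' e' he' hP'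

variable {𝒳 𝒴 𝒲 : AlgSt.Cat S}

theorem repByAlgSpWith_diag_of_fpFst_cover (P : MorphismProperty (AlgSp.Sp S))
    (hPiso : CancelIso P) (hP : AlgSp.IsLocalOnBase AlgSp.IsFppfCover P)
    (f : 𝒳 ⥤ᵇ 𝒴) (hΔ : AlgSt.RepByAlgSp1 (FibCat.diag f)) (w : 𝒲 ⥤ᵇ 𝒴)
    (hw₁ : AlgSt.RepByAlgSpWith (AlgSp.LocP @Flat) w)
    (hw₂ : AlgSt.RepByAlgSpWith (AlgSp.LocP @LocallyOfFinitePresentation) w)
    (hw₃ : AlgSt.RepByAlgSpWith AlgSp.IsSurjectiveMor w)
    (h : AlgSt.RepByAlgSpWith P (FibCat.diag (FibCat.fpFst w f))) :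
    AlgSt.RepByAlgSpWith P (FibCat.diag f) := by
  have h1 : AlgSt.RepByAlgSpWith P (FibCat.fpFst (Q2 f w) (FibCat.diag f)) :=
    repByAlgSpWith_of_sq P (FibCat.fpFst (Q2 f w) (FibCat.diag f))
      (FibCat.diag (FibCat.fpFst w f)) (Ediag f w) (BasedFunctor.id _) (isEquivOver_Ediag f w)
      isEquivOver_id (Iso.refl _) h
  intro T ζ
  obtain ⟨F, e, he⟩ := hΔ T ζ
  refine ⟨F, e, he, ?_⟩
  let c : FibCat.overCat T ⥤ᵇ 𝒴 :=
    BasedFunctor.comp (BasedFunctor.comp ζ (FibCat.fpFst f f)) f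
  obtain ⟨V₁, eV, heV, hflat⟩ := hw₁ T c
  have hlfp := repByAlgSpWith_any (goodP_locP etLoc_locallyOfFinitePresentation).cancelIso w hw₂
    c V₁ eV heV
  have hsurj := repByAlgSpWith_any cancelIso_isSurjectiveMor w hw₃ c V₁ eV heV
  let γV : V₁.obj ⟶ (AlgSp.yon S).obj T :=
    AlgSt.spMapOfOver (BasedFunctor.comp eV (FibCat.fpFst c w))
  obtain ⟨T', aV, hae, has⟩ := V₁.property.atlas
  let q : (AlgSp.yon S).obj T' ⟶ (AlgSp.yon S).obj T := aV ≫ γV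
  have hcov : AlgSp.IsFppfCover (fun _ : PUnit.{u + 1} => (AlgSp.yon S).obj T') (fun _ => q) :=
    isFppfCover_atlas_comp V₁.property γV hflat hlfp hsurj aV hae has
  let τ : FibCat.overCat T' ⥤ᵇ 𝒲 :=
    BasedFunctor.comp (AlgSt.ofOverCat T')
      (BasedFunctor.comp (AlgSt.ofSpMap aV) (BasedFunctor.comp eV (FibCat.fpSnd c w)))
  have lam : BasedFunctor.comp eV (FibCat.fpFst c w) ≅
      BasedFunctor.comp (AlgSt.ofSpMap γV) (AlgSt.toOverCat T) := toOverCatIso _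
  let Z : FibCat.overCat T' ⥤ᵇ FibCat.fp f f := BasedFunctor.comp (sliceFun q) ζ
  have ι₁ : BasedFunctor.comp τ w ≅
      BasedFunctor.comp (BasedFunctor.comp Z (FibCat.fpFst f f)) f :=
    whiskerLeftIso (BasedFunctor.comp (AlgSt.ofOverCat T') (AlgSt.ofSpMap aV))
      (whiskerLeftIso eV (FibCat.fpIso c w).symm ≪≫ whiskerRightIso lam c)
  exact descent_of_lift P hPiso hP (FibCat.diag f) (Q2 f w) h1 ζ F e he q hcov
    (sSigma f w Z τ ι₁) (sigmaIso f w Z τ ι₁)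

end AlgStack

end Groth.Agent.H28.RepComp
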