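import Mathlib
import Groth.Agent.H28.DiagDescent

/-!
# Pointwise representability from a lift along a base change
-/

set_option autoImplicit false
set_option linter.style.haveILetI false
set_option backward.isDefEq.respectTransparency false
set_option backward.isDefEq.respectTransparency.types false

namespace Groth.Agent.H28.RepComp

open CategoryTheory CategoryTheory.Limits FibCat AlgebraicGeometry Opposite Stk MorphismProperty
open Groth.Agent.Helper22 Groth.Agent.Helper22.EquivComp Groth.Agent.Helper22.FpSq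
open Groth.Agent.Helper22.FpEquiv Groth.Agent.H28.LiftFp
open Groth.Agent.H28.FpBase Groth.Agent.H28.PshDict Groth.Agent.H28.IsoCl
open Groth.Agent.H25.AS

universe v u

section AlgStack

variable {S : Scheme.{u}}

theorem pt_of_lift (P : MorphismProperty (AlgSp.Sp S)) {𝒜 ℬ ℬ' : AlgSt.Cat S}
    (g : 𝒜 ⥤ᵇ ℬ) (Q : ℬ' ⥤ᵇ ℬ) (h' : AlgSt.RepByAlgSpWith P (FibCat.fpFst Q g))
    {T : Over S} (ζ : FibCat.overCat T ⥤ᵇ ℬ)
    (σ : FibCat.overCat T ⥤ᵇ ℬ') (ι' : BasedFunctor.comp σ Q ≅ ζ) :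
    ∃ (F : AlgSp.Space S) (e : AlgSt.ofSp F.obj ⥤ᵇ FibCat.fp ζ g), FibCat.IsEquivOver e ∧
      P (AlgSt.spMapOfOver (BasedFunctor.comp e (FibCat.fpFst ζ g))) := by
  obtain ⟨F', e'', he'', hP''⟩ := h' T σ
  obtain ⟨Qb, ⟨σ₁⟩, ⟨σ₂⟩⟩ := id (isEquivOver_fpBase σ Q g)
  let s1 : FibCat.fp (BasedFunctor.comp σ Q) g ⥤ᵇ FibCat.fp ζ g :=
    sqFun ζ g (BasedFunctor.comp σ Q) g (BasedFunctor.id _)
      (BasedFunctor.id _) ι' (Iso.refl _)
  have hs1 : FibCat.IsEquivOver s1 :=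
    isEquivOver_sqFun ζ g (BasedFunctor.comp σ Q) g
      (BasedFunctor.id _) (BasedFunctor.id _) ι' (Iso.refl _) isEquivOver_id isEquivOver_id
  let e' : AlgSt.ofSp F'.obj ⥤ᵇ FibCat.fp ζ g :=
    BasedFunctor.comp e'' (BasedFunctor.comp Qb s1)
  have he' : FibCat.IsEquivOver e' :=
    isEquivOver_comp _ _ he'' (isEquivOver_comp _ _ ⟨_, ⟨σ₂⟩, ⟨σ₁⟩⟩ hs1)
  have α : BasedFunctor.comp e' (FibCat.fpFst ζ g) ≅
      BasedFunctor.comp e'' (FibCat.fpFst σ (FibCat.fpFst Q g)) :=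
    whiskerLeftIso e'' (whiskerRightIso σ₂ (FibCat.fpFst σ (FibCat.fpFst Q g)))
  refine ⟨F', e', he', ?_⟩
  rw [spMapOfOver_congr α.hom]
  exact hP''

variable {𝒳 𝒴 : AlgSt.Cat S}

theorem repByAlgSpWith_diag_of_fpFst_pts (P : MorphismProperty (AlgSp.Sp S)) (f : 𝒳 ⥤ᵇ 𝒴)
    (h : ∀ (T : Over S) (y : FibCat.overCat T ⥤ᵇ 𝒴),
      AlgSt.RepByAlgSpWith P (FibCat.diag (FibCat.fpFst y f))) :
    AlgSt.RepByAlgSpWith P (FibCat.diag f) := by
  intro T ζ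
  let y : FibCat.overCat T ⥤ᵇ 𝒴 :=
    BasedFunctor.comp (BasedFunctor.comp ζ (FibCat.fpFst f f)) f
  have h1 : AlgSt.RepByAlgSpWith P (FibCat.fpFst (Q2 f y) (FibCat.diag f)) :=
    repByAlgSpWith_of_sq P (FibCat.fpFst (Q2 f y) (FibCat.diag f))
      (FibCat.diag (FibCat.fpFst y f)) (Ediag f y) (BasedFunctor.id _) (isEquivOver_Ediag f y)
      isEquivOver_id (Iso.refl _) (h T y)
  exact pt_of_lift P (FibCat.diag f) (Q2 f y) h1 ζ
    (sSigma f y ζ (BasedFunctor.id _) (Iso.refl _)) (sigmaIso f y ζ (BasedFunctor.id _) (Iso.refl _))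

end AlgStack

end Groth.Agent.H28.RepComp
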