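import Mathlib
import Groth.Agent.H28.FpBase3
import Groth.Agent.H28.LiftFp

/-!
# The diagonal of a functor is invariant under 2-commutative squares of equivalences
-/

set_option autoImplicit false
set_option linter.style.haveILetI false
set_option backward.isDefEq.respectTransparency false
set_option backward.isDefEq.respectTransparency.types false

namespace Groth.Agent.H28.FpBase

open CategoryTheory CategoryTheory.Limits FibCat AlgebraicGeometry
open Groth.Agent.Helper22 Groth.Agent.Helper22.EquivComp Groth.Agent.Helper22.FpSq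
open Groth.Agent.Helper22.FpEquiv Groth.Agent.H28.LiftFp

universe v u

section diagSq
variable {C : Type u} [Category.{v} C] {𝒜' 𝒜 ℬ' ℬ : BasedCategory.{v, max u v} C}
  (φ' : 𝒜' ⥤ᵇ ℬ') (φ : 𝒜 ⥤ᵇ ℬ) (a : 𝒜' ⥤ᵇ 𝒜) (b : ℬ' ⥤ᵇ ℬ)
  (κ : BasedFunctor.comp φ' b ≅ BasedFunctor.comp a φ)

/-- first step: second leg and target -/
def dS1 : FibCat.fp φ' φ' ⥤ᵇ FibCat.fp (BasedFunctor.comp φ' b) φ :=
  sqFun (BasedFunctor.comp φ' b) φ φ' φ' a b (Iso.refl _) κ

/-- second step: first leg up to isomorphism -/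
def dS2 : FibCat.fp (BasedFunctor.comp φ' b) φ ⥤ᵇ FibCat.fp (BasedFunctor.comp a φ) φ :=
  sqFun (BasedFunctor.comp a φ) φ (BasedFunctor.comp φ' b) φ (BasedFunctor.id _)
    (BasedFunctor.id _) κ (Iso.refl _)

/-- the functor `𝒜' ×_ℬ' 𝒜' ⟶ 𝒜 ×_ℬ 𝒜` -/
def dFun : FibCat.fp φ' φ' ⥤ᵇ FibCat.fp φ φ :=
  BasedFunctor.comp (dS1 φ' φ a b κ) (BasedFunctor.comp (dS2 φ' φ a b κ) (fpPre a φ φ))

lemma isEquivOver_dFun (ha : FibCat.IsEquivOver a) (hb : FibCat.IsEquivOver b) :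
    FibCat.IsEquivOver (dFun φ' φ a b κ) :=
  isEquivOver_comp _ _
    (isEquivOver_sqFun (BasedFunctor.comp φ' b) φ φ' φ' a b (Iso.refl _) κ ha hb)
    (isEquivOver_comp _ _
      (isEquivOver_sqFun (BasedFunctor.comp a φ) φ (BasedFunctor.comp φ' b) φ (BasedFunctor.id _)
        (BasedFunctor.id _) κ (Iso.refl _) isEquivOver_id isEquivOver_id)
      (isEquivOver_fpPre a φ φ ha))

theorem dFun_w (c : 𝒜'.obj) :
    φ.map (𝟙 (a.obj c)) ≫ ((BasedFunctor.comp a (FibCat.diag φ)).obj c).obj.iso.hom =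
      ((BasedFunctor.comp (FibCat.diag φ') (dFun φ' φ a b κ)).obj c).obj.iso.hom ≫
        φ.map (𝟙 (a.obj c)) := by
  have h1 : ((BasedFunctor.comp a (FibCat.diag φ)).obj c).obj.iso.hom = 𝟙 _ := rfl
  have h2 : ((BasedFunctor.comp (FibCat.diag φ') (dFun φ' φ a b κ)).obj c).obj.iso.hom =
      (Groth.Agent.Helper22.PostEquiv.appIso κ c).inv ≫ (𝟙 _ ≫ b.map (𝟙 (φ'.obj c)) ≫
        (Groth.Agent.Helper22.PostEquiv.appIso κ c).hom) ≫ 𝟙 _ := rfl
  have e0 : φ.map (𝟙 (a.obj c)) = 𝟙 _ := φ.toFunctor.map_id _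
  have e1 : b.map (𝟙 (φ'.obj c)) = 𝟙 _ := b.toFunctor.map_id _
  have h3 : (Groth.Agent.Helper22.PostEquiv.appIso κ c).inv ≫ (𝟙 _ ≫ b.map (𝟙 (φ'.obj c)) ≫
        (Groth.Agent.Helper22.PostEquiv.appIso κ c).hom) ≫ 𝟙 _ = 𝟙 _ := by
    rw [e1]
    simp only [Category.id_comp, Category.comp_id]
    exact (congrArg (fun t => (Groth.Agent.Helper22.PostEquiv.appIso κ c).inv ≫ t)
      (Category.id_comp _)).trans (Groth.Agent.Helper22.PostEquiv.appIso κ c).inv_hom_id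
  refine (congrArg₂ (· ≫ ·) e0 h1).trans ?_
  refine Eq.trans ?_ (congrArg₂ (· ≫ ·) (h2.trans h3) e0).symm
  rfl

/-- the square of diagonals commutes -/
def dIso : BasedFunctor.comp (FibCat.diag φ') (dFun φ' φ a b κ) ≅
    BasedFunctor.comp a (FibCat.diag φ) :=
  BasedNatIso.mkNatIso
    (NatIso.ofComponents (fun c => ObjectProperty.isoMk _
        (CategoryTheory.Limits.CategoricalPullback.mkIso (Iso.refl (a.obj c))
          (Iso.refl (a.obj c)) (dFun_w φ' φ a b κ c)))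
      (by
        intro c c' m
        apply ObjectProperty.hom_ext
        apply CategoryTheory.Limits.CategoricalPullback.hom_ext
        · exact (Category.comp_id _).trans (Category.id_comp _).symm
        · exact (Category.comp_id _).trans (Category.id_comp _).symm))
    (fun c => (Groth.Agent.H13.fp_isHomLift_iff φ φ _ _).2 (IsHomLift.id (a.w_obj c)))

end diagSq

section AlgStack

variable {S : Scheme.{u}} {𝒜' 𝒜 ℬ' ℬ : AlgSt.Cat S}

theorem repByAlgSpWith_diag_sq_iff (P : MorphismProperty (AlgSp.Sp S))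
    (φ' : 𝒜' ⥤ᵇ ℬ') (φ : 𝒜 ⥤ᵇ ℬ) (a : 𝒜' ⥤ᵇ 𝒜) (b : ℬ' ⥤ᵇ ℬ)
    (κ : BasedFunctor.comp φ' b ≅ BasedFunctor.comp a φ)
    (ha : FibCat.IsEquivOver a) (hb : FibCat.IsEquivOver b) :
    AlgSt.RepByAlgSpWith P (FibCat.diag φ') ↔ AlgSt.RepByAlgSpWith P (FibCat.diag φ) :=
  ⟨fun h => repByAlgSpWith_of_sq P (FibCat.diag φ) (FibCat.diag φ') a (dFun φ' φ a b κ) ha
      (isEquivOver_dFun φ' φ a b κ ha hb) (dIso φ' φ a b κ) h,
    fun h => repByAlgSpWith_of_sq' P (FibCat.diag φ) (FibCat.diag φ') a (dFun φ' φ a b κ) ha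
      (isEquivOver_dFun φ' φ a b κ ha hb) (dIso φ' φ a b κ) h⟩

end AlgStack

end Groth.Agent.H28.FpBase
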