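import Mathlib
import Groth.Agent.H28.DiagSq
import Groth.Agent.H28.Descent
import Groth.Agent.H28.DiagLift
import Groth.Agent.H28.RepCancel2
import Groth.Agent.H28.GoodP

/-!
# The diagonal of a representable morphism of stacks and diagonals of algebraic spaces
-/

set_option autoImplicit false
set_option linter.style.haveILetI false
set_option backward.isDefEq.respectTransparency false
set_option backward.isDefEq.respectTransparency.types false

namespace Groth.Agent.H28.RepComp

open CategoryTheory CategoryTheory.Limits FibCat AlgebraicGeometry Opposite Stk MorphismProperty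
open Groth.Agent.Helper22 Groth.Agent.Helper22.EquivComp Groth.Agent.Helper22.FpSq
open Groth.Agent.Helper22.FpEquiv Groth.Agent.H28.LiftFp
open Groth.Agent.H28.FpBase Groth.Agent.H28.PshDict Groth.Agent.H28.IsoCl
open Groth.Agent.H25.AS

universe u

variable {S : Scheme.{u}}

section pshdiag

variable {A D P : AlgSp.PSp S} (a : A ⟶ D) (fst snd : P ⟶ A) (sq : IsPullback fst snd a a)
  (δ : A ⟶ P) (h₁ : δ ≫ fst = 𝟙 A) (h₂ : δ ≫ snd = 𝟙 A)

include h₁ in
theorem dObj₁ (o : EltObj A) :
    (BasedFunctor.comp (Stk.ofPshMap δ) (Stk.ofPshMap fst)).obj o = o := by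
  obtain ⟨U, s⟩ := o
  have h : fst.app (op U) (δ.app (op U) s) = s := congrArg (fun k => k.app (op U) s) h₁
  show (⟨U, fst.app (op U) (δ.app (op U) s)⟩ : EltObj A) = ⟨U, s⟩
  rw [h]

/-- components of the comparison -/
noncomputable def dComp (o : EltObj A) :
    (BasedFunctor.comp (Stk.ofPshMap δ) (E1 a a fst snd sq)).obj o ≅
      (FibCat.diag (Stk.ofPshMap a)).obj o :=
  ObjectProperty.isoMk _ (CategoryTheory.Limits.CategoricalPullback.mkIso
    (eqToIso (dObj₁ fst δ h₁ o)) (eqToIso (dObj₁ snd δ h₂ o)) (by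
      apply EltObj.hom_ext
      have e1 : (((BasedFunctor.comp (Stk.ofPshMap δ) (E1 a a fst snd sq)).obj o).obj.iso.hom).hom =
          𝟙 _ := E1_iso_hom_hom a a fst snd sq ((Stk.ofPshMap δ).obj o)
      have e2 : ((FibCat.diag (Stk.ofPshMap a)).obj o).obj.iso.hom.hom = 𝟙 _ := rfl
      have e3 : ∀ {x y : EltObj A} (h : x = y),
          ((Stk.ofPshMap a).map (eqToHom h)).hom = eqToHom (congrArg EltObj.base h) :=
        fun h => eltObj_eqToHom_hom h
      show ((Stk.ofPshMap a).map (eqToHom (dObj₁ fst δ h₁ o))).hom ≫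
          ((FibCat.diag (Stk.ofPshMap a)).obj o).obj.iso.hom.hom =
        ((BasedFunctor.comp (Stk.ofPshMap δ) (E1 a a fst snd sq)).obj o).obj.iso.hom.hom ≫
          ((Stk.ofPshMap a).map (eqToHom (dObj₁ snd δ h₂ o))).hom
      rw [e1, e2, e3 (dObj₁ fst δ h₁ o), e3 (dObj₁ snd δ h₂ o)]
      simp only [eqToHom_refl]
      exact (Category.comp_id _).trans (Category.id_comp _).symm))

/-- `Δ ⋙ E1 ≅ diag` -/
noncomputable def dCompIso :
    BasedFunctor.comp (Stk.ofPshMap δ) (E1 a a fst snd sq) ≅ FibCat.diag (Stk.ofPshMap a) :=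
  BasedNatIso.mkNatIso
    (NatIso.ofComponents (fun o => dComp a fst snd sq δ h₁ h₂ o)
      (by
        intro o o' m
        apply ObjectProperty.hom_ext
        apply CategoryTheory.Limits.CategoricalPullback.hom_ext
        · apply EltObj.hom_ext
          show m.hom ≫ (eqToHom (dObj₁ fst δ h₁ o')).hom =
            (eqToHom (dObj₁ fst δ h₁ o)).hom ≫ m.hom
          rw [eltObj_eqToHom_hom, eltObj_eqToHom_hom]
          simp only [eqToHom_refl]
          exact (Category.comp_id _).trans (Category.id_comp _).symm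
        · apply EltObj.hom_ext
          show m.hom ≫ (eqToHom (dObj₁ snd δ h₂ o')).hom =
            (eqToHom (dObj₁ snd δ h₂ o)).hom ≫ m.hom
          rw [eltObj_eqToHom_hom, eltObj_eqToHom_hom]
          simp only [eqToHom_refl]
          exact (Category.comp_id _).trans (Category.id_comp _).symm))
    (fun o => (Groth.Agent.H13.fp_isHomLift_iff (Stk.ofPshMap a) (Stk.ofPshMap a) _ _).2
      (IsHomLift.eqToHom_domain_lift_id (dObj₁ fst δ h₁ o) rfl))

end pshdiag

section spaces

/-- for a map of algebraic spaces, representability with `P` of its functor is `P` -/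
theorem repByAlgSpWith_ofSpMap_iff {P : MorphismProperty (AlgSp.Sp S)} (hPiso : CancelIso P)
    (hPb : BaseChangeP P) (hD : DescendsP P) {X Y : AlgSp.Sp S} (hX : AlgSp.IsAlgSpace X)
    (hY : AlgSp.IsAlgSpace Y) (d : X ⟶ Y) :
    AlgSt.RepByAlgSpWith P (AlgSt.ofSpMap d) ↔ P d :=
  ⟨fun h => hD d hX hY (repBySpWith_of_repByAlgSpWith d.hom P hPiso h),
    fun h => repByAlgSpWith_of_repBySpWith d.hom P (repBySpWith_of_P hPb hX hY d h)⟩

/-- the diagonal of the functor of `γ` and the functor of the diagonal of `γ` -/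
theorem repByAlgSpWith_diag_ofSpMap_iff (P : MorphismProperty (AlgSp.Sp S))
    {X Y : AlgSp.Sp S} (g : X ⟶ Y) :
    AlgSt.RepByAlgSpWith P (FibCat.diag (AlgSt.ofSpMap g)) ↔
      AlgSt.RepByAlgSpWith P (AlgSt.ofSpMap (pullback.diagonal g)) := by
  have sq := IsPullback.of_hasPullback g g
  have sq' : IsPullback (pullback.fst g g).hom (pullback.snd g g).hom g.hom g.hom :=
    sq.map (sheafToPresheaf (AlgSp.J S) (Type (u + 1)))
  have h₁ : (pullback.diagonal g).hom ≫ (pullback.fst g g).hom = 𝟙 _ :=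
    congrArg (fun k => k.hom) (pullback.diagonal_fst g)
  have h₂ : (pullback.diagonal g).hom ≫ (pullback.snd g g).hom = 𝟙 _ :=
    congrArg (fun k => k.hom) (pullback.diagonal_snd g)
  let E := E1 g.hom g.hom (pullback.fst g g).hom (pullback.snd g g).hom sq'
  have hE : FibCat.IsEquivOver E :=
    isEquivOver_E1 g.hom g.hom (pullback.fst g g).hom (pullback.snd g g).hom sq'
  have θ : BasedFunctor.comp (AlgSt.ofSpMap (pullback.diagonal g)) E ≅
      BasedFunctor.comp (BasedFunctor.id _) (FibCat.diag (AlgSt.ofSpMap g)) :=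
    dCompIso g.hom (pullback.fst g g).hom (pullback.snd g g).hom sq' (pullback.diagonal g).hom
      h₁ h₂
  exact ⟨fun h => repByAlgSpWith_of_sq' P (FibCat.diag (AlgSt.ofSpMap g))
      (AlgSt.ofSpMap (pullback.diagonal g)) (BasedFunctor.id _) E isEquivOver_id hE θ h,
    fun h => repByAlgSpWith_of_sq P (FibCat.diag (AlgSt.ofSpMap g))
      (AlgSt.ofSpMap (pullback.diagonal g)) (BasedFunctor.id _) E isEquivOver_id hE θ h⟩

end spaces

section stk

variable {𝒳 𝒴 : AlgSt.Cat S}

/-- the diagonal of a base change to a scheme and the functor of the map of spaces -/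
theorem repByAlgSpWith_diag_fpFst_iff (P : MorphismProperty (AlgSp.Sp S)) (f : 𝒳 ⥤ᵇ 𝒴)
    {U : Over S} (y : FibCat.overCat U ⥤ᵇ 𝒴) (F : AlgSp.Space S)
    (e : AlgSt.ofSp F.obj ⥤ᵇ FibCat.fp y f) (he : FibCat.IsEquivOver e) :
    AlgSt.RepByAlgSpWith P (FibCat.diag (FibCat.fpFst y f)) ↔
      AlgSt.RepByAlgSpWith P (FibCat.diag (AlgSt.ofSpMap
        (AlgSt.spMapOfOver (BasedFunctor.comp e (FibCat.fpFst y f))))) :=
  (repByAlgSpWith_diag_sq_iff P
    (AlgSt.ofSpMap (AlgSt.spMapOfOver (BasedFunctor.comp e (FibCat.fpFst y f))))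
    (FibCat.fpFst y f) e (AlgSt.toOverCat U)
    (toOverCatIso (BasedFunctor.comp e (FibCat.fpFst y f))).symm he
    (Groth.Agent.H28.DiagRep.isEquivOver_toOverCat U)).symm

/-- from the diagonal of `f` to the diagonals of its base changes -/
theorem diagonal_of_repByAlgSpWith_diag {P : MorphismProperty (AlgSp.Sp S)} (hP : GoodP P)
    (f : 𝒳 ⥤ᵇ 𝒴) (h : AlgSt.RepByAlgSpWith P (FibCat.diag f))
    {U : Over S} (y : FibCat.overCat U ⥤ᵇ 𝒴) (F : AlgSp.Space S)
    (e : AlgSt.ofSp F.obj ⥤ᵇ FibCat.fp y f) (he : FibCat.IsEquivOver e) :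
    P (pullback.diagonal (AlgSt.spMapOfOver (BasedFunctor.comp e (FibCat.fpFst y f)))) := by
  have h1 := repByAlgSpWith_diag_fpFst P f y h
  have h2 := (repByAlgSpWith_diag_fpFst_iff P f y F e he).1 h1
  have h3 := (repByAlgSpWith_diag_ofSpMap_iff P _).1 h2
  have hpb : AlgSp.IsAlgSpace
      (pullback (AlgSt.spMapOfOver (BasedFunctor.comp e (FibCat.fpFst y f)))
        (AlgSt.spMapOfOver (BasedFunctor.comp e (FibCat.fpFst y f)))) :=
    isAlgSpace_of_isPullback (AlgSp.IsAlgSpace.yon_obj U).diag F.property F.property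
      (IsPullback.of_hasPullback _ _)
  exact (repByAlgSpWith_ofSpMap_iff hP.cancelIso hP.baseChange hP.descends F.property hpb _).1 h3

/-- from the diagonals of the base changes to the diagonal of `f` -/
theorem repByAlgSpWith_diag_of_diagonal {P : MorphismProperty (AlgSp.Sp S)} (hP : GoodP P)
    (f : 𝒳 ⥤ᵇ 𝒴)
    (h : ∀ (U : Over S) (y : FibCat.overCat U ⥤ᵇ 𝒴), ∃ (F : AlgSp.Space S)
      (e : AlgSt.ofSp F.obj ⥤ᵇ FibCat.fp y f), FibCat.IsEquivOver e ∧
      P (pullback.diagonal (AlgSt.spMapOfOver (BasedFunctor.comp e (FibCat.fpFst y f))))) :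
    AlgSt.RepByAlgSpWith P (FibCat.diag f) := by
  refine repByAlgSpWith_diag_of_fpFst_pts P f (fun U y => ?_)
  obtain ⟨F, e, he, hd⟩ := h U y
  have hpb : AlgSp.IsAlgSpace
      (pullback (AlgSt.spMapOfOver (BasedFunctor.comp e (FibCat.fpFst y f)))
        (AlgSt.spMapOfOver (BasedFunctor.comp e (FibCat.fpFst y f)))) :=
    isAlgSpace_of_isPullback (AlgSp.IsAlgSpace.yon_obj U).diag F.property F.property
      (IsPullback.of_hasPullback _ _)
  have h3 := (repByAlgSpWith_ofSpMap_iff hP.cancelIso hP.baseChange hP.descends F.property hpb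
    _).2 hd
  have h2 := (repByAlgSpWith_diag_ofSpMap_iff P _).2 h3
  exact (repByAlgSpWith_diag_fpFst_iff P f y F e he).2 h2

end stk

end Groth.Agent.H28.RepComp
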