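import Mathlib
import Groth.Agent.H28.DiagCover
import Groth.Agent.H28.GoodP
import Groth.Agent.S10526

/-!
# The diagonal of a morphism of algebraic stacks is locally of finite type
-/

set_option autoImplicit false
set_option linter.style.haveILetI false
set_option backward.isDefEq.respectTransparency false
set_option backward.isDefEq.respectTransparency.types false

namespace Groth.Agent.H28.RepComp

open CategoryTheory CategoryTheory.Limits FibCat AlgebraicGeometry Opposite Stk MorphismProperty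
open Groth.Agent.Helper22 Groth.Agent.Helper22.EquivComp Groth.Agent.Helper22.FpSq
open Groth.Agent.Helper22.FpEquiv Groth.Agent.H28.LiftFp
open Groth.Agent.H28.FpBase Groth.Agent.H28.PshDict Groth.Agent.H28.IsoCl
open Groth.Agent.H25.AS

universe v u

variable {S : Scheme.{u}}

theorem cancel_lft {A B C : Scheme.{u}} (h : A ⟶ B) (k : B ⟶ C)
    (_ : (⊤ : MorphismProperty Scheme.{u}) k)
    (hhk : (@LocallyOfFiniteType : MorphismProperty Scheme.{u}) (h ≫ k)) :
    (@LocallyOfFiniteType : MorphismProperty Scheme.{u}) h := by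
  have h1 : LocallyOfFiniteType (h ≫ k) := hhk
  exact locallyOfFiniteType_of_comp h k

theorem repByAlgSpWith_lft_diag_toSelf {𝒳 : AlgSt.Cat S}
    (h𝒳 : AlgSt.IsAlgStack Scheme.fppfPrecoverage 𝒳) :
    AlgSt.RepByAlgSpWith (AlgSp.LocP @LocallyOfFiniteType) (FibCat.diag (FibCat.toSelf 𝒳)) := by
  obtain ⟨U, x, hx₁, hx₂⟩ := h𝒳.atlas
  have hsm_flat : (@Smooth : MorphismProperty Scheme.{u}) ≤ @Flat := fun _ _ f hf => by
    have : Smooth f := hf
    infer_instance
  have hsm_lfp : (@Smooth : MorphismProperty Scheme.{u}) ≤ @LocallyOfFinitePresentation :=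
    fun _ _ f hf => by
      have : Smooth f := hf
      infer_instance
  have hsm_lft : (@Smooth : MorphismProperty Scheme.{u}) ≤ @LocallyOfFiniteType :=
    fun _ _ f hf => by
      have : Smooth f := hf
      infer_instance
  exact repByAlgSpWith_diag_toSelf_of_cover etLoc_locallyOfFiniteType cancel_lft
    (isLocalOnBase_fppf_of_fpqc (Groth.Agent.S10526.result S))
    (Groth.Agent.Helper22.OverFib.isFibGrpd_over U)
    ⟨⟨(AlgSp.yon S).obj U, AlgSp.IsAlgSpace.yon_obj U⟩, AlgSt.toOverCat U,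
      Groth.Agent.H28.DiagRep.isEquivOver_toOverCat U⟩
    h𝒳.isStack.1 h𝒳.diag x
    (repByAlgSpWith_mono (fun _ _ _ ha => locP_of_le hsm_flat ha) x hx₁)
    (repByAlgSpWith_mono (fun _ _ _ ha => locP_of_le hsm_lfp ha) x hx₁)
    hx₂
    (repByAlgSpWith_mono (fun _ _ _ ha => locP_of_le hsm_lft ha) x hx₁)

theorem repByAlgSpWith_lft_diag {𝒳 𝒴 : AlgSt.Cat S}
    (h𝒳 : AlgSt.IsAlgStack Scheme.fppfPrecoverage 𝒳)
    (h𝒴 : AlgSt.IsAlgStack Scheme.fppfPrecoverage 𝒴) (f : 𝒳 ⥤ᵇ 𝒴) :
    AlgSt.RepByAlgSpWith (AlgSp.LocP @LocallyOfFiniteType) (FibCat.diag f) := by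
  have h0 : AlgSt.RepByAlgSpWith (AlgSp.LocP @LocallyOfFiniteType)
      (FibCat.diag (BasedFunctor.comp f (FibCat.toSelf 𝒴))) := by
    rw [toSelf_comp]
    exact repByAlgSpWith_lft_diag_toSelf h𝒳
  have hc := repByAlgSpWith_cFun topP f (FibCat.toSelf 𝒴) ((repByAlgSp1_iff_top _).1 h𝒴.diag)
  have h3 := repByAlgSpWith_of_iso _ (diagCompIso f (FibCat.toSelf 𝒴)) h0
  exact repByAlgSpWith_cancel (P := AlgSp.LocP @LocallyOfFiniteType) (P' := topP)
    (goodP_locP etLoc_locallyOfFiniteType).baseChange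
    (fun _ _ _ hX hY hZ a b _ hab =>
      locP_cancel (Q := ⊤) etLoc_locallyOfFiniteType cancel_lft hX hY hZ a b
        (fun _ _ _ _ _ _ _ _ => trivial) hab)
    (FibCat.diag f) (cFun f (FibCat.toSelf 𝒴)) hc h3

end Groth.Agent.H28.RepComp
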