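import Mathlib
import Groth.Agent.H28.DiagDict
import Groth.Agent.H28.DiagLFT
import Groth.Agent.H28.RepMore
import Groth.Agent.S10519
import Groth.Agent.S10521

/-!
# Separation conditions for morphisms representable by algebraic spaces via the diagonal
-/

set_option autoImplicit false
set_option linter.style.haveILetI false
set_option backward.isDefEq.respectTransparency false
set_option backward.isDefEq.respectTransparency.types false

namespace Groth.Agent.H28.RepComp

open CategoryTheory CategoryTheory.Limits FibCat AlgebraicGeometry Opposite Stk MorphismProperty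
open Groth.Agent.Helper22 Groth.Agent.Helper22.EquivComp Groth.Agent.Helper22.FpSq
open Groth.Agent.Helper22.FpEquiv Groth.Agent.H28.LiftFp
open Groth.Agent.H28.FpBase Groth.Agent.H28.PshDict Groth.Agent.H28.IsoCl
open Groth.Agent.H25.AS

universe u

variable {S : Scheme.{u}}

theorem goodP_qc : GoodP (AlgSp.IsQuasiCompactMor (S := S)) :=
  goodP_of_fppf _
    (fun _ _ _ _ _ _ _ _ _ _ _ _ sq ha => isQuasiCompactMor_of_isPullback sq ha)
    (fun _ _ _ _ hY hZ a b ha hb => isQuasiCompactMor_comp hY hZ.diag a b ha hb)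
    (isLocalOnBase_fppf_of_fpqc (Groth.Agent.S10519.result S))

theorem goodP_univClosed : GoodP (AlgSp.IsUnivClosedMor (S := S)) :=
  goodP_of_fppf _
    (fun _ _ _ _ _ _ _ _ _ _ _ _ sq ha => univSp_of_isPullback sq ha)
    (fun _ _ _ _ hY hZ a b ha hb => isUnivClosedMor_comp hY hZ.diag a b ha hb)
    (isLocalOnBase_fppf_of_fpqc (Groth.Agent.S10521.result S))

theorem cancelIso_qs : CancelIso (AlgSp.IsQuasiSeparatedMor (S := S)) :=
  cancelIso_of_baseChange _
    (fun _ _ _ _ _ _ _ _ _ _ _ _ sq ha => isQuasiSeparatedMor_of_isPullback sq ha)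

theorem cancelIso_sep : CancelIso (AlgSp.IsSeparatedMor (S := S)) :=
  cancelIso_of_baseChange _
    (fun _ _ _ _ _ _ _ _ _ _ _ _ sq ha => isSeparatedMor_of_isPullback sq ha)

variable {𝒳 𝒴 : AlgSt.Cat S}

/-- quasi-separated base changes iff quasi-compact diagonal -/
theorem repByAlgSpWith_qs_iff_diag_qc (f : 𝒳 ⥤ᵇ 𝒴) (hf : AlgSt.RepByAlgSp1 f) :
    AlgSt.RepByAlgSpWith AlgSp.IsQuasiSeparatedMor f ↔
      AlgSt.RepByAlgSpWith AlgSp.IsQuasiCompactMor (FibCat.diag f) := by
  constructor
  · intro h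
    refine repByAlgSpWith_diag_of_diagonal goodP_qc f (fun U y => ?_)
    obtain ⟨F, e, he, hqs⟩ := h U y
    exact ⟨F, e, he, isQuasiCompactMor_of_repWith _ hqs⟩
  · intro h U y
    obtain ⟨F, e, he⟩ := hf U y
    refine ⟨F, e, he, ?_⟩
    have hd := diagonal_of_repByAlgSpWith_diag goodP_qc f h y F e he
    exact repWith_quasiCompact_of_isQuasiCompactMor _
      (representable_diagonal_of_diag F.property.diag _) hd

/-- the stacky notion of quasi-separated agrees with the representable one -/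
theorem isQuasiSeparatedMor_iff_rep (f : 𝒳 ⥤ᵇ 𝒴) (hf : AlgSt.RepByAlgSp1 f) :
    AlgSt.IsQuasiSeparatedMor f ↔ AlgSt.RepByAlgSpWith AlgSp.IsQuasiSeparatedMor f := by
  constructor
  · intro h U y
    obtain ⟨F, e, he⟩ := hf U y
    refine ⟨F, e, he, ?_⟩
    have hd := diagonal_of_repByAlgSpWith_diag goodP_qcqs f h y F e he
    exact repWith_quasiCompact_of_isQuasiCompactMor _
      (representable_diagonal_of_diag F.property.diag _) hd.1
  · intro h
    refine repByAlgSpWith_diag_of_diagonal goodP_qcqs f (fun U y => ?_)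
    obtain ⟨F, e, he, hqs⟩ := h U y
    exact ⟨F, e, he, ⟨isQuasiCompactMor_of_repWith _ hqs, isQuasiSeparatedMor_of_mono _⟩⟩

/-- separated base changes iff the diagonal is a closed immersion -/
theorem repByAlgSpWith_sep_imp_diag_closedImm (f : 𝒳 ⥤ᵇ 𝒴)
    (h : AlgSt.RepByAlgSpWith AlgSp.IsSeparatedMor f) : AlgSt.IsClosedImm (FibCat.diag f) := by
  refine repByAlgSpWith_diag_of_diagonal (goodP_repWith @IsClosedImmersion) f (fun U y => ?_)
  obtain ⟨F, e, he, hsep⟩ := h U y
  exact ⟨F, e, he, hsep⟩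

theorem repByAlgSpWith_sep_of_diag_univClosed (f : 𝒳 ⥤ᵇ 𝒴) (hf : AlgSt.RepByAlgSp1 f)
    (h : AlgSt.RepByAlgSpWith AlgSp.IsUnivClosedMor (FibCat.diag f)) :
    AlgSt.RepByAlgSpWith AlgSp.IsSeparatedMor f := by
  intro U y
  obtain ⟨F, e, he⟩ := hf U y
  exact ⟨F, e, he, (isSeparatedMor_iff_isUnivClosedMor_diagonal F.property _).2
    (diagonal_of_repByAlgSpWith_diag goodP_univClosed f h y F e he)⟩

end Groth.Agent.H28.RepComp
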