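import Mathlib
import Groth.Agent.H28.FpDiag

/-!
# A section of a morphism is a base change of its diagonal
-/

set_option autoImplicit false
set_option linter.style.haveILetI false
set_option backward.isDefEq.respectTransparency false
set_option backward.isDefEq.respectTransparency.types false

namespace Groth.Agent.H28.FpBase

open CategoryTheory CategoryTheory.Limits FibCat AlgebraicGeometry
open Groth.Agent.Helper22 Groth.Agent.Helper22.EquivComp Groth.Agent.Helper22.FpSq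
open Groth.Agent.H28.LiftFp

universe v u

section sec
variable {C : Type u} [Category.{v} C] {𝒳 𝒯 : BasedCategory.{v, max u v} C}
  (f : 𝒳 ⥤ᵇ 𝒯) (s : 𝒯 ⥤ᵇ 𝒳) (e : BasedFunctor.comp s f ≅ BasedFunctor.id 𝒯)

/-- components of `e` -/
def eApp (t : 𝒯.obj) : f.obj (s.obj t) ≅ t where
  hom := e.hom.toNatTrans.app t
  inv := e.inv.toNatTrans.app t
  hom_inv_id := hom_inv_app e t
  inv_hom_id := inv_hom_app e t

theorem eApp_nat {t t' : 𝒯.obj} (m : t ⟶ t') :
    f.map (s.map m) ≫ (eApp f s e t').hom = (eApp f s e t).hom ≫ m :=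
  e.hom.toNatTrans.naturality m

theorem eApp_inv_nat {t t' : 𝒯.obj} (m : t ⟶ t') :
    m ≫ (eApp f s e t').inv = (eApp f s e t).inv ≫ f.map (s.map m) :=
  e.inv.toNatTrans.naturality m

/-- `f ≅ f ⋙ s ⋙ f` -/
def secTheta : BasedFunctor.comp (BasedFunctor.id 𝒳) f ≅
    BasedFunctor.comp (BasedFunctor.comp f s) f :=
  (whiskerLeftIso f e).symm

/-- `(id, s ∘ f) : 𝒳 ⟶ 𝒳 ×_𝒯 𝒳` -/
def bSec : 𝒳 ⥤ᵇ FibCat.fp f f :=
  FibCat.fpLift (BasedFunctor.id 𝒳) (BasedFunctor.comp f s) (secTheta f s e)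

theorem bSec_iso_hom (x : 𝒳.obj) :
    ((bSec f s e).obj x).obj.iso.hom = (eApp f s e (f.obj x)).inv := rfl

theorem secEps_w (t : 𝒯.obj) :
    f.map (𝟙 (s.obj t)) ≫ 𝟙 (f.obj (s.obj t)) =
      (eApp f s e (f.obj (s.obj t))).inv ≫ f.map (s.map (eApp f s e t).hom) := by
  rw [← eApp_inv_nat, Iso.hom_inv_id, f.toFunctor.map_id, Category.comp_id]

/-- the 2-isomorphism defining `Esec` -/
def secEps : BasedFunctor.comp s (bSec f s e) ≅ BasedFunctor.comp s (FibCat.diag f) :=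
  BasedNatIso.mkNatIso
    (NatIso.ofComponents (fun t => ObjectProperty.isoMk _
        (CategoryTheory.Limits.CategoricalPullback.mkIso (Iso.refl (s.obj t))
          (s.toFunctor.mapIso (eApp f s e t)) (secEps_w f s e t)))
      (by
        intro t t' m
        apply ObjectProperty.hom_ext
        apply CategoryTheory.Limits.CategoricalPullback.hom_ext
        · exact (Category.comp_id _).trans (Category.id_comp _).symm
        · show s.map (f.map (s.map m)) ≫ s.map (eApp f s e t').hom =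
            s.map (eApp f s e t).hom ≫ s.map m
          rw [← s.toFunctor.map_comp, ← s.toFunctor.map_comp, eApp_nat]))
    (fun t => (Groth.Agent.H13.fp_isHomLift_iff f f _ _).2
      (IsHomLift.id (s.w_obj t)))

/-- the comparison functor `𝒯 ⟶ 𝒳 ×_{𝒳 ×_𝒯 𝒳} 𝒳` -/
def Esec : 𝒯 ⥤ᵇ FibCat.fp (bSec f s e) (FibCat.diag f) :=
  FibCat.fpLift s s (secEps f s e)

theorem Esec_comp_fpFst :
    BasedFunctor.comp (Esec f s e) (FibCat.fpFst (bSec f s e) (FibCat.diag f)) = s := rfl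

include f e in
theorem sec_faithful {X Y : 𝒯.obj} {m m' : X ⟶ Y} (h : s.map m = s.map m') : m = m' := by
  have n1 := eApp_nat f s e m
  have n2 := eApp_nat f s e m'
  rw [h] at n1
  have h3 : (eApp f s e X).hom ≫ m = (eApp f s e X).hom ≫ m' := n1.symm.trans n2
  have key : ∀ k : X ⟶ Y, k = (eApp f s e X).inv ≫ ((eApp f s e X).hom ≫ k) := by
    intro k; rw [← Category.assoc, Iso.inv_hom_id, Category.id_comp]
  calc m = (eApp f s e X).inv ≫ ((eApp f s e X).hom ≫ m) := key m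
    _ = (eApp f s e X).inv ≫ ((eApp f s e X).hom ≫ m') := by rw [h3]
    _ = m' := (key m').symm

theorem sec_key {E : Type*} [Category E] {p q r : E} (K₁ : p ≅ r) (K₂ : q ⟶ r) (ε : q ≅ p)
    (hw : K₁.hom ≫ 𝟙 r = ε.inv ≫ K₂) : K₂ ≫ K₁.inv = ε.hom := by
  rw [Category.comp_id] at hw
  have h : K₂ = ε.hom ≫ K₁.hom := by rw [hw]; simp
  rw [h]; simp

theorem sec_full_key {X Y : 𝒯.obj} (n₁ n₂ : s.obj X ⟶ s.obj Y)
    (h : s.map (f.map n₁) ≫ s.map (eApp f s e Y).hom = s.map (eApp f s e X).hom ≫ n₂) :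
    s.map ((eApp f s e X).inv ≫ f.map n₁ ≫ (eApp f s e Y).hom) = n₂ := by
  rw [s.toFunctor.map_comp, s.toFunctor.map_comp, h, ← Category.assoc, ← s.toFunctor.map_comp,
    Iso.inv_hom_id, s.toFunctor.map_id, Category.id_comp]

lemma isEquivOver_Esec : FibCat.IsEquivOver (Esec f s e) := by
  haveI hfa : (Esec f s e).toFunctor.Faithful := by
    refine ⟨?_⟩
    intro X Y m m' h
    have h1 : s.map m = s.map m' := congrArg (fun t => t.hom.fst) h
    exact sec_faithful f s e h1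
  haveI hfu : (Esec f s e).toFunctor.Full := by
    refine ⟨?_⟩
    intro X Y n
    let n₁ : s.obj X ⟶ s.obj Y := n.hom.fst
    let n₂ : s.obj X ⟶ s.obj Y := n.hom.snd
    have hw := n.hom.w
    have h12 : n₁ = n₂ := by
      have h1 : n₁ ≫ 𝟙 _ = 𝟙 _ ≫ n₂ := congrArg (fun t => t.hom.fst) hw
      rw [Category.comp_id, Category.id_comp] at h1
      exact h1
    have h2 : s.map (f.map n₁) ≫ s.map (eApp f s e Y).hom = s.map (eApp f s e X).hom ≫ n₂ :=
      congrArg (fun t => t.hom.snd) hw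
    have h3 := sec_full_key f s e n₁ n₂ h2
    refine ⟨(eApp f s e X).inv ≫ f.map n₁ ≫ (eApp f s e Y).hom, ?_⟩
    apply ObjectProperty.hom_ext
    apply CategoryTheory.Limits.CategoricalPullback.hom_ext
    · exact h3.trans h12.symm
    · exact h3
  apply FibLift.isEquivOver_of_ff
  intro η
  let x : 𝒳.obj := η.obj.fst
  let x' : 𝒳.obj := η.obj.snd
  let k : (bSec f s e).obj x ≅ (FibCat.diag f).obj x' := η.obj.iso
  have hk : (FibCat.fp f f).p.IsHomLift (𝟙 (𝒳.p.obj x)) k.hom := η.property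
  let k₁ : x ≅ x' := (FibCat.fpFst f f).toFunctor.mapIso k
  let k₂ : s.obj (f.obj x) ≅ x' := (FibCat.fpSnd f f).toFunctor.mapIso k
  have hkw : f.map k₁.hom ≫ 𝟙 _ = (eApp f s e (f.obj x)).inv ≫ f.map k₂.hom := k.hom.hom.w
  have hkey : f.map k₂.hom ≫ f.map k₁.inv = (eApp f s e (f.obj x)).hom :=
    sec_key (f.toFunctor.mapIso k₁) (f.map k₂.hom) (eApp f s e (f.obj x)) hkw
  let a : s.obj (f.obj x) ≅ x := k₂ ≪≫ k₁.symm
  have hfa' : f.map a.hom = (eApp f s e (f.obj x)).hom := by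
    show f.map (k₂.hom ≫ k₁.inv) = _
    rw [f.toFunctor.map_comp]
    exact hkey
  let ee : (Esec f s e).obj (f.obj x) ≅ η := ObjectProperty.isoMk _
    (CategoryTheory.Limits.CategoricalPullback.mkIso a k₂ (by
      apply ObjectProperty.hom_ext
      apply CategoryTheory.Limits.CategoricalPullback.hom_ext
      · show (k₂.hom ≫ k₁.inv) ≫ k₁.hom = 𝟙 _ ≫ k₂.hom
        rw [Category.assoc, Iso.inv_hom_id, Category.comp_id, Category.id_comp]
      · show s.map (f.map a.hom) ≫ k₂.hom = s.map (eApp f s e (f.obj x)).hom ≫ k₂.hom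
        rw [hfa']))
  refine ⟨f.obj x, ee, ?_⟩
  refine (Groth.Agent.H13.fp_isHomLift_iff (bSec f s e) (FibCat.diag f) ee.hom _).2 ?_
  haveI h1 : 𝒳.p.IsHomLift (𝟙 (𝒳.p.obj x)) k₁.hom :=
    @BasedFunctor.preserves_isHomLift _ _ _ _ (FibCat.fpFst f f) _ _ _ _ _ k.hom hk
  haveI h2 : 𝒳.p.IsHomLift (𝟙 (𝒳.p.obj x)) k₂.hom :=
    @BasedFunctor.preserves_isHomLift _ _ _ _ (FibCat.fpSnd f f) _ _ _ _ _ k.hom hk
  haveI h3 : 𝒳.p.IsHomLift (𝟙 (𝒳.p.obj x)) k₁.inv := inferInstance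
  show 𝒳.p.IsHomLift (𝟙 (𝒳.p.obj x)) (k₂.hom ≫ k₁.inv)
  infer_instance

end sec

section AlgStack

variable {S : Scheme.{u}} {𝒳 𝒯 : AlgSt.Cat S}

theorem repByAlgSpWith_section (P : MorphismProperty (AlgSp.Sp S)) (f : 𝒳 ⥤ᵇ 𝒯) (s : 𝒯 ⥤ᵇ 𝒳)
    (e : BasedFunctor.comp s f ≅ BasedFunctor.id 𝒯)
    (h : AlgSt.RepByAlgSpWith P (FibCat.diag f)) : AlgSt.RepByAlgSpWith P s := by
  have h1 : AlgSt.RepByAlgSpWith P (FibCat.fpFst (bSec f s e) (FibCat.diag f)) :=
    repByAlgSpWith_fpFst P (FibCat.diag f) (bSec f s e) h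
  exact repByAlgSpWith_of_sq' P (FibCat.fpFst (bSec f s e) (FibCat.diag f)) s
    (Esec f s e) (BasedFunctor.id _) (isEquivOver_Esec f s e) isEquivOver_id (Iso.refl _) h1

end AlgStack

end Groth.Agent.H28.FpBase
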