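import Mathlib
import Groth.Agent.H28.DiagRep2
import Groth.Agent.H13.TwoYoneda

/-!
# A monomorphism representable by algebraic spaces is fully faithful
-/

set_option autoImplicit false
set_option linter.style.haveILetI false
set_option backward.isDefEq.respectTransparency false
set_option backward.isDefEq.respectTransparency.types false

namespace Groth.Agent.H28.MonoFF

open CategoryTheory CategoryTheory.Limits FibCat AlgebraicGeometry Opposite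
open Groth.Agent.Helper22 Groth.Agent.Helper22.EquivComp Groth.Agent.H28.LiftFp
open Groth.Agent.H28.FpBase

universe u

variable {S : Scheme.{u}}

theorem sec_inj_of_mono {F G : AlgSp.Sp S} (g : F ⟶ G) [Mono g] {R : Over S}
    (s₁ s₂ : F.obj.obj (op R)) (h : g.hom.app (op R) s₁ = g.hom.app (op R) s₂) : s₁ = s₂ := by
  let ŝ₁ : (AlgSp.yon S).obj R ⟶ F := (AlgSp.J S).uliftYonedaEquiv.symm s₁
  let ŝ₂ : (AlgSp.yon S).obj R ⟶ F := (AlgSp.J S).uliftYonedaEquiv.symm s₂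
  have h' : ŝ₁ ≫ g = ŝ₂ ≫ g := by
    show (AlgSp.J S).uliftYonedaEquiv.symm s₁ ≫ g = (AlgSp.J S).uliftYonedaEquiv.symm s₂ ≫ g
    rw [GrothendieckTopology.uliftYonedaEquiv_symm_naturality_right,
      GrothendieckTopology.uliftYonedaEquiv_symm_naturality_right, h]
  have h'' : ŝ₁ = ŝ₂ := (cancel_mono g).1 h'
  have e := congrArg (fun k => (AlgSp.J S).uliftYonedaEquiv k) h''
  simpa [ŝ₁, ŝ₂] using e

theorem secHom_of_lift {F : AlgSp.Sp S} {T : Over S} (Φ : AlgSt.ofSp F ⥤ᵇ FibCat.overCat T)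
    (o : (AlgSt.ofSp F).obj) (t : Over T) (m : Φ.obj o ⟶ t)
    (hm : (FibCat.overCat T).p.IsHomLift (𝟙 t.left) m) (ho : o.base = t.left) :
    AlgSt.secHom Φ o = eqToHom ho ≫ t.hom := by
  have h1 : m.left ≫ t.hom = (Φ.obj o).hom := Over.w m
  have h2 : m.left = eqToHom (IsHomLift.domain_eq (FibCat.overCat T).p (𝟙 t.left) m) ≫
      𝟙 t.left ≫ eqToHom (IsHomLift.codomain_eq (FibCat.overCat T).p (𝟙 t.left) m).symm :=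
    IsHomLift.fac' (FibCat.overCat T).p (𝟙 t.left) m
  simp only [AlgSt.secHom, ← h1, h2, Category.assoc, Category.id_comp, eqToHom_trans_assoc,
    eqToHom_refl]

theorem eq_of_mono {F : AlgSp.Sp S} {T : Over S} (Φ : AlgSt.ofSp F ⥤ᵇ FibCat.overCat T)
    [Mono (AlgSt.spMapOfOver Φ)] (o₁ o₂ : (AlgSt.ofSp F).obj) (h₁ : o₁.base = T)
    (h₂ : o₂.base = T)
    (h : eqToHom h₁.symm ≫ AlgSt.secHom Φ o₁ = eqToHom h₂.symm ≫ AlgSt.secHom Φ o₂) :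
    o₁ = o₂ := by
  obtain ⟨b₁, s₁⟩ := o₁
  obtain ⟨b₂, s₂⟩ := o₂
  dsimp only at h₁ h₂
  subst h₁
  subst h₂
  simp only [eqToHom_refl, Category.id_comp] at h
  have hs : s₁ = s₂ := by
    apply sec_inj_of_mono (AlgSt.spMapOfOver Φ) s₁ s₂
    rw [AlgSt.spMapOfOver_app, AlgSt.spMapOfOver_app]
    exact congrArg ULift.up h
  rw [hs]

theorem repByAlgSp1_of_with {𝒳 𝒴 : AlgSt.Cat S} {P : MorphismProperty (AlgSp.Sp S)}
    {f : 𝒳 ⥤ᵇ 𝒴} (h : AlgSt.RepByAlgSpWith P f) : AlgSt.RepByAlgSp1 f := by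
  intro U y
  obtain ⟨F, e, he, -⟩ := h U y
  exact ⟨F, e, he⟩

variable {𝒳 𝒴 : AlgSt.Cat S} (j : 𝒳 ⥤ᵇ 𝒴)

theorem fiber_full_of_isMono (h𝒳 : FibCat.IsFibGrpd 𝒳.p) (h𝒴 : FibCat.IsFibGrpd 𝒴.p)
    (hj : AlgSt.IsMono j) (T : Over S) (a b : 𝒳.obj) (ha : 𝒳.p.obj a = T)
    (n : j.obj a ⟶ j.obj b) (hn : 𝒴.p.IsHomLift (𝟙 T) n) :
    ∃ ψ : a ⟶ b, 𝒳.p.IsHomLift (𝟙 T) ψ ∧ j.map ψ = n := by
  haveI : 𝒳.p.IsFibered := Groth.Agent.H13.FibGrpd.isFibered h𝒳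
  let t₀ : (FibCat.overCat T).obj := Over.mk (𝟙 T)
  have ht : Limits.IsTerminal t₀ := Over.mkIdTerminal
  let â : FibCat.overCat T ⥤ᵇ 𝒳 := Groth.Agent.H13.TwoYoneda.pbFunctor ht a ha
  let π : â.obj t₀ ⟶ a := Groth.Agent.H13.TwoYoneda.pbπ ht a ha t₀
  haveI hπl : 𝒳.p.IsHomLift (𝟙 T) π := Groth.Agent.H13.TwoYoneda.pbπ_id_lift ht a ha
  haveI hπi : IsIso π := Groth.Agent.H13.TwoYoneda.pbπ_id_isIso ht a ha
  let y : FibCat.overCat T ⥤ᵇ 𝒴 := BasedFunctor.comp â j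
  haveI := hn
  haveI hni : IsIso n := @Groth.Agent.H13.FibGrpd.isIso_of_lift_id _ _ _ _ _ h𝒴 T _ _ n hn
  haveI hjπ : 𝒴.p.IsHomLift (𝟙 T) (j.map π) :=
    @BasedFunctor.preserves_isHomLift _ _ _ _ j _ _ _ _ (𝟙 T) π hπl
  let i₁ : y.obj t₀ ≅ j.obj a := j.toFunctor.mapIso (asIso π)
  let i₂ : y.obj t₀ ≅ j.obj b := i₁ ≪≫ asIso n
  have hi₁ : 𝒴.p.IsHomLift (𝟙 T) i₁.hom := hjπ
  have hi₂ : 𝒴.p.IsHomLift (𝟙 T) i₂.hom := by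
    show 𝒴.p.IsHomLift (𝟙 T) (j.map π ≫ n)
    infer_instance
  let ξ₁ : (FibCat.fp y j).obj := ⟨⟨t₀, a, i₁⟩, hi₁⟩
  let ξ₂ : (FibCat.fp y j).obj := ⟨⟨t₀, b, i₂⟩, hi₂⟩
  obtain ⟨F, ε, hε, hmono⟩ := hj T y
  haveI : Mono (AlgSt.spMapOfOver (BasedFunctor.comp ε (FibCat.fpFst y j))) := hmono
  obtain ⟨G, ⟨β₁⟩, ⟨β₂⟩⟩ := id hε
  have hB := Groth.Agent.H28.DiagRep.mu_iff_eq ε G β₂ ξ₁ ξ₂ T rfl rfl
  have key : ∀ (ξ : (FibCat.fp y j).obj) (ho : (G.obj ξ).base = ξ.obj.fst.left),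
      AlgSt.secHom (BasedFunctor.comp ε (FibCat.fpFst y j)) (G.obj ξ) =
        eqToHom ho ≫ ξ.obj.fst.hom := by
    intro ξ ho
    have hl : (FibCat.fp y j).p.IsHomLift (𝟙 ((FibCat.fp y j).p.obj ξ))
        (β₂.hom.toNatTrans.app ξ) := β₂.hom.isHomLift' ξ
    have hm := @BasedFunctor.preserves_isHomLift _ _ _ _ (FibCat.fpFst y j) _ _ _ _ _
      (β₂.hom.toNatTrans.app ξ) hl
    exact secHom_of_lift (BasedFunctor.comp ε (FibCat.fpFst y j)) (G.obj ξ) ξ.obj.fst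
      ((FibCat.fpFst y j).map (β₂.hom.toNatTrans.app ξ)) hm ho
  have h₁ : (G.obj ξ₁).base = T := G.w_obj ξ₁
  have h₂ : (G.obj ξ₂).base = T := G.w_obj ξ₂
  have e₁ := key ξ₁ h₁
  have e₂ := key ξ₂ h₂
  have hGG : G.obj ξ₁ = G.obj ξ₂ := by
    refine eq_of_mono (BasedFunctor.comp ε (FibCat.fpFst y j)) _ _ h₁ h₂ ?_
    rw [e₁, e₂]
    simp only [eqToHom_trans_assoc, eqToHom_refl, Category.id_comp]
    rfl
  obtain ⟨μ, hμ⟩ := hB.2 hGG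
  have h0 : μ.hom.fst = 𝟙 t₀ := ht.hom_ext _ _
  have hl : 𝒳.p.IsHomLift (𝟙 T) μ.hom.snd :=
    @BasedFunctor.preserves_isHomLift _ _ _ _ (FibCat.fpSnd y j) _ _ _ _ _ μ hμ
  have hw : y.map μ.hom.fst ≫ i₂.hom = i₁.hom ≫ j.map μ.hom.snd := μ.hom.w
  have e1 : y.map μ.hom.fst = 𝟙 _ := by
    rw [h0]
    exact y.toFunctor.map_id _
  rw [e1, Category.id_comp] at hw
  refine ⟨μ.hom.snd, hl, ?_⟩
  have h3 : i₁.hom ≫ n = i₁.hom ≫ j.map μ.hom.snd := hw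
  exact ((cancel_epi i₁.hom).1 h3).symm

theorem full_of_isMono (h𝒳 : FibCat.IsFibGrpd 𝒳.p) (h𝒴 : FibCat.IsFibGrpd 𝒴.p)
    (hj : AlgSt.IsMono j) : j.toFunctor.Full := by
  refine ⟨?_⟩
  intro a b m
  let g' : 𝒳.p.obj a ⟶ 𝒳.p.obj b :=
    eqToHom (j.w_obj a).symm ≫ 𝒴.p.map m ≫ eqToHom (j.w_obj b)
  obtain ⟨b', c, hc⟩ := Groth.Agent.H13.FibGrpd.exists_lift' h𝒳 (x := b) rfl g'
  haveI := hc
  haveI hjc : 𝒴.p.IsHomLift g' (j.map c) :=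
    @BasedFunctor.preserves_isHomLift _ _ _ _ j _ _ _ _ g' c hc
  haveI hm : 𝒴.p.IsHomLift g' m := IsHomLift.of_fac' 𝒴.p g' m (j.w_obj a) (j.w_obj b) (by simp [g'])
  haveI hsc : 𝒴.p.IsStronglyCartesian g' (j.map c) :=
    Groth.Agent.H13.FibGrpd.isStronglyCartesian' h𝒴 g' (j.map c)
  have hu : g' = 𝟙 (𝒳.p.obj a) ≫ g' := (Category.id_comp g').symm
  let n : j.obj a ⟶ j.obj b' := Functor.IsStronglyCartesian.map 𝒴.p g' (j.map c) hu m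
  have hn : 𝒴.p.IsHomLift (𝟙 (𝒳.p.obj a)) n := inferInstance
  have hfac : n ≫ j.map c = m := Functor.IsStronglyCartesian.fac 𝒴.p g' (j.map c) hu m
  obtain ⟨ψ, -, hψ⟩ := fiber_full_of_isMono j h𝒳 h𝒴 hj (𝒳.p.obj a) a b' rfl n hn
  refine ⟨ψ ≫ c, ?_⟩
  have h4 : j.map (ψ ≫ c) = j.map ψ ≫ j.map c := j.toFunctor.map_comp _ _
  rw [← hfac, ← hψ]
  exact h4

theorem full_faithful_of_isMono (h𝒳 : FibCat.IsFibGrpd 𝒳.p) (h𝒴 : FibCat.IsFibGrpd 𝒴.p)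
    (hj : AlgSt.IsMono j) : j.toFunctor.Full ∧ j.toFunctor.Faithful :=
  ⟨full_of_isMono j h𝒳 h𝒴 hj,
    faithful_of_repByAlgSp1 h𝒳 h𝒴 j (repByAlgSp1_of_with hj)⟩

end Groth.Agent.H28.MonoFF
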