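import Mathlib
import Groth.Agent.H28.DiagSep
import Groth.Agent.H28.FpSec
import Groth.Agent.H28.MonoFF
import Groth.Agent.H25.AlgSp39
import Groth.Agent.S6402

/-!
# The relative inertia, the diagonal and the second diagonal
-/

set_option autoImplicit false
set_option linter.style.haveILetI false
set_option backward.isDefEq.respectTransparency false
set_option backward.isDefEq.respectTransparency.types false

namespace Groth.Agent.H28.RepComp

open CategoryTheory CategoryTheory.Limits FibCat AlgebraicGeometry Opposite Stk MorphismProperty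
open Groth.Agent.Helper22 Groth.Agent.Helper22.EquivComp Groth.Agent.Helper22.FpSq
open Groth.Agent.Helper22.FpEquiv Groth.Agent.H28.LiftFp
open Groth.Agent.H28.FpBase Groth.Agent.H28.PshDict Groth.Agent.H28.IsoCl
open Groth.Agent.H25.AS

universe u

variable {S : Scheme.{u}} {𝒳 𝒴 : AlgSt.Cat S} (f : 𝒳 ⥤ᵇ 𝒴)

theorem isEquivOver_inertiaE : FibCat.IsEquivOver (Groth.Agent.S6402aux.E f) :=
  ⟨Groth.Agent.S6402aux.G f, ⟨Groth.Agent.S6402aux.iso1 f⟩, ⟨Groth.Agent.S6402aux.iso2 f⟩⟩

/-- the inertia is a base change of the diagonal -/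
theorem repByAlgSpWith_inertiaToBase (P : MorphismProperty (AlgSp.Sp S))
    (h : AlgSt.RepByAlgSpWith P (FibCat.diag f)) :
    AlgSt.RepByAlgSpWith P (FibCat.inertiaToBase f) :=
  repByAlgSpWith_of_sq' P (FibCat.fpFst (FibCat.diag f) (FibCat.diag f)) (FibCat.inertiaToBase f)
    (Groth.Agent.S6402aux.E f) (BasedFunctor.id _) (isEquivOver_inertiaE f) isEquivOver_id
    (Iso.refl _) (repByAlgSpWith_fpFst P (FibCat.diag f) (FibCat.diag f) h)

/-- the neutral section is the second diagonal -/
theorem repByAlgSpWith_inertiaNeutral_iff (P : MorphismProperty (AlgSp.Sp S)) :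
    AlgSt.RepByAlgSpWith P (FibCat.inertiaNeutral f) ↔
      AlgSt.RepByAlgSpWith P (FibCat.diag (FibCat.diag f)) :=
  ⟨fun h => repByAlgSpWith_of_sq P (FibCat.diag (FibCat.diag f)) (FibCat.inertiaNeutral f)
      (BasedFunctor.id _) (Groth.Agent.S6402aux.E f) isEquivOver_id (isEquivOver_inertiaE f)
      (Iso.refl _) h,
    fun h => repByAlgSpWith_of_sq' P (FibCat.diag (FibCat.diag f)) (FibCat.inertiaNeutral f)
      (BasedFunctor.id _) (Groth.Agent.S6402aux.E f) isEquivOver_id (isEquivOver_inertiaE f)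
      (Iso.refl _) h⟩

/-- the neutral section is a base change of the diagonal of the inertia -/
theorem repByAlgSpWith_inertiaNeutral_of_diag (P : MorphismProperty (AlgSp.Sp S))
    (h : AlgSt.RepByAlgSpWith P (FibCat.diag (FibCat.inertiaToBase f))) :
    AlgSt.RepByAlgSpWith P (FibCat.inertiaNeutral f) :=
  repByAlgSpWith_section P (FibCat.inertiaToBase f) (FibCat.inertiaNeutral f) (Iso.refl _) h

/-- unramified base changes give an open immersion as diagonal -/
theorem isOpenImm_diag_of_unramified (g : 𝒳 ⥤ᵇ 𝒴)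
    (h : AlgSt.RepByAlgSpWith (AlgSp.LocP (@LocallyOfFiniteType ⊓ @FormallyUnramified)) g) :
    AlgSt.IsOpenImm (FibCat.diag g) := by
  refine repByAlgSpWith_diag_of_diagonal (goodP_repWith @IsOpenImmersion) g (fun U y => ?_)
  obtain ⟨F, e, he, hu⟩ := h U y
  exact ⟨F, e, he, repWith_isOpenImmersion_diagonal_of_unramified F.property
    (AlgSp.IsAlgSpace.yon_obj U) _ hu⟩

/-- locally of finite type with an open immersion as diagonal is unramified -/
theorem unramified_of_isOpenImm_diag (g : 𝒳 ⥤ᵇ 𝒴)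
    (hlft : AlgSt.RepByAlgSpWith (AlgSp.LocP @LocallyOfFiniteType) g)
    (h : AlgSt.IsOpenImm (FibCat.diag g)) :
    AlgSt.RepByAlgSpWith (AlgSp.LocP (@LocallyOfFiniteType ⊓ @FormallyUnramified)) g := by
  intro U y
  obtain ⟨F, e, he, hl⟩ := hlft U y
  exact ⟨F, e, he, locP_unramified_of_diagonal F.property (AlgSp.IsAlgSpace.yon_obj U) _ hl
    (diagonal_of_repByAlgSpWith_diag (goodP_repWith @IsOpenImmersion) g h y F e he)⟩

end Groth.Agent.H28.RepComp
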