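import Mathlib
import Groth.Agent.H28.InertiaSep
import Groth.Agent.H28.DiagCover
import Groth.Agent.S10544

/-!
# Factoring the base change of a composite; descending a property along a covering morphism
-/

set_option autoImplicit false
set_option linter.style.haveILetI false
set_option backward.isDefEq.respectTransparency false
set_option backward.isDefEq.respectTransparency.types false

namespace Groth.Agent.H28.RepComp

open CategoryTheory CategoryTheory.Limits FibCat AlgebraicGeometry Opposite Stk MorphismProperty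
open Groth.Agent.Helper22 Groth.Agent.Helper22.EquivComp Groth.Agent.Helper22.FpSq
open Groth.Agent.Helper22.FpEquiv Groth.Agent.H28.LiftFp
open Groth.Agent.H28.FpBase Groth.Agent.H28.PshDict Groth.Agent.H28.IsoCl
open Groth.Agent.H25.AS

universe u

variable {S : Scheme.{u}}

section infs

variable {P Q : MorphismProperty (AlgSp.Sp S)}

theorem descendsP_inf (hP : DescendsP P) (hQ : DescendsP Q) : DescendsP (P ⊓ Q) := by
  intro W G' w hW hG' hrep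
  refine ⟨hP w hW hG' ?_, hQ w hW hG' ?_⟩
  · intro U ξ F' fst snd sq
    obtain ⟨h, hA, hq⟩ := hrep ξ fst snd sq
    exact ⟨h, hA, hq.1⟩
  · intro U ξ F' fst snd sq
    obtain ⟨h, hA, hq⟩ := hrep ξ fst snd sq
    exact ⟨h, hA, hq.2⟩

theorem cancelIso_inf (hP : CancelIso P) (hQ : CancelIso Q) : CancelIso (P ⊓ Q) :=
  fun _ _ _ hX hY hZ e g h => ⟨hP hX hY hZ e g h.1, hQ hX hY hZ e g h.2⟩

theorem repByAlgSpWith_inf {𝒳 𝒴 : AlgSt.Cat S} (hQ : CancelIso Q) (f : 𝒳 ⥤ᵇ 𝒴)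
    (h₁ : AlgSt.RepByAlgSpWith P f) (h₂ : AlgSt.RepByAlgSpWith Q f) :
    AlgSt.RepByAlgSpWith (P ⊓ Q) f := by
  intro U y
  obtain ⟨F, e, he, hP⟩ := h₁ U y
  exact ⟨F, e, he, hP, repByAlgSpWith_any hQ f h₂ y F e he⟩

end infs

section factor

variable {𝒳 𝒴 𝒵 : AlgSt.Cat S}

theorem comp_factor (h𝒳 : FibCat.IsFibGrpd 𝒳.p) (h𝒴 : FibCat.IsFibGrpd 𝒴.p)
    (P : MorphismProperty (AlgSp.Sp S)) (hPiso : CancelIso P) (hD : DescendsP P)
    (f : 𝒳 ⥤ᵇ 𝒴) (g : 𝒴 ⥤ᵇ 𝒵) (hf : AlgSt.RepByAlgSpWith P f)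
    {U : Over S} (z : FibCat.overCat U ⥤ᵇ 𝒵) (G' : AlgSp.Space S)
    (e_g : AlgSt.ofSp G'.obj ⥤ᵇ FibCat.fp z g) (he_g : FibCat.IsEquivOver e_g) :
    ∃ (F' : AlgSp.Space S) (w : F'.obj ⟶ G'.obj)
      (e : AlgSt.ofSp F'.obj ⥤ᵇ FibCat.fp z (BasedFunctor.comp f g)),
      FibCat.IsEquivOver e ∧ P w ∧
      AlgSt.spMapOfOver (BasedFunctor.comp e (FibCat.fpFst z (BasedFunctor.comp f g))) =
        w ≫ AlgSt.spMapOfOver (BasedFunctor.comp e_g (FibCat.fpFst z g)) := by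
  let y' : AlgSt.ofSp G'.obj ⥤ᵇ 𝒴 := BasedFunctor.comp e_g (FibCat.fpSnd z g)
  obtain ⟨W, w₀, Ew, hEw, ⟨κ⟩, hrep⟩ := boot P hPiso h𝒳 h𝒴 f hf G'.obj.obj y'
  have hWP : AlgSp.IsAlgSpaceP W :=
    Groth.Agent.H28.RepBySp.isAlgSpaceP_of_repBySp w₀ hrep.repBySp
      ((AlgSp.isAlgSpaceP_obj_iff _).2 G'.property)
  obtain ⟨hWs, hWa⟩ := hWP
  let F' : AlgSp.Space S := ⟨⟨W, hWs⟩, hWa⟩
  let w : F'.obj ⟶ G'.obj := ObjectProperty.homMk w₀
  have hPw : P w := hD w hWa G'.property hrep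
  obtain ⟨Q, ⟨σ₁⟩, ⟨σ₂⟩⟩ := id (isEquivOver_paste z g f)
  let pre : FibCat.fp y' f ⥤ᵇ FibCat.fp (FibCat.fpSnd z g) f := fpPre e_g (FibCat.fpSnd z g) f
  have hpre : FibCat.IsEquivOver pre := isEquivOver_fpPre e_g (FibCat.fpSnd z g) f he_g
  let e : AlgSt.ofSp F'.obj ⥤ᵇ FibCat.fp z (BasedFunctor.comp f g) :=
    BasedFunctor.comp (BasedFunctor.comp Ew pre) Q
  have he : FibCat.IsEquivOver e :=
    isEquivOver_comp _ _ (isEquivOver_comp _ _ hEw hpre) ⟨_, ⟨σ₂⟩, ⟨σ₁⟩⟩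
  refine ⟨F', w, e, he, hPw, ?_⟩
  have α1 : BasedFunctor.comp e (FibCat.fpFst z (BasedFunctor.comp f g)) ≅
      BasedFunctor.comp (BasedFunctor.comp Ew (FibCat.fpFst y' f))
        (BasedFunctor.comp e_g (FibCat.fpFst z g)) :=
    whiskerLeftIso (BasedFunctor.comp Ew pre)
      (whiskerRightIso σ₂
        (BasedFunctor.comp (FibCat.fpFst (FibCat.fpSnd z g) f) (FibCat.fpFst z g)))
  have α2 : BasedFunctor.comp (BasedFunctor.comp Ew (FibCat.fpFst y' f))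
        (BasedFunctor.comp e_g (FibCat.fpFst z g)) ≅
      BasedFunctor.comp (AlgSt.ofSpMap w) (BasedFunctor.comp e_g (FibCat.fpFst z g)) :=
    whiskerRightIso κ (BasedFunctor.comp e_g (FibCat.fpFst z g))
  rw [spMapOfOver_congr (α1 ≪≫ α2).hom, spMapOfOver_ofSpMap_comp]

/-- Descending a property along a covering morphism `x`. -/
theorem repByAlgSpWith_of_comp_cover (h𝒳 : FibCat.IsFibGrpd 𝒳.p) (h𝒴 : FibCat.IsFibGrpd 𝒴.p)
    (P₁ : MorphismProperty (AlgSp.Sp S)) (hP₁iso : CancelIso P₁) (hD : DescendsP P₁)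
    (P : MorphismProperty (AlgSp.Sp S)) (hPiso : CancelIso P)
    (hloc : ∀ ⦃X Y Z : AlgSp.Sp S⦄, AlgSp.IsAlgSpace X → AlgSp.IsAlgSpace Y → AlgSp.IsAlgSpace Z →
      ∀ (w : X ⟶ Y) (b : Y ⟶ Z), P₁ w → P (w ≫ b) → P b)
    (x : 𝒳 ⥤ᵇ 𝒴) (y : 𝒴 ⥤ᵇ 𝒵) (hy : AlgSt.RepByAlgSp1 y) (hx : AlgSt.RepByAlgSpWith P₁ x)
    (h : AlgSt.RepByAlgSpWith P (BasedFunctor.comp x y)) : AlgSt.RepByAlgSpWith P y := by
  intro U z
  obtain ⟨G', e_g, he_g⟩ := hy U z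
  obtain ⟨F', w, e, he, hPw, heq⟩ := comp_factor h𝒳 h𝒴 P₁ hP₁iso hD x y hx z G' e_g he_g
  refine ⟨G', e_g, he_g, ?_⟩
  have h1 := repByAlgSpWith_any hPiso (BasedFunctor.comp x y) h z F' e he
  rw [heq] at h1
  exact hloc F'.property G'.property (AlgSp.IsAlgSpace.yon_obj U) w _ hPw h1

theorem cancelIso_isEtaleMor : CancelIso (AlgSp.IsEtaleMor (S := S)) := by
  intro X Y Z hX hY hZ e g h
  rw [isEtaleMor_iff_locP hZ] at h ⊢
  exact (goodP_locP etLoc_etale).cancelIso hX hY hZ e g h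

theorem descendsP_isEtaleMor : DescendsP (AlgSp.IsEtaleMor (S := S)) :=
  descendsP_of_fppf _ (isLocalOnBase_fppf_of_fpqc (Groth.Agent.S10544.result S))

end factor

end Groth.Agent.H28.RepComp
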