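import Mathlib
import Groth.Agent.H28.CompFactor
import Groth.Agent.S6401

/-!
# The diagonal of `𝒳` is representable iff all `(Sch/U) ⟶ 𝒳` are
-/

set_option autoImplicit false
set_option linter.style.haveILetI false
set_option backward.isDefEq.respectTransparency false
set_option backward.isDefEq.respectTransparency.types false

namespace Groth.Agent.H28.RepComp

open CategoryTheory CategoryTheory.Limits FibCat AlgebraicGeometry Opposite Stk MorphismProperty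
open Groth.Agent.Helper22 Groth.Agent.Helper22.EquivComp Groth.Agent.Helper22.FpSq
open Groth.Agent.Helper22.FpEquiv Groth.Agent.H28.LiftFp
open Groth.Agent.H28.FpBase Groth.Agent.H28.PshDict Groth.Agent.H28.IsoCl
open Groth.Agent.H25.AS

universe u

variable {S : Scheme.{u}}

theorem repByAlgSp_of_equiv {𝒜 ℬ : AlgSt.Cat S} (E : ℬ ⥤ᵇ 𝒜) (hE : FibCat.IsEquivOver E)
    (h : AlgSt.RepByAlgSp 𝒜) : AlgSt.RepByAlgSp ℬ := by
  obtain ⟨F, eF, heF⟩ := h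
  obtain ⟨G, ⟨β₁⟩, ⟨β₂⟩⟩ := id hE
  exact ⟨F, BasedFunctor.comp eF G, isEquivOver_comp _ _ heF ⟨E, ⟨β₂⟩, ⟨β₁⟩⟩⟩

theorem repByAlgSp_overCat (U : Over S) : AlgSt.RepByAlgSp (FibCat.overCat U) :=
  ⟨⟨(AlgSp.yon S).obj U, AlgSp.IsAlgSpace.yon_obj U⟩, AlgSt.toOverCat U,
    Groth.Agent.H28.DiagRep.isEquivOver_toOverCat U⟩

theorem repByAlgSp_fp_toSelf {U V : Over S} (a : FibCat.overCat V ⥤ᵇ FibCat.selfOver (Over S))
    (b : FibCat.overCat U ⥤ᵇ FibCat.selfOver (Over S)) : AlgSt.RepByAlgSp (FibCat.fp a b) := by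
  have hb : AlgSt.RepByAlgSp1 b :=
    repByAlgSp1_of_repByAlgSp (repByAlgSp_overCat U) repByAlgSp_selfOver b
  exact repByAlgSp_fp (OverFib.isFibGrpd_over U) SelfOver.isFibGrpd_self b a hb
    (repByAlgSp_overCat V)

variable {𝒳 : AlgSt.Cat S}

theorem repByAlgSp1_of_diag (h𝒳 : FibCat.IsFibGrpd 𝒳.p)
    (h : AlgSt.RepByAlgSp1 (FibCat.diag (FibCat.toSelf 𝒳))) {U : Over S}
    (x : FibCat.overCat U ⥤ᵇ 𝒳) : AlgSt.RepByAlgSp1 x := by
  intro V y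
  let t : 𝒳 ⥤ᵇ FibCat.selfOver (Over S) := FibCat.toSelf 𝒳
  let e : BasedFunctor.comp (FibCat.fpFst y x) (BasedFunctor.comp y t) ≅
      BasedFunctor.comp (FibCat.fpSnd y x) (BasedFunctor.comp x t) :=
    whiskerRightIso (FibCat.fpIso y x) t
  have he : ∀ X, e.hom.toNatTrans.app X = t.map X.obj.iso.hom := fun _ => rfl
  have h1 : AlgSt.RepByAlgSp (FibCat.fp (BasedFunctor.comp y t) (BasedFunctor.comp x t)) :=
    repByAlgSp_fp_toSelf _ _
  have hself : FibCat.IsFibGrpd (FibCat.selfOver (Over S)).p := SelfOver.isFibGrpd_self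
  have h2 : AlgSt.RepByAlgSp (FibCat.fp (pB y x t) (FibCat.diag t)) :=
    repByAlgSp_fp h𝒳 (Groth.Agent.S6401.result t t h𝒳 h𝒳 hself) (FibCat.diag t) (pB y x t) h h1
  exact repByAlgSp_of_equiv (pE y x t e he) (isEquivOver_pE y x t e he) h2

theorem repByAlgSp1_diag_of_pts
    (h : ∀ (U : Over S) (x : FibCat.overCat U ⥤ᵇ 𝒳), AlgSt.RepByAlgSp1 x) :
    AlgSt.RepByAlgSp1 (FibCat.diag (FibCat.toSelf 𝒳)) := by
  intro U z
  let t : 𝒳 ⥤ᵇ FibCat.selfOver (Over S) := FibCat.toSelf 𝒳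
  let z₁ : FibCat.overCat U ⥤ᵇ 𝒳 := BasedFunctor.comp z (FibCat.fpFst t t)
  let z₂ : FibCat.overCat U ⥤ᵇ 𝒳 := BasedFunctor.comp z (FibCat.fpSnd t t)
  let e : BasedFunctor.comp (FibCat.fpFst z₁ z₂) (BasedFunctor.comp z₁ t) ≅
      BasedFunctor.comp (FibCat.fpSnd z₁ z₂) (BasedFunctor.comp z₂ t) :=
    whiskerRightIso (FibCat.fpIso z₁ z₂) t
  have he : ∀ X, e.hom.toNatTrans.app X = t.map X.obj.iso.hom := fun _ => rfl
  let ε : BasedFunctor.comp (BasedFunctor.id (FibCat.overCat U)) (BasedFunctor.comp z₁ t) ≅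
      BasedFunctor.comp (BasedFunctor.id (FibCat.overCat U)) (BasedFunctor.comp z₂ t) :=
    whiskerLeftIso z (FibCat.fpIso t t)
  let δ : FibCat.overCat U ⥤ᵇ FibCat.fp (BasedFunctor.comp z₁ t) (BasedFunctor.comp z₂ t) :=
    FibCat.fpLift (BasedFunctor.id _) (BasedFunctor.id _) ε
  have hz : BasedFunctor.comp δ (pB z₁ z₂ t) = z := rfl
  have h1 : AlgSt.RepByAlgSp (FibCat.fp z₁ z₂) := h U z₂ U z₁
  have h2 : AlgSt.RepByAlgSp (FibCat.fp (BasedFunctor.comp z₁ t) (BasedFunctor.comp z₂ t)) :=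
    repByAlgSp_fp_toSelf _ _
  have hpI : AlgSt.RepByAlgSpWith topP (pI z₁ z₂ t e) :=
    (repByAlgSp1_iff_top _).1 (repByAlgSp1_of_repByAlgSp h1 h2 _)
  have h3 : AlgSt.RepByAlgSpWith topP (FibCat.fpFst (pB z₁ z₂ t) (FibCat.diag t)) :=
    repByAlgSpWith_of_sq _ (FibCat.fpFst (pB z₁ z₂ t) (FibCat.diag t)) (pI z₁ z₂ t e)
      (pE z₁ z₂ t e he) (BasedFunctor.id _) (isEquivOver_pE z₁ z₂ t e he) isEquivOver_id
      (Iso.refl _) hpI
  have h4 : AlgSt.RepByAlgSp (FibCat.fp δ (FibCat.fpFst (pB z₁ z₂ t) (FibCat.diag t))) :=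
    (repByAlgSp1_iff_top _).2 h3 U δ
  have h5 : AlgSt.RepByAlgSp (FibCat.fp (BasedFunctor.comp δ (pB z₁ z₂ t)) (FibCat.diag t)) :=
    repByAlgSp_of_equiv (fpBase δ (pB z₁ z₂ t) (FibCat.diag t)) (isEquivOver_fpBase _ _ _) h4
  rw [hz] at h5
  exact h5

end Groth.Agent.H28.RepComp
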