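import Mathlib
import Groth.Agent.H28.DiagPts
import Groth.Agent.H28.AlgEquiv
import Groth.Agent.H25.AlgSp38
import Groth.Agent.S12792
import Groth.Agent.S12796

/-!
# Fibre products of algebraic stacks are algebraic
-/

set_option autoImplicit false
set_option linter.style.haveILetI false
set_option backward.isDefEq.respectTransparency false
set_option backward.isDefEq.respectTransparency.types false

namespace Groth.Agent.H28.RepComp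

open CategoryTheory CategoryTheory.Limits FibCat AlgebraicGeometry Opposite Stk MorphismProperty
open Groth.Agent.Helper22 Groth.Agent.Helper22.EquivComp Groth.Agent.Helper22.FpSq
open Groth.Agent.Helper22.FpEquiv Groth.Agent.H28.LiftFp
open Groth.Agent.H28.FpBase Groth.Agent.H28.PshDict Groth.Agent.H28.IsoCl
open Groth.Agent.H25.AS

universe u

variable {S : Scheme.{u}}

section good

variable {P Q : MorphismProperty (AlgSp.Sp S)}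

theorem goodP_inf (hP : GoodP P) (hQ : GoodP Q) : GoodP (P ⊓ Q) :=
  ⟨fun _ _ _ _ hX₁ hY₁ hX₂ hY₂ a b a' b' sq h =>
      ⟨hP.baseChange hX₁ hY₁ hX₂ hY₂ a b a' b' sq h.1,
        hQ.baseChange hX₁ hY₁ hX₂ hY₂ a b a' b' sq h.2⟩,
    fun _ _ _ hX hY hZ a b ha hb =>
      ⟨hP.comp hX hY hZ a b ha.1 hb.1, hQ.comp hX hY hZ a b ha.2 hb.2⟩,
    descendsP_inf hP.descends hQ.descends⟩

theorem goodP_isEtaleMor : GoodP (AlgSp.IsEtaleMor (S := S)) :=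
  ⟨fun _ _ _ _ hX₁ hY₁ hX₂ hY₂ a b a' b' sq h =>
      (isEtaleMor_iff_locP hY₂ a').2 ((goodP_locP etLoc_etale).baseChange hX₁ hY₁ hX₂ hY₂ a b a' b'
        sq ((isEtaleMor_iff_locP hY₁ a).1 h)),
    fun _ _ _ hX hY hZ a b ha hb =>
      (isEtaleMor_iff_locP hZ _).2 ((goodP_locP etLoc_etale).comp hX hY hZ a b
        ((isEtaleMor_iff_locP hY a).1 ha) ((isEtaleMor_iff_locP hZ b).1 hb)),
    descendsP_isEtaleMor⟩

/-- the property holds for etale surjective charts of algebraic spaces -/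
def HoldsForCharts (P : MorphismProperty (AlgSp.Sp S)) : Prop :=
  ∀ ⦃U : Over S⦄ ⦃W : AlgSp.Sp S⦄ (p : (AlgSp.yon S).obj U ⟶ W), AlgSp.IsAlgSpace W →
    AlgSp.RepWith @Etale p → AlgSp.RepWith @Surjective p → P p

theorem holdsForCharts_smooth_surj :
    HoldsForCharts (AlgSp.LocP (S := S) @Smooth ⊓ AlgSp.IsSurjectiveMor) :=
  fun _ _ p _ hpe hps =>
    ⟨locP_smooth_of_isEtaleMor (fun _ _ hφ => repWith_etale_comp hφ hpe),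
      isSurjectiveMor_of_repWith p hps⟩

theorem holdsForCharts_etale_surj :
    HoldsForCharts (AlgSp.IsEtaleMor (S := S) ⊓ AlgSp.IsSurjectiveMor) :=
  fun _ _ p _ hpe hps =>
    ⟨fun _ _ hφ => repWith_etale_comp hφ hpe, isSurjectiveMor_of_repWith p hps⟩

end good

section chart

variable {P : MorphismProperty (AlgSp.Sp S)}

theorem exists_scheme_chart_space (hP : GoodP P) (hPet : HoldsForCharts P) (W : AlgSp.Space S) :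
    ∃ (T : Over S) (x : FibCat.overCat T ⥤ᵇ AlgSt.ofSp W.obj), AlgSt.RepByAlgSpWith P x := by
  obtain ⟨T, p, hpe, hps⟩ := W.property.atlas
  have hPp : P p := hPet p W.property hpe hps
  have h1 : AlgSt.RepByAlgSpWith P (AlgSt.ofSpMap p) :=
    (repByAlgSpWith_ofSpMap_iff hP.cancelIso hP.baseChange hP.descends
      (AlgSp.IsAlgSpace.yon_obj T) W.property p).2 hPp
  obtain ⟨T', ⟨β₁⟩, ⟨β₂⟩⟩ := id (Groth.Agent.H28.DiagRep.isEquivOver_toOverCat T)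
  refine ⟨T, BasedFunctor.comp T' (AlgSt.ofSpMap p), ?_⟩
  exact repByAlgSpWith_of_sq' P (AlgSt.ofSpMap p) (BasedFunctor.comp T' (AlgSt.ofSpMap p)) T'
    (BasedFunctor.id _) ⟨_, ⟨β₂⟩, ⟨β₁⟩⟩ isEquivOver_id (Iso.refl _) h1

theorem exists_scheme_chart {𝒳 : AlgSt.Cat S} (hP : GoodP P) (hPet : HoldsForCharts P)
    (W : AlgSp.Space S) (w : AlgSt.ofSp W.obj ⥤ᵇ 𝒳) (hw : AlgSt.RepByAlgSpWith P w) :
    ∃ (T : Over S) (x : FibCat.overCat T ⥤ᵇ 𝒳), AlgSt.RepByAlgSpWith P x := by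
  obtain ⟨T, x₀, hx₀⟩ := exists_scheme_chart_space hP hPet W
  exact ⟨T, BasedFunctor.comp x₀ w,
    repByAlgSpWith_comp' (OverFib.isFibGrpd_over T) (Stk.isFibGrpd_ofPsh _) P hP.cancelIso hP.comp
      hP.descends x₀ w hx₀ hw⟩

end chart

section fp

variable {𝒳 𝒴 𝒵 : AlgSt.Cat S} {P : MorphismProperty (AlgSp.Sp S)}

theorem exists_chart_fp (h𝒳 : FibCat.IsFibGrpd 𝒳.p) (h𝒴 : FibCat.IsFibGrpd 𝒴.p)
    (h𝒵 : FibCat.IsFibGrpd 𝒵.p) (hP : GoodP P) (hPet : HoldsForCharts P)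
    (hΔ : AlgSt.RepByAlgSp1 (FibCat.diag (FibCat.toSelf 𝒵))) (f : 𝒳 ⥤ᵇ 𝒵) (g : 𝒴 ⥤ᵇ 𝒵)
    {U V : Over S} (u : FibCat.overCat U ⥤ᵇ 𝒳) (v : FibCat.overCat V ⥤ᵇ 𝒴)
    (hu : AlgSt.RepByAlgSpWith P u) (hv : AlgSt.RepByAlgSpWith P v) :
    ∃ (T : Over S) (x : FibCat.overCat T ⥤ᵇ FibCat.fp f g), AlgSt.RepByAlgSpWith P x := by
  have hU := OverFib.isFibGrpd_over U
  have hV := OverFib.isFibGrpd_over V
  let uf : FibCat.overCat U ⥤ᵇ 𝒵 := BasedFunctor.comp u f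
  let vg : FibCat.overCat V ⥤ᵇ 𝒵 := BasedFunctor.comp v g
  have hs₁ : AlgSt.RepByAlgSpWith P (FibCat.fpSnd u (FibCat.fpFst f g)) :=
    repByAlgSpWith_fpSnd P (FibCat.fpFst f g) u hu
  let m₁ : FibCat.fp uf g ⥤ᵇ FibCat.fp f g :=
    BasedFunctor.comp (fpBase u f g) (FibCat.fpSnd u (FibCat.fpFst f g))
  have hm₁ : AlgSt.RepByAlgSpWith P m₁ :=
    repByAlgSpWith_of_sq' P (FibCat.fpSnd u (FibCat.fpFst f g)) m₁ (fpBase u f g)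
      (BasedFunctor.id _) (isEquivOver_fpBase u f g) isEquivOver_id (Iso.refl _) hs₁
  have hs₂ : AlgSt.RepByAlgSpWith P (FibCat.fpFst (FibCat.fpSnd uf g) v) :=
    repByAlgSpWith_fpFst P v (FibCat.fpSnd uf g) hv
  let m₂ : FibCat.fp uf vg ⥤ᵇ FibCat.fp uf g :=
    BasedFunctor.comp (paste uf g v) (FibCat.fpFst (FibCat.fpSnd uf g) v)
  have hm₂ : AlgSt.RepByAlgSpWith P m₂ :=
    repByAlgSpWith_of_sq' P (FibCat.fpFst (FibCat.fpSnd uf g) v) m₂ (paste uf g v)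
      (BasedFunctor.id _) (isEquivOver_paste uf g v) isEquivOver_id (Iso.refl _) hs₂
  have hfib₁ : FibCat.IsFibGrpd (FibCat.fp uf g).p := Groth.Agent.S6401.result uf g hU h𝒴 h𝒵
  have hfib₂ : FibCat.IsFibGrpd (FibCat.fp uf vg).p := Groth.Agent.S6401.result uf vg hU hV h𝒵
  have hm : AlgSt.RepByAlgSpWith P (BasedFunctor.comp m₂ m₁) :=
    repByAlgSpWith_comp' hfib₂ hfib₁ P hP.cancelIso hP.comp hP.descends m₂ m₁ hm₂ hm₁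
  obtain ⟨W, e, he⟩ := repByAlgSp1_of_diag h𝒵 hΔ vg U uf
  have hw : AlgSt.RepByAlgSpWith P (BasedFunctor.comp e (BasedFunctor.comp m₂ m₁)) :=
    repByAlgSpWith_of_sq' P (BasedFunctor.comp m₂ m₁)
      (BasedFunctor.comp e (BasedFunctor.comp m₂ m₁)) e (BasedFunctor.id _) he isEquivOver_id
      (Iso.refl _) hm
  exact exists_scheme_chart hP hPet W _ hw

theorem repByAlgSp1_diag_fp (h𝒳 : FibCat.IsFibGrpd 𝒳.p) (h𝒴 : FibCat.IsFibGrpd 𝒴.p)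
    (h𝒵 : FibCat.IsFibGrpd 𝒵.p)
    (hΔ𝒳 : AlgSt.RepByAlgSp1 (FibCat.diag (FibCat.toSelf 𝒳)))
    (hΔ𝒴 : AlgSt.RepByAlgSp1 (FibCat.diag (FibCat.toSelf 𝒴)))
    (hΔ𝒵 : AlgSt.RepByAlgSp1 (FibCat.diag (FibCat.toSelf 𝒵))) (f : 𝒳 ⥤ᵇ 𝒵) (g : 𝒴 ⥤ᵇ 𝒵) :
    AlgSt.RepByAlgSp1 (FibCat.diag (FibCat.toSelf (FibCat.fp f g))) := by
  refine repByAlgSp1_diag_of_pts (fun U x => ?_)
  have hfib : FibCat.IsFibGrpd (FibCat.fp f g).p := Groth.Agent.S6401.result f g h𝒳 h𝒴 h𝒵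
  have hΔg : AlgSt.RepByAlgSpWith topP (FibCat.diag g) :=
    (repByAlgSp1_iff_top _).1 (repByAlgSp1_diag_of_toSelf g hΔ𝒴 hΔ𝒵)
  have hΔp : AlgSt.RepByAlgSp1 (FibCat.diag (FibCat.fpFst f g)) :=
    (repByAlgSp1_iff_top _).2 (repByAlgSpWith_diag_fpFst topP g f hΔg)
  exact repByAlgSp1_of_comp_of_diag (OverFib.isFibGrpd_over U) hfib h𝒳 x (FibCat.fpFst f g)
    (repByAlgSp1_of_diag h𝒳 hΔ𝒳 _) hΔp

theorem isPrestack_of_isStack {K : Precoverage Scheme.{u}}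
    (h𝒵 : Stk.IsStack (QuotSh.J K S) 𝒵) : Stk.IsPrestack (QuotSh.J K S) 𝒵 :=
  ⟨h𝒵.1, fun U R hR => by
    haveI : (Stk.resSieve R 𝒵).IsEquivalence := h𝒵.2 R hR
    exact ⟨inferInstance, inferInstance⟩⟩

theorem hasAtlas_fp (h𝒳 : FibCat.IsFibGrpd 𝒳.p) (h𝒴 : FibCat.IsFibGrpd 𝒴.p)
    (h𝒵 : FibCat.IsFibGrpd 𝒵.p) (hP : GoodP P)
    (hPet : HoldsForCharts (P ⊓ AlgSp.IsSurjectiveMor))
    (hΔ : AlgSt.RepByAlgSp1 (FibCat.diag (FibCat.toSelf 𝒵))) (f : 𝒳 ⥤ᵇ 𝒵) (g : 𝒴 ⥤ᵇ 𝒵)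
    (a𝒳 : AlgSt.HasAtlas P 𝒳) (a𝒴 : AlgSt.HasAtlas P 𝒴) : AlgSt.HasAtlas P (FibCat.fp f g) := by
  obtain ⟨U, u, hu₁, hu₂⟩ := a𝒳
  obtain ⟨V, v, hv₁, hv₂⟩ := a𝒴
  obtain ⟨T, x, hx⟩ := exists_chart_fp h𝒳 h𝒴 h𝒵 (goodP_inf hP goodP_surj) hPet hΔ f g u v
    (repByAlgSpWith_inf goodP_surj.cancelIso u hu₁ hu₂)
    (repByAlgSpWith_inf goodP_surj.cancelIso v hv₁ hv₂)
  exact ⟨T, x, repByAlgSpWith_mono (fun _ _ _ h => h.1) x hx,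
    repByAlgSpWith_mono (fun _ _ _ h => h.2) x hx⟩

theorem isAlgStack_fp (K : Precoverage Scheme.{u})
    (h𝒵 : Stk.IsStack (QuotSh.J K S) 𝒵)
    (hΔ : AlgSt.RepByAlgSp1 (FibCat.diag (FibCat.toSelf 𝒵)))
    (h𝒳 : AlgSt.IsAlgStack K 𝒳) (h𝒴 : AlgSt.IsAlgStack K 𝒴) (f : 𝒳 ⥤ᵇ 𝒵) (g : 𝒴 ⥤ᵇ 𝒵) :
    AlgSt.IsAlgStack K (FibCat.fp f g) where
  isStack := Groth.Agent.S12792.result _ f g h𝒳.isStack h𝒴.isStack (isPrestack_of_isStack h𝒵)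
  diag := repByAlgSp1_diag_fp h𝒳.isStack.1 h𝒴.isStack.1 h𝒵.1 h𝒳.diag h𝒴.diag hΔ f g
  atlas := hasAtlas_fp h𝒳.isStack.1 h𝒴.isStack.1 h𝒵.1 (goodP_locP etLoc_smooth)
    holdsForCharts_smooth_surj hΔ f g h𝒳.atlas h𝒴.atlas

theorem isDM_fp (K : Precoverage Scheme.{u})
    (h𝒵 : Stk.IsStack (QuotSh.J K S) 𝒵)
    (hΔ : AlgSt.RepByAlgSp1 (FibCat.diag (FibCat.toSelf 𝒵)))
    (h𝒳 : AlgSt.IsDM K 𝒳) (h𝒴 : AlgSt.IsDM K 𝒴) (f : 𝒳 ⥤ᵇ 𝒵) (g : 𝒴 ⥤ᵇ 𝒵) :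
    AlgSt.IsDM K (FibCat.fp f g) :=
  ⟨isAlgStack_fp K h𝒵 hΔ h𝒳.1 h𝒴.1 f g,
    hasAtlas_fp h𝒳.1.isStack.1 h𝒴.1.isStack.1 h𝒵.1 goodP_isEtaleMor holdsForCharts_etale_surj hΔ
      f g h𝒳.2 h𝒴.2⟩

end fp

section rep

theorem isStack_ofSp (W : AlgSp.Sp S) :
    Stk.IsStack (QuotSh.J Scheme.fppfPrecoverage S) (AlgSt.ofSp W) :=
  (Groth.Agent.S12796.result _ _).2 ((isSheaf_iff_isSheaf_of_type _ _).1 W.property)

theorem isStack_of_repByAlgSp {𝒳 : AlgSt.Cat S} (h : AlgSt.RepByAlgSp 𝒳) :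
    Stk.IsStack (QuotSh.J Scheme.fppfPrecoverage S) 𝒳 := by
  obtain ⟨F, e, he⟩ := h
  exact Groth.Agent.Helper22.PostEquiv.isStack_of_equiv _ e he (isStack_ofSp F.obj)

theorem repByAlgSp1_diag_of_repByAlgSp {𝒳 : AlgSt.Cat S} (h : AlgSt.RepByAlgSp 𝒳) :
    AlgSt.RepByAlgSp1 (FibCat.diag (FibCat.toSelf 𝒳)) :=
  repByAlgSp1_diag_of_pts (fun U x => repByAlgSp1_of_repByAlgSp (repByAlgSp_overCat U) h x)

theorem isDM_ofSp (W : AlgSp.Space S) :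
    AlgSt.IsDM Scheme.fppfPrecoverage (AlgSt.ofSp W.obj) := by
  have hrep : AlgSt.RepByAlgSp (AlgSt.ofSp W.obj) := ⟨W, BasedFunctor.id _, isEquivOver_id⟩
  obtain ⟨T, x, hx⟩ := exists_scheme_chart_space
    (goodP_inf (goodP_locP etLoc_smooth) goodP_surj) holdsForCharts_smooth_surj W
  obtain ⟨T', x', hx'⟩ := exists_scheme_chart_space
    (goodP_inf goodP_isEtaleMor goodP_surj) holdsForCharts_etale_surj W
  exact ⟨⟨isStack_ofSp W.obj, repByAlgSp1_diag_of_repByAlgSp hrep,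
      ⟨T, x, repByAlgSpWith_mono (fun _ _ _ h => h.1) x hx,
        repByAlgSpWith_mono (fun _ _ _ h => h.2) x hx⟩⟩,
    ⟨T', x', repByAlgSpWith_mono (fun _ _ _ h => h.1) x' hx',
      repByAlgSpWith_mono (fun _ _ _ h => h.2) x' hx'⟩⟩

theorem isDM_of_repByAlgSp {𝒳 : AlgSt.Cat S} (h : AlgSt.RepByAlgSp 𝒳) :
    AlgSt.IsDM Scheme.fppfPrecoverage 𝒳 := by
  obtain ⟨F, e, he⟩ := h
  exact isDM_of_equiv e _ he (isDM_ofSp F)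

end rep

end Groth.Agent.H28.RepComp
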