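import Mathlib
import Groth.Agent.H28.FpAlg
import Groth.Agent.H25.AlgSp41

/-!
# Charts: lifting charts along a morphism, properties read off one surjective smooth chart
-/

set_option autoImplicit false
set_option linter.style.haveILetI false
set_option backward.isDefEq.respectTransparency false
set_option backward.isDefEq.respectTransparency.types false

namespace Groth.Agent.H28.RepComp

open CategoryTheory CategoryTheory.Limits FibCat AlgebraicGeometry Opposite Stk MorphismProperty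
open Groth.Agent.Helper22 Groth.Agent.Helper22.EquivComp Groth.Agent.Helper22.FpSq
open Groth.Agent.Helper22.FpEquiv Groth.Agent.H28.LiftFp
open Groth.Agent.H28.FpBase Groth.Agent.H28.PshDict Groth.Agent.H28.IsoCl
open Groth.Agent.H25.AS

universe u

variable {S : Scheme.{u}}

/-- every functor between slices over the base is a composition functor -/
theorem exists_overMap_iso {T V : Over S} (φ : FibCat.overCat T ⥤ᵇ FibCat.overCat V) :
    ∃ a : T ⟶ V, Nonempty (φ ≅ AlgSt.overMap a) := by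
  let Ψ : AlgSt.ofSch T ⥤ᵇ AlgSt.ofSch V :=
    BasedFunctor.comp (AlgSt.toOverCat T) (BasedFunctor.comp φ (AlgSt.ofOverCat V))
  let q : (AlgSp.yon S).obj T ⟶ (AlgSp.yon S).obj V := ObjectProperty.homMk (pshMapOf Ψ)
  obtain ⟨a, ha⟩ := (AlgSp.yon S).map_surjective q
  refine ⟨a, ⟨?_⟩⟩
  have κ : AlgSt.ofSpMap q ≅ Ψ := ofPshMapIso Ψ
  have h1 : sliceFun q ≅ φ :=
    whiskerLeftIso (AlgSt.ofOverCat T) (whiskerRightIso κ (AlgSt.toOverCat V))
  rw [← ha] at h1
  exact h1.symm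

variable {𝒳 𝒴 : AlgSt.Cat S}

theorem isAlgStack_overCat (V : Over S) :
    AlgSt.IsAlgStack Scheme.fppfPrecoverage (FibCat.overCat V) :=
  (isDM_of_repByAlgSp (repByAlgSp_overCat V)).1

theorem exists_chart_over (h𝒳 : AlgSt.IsAlgStack Scheme.fppfPrecoverage 𝒳)
    (h𝒴 : AlgSt.IsAlgStack Scheme.fppfPrecoverage 𝒴) (f : 𝒳 ⥤ᵇ 𝒴) (V : Over S)
    (y : FibCat.overCat V ⥤ᵇ 𝒴) (hy : AlgSt.RepByAlgSpWith (AlgSp.LocP @Smooth) y)
    (hy' : AlgSt.RepByAlgSpWith AlgSp.IsSurjectiveMor y) :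
    ∃ (U : Over S) (a : U ⟶ V) (x : FibCat.overCat U ⥤ᵇ 𝒳),
      AlgSt.RepByAlgSpWith (AlgSp.LocP @Smooth) x ∧ AlgSt.RepByAlgSpWith AlgSp.IsSurjectiveMor x ∧
        Nonempty (BasedFunctor.comp x f ≅ BasedFunctor.comp (AlgSt.overMap a) y) := by
  have h𝒫 : AlgSt.IsAlgStack Scheme.fppfPrecoverage (FibCat.fp y f) :=
    isAlgStack_fp _ h𝒴.isStack h𝒴.diag (isAlgStack_overCat V) h𝒳 y f
  obtain ⟨T, t, ht₁, ht₂⟩ := h𝒫.atlas
  obtain ⟨a, ⟨ι⟩⟩ := exists_overMap_iso (BasedFunctor.comp t (FibCat.fpFst y f))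
  refine ⟨T, a, BasedFunctor.comp t (FibCat.fpSnd y f),
    repByAlgSpWith_comp_goodP (goodP_locP etLoc_smooth) (OverFib.isFibGrpd_over T) h𝒫.isStack.1 t _
      ht₁ (repByAlgSpWith_fpSnd _ f y hy),
    repByAlgSpWith_comp_goodP goodP_surj (OverFib.isFibGrpd_over T) h𝒫.isStack.1 t _
      ht₂ (repByAlgSpWith_fpSnd _ f y hy'), ⟨?_⟩⟩
  exact (whiskerLeftIso t (FibCat.fpIso y f)).symm ≪≫ whiskerRightIso ι y

section smoothLocally

theorem smoothLocally_of_chart (P : Scheme.{u} → Prop)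
    (hP : ∀ (U : Scheme.{u}) (R : Presieve U), R ∈ Scheme.precoverage @Smooth U →
      (P U ↔ ∀ ⦃V : Scheme.{u}⦄ (g : V ⟶ U), R g → P V))
    {U : Over S} (x : FibCat.overCat U ⥤ᵇ 𝒳)
    (hx₁ : AlgSt.RepByAlgSpWith (AlgSp.LocP @Smooth) x)
    (hx₂ : AlgSt.RepByAlgSpWith AlgSp.IsSurjectiveMor x) (hPU : P U.left) :
    AlgSt.SmoothLocally P 𝒳 := by
  intro U' x' hx'
  obtain ⟨F, e, he, hsm⟩ := hx₁ U' x'
  have hsurj := repByAlgSpWith_any goodP_surj.cancelIso x hx₂ x' F e he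
  have he₂ : FibCat.IsEquivOver (BasedFunctor.comp e (fpSwapB x' x)) :=
    isEquivOver_comp _ _ he (isEquivOver_fpSwapB x' x)
  have hc := repByAlgSpWith_any (goodP_locP etLoc_smooth).cancelIso x' hx' x F
    (BasedFunctor.comp e (fpSwapB x' x)) he₂
  obtain ⟨T, p, hpe, hps⟩ := F.property.atlas
  have hp₁ : AlgSp.LocP @Smooth p :=
    locP_smooth_of_isEtaleMor (fun _ _ hφ => repWith_etale_comp hφ hpe)
  have hp₂ : AlgSp.IsSurjectiveMor p := isSurjectiveMor_of_repWith p hps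
  obtain ⟨t', ht'⟩ := (AlgSp.yon S).map_surjective
    (p ≫ AlgSt.spMapOfOver (BasedFunctor.comp e (FibCat.fpFst x' x)))
  obtain ⟨t, ht⟩ := (AlgSp.yon S).map_surjective
    (p ≫ AlgSt.spMapOfOver (BasedFunctor.comp (BasedFunctor.comp e (fpSwapB x' x))
      (FibCat.fpFst x x')))
  have hsm' : Smooth t'.left := AlgSp.locP_yon_map (by
    rw [ht']
    exact (goodP_locP etLoc_smooth).comp (AlgSp.IsAlgSpace.yon_obj T) F.property
      (AlgSp.IsAlgSpace.yon_obj U') p _ hp₁ hsm)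
  have hsj' : Surjective t'.left := surjective_left_of_isSurjectiveMor t' (by
    rw [ht']
    exact goodP_surj.comp (AlgSp.IsAlgSpace.yon_obj T) F.property
      (AlgSp.IsAlgSpace.yon_obj U') p _ hp₂ hsurj)
  have hsmt : Smooth t.left := AlgSp.locP_yon_map (by
    rw [ht]
    exact (goodP_locP etLoc_smooth).comp (AlgSp.IsAlgSpace.yon_obj T) F.property
      (AlgSp.IsAlgSpace.yon_obj U) p _ hp₁ hc)
  -- `P T` from `P U`
  have hPT : P T.left := by
    let X : Bool → Scheme.{u} := fun b => cond b T.left U.left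
    let fam : ∀ b, X b ⟶ U.left := fun b =>
      match b with
      | true => t.left
      | false => 𝟙 U.left
    have hR : Presieve.ofArrows X fam ∈ Scheme.precoverage @Smooth U.left := by
      rw [Scheme.ofArrows_mem_precoverage_iff]
      refine ⟨fun u => ⟨false, u, rfl⟩, fun b => ?_⟩
      cases b
      · exact (inferInstance : Smooth (𝟙 U.left))
      · exact hsmt
    exact (hP U.left _ hR).1 hPU (fam true) (Presieve.ofArrows.mk true)
  have hR' : Presieve.singleton t'.left ∈ Scheme.precoverage @Smooth U'.left :=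
    (Scheme.singleton_mem_precoverage_iff _ _).2 ⟨hsj'.surj, hsm'⟩
  refine (hP U'.left _ hR').2 (fun V g hg => ?_)
  cases hg
  exact hPT

end smoothLocally

end Groth.Agent.H28.RepComp
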