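import Mathlib
import Groth.Agent.H28.Charts

/-!
# Scheme charts of algebraic spaces; smooth-local properties of stacks of spaces
-/

set_option autoImplicit false
set_option linter.style.haveILetI false
set_option backward.isDefEq.respectTransparency false
set_option backward.isDefEq.respectTransparency.types false

namespace Groth.Agent.H28.RepComp

open CategoryTheory CategoryTheory.Limits FibCat AlgebraicGeometry Opposite Stk MorphismProperty
open Groth.Agent.Helper22 Groth.Agent.Helper22.EquivComp Groth.Agent.Helper22.FpSq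
open Groth.Agent.Helper22.FpEquiv Groth.Agent.H28.LiftFp
open Groth.Agent.H28.FpBase Groth.Agent.H28.PshDict Groth.Agent.H28.IsoCl
open Groth.Agent.H25.AS

universe u

variable {S : Scheme.{u}}

/-- the functor `(Sch/T) ⟶ ofSp W` of a map `h_T ⟶ W` -/
def chartFun {T : Over S} {W : AlgSp.Sp S} (p : (AlgSp.yon S).obj T ⟶ W) :
    FibCat.overCat T ⥤ᵇ AlgSt.ofSp W :=
  BasedFunctor.comp (AlgSt.ofOverCat T) (AlgSt.ofSpMap p)

theorem repByAlgSpWith_chartFun {P : MorphismProperty (AlgSp.Sp S)} (hP : GoodP P) {T : Over S}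
    (W : AlgSp.Space S) (p : (AlgSp.yon S).obj T ⟶ W.obj) (hPp : P p) :
    AlgSt.RepByAlgSpWith P (chartFun p) :=
  repByAlgSpWith_of_sq' P (AlgSt.ofSpMap p) (chartFun p) (AlgSt.ofOverCat T) (BasedFunctor.id _)
    (isEquivOver_ofOverCat T) isEquivOver_id (Iso.refl _)
    ((repByAlgSpWith_ofSpMap_iff hP.cancelIso hP.baseChange hP.descends
      (AlgSp.IsAlgSpace.yon_obj T) W.property p).2 hPp)

theorem chartFun_smooth {T : Over S} (W : AlgSp.Space S) (p : (AlgSp.yon S).obj T ⟶ W.obj)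
    (hpe : AlgSp.RepWith @Etale p) : AlgSt.RepByAlgSpWith (AlgSp.LocP @Smooth) (chartFun p) :=
  repByAlgSpWith_chartFun (goodP_locP etLoc_smooth) W p
    (locP_smooth_of_isEtaleMor (fun _ _ hφ => repWith_etale_comp hφ hpe))

theorem chartFun_surj {T : Over S} (W : AlgSp.Space S) (p : (AlgSp.yon S).obj T ⟶ W.obj)
    (hps : AlgSp.RepWith @Surjective p) :
    AlgSt.RepByAlgSpWith AlgSp.IsSurjectiveMor (chartFun p) :=
  repByAlgSpWith_chartFun goodP_surj W p (isSurjectiveMor_of_repWith p hps)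

/-- the space of a scheme, as a `Space` -/
def yonSpace (V : Over S) : AlgSp.Space S := ⟨(AlgSp.yon S).obj V, AlgSp.IsAlgSpace.yon_obj V⟩

theorem repByAlgSpWith_toOverCat_comp {𝒳 : AlgSt.Cat S} (P : MorphismProperty (AlgSp.Sp S))
    {V : Over S} (v : FibCat.overCat V ⥤ᵇ 𝒳) (hv : AlgSt.RepByAlgSpWith P v) :
    AlgSt.RepByAlgSpWith P (BasedFunctor.comp (AlgSt.toOverCat V) v) :=
  repByAlgSpWith_of_sq' P v (BasedFunctor.comp (AlgSt.toOverCat V) v) (AlgSt.toOverCat V)
    (BasedFunctor.id _) (Groth.Agent.H28.DiagRep.isEquivOver_toOverCat V) isEquivOver_id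
    (Iso.refl _) hv

section smoothLocal

variable (P : Scheme.{u} → Prop)
  (hP : ∀ (U : Scheme.{u}) (R : Presieve U), R ∈ Scheme.precoverage @Smooth U →
    (P U ↔ ∀ ⦃V : Scheme.{u}⦄ (g : V ⟶ U), R g → P V))

include hP

theorem etaleLocally_yon_iff (U : Over S) :
    AlgSp.EtaleLocally P ((AlgSp.yon S).obj U) ↔ P U.left := by
  constructor
  · rintro ⟨V, p, hpe, hps, hPV⟩
    obtain ⟨g, rfl⟩ := (AlgSp.yon S).map_surjective p
    have h1 : Etale g.left := (AlgSp.repWith_yon_map_iff @Etale g).1 hpe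
    have h2 : Surjective g.left := (AlgSp.repWith_yon_map_iff @Surjective g).1 hps
    have h3 : Smooth g.left := inferInstance
    have hR : Presieve.singleton g.left ∈ Scheme.precoverage @Smooth U.left :=
      (Scheme.singleton_mem_precoverage_iff _ _).2 ⟨h2.surj, h3⟩
    refine (hP U.left _ hR).2 (fun V' g' hg' => ?_)
    cases hg'
    exact hPV
  · intro h
    exact ⟨U, 𝟙 _, AlgSp.repWith_id _ U, AlgSp.repWith_id _ U, h⟩

theorem smoothLocally_ofSp_iff (X : AlgSp.Space S) :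
    AlgSt.SmoothLocally P (AlgSt.ofSp X.obj) ↔ AlgSp.EtaleLocally P X.obj := by
  constructor
  · intro h
    obtain ⟨U, p, hpe, hps⟩ := X.property.atlas
    exact ⟨U, p, hpe, hps, h U (chartFun p) (chartFun_smooth X p hpe)⟩
  · rintro ⟨U, p, hpe, hps, hPU⟩
    exact smoothLocally_of_chart P hP (chartFun p) (chartFun_smooth X p hpe)
      (chartFun_surj X p hps) hPU

theorem smoothLocally_ofSch_iff (U : Over S) :
    AlgSt.SmoothLocally P (AlgSt.ofSch U) ↔ P U.left :=
  (smoothLocally_ofSp_iff P hP (yonSpace U)).trans (etaleLocally_yon_iff P hP U)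

variable {𝒳 : AlgSt.Cat S}

theorem smoothLocally_iff_exists_space_chart
    (h𝒳 : AlgSt.IsAlgStack Scheme.fppfPrecoverage 𝒳) :
    AlgSt.SmoothLocally P 𝒳 ↔
      ∃ (U : AlgSp.Space S) (x : AlgSt.ofSp U.obj ⥤ᵇ 𝒳),
        AlgSt.RepByAlgSpWith (AlgSp.LocP @Smooth) x ∧
          AlgSt.RepByAlgSpWith AlgSp.IsSurjectiveMor x ∧ AlgSp.EtaleLocally P U.obj := by
  constructor
  · intro h
    obtain ⟨V, v, hv₁, hv₂⟩ := h𝒳.atlas
    exact ⟨yonSpace V, BasedFunctor.comp (AlgSt.toOverCat V) v,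
      repByAlgSpWith_toOverCat_comp _ v hv₁, repByAlgSpWith_toOverCat_comp _ v hv₂,
      (etaleLocally_yon_iff P hP V).2 (h V v hv₁)⟩
  · rintro ⟨U, x, hx₁, hx₂, V, p, hpe, hps, hPV⟩
    exact smoothLocally_of_chart P hP (BasedFunctor.comp (chartFun p) x)
      (repByAlgSpWith_comp_goodP (goodP_locP etLoc_smooth) (OverFib.isFibGrpd_over V)
        (Stk.isFibGrpd_ofPsh _) _ _ (chartFun_smooth U p hpe) hx₁)
      (repByAlgSpWith_comp_goodP goodP_surj (OverFib.isFibGrpd_over V)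
        (Stk.isFibGrpd_ofPsh _) _ _ (chartFun_surj U p hps) hx₂) hPV

theorem smoothLocally_iff_forall_space_chart :
    AlgSt.SmoothLocally P 𝒳 ↔
      ∀ (U : AlgSp.Space S) (x : AlgSt.ofSp U.obj ⥤ᵇ 𝒳),
        AlgSt.RepByAlgSpWith (AlgSp.LocP @Smooth) x → AlgSp.EtaleLocally P U.obj := by
  constructor
  · intro h U x hx
    obtain ⟨V, p, hpe, hps⟩ := U.property.atlas
    exact ⟨V, p, hpe, hps, h V (BasedFunctor.comp (chartFun p) x)
      (repByAlgSpWith_comp_goodP (goodP_locP etLoc_smooth) (OverFib.isFibGrpd_over V)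
        (Stk.isFibGrpd_ofPsh _) _ _ (chartFun_smooth U p hpe) hx)⟩
  · intro h V v hv
    exact (etaleLocally_yon_iff P hP V).1
      (h (yonSpace V) (BasedFunctor.comp (AlgSt.toOverCat V) v)
        (repByAlgSpWith_toOverCat_comp _ v hv))

end smoothLocal

end Groth.Agent.H28.RepComp
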