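import Mathlib

set_option autoImplicit false
open scoped TensorProduct

namespace Groth.Agent.H28.ColonFlat

/-- For a flat module `F`, if `t • y ∈ I F` then `y ∈ (I : t) F`.  Stated with any ideal `J`
containing the colon ideal. -/
theorem colon_flat {R : Type*} [CommRing R] {F : Type*} [AddCommGroup F] [Module R F]
    [Module.Flat R F] (I J : Ideal R) (t : R) (hJ : ∀ a : R, t * a ∈ I → a ∈ J) (y : F)
    (h : t • y ∈ I • (⊤ : Submodule R F)) : y ∈ J • (⊤ : Submodule R F) := by
  have hIJ : I ≤ J := fun a ha => hJ a (I.mul_mem_left t ha)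
  let J' : Ideal R := Submodule.comap (LinearMap.mulLeft R t) I
  have hJ' : ∀ a, a ∈ J' ↔ t * a ∈ I := fun a => Iff.rfl
  let f : J' →ₗ[R] R ⧸ I := I.mkQ ∘ₗ J'.subtype
  let g : R ⧸ I →ₗ[R] R ⧸ I := LinearMap.lsmul R (R ⧸ I) t
  have hexact : Function.Exact f g := by
    intro z
    obtain ⟨a, rfl⟩ := Ideal.Quotient.mk_surjective z
    constructor
    · intro hz
      have : t * a ∈ I := by
        rw [← Ideal.Quotient.eq_zero_iff_mem, map_mul]
        exact hz
      exact ⟨⟨a, this⟩, rfl⟩
    · rintro ⟨⟨b, hb⟩, hb'⟩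
      have h1 : Ideal.Quotient.mk I b = Ideal.Quotient.mk I a := hb'
      change t • Ideal.Quotient.mk I a = 0
      rw [← h1]
      change Ideal.Quotient.mk I (t * b) = 0
      rw [Ideal.Quotient.eq_zero_iff_mem]
      exact hb
  have hex2 := Module.Flat.rTensor_exact F hexact
  let e := TensorProduct.quotTensorEquivQuotSMul F I
  let w : (R ⧸ I) ⊗[R] F := (1 : R ⧸ I) ⊗ₜ y
  have hw : (g.rTensor F) w = 0 := by
    apply e.injective
    rw [map_zero]
    change e ((t • (1 : R ⧸ I)) ⊗ₜ[R] y) = 0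
    have : t • (1 : R ⧸ I) = Ideal.Quotient.mk I t := by
      rw [Algebra.smul_def, mul_one]; rfl
    rw [this, TensorProduct.quotTensorEquivQuotSMul_mk_tmul, Submodule.Quotient.mk_eq_zero]
    exact h
  obtain ⟨u, hu⟩ := (hex2 w).1 hw
  -- the quotient map to `F ⧸ J F`
  let P : Submodule R F := J • ⊤
  have hIP : I • (⊤ : Submodule R F) ≤ P := Submodule.smul_mono hIJ le_rfl
  let q : (F ⧸ I • (⊤ : Submodule R F)) →ₗ[R] F ⧸ P := Submodule.factor hIP
  have hq : ∀ u : J' ⊗[R] F, q (e ((f.rTensor F) u)) = 0 := by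
    intro u
    induction u using TensorProduct.induction_on with
    | zero => simp
    | tmul a z =>
      have : e ((f.rTensor F) (a ⊗ₜ z)) = Submodule.Quotient.mk ((a : R) • z) :=
        TensorProduct.quotTensorEquivQuotSMul_mk_tmul I a z
      rw [this]
      change Submodule.Quotient.mk ((a : R) • z) = (0 : F ⧸ P)
      rw [Submodule.Quotient.mk_eq_zero]
      exact Submodule.smul_mem_smul (hJ a a.2) trivial
    | add u u' hu hu' => rw [map_add, map_add, map_add, hu, hu', add_zero]
  have h2 := hq u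
  rw [hu] at h2
  have h3 : e w = Submodule.Quotient.mk y := TensorProduct.quotTensorEquivQuotSMul_mk_one_tmul I y
  rw [h3] at h2
  change Submodule.Quotient.mk y = (0 : F ⧸ P) at h2
  rwa [Submodule.Quotient.mk_eq_zero] at h2

end Groth.Agent.H28.ColonFlat
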