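import Mathlib
import Groth.Prelude.Def_TwC
import Groth.Agent.H28.TorsRed

/-!
# Morphisms to constant group schemes `M_S = ∐_M S`
-/

set_option autoImplicit false
universe u
open CategoryTheory CategoryTheory.Limits MonoidalCategory CartesianMonoidalCategory MonObj
  AlgebraicGeometry

namespace Groth.Agent.H28.ConstGrp

variable {S : Scheme.{u}} {M : Type u}

lemma exists_idx (y : ↥(∐ fun _ : M => S)) : ∃ m : M, y ∈ Set.range (Sigma.ι (fun _ : M => S) m) := by
  obtain ⟨i, x, hx⟩ := (sigmaOpenCover (fun _ : M => S)).exists_eq y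
  exact ⟨i, x, hx⟩

lemma idx_unique' (y : ↥(∐ fun _ : M => S)) (m n : M)
    (hm : y ∈ Set.range (Sigma.ι (fun _ : M => S) m))
    (hn : y ∈ Set.range (Sigma.ι (fun _ : M => S) n)) : m = n := by
  obtain ⟨a, ha⟩ := hm
  obtain ⟨b, hb⟩ := hn
  have := (sigmaι_eq_iff (fun _ : M => S) m n a b).mp (ha.trans hb.symm)
  exact congrArg Sigma.fst this

/-- The index of the component of `M_S` containing the image of a point. -/
noncomputable def idx {X : Over S} (f : X ⟶ TwC.const S M) (x : X.left) : M :=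
  (exists_idx (f.left x)).choose

lemma idx_spec {X : Over S} (f : X ⟶ TwC.const S M) (x : X.left) :
    f.left x ∈ Set.range (Sigma.ι (fun _ : M => S) (idx f x)) :=
  (exists_idx (f.left x)).choose_spec

lemma idx_unique {X : Over S} (f : X ⟶ TwC.const S M) (x : X.left) (m : M)
    (h : f.left x ∈ Set.range (Sigma.ι (fun _ : M => S) m)) : idx f x = m :=
  idx_unique' _ _ _ (idx_spec f x) h

lemma idx_comp {Y X : Over S} (g : Y ⟶ X) (f : X ⟶ TwC.const S M) (y : Y.left) :
    idx (g ≫ f) y = idx f (g.left y) := by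
  apply idx_unique
  have := idx_spec f (g.left y)
  simpa using this

lemma idx_pt (m : M) (T : Over S) (t : T.left) : idx (toUnit T ≫ TwC.pt S M m) t = m := by
  apply idx_unique
  refine ⟨(toUnit T).left t, ?_⟩
  rfl

lemma isLocallyConstant_idx {X : Over S} (f : X ⟶ TwC.const S M) : IsLocallyConstant (idx f) := by
  rw [IsLocallyConstant.iff_isOpen_fiber]
  intro m
  have : idx f ⁻¹' {m} = f.left ⁻¹' (Set.range (Sigma.ι (fun _ : M => S) m)) := by
    ext x
    simp only [Set.mem_preimage, Set.mem_singleton_iff]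
    exact ⟨fun h => h ▸ idx_spec f x, fun h => idx_unique f x m h⟩
  rw [this]
  exact (Scheme.Hom.isOpenEmbedding (Sigma.ι (fun _ : M => S) m)).isOpen_range.preimage
    f.left.continuous

lemma finite_range_idx {X : Over S} [CompactSpace X.left] (f : X ⟶ TwC.const S M) :
    (Set.range (idx f)).Finite :=
  (isLocallyConstant_idx f).range_finite

lemma eq_pt_of_idx {X : Over S} (f : X ⟶ TwC.const S M) (m : M) (h : ∀ x, idx f x = m) :
    f = toUnit X ≫ TwC.pt S M m := by
  have hr : Set.range f.left ⊆ Set.range (Sigma.ι (fun _ : M => S) m) := by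
    rintro _ ⟨x, rfl⟩
    exact h x ▸ idx_spec f x
  have hfac := IsOpenImmersion.lift_fac (Sigma.ι (fun _ : M => S) m) f.left hr
  have hl : IsOpenImmersion.lift (Sigma.ι (fun _ : M => S) m) f.left hr = X.hom := by
    have h1 : IsOpenImmersion.lift (Sigma.ι (fun _ : M => S) m) f.left hr ≫
        Sigma.ι (fun _ : M => S) m ≫ Sigma.desc (fun _ : M => 𝟙 S) = X.hom := by
      rw [← Category.assoc, hfac]
      exact Over.w f
    simpa using h1
  ext1
  rw [Over.comp_left, TorsRed.toUnit_left, ← hl]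
  exact hfac.symm

section grp

variable [Group M] {G : Over S} [GrpObj G] (e : G ≅ TwC.const S M) (he : TwC.IsConstGrp M G e)

include he

lemma gpt_one : TwC.pt S M 1 ≫ e.inv = 1 := by
  have := he 1 1
  rw [_root_.mul_one] at this
  exact mul_eq_left.mp this

lemma gpt_pow (m : M) (n : ℕ) : (TwC.pt S M m ≫ e.inv) ^ n = TwC.pt S M (m ^ n) ≫ e.inv := by
  induction n with
  | zero => rw [pow_zero, pow_zero, gpt_one e he]
  | succ n ih => rw [pow_succ, pow_succ, ih, he]

lemma idx_pow {E : Over S} [GrpObj E] (d : E ⟶ G) [IsMonHom d] (x : E.left) (n : ℕ) :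
    ∃ y : E.left, idx (d ≫ e.hom) y = (idx (d ≫ e.hom) x) ^ n := by
  let T : Over S := Over.mk (E.left.fromSpecResidueField x ≫ E.hom)
  let xT : T ⟶ E := Over.homMk (E.left.fromSpecResidueField x) rfl
  obtain ⟨z, hz⟩ : ∃ z, z = idx (d ≫ e.hom) x := ⟨_, rfl⟩
  have h1 : xT ≫ d ≫ e.hom = toUnit T ≫ TwC.pt S M z := by
    apply eq_pt_of_idx
    intro t
    rw [idx_comp, hz]
    congr 1
    exact E.left.fromSpecResidueField_apply x t
  have h2 : xT ≫ d = toUnit T ≫ (TwC.pt S M z ≫ e.inv) := by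
    rw [← Category.assoc, ← h1]
    simp
  have h3 : (xT ^ n) ≫ d = toUnit T ≫ (TwC.pt S M (z ^ n) ≫ e.inv) := by
    rw [MonObj.pow_comp, h2, ← MonObj.comp_pow, gpt_pow e he]
  obtain ⟨t₀⟩ : Nonempty T.left := inferInstanceAs (Nonempty (Spec (E.left.residueField x)))
  refine ⟨(xT ^ n).left t₀, ?_⟩
  rw [← hz, ← idx_comp, ← Category.assoc, h3]
  have : (toUnit T ≫ TwC.pt S M (z ^ n) ≫ e.inv) ≫ e.hom = toUnit T ≫ TwC.pt S M (z ^ n) := by
    simp
  rw [this, idx_pt]

theorem hom_eq_one_of_compact {P E : Over S} [GrpObj E] (v : E ⟶ P) (d : E ⟶ G) [IsMonHom d]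
    (d' : P ⟶ G) (hd : v ≫ d' = d) [CompactSpace P.left]
    (hM : ∀ z : M, IsOfFinOrder z → z = 1) : d = 1 := by
  have key : ∀ x : E.left, idx (d ≫ e.hom) x = 1 := by
    intro x
    obtain ⟨z, hz⟩ : ∃ z, z = idx (d ≫ e.hom) x := ⟨_, rfl⟩
    rw [← hz]
    have hmem : ∀ n : ℕ, z ^ (n + 1) ∈ Set.range (idx (d' ≫ e.hom)) := by
      intro n
      obtain ⟨y, hy⟩ := idx_pow e he d x (n + 1)
      refine ⟨v.left y, ?_⟩
      rw [← idx_comp, ← Category.assoc, hd, hy, hz]
    obtain ⟨a, b, hab, heq⟩ :=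
      (finite_range_idx (d' ≫ e.hom)).exists_lt_map_eq_of_forall_mem hmem
    apply hM
    rw [isOfFinOrder_iff_pow_eq_one]
    refine ⟨b - a, Nat.sub_pos_of_lt hab, ?_⟩
    have hb : z ^ (b + 1) = z ^ (b - a) * z ^ (a + 1) := by
      rw [← pow_add]
      congr 1
      omega
    rw [hb] at heq
    exact (mul_eq_right.mp heq.symm)
  have h1 := eq_pt_of_idx (d ≫ e.hom) 1 key
  have h2 : d = toUnit E ≫ (TwC.pt S M 1 ≫ e.inv) := by
    rw [← Category.assoc, ← h1]
    simp
  rw [h2, gpt_one e he, MonObj.comp_one]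

end grp

end Groth.Agent.H28.ConstGrp
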