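import Mathlib

/-!
# Relative differentials at a rational point (helper28)
-/

set_option autoImplicit false
set_option linter.unusedSectionVars false
universe u

open TensorProduct KaehlerDifferential

namespace Groth.Agent.H28.CotDiff

variable (k A B κ : Type u) [Field k] [CommRing A] [CommRing B] [Field κ]
  [Algebra k A] [Algebra k B] [Algebra A B] [IsScalarTower k A B]
  [Algebra B κ] [Algebra k κ] [IsScalarTower k B κ] [Algebra A κ] [IsScalarTower A B κ]
  (hκ : Function.Bijective (algebraMap k κ))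

/-- the `k`-valued point of `B` -/
noncomputable def cB : B →ₐ[k] k :=
  ((AlgEquiv.ofBijective (Algebra.ofId k κ) hκ).symm : κ →ₐ[k] k).comp (IsScalarTower.toAlgHom k B κ)

lemma algebraMap_cB (b : B) : algebraMap k κ (cB k B κ hκ b) = algebraMap B κ b := by
  change (AlgEquiv.ofBijective (Algebra.ofId k κ) hκ)
    ((AlgEquiv.ofBijective (Algebra.ofId k κ) hκ).symm (algebraMap B κ b)) = _
  exact (AlgEquiv.ofBijective (Algebra.ofId k κ) hκ).apply_symm_apply _

lemma cB_eq_zero_of_mem (b : B) (hb : b ∈ RingHom.ker (algebraMap B κ)) : cB k B κ hκ b = 0 := by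
  apply hκ.1
  rw [algebraMap_cB, map_zero]
  exact hb

lemma sub_cB_mem (b : B) :
    b - algebraMap k B (cB k B κ hκ b) ∈ RingHom.ker (algebraMap B κ) := by
  rw [RingHom.mem_ker, map_sub, ← IsScalarTower.algebraMap_apply k B κ, algebraMap_cB, sub_self]

/-- projection of `B` onto the kernel of the point -/
noncomputable def pr : B →ₗ[k] RingHom.ker (algebraMap B κ) where
  toFun b := ⟨b - algebraMap k B (cB k B κ hκ b), sub_cB_mem k B κ hκ b⟩
  map_add' x y := by
    ext
    simp only [map_add, Submodule.coe_add]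
    ring
  map_smul' c x := by
    ext
    change c • x - algebraMap k B (cB k B κ hκ (c • x)) =
      c • (x - algebraMap k B (cB k B κ hκ x))
    rw [map_smul, smul_eq_mul, map_mul, Algebra.smul_def, Algebra.smul_def]
    ring

lemma pr_of_mem (b : B) (hb : b ∈ RingHom.ker (algebraMap B κ)) : pr k B κ hκ b = ⟨b, hb⟩ := by
  ext
  change b - algebraMap k B (cB k B κ hκ b) = b
  rw [cB_eq_zero_of_mem k B κ hκ b hb, map_zero, sub_zero]

lemma pr_algebraMap (c : k) : pr k B κ hκ (algebraMap k B c) = 0 := by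
  ext
  change algebraMap k B c - algebraMap k B (cB k B κ hκ (algebraMap k B c)) = 0
  rw [AlgHom.commutes]
  simp

/-- the `k`-linear map underlying the derivation attached to a functional on the cotangent
space -/
noncomputable def Dlin (ψ : (RingHom.ker (algebraMap B κ)).Cotangent →ₗ[k] k) : B →ₗ[k] κ :=
  (Algebra.linearMap k κ) ∘ₗ ψ ∘ₗ
    ((RingHom.ker (algebraMap B κ)).toCotangent.restrictScalars k) ∘ₗ pr k B κ hκ

lemma Dlin_apply (ψ : (RingHom.ker (algebraMap B κ)).Cotangent →ₗ[k] k) (b : B) :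
    Dlin k B κ hκ ψ b =
      algebraMap k κ (ψ ((RingHom.ker (algebraMap B κ)).toCotangent (pr k B κ hκ b))) := rfl

lemma toCotangent_pr_mul (b b' : B) :
    (RingHom.ker (algebraMap B κ)).toCotangent (pr k B κ hκ (b * b')) =
      cB k B κ hκ b • (RingHom.ker (algebraMap B κ)).toCotangent (pr k B κ hκ b') +
      cB k B κ hκ b' • (RingHom.ker (algebraMap B κ)).toCotangent (pr k B κ hκ b) := by
  have hprod : (b - algebraMap k B (cB k B κ hκ b)) * (b' - algebraMap k B (cB k B κ hκ b')) ∈
      RingHom.ker (algebraMap B κ) :=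
    Ideal.mul_mem_left _ _ (sub_cB_mem k B κ hκ b')
  have h1 : pr k B κ hκ (b * b') =
      cB k B κ hκ b • pr k B κ hκ b' + cB k B κ hκ b' • pr k B κ hκ b +
        ⟨_, hprod⟩ := by
    ext
    change b * b' - algebraMap k B (cB k B κ hκ (b * b')) =
      cB k B κ hκ b • (b' - algebraMap k B (cB k B κ hκ b')) +
      cB k B κ hκ b' • (b - algebraMap k B (cB k B κ hκ b)) +
      (b - algebraMap k B (cB k B κ hκ b)) * (b' - algebraMap k B (cB k B κ hκ b'))
    rw [map_mul, map_mul, Algebra.smul_def, Algebra.smul_def]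
    ring
  have h2 : (RingHom.ker (algebraMap B κ)).toCotangent ⟨_, hprod⟩ = 0 := by
    rw [Ideal.toCotangent_eq_zero, pow_two]
    exact Ideal.mul_mem_mul (sub_cB_mem k B κ hκ b) (sub_cB_mem k B κ hκ b')
  rw [h1, map_add, map_add, h2, add_zero]
  congr 1

lemma Dlin_mul (ψ : (RingHom.ker (algebraMap B κ)).Cotangent →ₗ[k] k) (b b' : B) :
    Dlin k B κ hκ ψ (b * b') =
      algebraMap B κ b * Dlin k B κ hκ ψ b' + algebraMap B κ b' * Dlin k B κ hκ ψ b := by
  rw [Dlin_apply, Dlin_apply, Dlin_apply, toCotangent_pr_mul, map_add, map_smul, map_smul,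
    smul_eq_mul, smul_eq_mul, map_add, map_mul, map_mul, algebraMap_cB, algebraMap_cB]

lemma Dlin_algebraMap_k (ψ : (RingHom.ker (algebraMap B κ)).Cotangent →ₗ[k] k) (c : k) :
    Dlin k B κ hκ ψ (algebraMap k B c) = 0 := by
  rw [Dlin_apply, pr_algebraMap, map_zero, map_zero, map_zero]

section

variable (I : Ideal A)
  (hI : I ≤ (RingHom.ker (algebraMap B κ)).comap (IsScalarTower.toAlgHom k A B))
  (hA : ∀ a : A, ∃ c : k, a - algebraMap k A c ∈ I)
  (ψ : (RingHom.ker (algebraMap B κ)).Cotangent →ₗ[k] k)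
  (hψ : ∀ x, ψ (Ideal.mapCotangent I (RingHom.ker (algebraMap B κ))
    (IsScalarTower.toAlgHom k A B) hI x) = 0)

include hA hψ in
lemma Dlin_algebraMap_A (a : A) : Dlin k B κ hκ ψ (algebraMap A B a) = 0 := by
  obtain ⟨c, hc⟩ := hA a
  have h1 : algebraMap A B a = algebraMap k B c + algebraMap A B (a - algebraMap k A c) := by
    rw [map_sub, ← IsScalarTower.algebraMap_apply k A B]
    ring
  rw [h1, map_add, Dlin_algebraMap_k, zero_add, Dlin_apply]
  have hmem : algebraMap A B (a - algebraMap k A c) ∈ RingHom.ker (algebraMap B κ) := hI hc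
  rw [pr_of_mem k B κ hκ _ hmem]
  have h2 := hψ (I.toCotangent ⟨_, hc⟩)
  rw [Ideal.mapCotangent_toCotangent] at h2
  change ψ ((RingHom.ker (algebraMap B κ)).toCotangent
    ⟨algebraMap A B (a - algebraMap k A c), hmem⟩) = 0 at h2
  rw [h2, map_zero]

/-- the derivation attached to a functional vanishing on the image of the cotangent space of
the base -/
noncomputable def der : Derivation A B κ where
  toFun := Dlin k B κ hκ ψ
  map_add' := (Dlin k B κ hκ ψ).map_add
  map_smul' a b := by
    change Dlin k B κ hκ ψ (a • b) = a • Dlin k B κ hκ ψ b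
    rw [Algebra.smul_def, Dlin_mul, Dlin_algebraMap_A k A B κ hκ I hI hA ψ hψ, mul_zero, add_zero,
      Algebra.smul_def, IsScalarTower.algebraMap_apply A B κ]
  map_one_eq_zero' := by
    change Dlin k B κ hκ ψ 1 = 0
    rw [← map_one (algebraMap k B), Dlin_algebraMap_k]
  leibniz' b b' := by
    change Dlin k B κ hκ ψ (b * b') = b • Dlin k B κ hκ ψ b' + b' • Dlin k B κ hκ ψ b
    rw [Dlin_mul, Algebra.smul_def, Algebra.smul_def]

lemma der_apply (b : B) : der k A B κ hκ I hI hA ψ hψ b = Dlin k B κ hκ ψ b := rfl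

include hκ hA in
lemma mem_range_of_kerCotangentToTensor_eq_zero (v : (RingHom.ker (algebraMap B κ)).Cotangent)
    (hv : kerCotangentToTensor A B κ v = 0) :
    v ∈ LinearMap.range (Ideal.mapCotangent I (RingHom.ker (algebraMap B κ))
      (IsScalarTower.toAlgHom k A B) hI) := by
  by_contra hnot
  obtain ⟨ψ, hψv, hψW⟩ := Submodule.exists_le_ker_of_notMem hnot
  have hψ : ∀ x, ψ (Ideal.mapCotangent I (RingHom.ker (algebraMap B κ))
      (IsScalarTower.toAlgHom k A B) hI x) = 0 := fun x => hψW ⟨x, rfl⟩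
  let D := der k A B κ hκ I hI hA ψ hψ
  let ℓ : κ ⊗[B] Ω[B⁄A] →ₗ[κ] κ := LinearMap.liftBaseChange κ D.liftKaehlerDifferential
  obtain ⟨x, rfl⟩ := (RingHom.ker (algebraMap B κ)).toCotangent_surjective v
  rw [kerCotangentToTensor_toCotangent] at hv
  have h1 := congrArg ℓ hv
  rw [LinearMap.liftBaseChange_one_tmul, Derivation.liftKaehlerDifferential_comp_D, map_zero,
    der_apply, Dlin_apply, pr_of_mem k B κ hκ _ x.2] at h1
  exact hψv (hκ.1 (h1.trans (map_zero _).symm))

lemma kerCotangentToTensor_mapCotangent (x : I.Cotangent) :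
    kerCotangentToTensor A B κ (Ideal.mapCotangent I (RingHom.ker (algebraMap B κ))
      (IsScalarTower.toAlgHom k A B) hI x) = 0 := by
  obtain ⟨y, rfl⟩ := I.toCotangent_surjective x
  rw [Ideal.mapCotangent_toCotangent, kerCotangentToTensor_toCotangent]
  change (1 : κ) ⊗ₜ[B] D A B (algebraMap A B y.1) = 0
  rw [Derivation.map_algebraMap, TensorProduct.tmul_zero]

include hκ hA in
theorem finrank_formula [Module.Finite k (RingHom.ker (algebraMap B κ)).Cotangent]
    (hsurjB : Function.Surjective (algebraMap B κ)) :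
    Module.finrank κ (κ ⊗[B] Ω[B⁄A]) +
      Module.finrank k (LinearMap.range (Ideal.mapCotangent I (RingHom.ker (algebraMap B κ))
        (IsScalarTower.toAlgHom k A B) hI)) =
    Module.finrank k (RingHom.ker (algebraMap B κ)).Cotangent := by
  have hsurjA : Function.Surjective (algebraMap A κ) := by
    intro c
    obtain ⟨c', rfl⟩ := hκ.2 c
    refine ⟨algebraMap k A c', ?_⟩
    rw [IsScalarTower.algebraMap_apply A B κ, ← IsScalarTower.algebraMap_apply k A B,
      ← IsScalarTower.algebraMap_apply k B κ]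
  let dbar : (RingHom.ker (algebraMap B κ)).Cotangent →ₗ[k] κ ⊗[B] Ω[B⁄A] :=
    (kerCotangentToTensor A B κ).restrictScalars k
  have hsurj : Function.Surjective dbar := by
    intro t
    have hsub : Subsingleton (Ω[κ⁄A]) := KaehlerDifferential.subsingleton_of_surjective A κ hsurjA
    have hex := KaehlerDifferential.exact_kerCotangentToTensor_mapBaseChange A B κ hsurjB
    exact (hex t).1 (Subsingleton.elim _ _)
  have hker : LinearMap.ker dbar = LinearMap.range (Ideal.mapCotangent I
      (RingHom.ker (algebraMap B κ)) (IsScalarTower.toAlgHom k A B) hI) := by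
    ext v
    constructor
    · intro hv
      exact mem_range_of_kerCotangentToTensor_eq_zero k A B κ hκ I hI hA v hv
    · rintro ⟨x, rfl⟩
      exact kerCotangentToTensor_mapCotangent k A B κ I hI x
  have h1 := LinearMap.finrank_range_add_finrank_ker dbar
  rw [LinearMap.range_eq_top.2 hsurj, finrank_top, hker] at h1
  have h2 : Module.finrank k κ = 1 := by
    rw [← (LinearEquiv.ofBijective (Algebra.linearMap k κ) hκ).finrank_eq, Module.finrank_self]
  have h3 : Module.finrank k (κ ⊗[B] Ω[B⁄A]) = Module.finrank κ (κ ⊗[B] Ω[B⁄A]) := by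
    rw [← Module.finrank_mul_finrank k κ (κ ⊗[B] Ω[B⁄A]), h2, one_mul]
  rw [← h3]
  exact h1

end

include hκ in
theorem finrank_formula' (I : Ideal A) (J : Ideal B) (hJ : J = RingHom.ker (algebraMap B κ))
    (hI : I ≤ J.comap (IsScalarTower.toAlgHom k A B))
    (hA : ∀ a : A, ∃ c : k, a - algebraMap k A c ∈ I)
    [Module.Finite k J.Cotangent]
    (hsurjB : Function.Surjective (algebraMap B κ)) :
    Module.finrank κ (κ ⊗[B] Ω[B⁄A]) +
      Module.finrank k (LinearMap.range (Ideal.mapCotangent I J
        (IsScalarTower.toAlgHom k A B) hI)) =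
    Module.finrank k J.Cotangent := by
  subst hJ
  exact finrank_formula k A B κ hκ I hI hA hsurjB

include hκ in
/-- the cotangent space of an ideal `J` with `B = k + J` is finite over `k` if it is finite
over `B` -/
lemma finite_cotangent (J : Ideal B) (hJ : J = RingHom.ker (algebraMap B κ))
    [Module.Finite B J.Cotangent] : Module.Finite k J.Cotangent := by
  subst hJ
  obtain ⟨s, hs⟩ := (Module.finite_def (R := B)).1 ‹_›
  refine ⟨s, ?_⟩
  rw [eq_top_iff]
  intro v _
  have hv : v ∈ Submodule.span B (s : Set (RingHom.ker (algebraMap B κ)).Cotangent) := by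
    rw [hs]; trivial
  induction hv using Submodule.span_induction with
  | mem x hx => exact Submodule.subset_span hx
  | zero => exact Submodule.zero_mem _
  | add x y _ _ hx hy => exact Submodule.add_mem _ (hx trivial) (hy trivial)
  | smul b x _ hx =>
    have h1 : b • x = cB k B κ hκ b • x := by
      have h2 : (b - algebraMap k B (cB k B κ hκ b)) • x = 0 := by
        obtain ⟨y, rfl⟩ := (RingHom.ker (algebraMap B κ)).toCotangent_surjective x
        rw [← map_smul, Ideal.toCotangent_eq_zero, pow_two]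
        exact Ideal.mul_mem_mul (sub_cB_mem k B κ hκ b) y.2
      rw [sub_smul, sub_eq_zero, algebraMap_smul] at h2
      exact h2
    rw [h1]
    exact Submodule.smul_mem _ _ (hx trivial)

end Groth.Agent.H28.CotDiff
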