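import Mathlib

/-!
# Linearity of the homology functors on the derived category (helper28)
-/

set_option autoImplicit false
universe t w v u

open CategoryTheory CategoryTheory.Limits

namespace Groth.Agent.H28.DLinear

variable (R : Type t) [CommRing R] (C : Type u) [Category.{v} C] [Abelian C] [Linear R C]

lemma homologyMap_smul {ι : Type*} {c : ComplexShape ι} {K L : HomologicalComplex C c}
    (r : R) (f : K ⟶ L) (n : ι) :
    HomologicalComplex.homologyMap (r • f) n = r • HomologicalComplex.homologyMap f n := by
  have h : (HomologicalComplex.shortComplexFunctor C c n).map (r • f) =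
      r • (HomologicalComplex.shortComplexFunctor C c n).map f := by
    ext <;> rfl
  change ShortComplex.homologyMap ((HomologicalComplex.shortComplexFunctor C c n).map (r • f)) = _
  rw [h, ShortComplex.homologyMap_smul]
  rfl

instance {ι : Type*} (c : ComplexShape ι) (n : ι) :
    (HomologicalComplex.homologyFunctor C c n).Linear R where
  map_smul f r := homologyMap_smul R C r f n

variable [HasDerivedCategory.{w} C]

instance derivedHomologyFunctor_linear (n : ℤ) :
    (DerivedCategory.homologyFunctor C n).Linear R := by
  let : Localization.Lifting DerivedCategory.Q
      (HomologicalComplex.quasiIso C (ComplexShape.up ℤ))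
      (HomologicalComplex.homologyFunctor C (ComplexShape.up ℤ) n)
      (DerivedCategory.homologyFunctor C n) := ⟨DerivedCategory.homologyFunctorFactors C n⟩
  exact (Localization.functor_linear_iff DerivedCategory.Q
    (HomologicalComplex.quasiIso C (ComplexShape.up ℤ)) R
    (HomologicalComplex.homologyFunctor C (ComplexShape.up ℤ) n)
    (DerivedCategory.homologyFunctor C n)).1 inferInstance

end Groth.Agent.H28.DLinear
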