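import Mathlib

/-!
# Davis' lemma (prime avoidance for a coset)
-/

set_option autoImplicit false
universe u

namespace Groth.Agent.H28

open Ideal

/-- antichain case -/
theorem davis_aux {R : Type u} [CommRing R] (s : Finset (Ideal R)) (hs : ∀ p ∈ s, p.IsPrime)
    (hanti : ∀ p ∈ s, ∀ q ∈ s, q ≤ p → q = p)
    (x : R) (J : Ideal R)
    (h : ¬ (((Ideal.span {x} ⊔ J : Ideal R) : Set R) ⊆ ⋃ p ∈ (s : Set (Ideal R)), (p : Set R))) :
    ∃ j ∈ J, ∀ p ∈ s, x + j ∉ p := by
  classical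
  let s₁ := s.filter (fun p => x ∈ p)
  let s₂ := s.filter (fun p => x ∉ p)
  let J' : Ideal R := J * ∏ q ∈ s₂, q
  have hJ'J : J' ≤ J := Ideal.mul_le_left
  have hJ'q : ∀ q ∈ s₂, J' ≤ q := by
    intro q hq
    exact Ideal.mul_le_right.trans (Ideal.prod_le_inf.trans (Finset.inf_le hq))
  have hnot : ¬ ((J' : Set R) ⊆ ⋃ p ∈ (s₁ : Set (Ideal R)), (p : Set R)) := by
    intro hsub
    rw [Ideal.subset_union_prime (R := R) (f := fun p : Ideal R => p) ⊥ ⊥] at hsub
    · obtain ⟨p, hp, hle⟩ := hsub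
      have hp1 : p ∈ s ∧ x ∈ p := by simpa [s₁] using hp
      have hprime := hs p hp1.1
      rcases hprime.mul_le.mp hle with hJ | hprod
      · apply h
        intro y hy
        have : y ∈ p := by
          have hle' : Ideal.span {x} ⊔ J ≤ p :=
            sup_le ((Ideal.span_singleton_le_iff_mem p).mpr hp1.2) hJ
          exact hle' hy
        exact Set.mem_biUnion (Finset.mem_coe.mpr hp1.1) this
      · obtain ⟨q, hq, hqp⟩ := (hprime.prod_le).mp hprod
        have hq2 : q ∈ s ∧ x ∉ q := by simpa [s₂] using hq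
        have := hanti p hp1.1 q hq2.1 hqp
        rw [this] at hq2
        exact hq2.2 hp1.2
    · intro p hp _ _
      have hp1 : p ∈ s ∧ x ∈ p := by simpa [s₁] using hp
      exact hs p hp1.1
  rw [Set.not_subset] at hnot
  obtain ⟨j, hjJ', hj⟩ := hnot
  refine ⟨j, hJ'J hjJ', fun p hp hxj => ?_⟩
  by_cases hxp : x ∈ p
  · apply hj
    have hp1 : p ∈ s₁ := by simp [s₁, hp, hxp]
    refine Set.mem_biUnion (Finset.mem_coe.mpr hp1) ?_
    have := p.sub_mem hxj hxp
    simpa using this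
  · have hp2 : p ∈ s₂ := by simp [s₂, hp, hxp]
    have hjp : j ∈ p := hJ'q p hp2 hjJ'
    apply hxp
    have := p.sub_mem hxj hjp
    simpa using this

/-- **Davis' lemma**: if `(x) + J` is not contained in a finite union of primes, then some
`x + j`, `j ∈ J`, avoids all of them. -/
theorem davis {R : Type u} [CommRing R] (s : Finset (Ideal R)) (hs : ∀ p ∈ s, p.IsPrime)
    (x : R) (J : Ideal R)
    (h : ¬ (((Ideal.span {x} ⊔ J : Ideal R) : Set R) ⊆ ⋃ p ∈ (s : Set (Ideal R)), (p : Set R))) :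
    ∃ j ∈ J, ∀ p ∈ s, x + j ∉ p := by
  classical
  -- restrict to maximal elements
  let s' := s.filter (fun p => ∀ q ∈ s, p ≤ q → q = p)
  have hmax : ∀ p ∈ s, ∃ q ∈ s', p ≤ q := by
    intro p hp
    obtain ⟨q, hpq, hq⟩ := (s.finite_toSet).exists_le_maximal (Finset.mem_coe.mpr hp)
    refine ⟨q, ?_, hpq⟩
    simp only [s', Finset.mem_filter]
    refine ⟨hq.1, fun r hr hqr => ?_⟩
    exact le_antisymm (hq.2 (Finset.mem_coe.mpr hr) hqr) hqr
  have hs' : ∀ p ∈ s', p.IsPrime := fun p hp => hs p (Finset.mem_filter.mp hp).1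
  have hanti : ∀ p ∈ s', ∀ q ∈ s', q ≤ p → q = p := by
    intro p hp q hq hqp
    exact ((Finset.mem_filter.mp hq).2 p (Finset.mem_filter.mp hp).1 hqp).symm
  have h' : ¬ (((Ideal.span {x} ⊔ J : Ideal R) : Set R) ⊆
      ⋃ p ∈ (s' : Set (Ideal R)), (p : Set R)) := by
    intro hsub
    apply h
    intro y hy
    obtain ⟨p, hp, hyp⟩ := Set.mem_iUnion₂.mp (hsub hy)
    exact Set.mem_biUnion (Finset.mem_coe.mpr (Finset.mem_filter.mp (Finset.mem_coe.mp hp)).1) hyp
  obtain ⟨j, hj, hj'⟩ := davis_aux s' hs' hanti x J h'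
  refine ⟨j, hj, fun p hp hxj => ?_⟩
  obtain ⟨q, hq, hpq⟩ := hmax p hp
  exact hj' q hq (hpq hxj)

end Groth.Agent.H28
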