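import Mathlib
import Groth.Prelude.Def_CAlg
import Groth.Agent.H29.DepthMore

/-!
# Depth of an ideal versus depth of localizations
-/

set_option autoImplicit false
universe u

namespace Groth.Agent.H28

open RingTheory.Sequence Groth.Agent.H29

/-- `(M/xM)_p ≃ M_p / x M_p`. -/
noncomputable def quotSMulTopLocEquiv {R : Type u} [CommRing R] (M : Type u) [AddCommGroup M]
    [Module R M] (p : Ideal R) [p.IsPrime] (x : R) :
    QuotSMulTop (algebraMap R (Localization.AtPrime p) x) (LocalizedModule p.primeCompl M)
      ≃ₗ[Localization.AtPrime p] LocalizedModule p.primeCompl (QuotSMulTop x M) :=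
  ((QuotSMulTop.algebraMapTensorEquivTensorQuotSMulTop x M (Localization.AtPrime p)).symm ≪≫ₗ
    QuotSMulTop.congr (algebraMap R (Localization.AtPrime p) x)
      (IsLocalizedModule.isBaseChange p.primeCompl (Localization.AtPrime p)
        (LocalizedModule.mkLinearMap p.primeCompl M)).equiv).symm ≪≫ₗ
  (IsLocalizedModule.isBaseChange p.primeCompl (Localization.AtPrime p)
    (LocalizedModule.mkLinearMap p.primeCompl (QuotSMulTop x M))).equiv

theorem exists_prime_depth_le (R : Type u) [CommRing R] [IsNoetherianRing R] :
    ∀ (n : ℕ) (M : Type u) [AddCommGroup M] [Module R M] [Module.Finite R M] (a : Ideal R),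
      a • (⊤ : Submodule R M) ≠ ⊤ → LocCoh.idealDepth a M = n →
      ∃ (p : Ideal R) (_ : p.IsPrime), a ≤ p ∧
        LocCoh.depth (Localization.AtPrime p) (LocalizedModule p.primeCompl M) ≤ n := by
  intro n
  induction n with
  | zero =>
    intro M _ _ _ a ha hd
    rw [Nat.cast_zero, idealDepth_eq_zero_iff a M ha] at hd
    have hex : ∃ q ∈ associatedPrimes R M, a ≤ q := by
      by_contra hcon
      obtain ⟨x, hx, hreg⟩ := exists_isSMulRegular_mem_of_forall_not_le R M a
        (fun q hq hle => hcon ⟨q, hq, hle⟩)
      exact hd x hx hreg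
    obtain ⟨q, hq, haq⟩ := hex
    have hqp : q.IsPrime := hq.isPrime
    refine ⟨q, hqp, haq, ?_⟩
    have h1 := Module.associatedPrimes.mem_associatedPrimes_atPrime_of_mem_associatedPrimes hq
    have h2 := (depth_eq_zero_iff_mem_ass (Localization.AtPrime q)
      (LocalizedModule q.primeCompl M)).mpr h1
    rw [h2]
    simp
  | succ n ih =>
    intro M _ _ _ a ha hd
    obtain ⟨rs, hlen, hreg, hmem⟩ := (le_idealDepth_iff a M ha 1).mp (by
      rw [hd]
      exact_mod_cast Nat.succ_le_succ (Nat.zero_le n))
    obtain ⟨x, rfl⟩ := List.length_eq_one_iff.mp hlen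
    have hx : x ∈ a := hmem x (List.mem_singleton_self x)
    have hxreg : IsSMulRegular M x := (isWeaklyRegular_singleton_iff M x).mp hreg
    have h2 := idealDepth_quotSMulTop_add_one a M ha x hx hxreg
    have hd' : LocCoh.idealDepth a (QuotSMulTop x M) = n := by
      have h3 := h2.trans hd
      rw [Nat.cast_add, Nat.cast_one] at h3
      exact ENat.add_left_injective_of_ne_top ENat.one_ne_top h3
    obtain ⟨p, hp, hap, hle⟩ := ih (QuotSMulTop x M) a (smul_top_quotSMulTop_ne_top a M ha x hx) hd'
    refine ⟨p, hp, hap, ?_⟩
    have hcongr := idealDepth_congr (IsLocalRing.maximalIdeal (Localization.AtPrime p))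
      (quotSMulTopLocEquiv M p x)
    have hle' : LocCoh.depth (Localization.AtPrime p)
        (QuotSMulTop (algebraMap R (Localization.AtPrime p) x) (LocalizedModule p.primeCompl M)) ≤ n := by
      unfold LocCoh.depth
      rw [hcongr]
      exact hle
    have hnt : Nontrivial (LocalizedModule p.primeCompl M) := by
      by_contra hcon
      rw [not_nontrivial_iff_subsingleton] at hcon
      have : Subsingleton (QuotSMulTop (algebraMap R (Localization.AtPrime p) x)
          (LocalizedModule p.primeCompl M)) := Quotient.instSubsingletonQuotient _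
      rw [depth_eq_top_of_subsingleton] at hle'
      exact absurd hle' (by simp)
    have hx' : algebraMap R (Localization.AtPrime p) x ∈
        IsLocalRing.maximalIdeal (Localization.AtPrime p) :=
      (IsLocalization.AtPrime.to_map_mem_maximal_iff (Localization.AtPrime p) p x).mpr (hap hx)
    have hreg' : IsSMulRegular (LocalizedModule p.primeCompl M)
        (algebraMap R (Localization.AtPrime p) x) := by
      have := hreg.of_isLocalizedModule (Localization.AtPrime p) p.primeCompl
        (LocalizedModule.mkLinearMap p.primeCompl M)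
      rwa [List.map_singleton, isWeaklyRegular_singleton_iff] at this
    have h4 := depth_quotSMulTop_add_one (Localization.AtPrime p)
      (LocalizedModule p.primeCompl M) _ hx' hreg'
    rw [← h4, Nat.cast_add, Nat.cast_one]
    exact add_le_add_left hle' 1

end Groth.Agent.H28
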