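import Mathlib
import Groth.Agent.H28.Descent
import Groth.Agent.H28.DiagLift

/-!
# Descent of properties of representable morphisms along families covering in the fppf topology
-/

set_option autoImplicit false
set_option linter.style.haveILetI false
set_option backward.isDefEq.respectTransparency false
set_option backward.isDefEq.respectTransparency.types false

namespace Groth.Agent.H28.RepComp

open CategoryTheory CategoryTheory.Limits FibCat AlgebraicGeometry Opposite Stk MorphismProperty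
open Groth.Agent.Helper22 Groth.Agent.Helper22.EquivComp Groth.Agent.Helper22.FpSq
open Groth.Agent.Helper22.FpEquiv Groth.Agent.H28.LiftFp
open Groth.Agent.H28.FpBase Groth.Agent.H28.PshDict Groth.Agent.H28.IsoCl
open Groth.Agent.H25.AS

universe u

variable {S : Scheme.{u}}

instance containsIdentities_flat_lfp :
    (@Flat ⊓ @LocallyOfFinitePresentation : MorphismProperty Scheme.{u}).ContainsIdentities :=
  ⟨fun X => ⟨(inferInstance : Flat (𝟙 X)), (inferInstance : LocallyOfFinitePresentation (𝟙 X))⟩⟩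

theorem exists_fppf_arrow {U : Over S} (R : Sieve U)
    (hR : R ∈ (QuotSh.J Scheme.fppfPrecoverage S) U) (x : ↥U.left) :
    ∃ (V : Over S) (h : V ⟶ U), R.arrows h ∧ Flat h.left ∧ LocallyOfFinitePresentation h.left ∧
      x ∈ Set.range h.left := by
  have h1 : Sieve.overEquiv U R ∈
      (Scheme.precoverage (@Flat ⊓ @LocallyOfFinitePresentation)).toGrothendieck U.left := hR
  rw [Precoverage.mem_toGrothendieck_iff_of_isStableUnderComposition] at h1
  obtain ⟨R', hR', hle⟩ := h1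
  rw [Precoverage.mem_iff_exists_zeroHypercover] at hR'
  obtain ⟨E, rfl⟩ := hR'
  have h2 := (Scheme.presieve₀_mem_precoverage_iff
    (P := @Flat ⊓ @LocallyOfFinitePresentation) E.toPreZeroHypercover).1 E.mem₀
  obtain ⟨i, hi⟩ := h2.1 x
  have h3 := h2.2 i
  have h4 : (Sieve.overEquiv U R).arrows (E.f i) := hle _ (E.f i) (Presieve.ofArrows.mk i)
  rw [Sieve.overEquiv_iff] at h4
  exact ⟨Over.mk (E.f i ≫ U.hom), Over.homMk (E.f i), h4, h3.1, h3.2, hi⟩

section fam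

variable {𝒳 𝒴 𝒵 : AlgSt.Cat S}

/-- the step of `descent_pt` at one member of a family -/
theorem descent_pt_aux (P : MorphismProperty (AlgSp.Sp S)) (hPiso : CancelIso P)
    (f : 𝒳 ⥤ᵇ 𝒴) {U : Over S} (y : FibCat.overCat U ⥤ᵇ 𝒴)
    (F : AlgSp.Space S) (e : AlgSt.ofSp F.obj ⥤ᵇ FibCat.fp y f) (he : FibCat.IsEquivOver e)
    {T' : Over S} (q : (AlgSp.yon S).obj T' ⟶ (AlgSp.yon S).obj U)
    (F' : AlgSp.Space S)
    (e' : AlgSt.ofSp F'.obj ⥤ᵇ FibCat.fp (BasedFunctor.comp (sliceFun q) y) f)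
    (he' : FibCat.IsEquivOver e')
    (hP' : P (AlgSt.spMapOfOver
      (BasedFunctor.comp e' (FibCat.fpFst (BasedFunctor.comp (sliceFun q) y) f)))) :
    AlgSp.IsAlgSpace (pullback (AlgSt.spMapOfOver (BasedFunctor.comp e (FibCat.fpFst y f))) q) ∧
      P (pullback.snd (AlgSt.spMapOfOver (BasedFunctor.comp e (FibCat.fpFst y f))) q) := by
  obtain ⟨eI, ⟨β₁⟩, ⟨β₂⟩⟩ := id he
  let Φ : AlgSt.ofSp F.obj ⥤ᵇ FibCat.overCat U := BasedFunctor.comp e (FibCat.fpFst y f)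
  let γ : F.obj ⟶ (AlgSp.yon S).obj U := AlgSt.spMapOfOver Φ
  let f' : FibCat.fp y f ⥤ᵇ AlgSt.ofSch U :=
    BasedFunctor.comp (FibCat.fpFst y f) (AlgSt.ofOverCat U)
  have κ₀ : Stk.ofPshMap γ.hom ≅ BasedFunctor.comp e f' := by
    have h : Stk.ofPshMap γ.hom =
        Stk.ofPshMap (pshMapOf (BasedFunctor.comp Φ (AlgSt.ofOverCat U))) :=
      congrArg (fun k => Stk.ofPshMap k) (spMapOfOver_hom_eq Φ)
    rw [h]
    exact ofPshMapIso (BasedFunctor.comp Φ (AlgSt.ofOverCat U))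
  have ε₀ : f' ≅ BasedFunctor.comp eI (Stk.ofPshMap γ.hom) :=
    (whiskerRightIso β₂ f').symm ≪≫ whiskerLeftIso eI κ₀.symm
  let t₀ : FibCat.overCat T' ⥤ᵇ FibCat.overCat U := sliceFun q
  let t : FibCat.overCat T' ⥤ᵇ AlgSt.ofSch U :=
    BasedFunctor.comp (AlgSt.ofOverCat T') (Stk.ofPshMap q.hom : AlgSt.ofSch T' ⥤ᵇ AlgSt.ofSch U)
  let s2 : FibCat.fp t₀ (FibCat.fpFst y f) ⥤ᵇ FibCat.fp t f' :=
    sqFun t f' t₀ (FibCat.fpFst y f) (BasedFunctor.id _) (AlgSt.ofOverCat U) (Iso.refl _)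
      (Iso.refl _)
  have hs2 : FibCat.IsEquivOver s2 :=
    isEquivOver_sqFun t f' t₀ (FibCat.fpFst y f) (BasedFunctor.id _) (AlgSt.ofOverCat U)
      (Iso.refl _) (Iso.refl _) isEquivOver_id (isEquivOver_ofOverCat U)
  let e_U : AlgSt.ofSp F'.obj ⥤ᵇ FibCat.fp t f' :=
    BasedFunctor.comp e' (BasedFunctor.comp (fpBase t₀ y f) s2)
  have he_U : FibCat.IsEquivOver e_U :=
    isEquivOver_comp _ _ he' (isEquivOver_comp _ _ (isEquivOver_fpBase t₀ y f) hs2)
  have sq := IsPullback.of_hasPullback γ q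
  have sq' : IsPullback (pullback.fst γ q).hom (pullback.snd γ q).hom γ.hom q.hom :=
    sq.map (sheafToPresheaf (AlgSp.J S) (Type (u + 1)))
  obtain ⟨h, hA, hPs⟩ := repBySpWith_pt γ.hom f' eI P hPiso ⟨e, ⟨β₂⟩, ⟨β₁⟩⟩ ε₀ q.hom
    ⟨F', e_U, he_U, hP'⟩ (pullback.fst γ q).hom (pullback.snd γ q).hom sq'
  exact ⟨hA, hPs⟩

/-- pointwise descent along an fppf covering family by schemes -/
theorem descent_fam (P : MorphismProperty (AlgSp.Sp S)) (hPiso : CancelIso P)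
    (hP : AlgSp.IsLocalOnBase AlgSp.IsFppfCover P)
    (f : 𝒳 ⥤ᵇ 𝒴) {U : Over S} (y : FibCat.overCat U ⥤ᵇ 𝒴)
    (F : AlgSp.Space S) (e : AlgSt.ofSp F.obj ⥤ᵇ FibCat.fp y f) (he : FibCat.IsEquivOver e)
    {ι : Type u} (T' : ι → Over S)
    (q : ∀ i, (AlgSp.yon S).obj (T' i) ⟶ (AlgSp.yon S).obj U)
    (hq : AlgSp.IsFppfCover (fun i => (AlgSp.yon S).obj (T' i)) q)
    (h : ∀ i, ∃ (F' : AlgSp.Space S)
      (e' : AlgSt.ofSp F'.obj ⥤ᵇ FibCat.fp (BasedFunctor.comp (sliceFun (q i)) y) f),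
      FibCat.IsEquivOver e' ∧ P (AlgSt.spMapOfOver
        (BasedFunctor.comp e' (FibCat.fpFst (BasedFunctor.comp (sliceFun (q i)) y) f)))) :
    P (AlgSt.spMapOfOver (BasedFunctor.comp e (FibCat.fpFst y f))) := by
  let γ : F.obj ⟶ (AlgSp.yon S).obj U :=
    AlgSt.spMapOfOver (BasedFunctor.comp e (FibCat.fpFst y f))
  have hh : ∀ i, AlgSp.IsAlgSpace (pullback γ (q i)) ∧ P (pullback.snd γ (q i)) := fun i => by
    obtain ⟨F', e', he', hP'⟩ := h i
    exact descent_pt_aux P hPiso f y F e he (q i) F' e' he' hP'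
  exact (hP (fun i => (AlgSp.yon S).obj (T' i)) q (AlgSp.IsAlgSpace.yon_obj U)
    (fun i => AlgSp.IsAlgSpace.yon_obj (T' i)) hq γ F.property
    (fun i => pullback γ (q i)) (fun i => pullback.snd γ (q i)) (fun i => pullback.fst γ (q i))
    (fun i => (hh i).1) (fun i => IsPullback.of_hasPullback γ (q i))).2 (fun i => (hh i).2)

theorem repByAlgSpWith_of_fpFst_locSurj (P : MorphismProperty (AlgSp.Sp S)) (hPiso : CancelIso P)
    (hP : AlgSp.IsLocalOnBase AlgSp.IsFppfCover P)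
    (f : 𝒳 ⥤ᵇ 𝒴) (hf : AlgSt.RepByAlgSp1 f) (g : 𝒵 ⥤ᵇ 𝒴)
    (hg : ∀ (U : Over S) (y : FibCat.overCat U ⥤ᵇ 𝒴),
      ∃ R ∈ (QuotSh.J Scheme.fppfPrecoverage S) U,
      ∀ ⦃V : Over S⦄ (h : V ⟶ U), R.arrows h →
        ∃ z : FibCat.overCat V ⥤ᵇ 𝒵,
          Nonempty (BasedFunctor.comp z g ≅ BasedFunctor.comp (AlgSt.overMap h) y))
    (h' : AlgSt.RepByAlgSpWith P (FibCat.fpFst g f)) : AlgSt.RepByAlgSpWith P f := by
  intro U y
  obtain ⟨F, e, he⟩ := hf U y
  refine ⟨F, e, he, ?_⟩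
  obtain ⟨R, hR, hlift⟩ := hg U y
  choose V h hRh hflat hlfp hx using exists_fppf_arrow R hR
  let q : ∀ x : ↥U.left, (AlgSp.yon S).obj (V x) ⟶ (AlgSp.yon S).obj U :=
    fun x => (AlgSp.yon S).map (h x)
  have hq : AlgSp.IsFppfCover (fun x => (AlgSp.yon S).obj (V x)) q := by
    refine ⟨fun x => ⟨locP_of_repWith (P := @Flat)
        (fun k hk => by have : Etale k := hk; exact (inferInstance : Flat k))
        ((AlgSp.repWith_yon_map_iff @Flat (h x)).2 (hflat x)),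
      locP_of_repWith (P := @LocallyOfFinitePresentation)
        (fun k hk => by
          have : Etale k := hk
          exact (inferInstance : LocallyOfFinitePresentation k))
        ((AlgSp.repWith_yon_map_iff @LocallyOfFinitePresentation (h x)).2 (hlfp x))⟩, ?_⟩
    intro pt
    obtain ⟨t, rfl⟩ := (AlgSp.Points.schemeHomeo U).surjective pt
    obtain ⟨v, hv⟩ := hx t
    exact ⟨t, AlgSp.Points.schemeHomeo (V t) v, by
      rw [AlgSp.Points.map_yon_map_apply, hv]⟩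
  refine descent_fam P hPiso hP f y F e he V q hq (fun x => ?_)
  obtain ⟨z, ⟨α⟩⟩ := hlift (h x) (hRh x)
  have hs : sliceFun (q x) = AlgSt.overMap (h x) := rfl
  rw [hs]
  exact pt_of_lift P f g h' (BasedFunctor.comp (AlgSt.overMap (h x)) y) z α

end fam

end Groth.Agent.H28.RepComp
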