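import Mathlib
import Groth.Agent.H28.DiagRep2
import Groth.Agent.H25.AlgSp16

/-!
# The diagonal of a morphism representable by algebraic spaces is locally of finite type
-/

set_option autoImplicit false
set_option linter.style.haveILetI false
set_option backward.isDefEq.respectTransparency false
set_option backward.isDefEq.respectTransparency.types false

namespace Groth.Agent.H28.DiagRep

open CategoryTheory CategoryTheory.Limits FibCat AlgebraicGeometry Opposite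
open Groth.Agent.Helper22 Groth.Agent.Helper22.EquivComp Groth.Agent.H28.LiftFp
open Groth.Agent.H28.FpBase

universe u

variable {S : Scheme.{u}}

theorem exists_equalizer_lft (F : AlgSp.Sp S) (hF : AlgSp.IsAlgSpace F) {U : Over S}
    (es₁ es₂ : F.obj.obj (op U)) :
    ∃ (V : Over S) (j : V ⟶ U), Mono j ∧ LocallyOfFiniteType j.left ∧ ∀ (T : Over S) (h : T ⟶ U),
      (∃ h' : T ⟶ V, h' ≫ j = h) ↔ F.obj.map h.op es₁ = F.obj.map h.op es₂ := by
  let s₁ : (AlgSp.yon S).obj U ⟶ F := (AlgSp.J S).uliftYonedaEquiv.symm es₁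
  let s₂ : (AlgSp.yon S).obj U ⟶ F := (AlgSp.J S).uliftYonedaEquiv.symm es₂
  have key : ∀ (T : Over S) (h : T ⟶ U),
      F.obj.map h.op es₁ = F.obj.map h.op es₂ ↔
        (AlgSp.yon S).map h ≫ s₁ = (AlgSp.yon S).map h ≫ s₂ := by
    intro T h
    have e1 : F.obj.map h.op es₁ =
        (AlgSp.J S).uliftYonedaEquiv ((AlgSp.yon S).map h ≫ s₁) := by
      rw [← GrothendieckTopology.uliftYonedaEquiv_naturality, Equiv.apply_symm_apply]
    have e2 : F.obj.map h.op es₂ =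
        (AlgSp.J S).uliftYonedaEquiv ((AlgSp.yon S).map h ≫ s₂) := by
      rw [← GrothendieckTopology.uliftYonedaEquiv_naturality, Equiv.apply_symm_apply]
    rw [e1, e2]
    exact (AlgSp.J S).uliftYonedaEquiv.injective.eq_iff
  obtain ⟨V, j, fst, hpb⟩ := hF.diag (prod.lift s₁ s₂)
  have hlft : LocallyOfFiniteType j.left :=
    ((AlgSp.repWith_iff _ _).1 (Groth.Agent.H25.AS.repWith_diag_locallyOfFiniteType hF)).2
      (prod.lift s₁ s₂) fst j hpb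
  have hj1 : (AlgSp.yon S).map j ≫ s₁ = fst := by
    have := congrArg (fun k => k ≫ prod.fst) hpb.w
    simpa using this.symm
  have hj2 : (AlgSp.yon S).map j ≫ s₂ = fst := by
    have := congrArg (fun k => k ≫ prod.snd) hpb.w
    simpa using this.symm
  refine ⟨V, j, ⟨fun a b hab => ?_⟩, hlft, fun T h => ?_⟩
  · apply (AlgSp.yon S).map_injective
    apply hpb.hom_ext
    · rw [← hj1, ← Category.assoc, ← Category.assoc, ← Functor.map_comp, ← Functor.map_comp, hab]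
    · rw [← Functor.map_comp, ← Functor.map_comp, hab]
  · rw [key]
    constructor
    · rintro ⟨h', rfl⟩
      rw [Functor.map_comp, Category.assoc, Category.assoc, hj1, hj2]
    · intro hq
      have w : ((AlgSp.yon S).map h ≫ s₁) ≫ Limits.diag F =
          (AlgSp.yon S).map h ≫ prod.lift s₁ s₂ := by
        apply Limits.prod.hom_ext
        · simp
        · simp [hq]
      obtain ⟨h', hh'⟩ := (AlgSp.yon S).map_surjective (hpb.lift _ _ w)
      refine ⟨h', (AlgSp.yon S).map_injective ?_⟩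
      rw [Functor.map_comp, hh', hpb.lift_snd]

variable {𝒳 𝒴 : AlgSt.Cat S} (f : 𝒳 ⥤ᵇ 𝒴) {U : Over S} (z : FibCat.overCat U ⥤ᵇ FibCat.fp f f)

theorem exists_mono_rep_lft (h𝒳 : FibCat.IsFibGrpd 𝒳.p) (h𝒴 : FibCat.IsFibGrpd 𝒴.p)
    (hf : AlgSt.RepByAlgSp1 f) :
    ∃ (V : Over S) (j : V ⟶ U) (_ : Mono j) (_ : LocallyOfFiniteType j.left)
      (Ψ : FibCat.fp z (FibCat.diag f) ⥤ᵇ FibCat.overCat V),
      FibCat.IsEquivOver Ψ ∧
        Nonempty (BasedFunctor.comp Ψ (RepDiag.overMapB j) ≅ FibCat.fpFst z (FibCat.diag f)) := by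
  haveI : f.toFunctor.Faithful := faithful_of_repByAlgSp1 h𝒳 h𝒴 f hf
  obtain ⟨F₀, ε, hε⟩ := hf U (yOf f z)
  obtain ⟨G, ⟨β₁⟩, ⟨β₂⟩⟩ := id hε
  obtain ⟨es₁, hes₁⟩ := Groth.Agent.S12796aux.exists_sec (BasedFunctor.comp (sig₁ f z) G)
  obtain ⟨es₂, hes₂⟩ := Groth.Agent.S12796aux.exists_sec (BasedFunctor.comp (sig₂ f z) G)
  obtain ⟨V, j, hj, hlft, hV⟩ := exists_equalizer_lft F₀.obj F₀.property es₁ es₂
  haveI := hj
  have crit : ∀ T : Over U, (∃ h' : T.left ⟶ V, h' ≫ j = T.hom) ↔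
      ∃ ψ : (z.obj T).obj.fst ≅ (z.obj T).obj.snd, f.map ψ.hom = (z.obj T).obj.iso.hom ∧
        𝒳.p.IsHomLift (𝟙 T.left) ψ.hom := by
    intro T
    rw [hV T.left T.hom]
    have hB := mu_iff_eq ε G β₂ ((sig₁ f z).obj T) ((sig₂ f z).obj T) T.left rfl rfl
    have hG1 : G.obj ((sig₁ f z).obj T) = ⟨T.left, F₀.obj.obj.map T.hom.op es₁⟩ := hes₁ T
    have hG2 : G.obj ((sig₂ f z).obj T) = ⟨T.left, F₀.obj.obj.map T.hom.op es₂⟩ := hes₂ T
    constructor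
    · intro hsec
      have h3 : G.obj ((sig₁ f z).obj T) = G.obj ((sig₂ f z).obj T) := by rw [hG1, hG2, hsec]
      obtain ⟨μ, hμ⟩ := hB.2 h3
      exact psi_of_mu f z h𝒳 T μ hμ
    · rintro ⟨ψ, hψ, -⟩
      obtain ⟨μ, hμ⟩ := mu_of_psi f z T ψ hψ
      have h3 := hB.1 ⟨μ, hμ⟩
      rw [hG1, hG2] at h3
      exact Groth.Agent.S12796aux.sec_eq h3
  have hfac : ∀ ζ : (FibCat.fp z (FibCat.diag f)).obj,
      ∃ h : ((FibCat.fpFst z (FibCat.diag f)).obj ζ).left ⟶ V,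
        h ≫ j = ((FibCat.fpFst z (FibCat.diag f)).obj ζ).hom := by
    intro ζ
    exact (crit ζ.obj.fst).2 ⟨DiagFF.psiOf f z ζ, DiagFF.psiOf_map f z ζ, DiagFF.psiOf_lift f z ζ⟩
  refine ⟨V, j, hj, hlft, MonoRep.monoFun _ j hfac, MonoRep.isEquivOver_monoFun _ j hfac ?_,
    ⟨MonoRep.monoFunIso _ j hfac⟩⟩
  intro T h
  obtain ⟨ψ, hψ, hl⟩ := (crit (Over.mk (h ≫ j))).1 ⟨h, rfl⟩
  exact ⟨DiagFF.objOf f z (Over.mk (h ≫ j)) ψ hψ hl, Iso.refl _, IsHomLift.id rfl⟩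

theorem repByAlgSpWith_diag_of_mono_lft (P : MorphismProperty (AlgSp.Sp S))
    (hP : ∀ {V U : Over S} (j : V ⟶ U), Mono j → LocallyOfFiniteType j.left →
      P ((AlgSp.yon S).map j))
    (h𝒳 : FibCat.IsFibGrpd 𝒳.p) (h𝒴 : FibCat.IsFibGrpd 𝒴.p) (hf : AlgSt.RepByAlgSp1 f) :
    AlgSt.RepByAlgSpWith P (FibCat.diag f) := by
  intro U z
  obtain ⟨V, j, hj, hlft, Ψ, hΨ, ⟨κ⟩⟩ := exists_mono_rep_lft f z h𝒳 h𝒴 hf
  obtain ⟨Ψ', ⟨γ₁⟩, ⟨γ₂⟩⟩ := id hΨ
  let F : AlgSp.Space S := ⟨(AlgSp.yon S).obj V, AlgSp.IsAlgSpace.yon_obj V⟩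
  let e₀ : AlgSt.ofSp F.obj ⥤ᵇ FibCat.fp z (FibCat.diag f) :=
    BasedFunctor.comp (AlgSt.toOverCat V) Ψ'
  refine ⟨F, e₀, isEquivOver_comp _ _ (isEquivOver_toOverCat V) ⟨Ψ, ⟨γ₂⟩, ⟨γ₁⟩⟩, ?_⟩
  have α₁ : BasedFunctor.comp Ψ' (FibCat.fpFst z (FibCat.diag f)) ≅
      BasedFunctor.comp (BasedFunctor.comp Ψ' Ψ) (RepDiag.overMapB j) := whiskerLeftIso Ψ' κ.symm
  have α₂ : BasedFunctor.comp (BasedFunctor.comp Ψ' Ψ) (RepDiag.overMapB j) ≅
      RepDiag.overMapB j := whiskerRightIso γ₂ (RepDiag.overMapB j)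
  have α : BasedFunctor.comp e₀ (FibCat.fpFst z (FibCat.diag f)) ≅
      BasedFunctor.comp (AlgSt.toOverCat V) (RepDiag.overMapB j) :=
    whiskerLeftIso (AlgSt.toOverCat V) (α₁ ≪≫ α₂)
  rw [spMapOfOver_congr α.hom, spMapOfOver_toOverCat_overMap]
  exact hP j hj hlft

theorem locP_unram_of_mono_lft {V U : Over S} (j : V ⟶ U) (hj : Mono j)
    (hl : LocallyOfFiniteType j.left) :
    AlgSp.LocP (@LocallyOfFiniteType ⊓ @FormallyUnramified) ((AlgSp.yon S).map j) := by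
  haveI := hj
  haveI : Mono j.left := inferInstance
  haveI : FormallyUnramified j.left := inferInstance
  refine Groth.Agent.H25.AS.locP_of_repWith
    (P := @LocallyOfFiniteType ⊓ @FormallyUnramified) ?_ ?_
  · intro A B g hg
    haveI := hg
    exact ⟨inferInstance, inferInstance⟩
  · exact (AlgSp.repWith_yon_map_iff _ j).2 ⟨hl, inferInstance⟩

theorem locP_lqf_of_mono_lft {V U : Over S} (j : V ⟶ U) (hj : Mono j)
    (hl : LocallyOfFiniteType j.left) :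
    AlgSp.LocP (@LocallyQuasiFinite ⊓ @LocallyOfFiniteType) ((AlgSp.yon S).map j) := by
  haveI := hj
  haveI : Mono j.left := inferInstance
  haveI := hl
  have hq : LocallyQuasiFinite j.left :=
    Groth.Agent.H25.AS.le_lqf _ ⟨(inferInstance : Mono j.left), hl⟩
  refine Groth.Agent.H25.AS.locP_of_repWith
    (P := @LocallyQuasiFinite ⊓ @LocallyOfFiniteType) ?_ ?_
  · intro A B g hg
    haveI := hg
    exact ⟨Groth.Agent.H25.AS.lqf_of_unramified g, inferInstance⟩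
  · exact (AlgSp.repWith_yon_map_iff _ j).2 ⟨hq, hl⟩

theorem isDMMor_of_rep (h𝒳 : FibCat.IsFibGrpd 𝒳.p) (h𝒴 : FibCat.IsFibGrpd 𝒴.p)
    (hf : AlgSt.RepByAlgSp1 f) : AlgSt.IsDMMor f :=
  repByAlgSpWith_diag_of_mono_lft f _ (fun j hj hl => locP_unram_of_mono_lft j hj hl) h𝒳 h𝒴 hf

theorem isQuasiDMMor_of_rep (h𝒳 : FibCat.IsFibGrpd 𝒳.p) (h𝒴 : FibCat.IsFibGrpd 𝒴.p)
    (hf : AlgSt.RepByAlgSp1 f) : AlgSt.IsQuasiDMMor f :=
  repByAlgSpWith_diag_of_mono_lft f _ (fun j hj hl => locP_lqf_of_mono_lft j hj hl) h𝒳 h𝒴 hf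

end Groth.Agent.H28.DiagRep
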