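import Mathlib
import Groth.Agent.H28.DiagRep3
import Groth.Agent.H28.MonoFF
import Groth.Agent.H25.AlgSp25

/-!
# The diagonal of a monomorphism is an isomorphism; monomorphisms are separated
-/

set_option autoImplicit false
set_option linter.style.haveILetI false
set_option backward.isDefEq.respectTransparency false
set_option backward.isDefEq.respectTransparency.types false

namespace Groth.Agent.H28.DiagRep

open CategoryTheory CategoryTheory.Limits FibCat AlgebraicGeometry Opposite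
open Groth.Agent.Helper22 Groth.Agent.Helper22.EquivComp Groth.Agent.H28.LiftFp
open Groth.Agent.H28.FpBase

universe u

variable {S : Scheme.{u}}

theorem rep_of_equiv_overCat {𝒬 : AlgSt.Cat S} {U V : Over S} (q : 𝒬 ⥤ᵇ FibCat.overCat U)
    (j : V ⟶ U) (Ψ : 𝒬 ⥤ᵇ FibCat.overCat V) (hΨ : FibCat.IsEquivOver Ψ)
    (κ : BasedFunctor.comp Ψ (RepDiag.overMapB j) ≅ q) (P : MorphismProperty (AlgSp.Sp S))
    (hP : P ((AlgSp.yon S).map j)) :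
    ∃ (F : AlgSp.Space S) (e : AlgSt.ofSp F.obj ⥤ᵇ 𝒬), FibCat.IsEquivOver e ∧
      P (AlgSt.spMapOfOver (BasedFunctor.comp e q)) := by
  obtain ⟨Ψ', ⟨γ₁⟩, ⟨γ₂⟩⟩ := id hΨ
  let F : AlgSp.Space S := ⟨(AlgSp.yon S).obj V, AlgSp.IsAlgSpace.yon_obj V⟩
  let e₀ : AlgSt.ofSp F.obj ⥤ᵇ 𝒬 := BasedFunctor.comp (AlgSt.toOverCat V) Ψ'
  refine ⟨F, e₀, isEquivOver_comp _ _ (isEquivOver_toOverCat V) ⟨Ψ, ⟨γ₂⟩, ⟨γ₁⟩⟩, ?_⟩
  have α₁ : BasedFunctor.comp Ψ' q ≅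
      BasedFunctor.comp (BasedFunctor.comp Ψ' Ψ) (RepDiag.overMapB j) := whiskerLeftIso Ψ' κ.symm
  have α₂ : BasedFunctor.comp (BasedFunctor.comp Ψ' Ψ) (RepDiag.overMapB j) ≅
      RepDiag.overMapB j := whiskerRightIso γ₂ (RepDiag.overMapB j)
  have α : BasedFunctor.comp e₀ q ≅
      BasedFunctor.comp (AlgSt.toOverCat V) (RepDiag.overMapB j) :=
    whiskerLeftIso (AlgSt.toOverCat V) (α₁ ≪≫ α₂)
  rw [spMapOfOver_congr α.hom, spMapOfOver_toOverCat_overMap]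
  exact hP

variable {𝒳 𝒴 : AlgSt.Cat S} (f : 𝒳 ⥤ᵇ 𝒴) {U : Over S} (z : FibCat.overCat U ⥤ᵇ FibCat.fp f f)

theorem exists_mono_rep_crit (h𝒳 : FibCat.IsFibGrpd 𝒳.p) (h𝒴 : FibCat.IsFibGrpd 𝒴.p)
    (hf : AlgSt.RepByAlgSp1 f) :
    ∃ (V : Over S) (j : V ⟶ U) (_ : Mono j) (_ : LocallyOfFiniteType j.left)
      (Ψ : FibCat.fp z (FibCat.diag f) ⥤ᵇ FibCat.overCat V),
      FibCat.IsEquivOver Ψ ∧
        Nonempty (BasedFunctor.comp Ψ (RepDiag.overMapB j) ≅ FibCat.fpFst z (FibCat.diag f)) ∧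
        ∀ T : Over U, (∃ h' : T.left ⟶ V, h' ≫ j = T.hom) ↔
          ∃ ψ : (z.obj T).obj.fst ≅ (z.obj T).obj.snd, f.map ψ.hom = (z.obj T).obj.iso.hom ∧
            𝒳.p.IsHomLift (𝟙 T.left) ψ.hom := by
  haveI : f.toFunctor.Faithful := faithful_of_repByAlgSp1 h𝒳 h𝒴 f hf
  obtain ⟨F₀, ε, hε⟩ := hf U (yOf f z)
  obtain ⟨G, ⟨β₁⟩, ⟨β₂⟩⟩ := id hε
  obtain ⟨es₁, hes₁⟩ := Groth.Agent.S12796aux.exists_sec (BasedFunctor.comp (sig₁ f z) G)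
  obtain ⟨es₂, hes₂⟩ := Groth.Agent.S12796aux.exists_sec (BasedFunctor.comp (sig₂ f z) G)
  obtain ⟨V, j, hj, hlft, hV⟩ := exists_equalizer_lft F₀.obj F₀.property es₁ es₂
  haveI := hj
  have crit : ∀ T : Over U, (∃ h' : T.left ⟶ V, h' ≫ j = T.hom) ↔
      ∃ ψ : (z.obj T).obj.fst ≅ (z.obj T).obj.snd, f.map ψ.hom = (z.obj T).obj.iso.hom ∧
        𝒳.p.IsHomLift (𝟙 T.left) ψ.hom := by
    intro T
    rw [hV T.left T.hom]
    have hB := mu_iff_eq ε G β₂ ((sig₁ f z).obj T) ((sig₂ f z).obj T) T.left rfl rfl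
    have hG1 : G.obj ((sig₁ f z).obj T) = ⟨T.left, F₀.obj.obj.map T.hom.op es₁⟩ := hes₁ T
    have hG2 : G.obj ((sig₂ f z).obj T) = ⟨T.left, F₀.obj.obj.map T.hom.op es₂⟩ := hes₂ T
    constructor
    · intro hsec
      have h3 : G.obj ((sig₁ f z).obj T) = G.obj ((sig₂ f z).obj T) := by rw [hG1, hG2, hsec]
      obtain ⟨μ, hμ⟩ := hB.2 h3
      exact psi_of_mu f z h𝒳 T μ hμ
    · rintro ⟨ψ, hψ, -⟩
      obtain ⟨μ, hμ⟩ := mu_of_psi f z T ψ hψ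
      have h3 := hB.1 ⟨μ, hμ⟩
      rw [hG1, hG2] at h3
      exact Groth.Agent.S12796aux.sec_eq h3
  have hfac : ∀ ζ : (FibCat.fp z (FibCat.diag f)).obj,
      ∃ h : ((FibCat.fpFst z (FibCat.diag f)).obj ζ).left ⟶ V,
        h ≫ j = ((FibCat.fpFst z (FibCat.diag f)).obj ζ).hom := by
    intro ζ
    exact (crit ζ.obj.fst).2 ⟨DiagFF.psiOf f z ζ, DiagFF.psiOf_map f z ζ, DiagFF.psiOf_lift f z ζ⟩
  refine ⟨V, j, hj, hlft, MonoRep.monoFun _ j hfac, MonoRep.isEquivOver_monoFun _ j hfac ?_,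
    ⟨MonoRep.monoFunIso _ j hfac⟩, crit⟩
  intro T h
  obtain ⟨ψ, hψ, hl⟩ := (crit (Over.mk (h ≫ j))).1 ⟨h, rfl⟩
  exact ⟨DiagFF.objOf f z (Over.mk (h ≫ j)) ψ hψ hl, Iso.refl _, IsHomLift.id rfl⟩

theorem repByAlgSpWith_diag_of_isMono (P : MorphismProperty (AlgSp.Sp S))
    (hP : ∀ {V U : Over S} (j : V ⟶ U), IsIso j → P ((AlgSp.yon S).map j))
    (h𝒳 : FibCat.IsFibGrpd 𝒳.p) (h𝒴 : FibCat.IsFibGrpd 𝒴.p) (hf : AlgSt.IsMono f) :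
    AlgSt.RepByAlgSpWith P (FibCat.diag f) := by
  intro U z
  obtain ⟨V, j, hj, -, Ψ, hΨ, ⟨κ⟩, crit⟩ :=
    exists_mono_rep_crit f z h𝒳 h𝒴 (MonoFF.repByAlgSp1_of_with hf)
  haveI := hj
  let T₀ : Over U := Over.mk (𝟙 U)
  have ha : 𝒳.p.obj (z.obj T₀).obj.fst = U := z.w_obj T₀
  have hn : 𝒴.p.IsHomLift (𝟙 U) (z.obj T₀).obj.iso.hom :=
    lift_id_congr 𝒴.p _ ha (z.obj T₀).property
  obtain ⟨ψ, hψl, hψ⟩ := MonoFF.fiber_full_of_isMono f h𝒳 h𝒴 hf U (z.obj T₀).obj.fst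
    (z.obj T₀).obj.snd ha (z.obj T₀).obj.iso.hom hn
  haveI := hψl
  haveI hψi : IsIso ψ := @Groth.Agent.H13.FibGrpd.isIso_of_lift_id _ _ _ _ _ h𝒳 U _ _ ψ hψl
  obtain ⟨h', hh'⟩ := (crit T₀).2 ⟨asIso ψ, hψ, hψl⟩
  have hiso : IsIso j := by
    refine ⟨h', ?_, hh'⟩
    have e : (j ≫ h') ≫ j = 𝟙 V ≫ j := by
      rw [Category.assoc, hh']
      exact (Category.comp_id _).trans (Category.id_comp _).symm
    exact (cancel_mono j).1 e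
  exact rep_of_equiv_overCat (FibCat.fpFst z (FibCat.diag f)) j Ψ hΨ κ P (hP j hiso)

theorem isSeparatedMor_of_isMono (h𝒳 : FibCat.IsFibGrpd 𝒳.p) (h𝒴 : FibCat.IsFibGrpd 𝒴.p)
    (hf : AlgSt.IsMono f) : AlgSt.IsSeparatedMor f :=
  repByAlgSpWith_diag_of_isMono f _ (fun j hj => by
    haveI := hj
    haveI : IsIso j.left := inferInstance
    exact Groth.Agent.H25.AS.isProperMor_of_repWith_isClosedImmersion _
      ((AlgSp.repWith_yon_map_iff _ j).2 (inferInstance : IsClosedImmersion j.left))) h𝒳 h𝒴 hf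

end Groth.Agent.H28.DiagRep
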