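import Mathlib
import Groth.Prelude.Def_NonAbH2
import Groth.Prelude.Def_Red

/-!
# Base change of the shear square of an exact sequence of group objects
-/

set_option autoImplicit false
universe v₁ v₂ u₁ u₂ u
open CategoryTheory CategoryTheory.Limits MonoidalCategory CartesianMonoidalCategory MonObj

namespace Groth.Agent.H28.ExactBC

section generic
variable {C : Type u₁} [Category.{v₁} C] [CartesianMonoidalCategory C]
  {D : Type u₂} [Category.{v₂} D] [CartesianMonoidalCategory D]
  (F : C ⥤ D) [F.Monoidal]

open scoped Obj
open Functor.LaxMonoidal Functor.OplaxMonoidal Functor.Monoidal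

theorem isPullback_shear_map {G' G G'' : C} [MonObj G] (u : G' ⟶ G) (v : G ⟶ G'')
    [PreservesLimit (cospan v v) F]
    (h : IsPullback (fst G G') ((G ◁ u) ≫ μ[G]) v v) :
    IsPullback (fst (F.obj G) (F.obj G')) ((F.obj G ◁ F.map u) ≫ μ[F.obj G])
      (F.map v) (F.map v) := by
  have h1 := h.map F
  refine IsPullback.of_iso h1 (Functor.Monoidal.μIso F G G').symm (Iso.refl _) (Iso.refl _)
    (Iso.refl _) ?_ ?_ ?_ ?_
  · simp
  · simp [Functor.obj.μ_def]
  · simp
  · simp

end generic

section overS
open AlgebraicGeometry
variable {S B : Scheme.{u}} (t : S ⟶ B)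

theorem isPullback_map_left {G G'' : Over B} (v : G ⟶ G'') :
    IsPullback ((Over.pullback t).map v).left (pullback.fst G.hom t) (pullback.fst G''.hom t)
      v.left := by
  have big : IsPullback (pullback.snd G.hom t) (pullback.fst G.hom t) t G.hom :=
    (IsPullback.of_hasPullback G.hom t).flip
  have right : IsPullback (pullback.snd G''.hom t) (pullback.fst G''.hom t) t G''.hom :=
    (IsPullback.of_hasPullback G''.hom t).flip
  have e1 : ((Over.pullback t).map v).left ≫ pullback.snd G''.hom t = pullback.snd G.hom t :=
    pullback.lift_snd _ _ _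
  have e2 : v.left ≫ G''.hom = G.hom := Over.w v
  refine IsPullback.of_right (by rw [e1, e2]; exact big) ?_ right
  exact pullback.lift_fst _ _ _

theorem exact_bc (K : Precoverage Scheme.{u}) (hK : Scheme.fppfPrecoverage ≤ K)
    {G' G G'' : Over B} [GrpObj G'] [GrpObj G] [GrpObj G''] (u : G' ⟶ G) (v : G ⟶ G'')
    (hu : IsMonHom u) (hv : IsMonHom v) (huv : u ≫ v = 1)
    (h : IsPullback (fst G G') ((G ◁ u) ≫ μ[G]) v v)
    (h1 : Flat v.left) (h2 : Surjective v.left) (h3 : LocallyOfFinitePresentation v.left) :
    NonAbH1.IsExactSeq K (G' := Red.bc t G') (G := Red.bc t G) (G'' := Red.bc t G'')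
      ((Over.pullback t).map u) ((Over.pullback t).map v) := by
  have : PreservesLimitsOfSize.{0, 0} (Over.pullback t) :=
    (Over.mapPullbackAdj t).rightAdjoint_preservesLimits
  refine ⟨?_, ?_, ?_, ?_, ?_⟩
  · exact Functor.map.instIsMonHom (F := Over.pullback t) G' G u
  · exact Functor.map.instIsMonHom (F := Over.pullback t) G G'' v
  · rw [← Functor.map_comp, huv]
    exact Functor.map_one (Over.pullback t)
  · exact isPullback_shear_map (Over.pullback t) u v h
  · refine ⟨Presieve.singleton ((Over.pullback t).map v).left, hK _ ?_, ?_⟩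
    · have sq := (isPullback_map_left t v).flip
      change Presieve.singleton _ ∈ Scheme.precoverage (@Flat ⊓ @LocallyOfFinitePresentation) _
      rw [Scheme.singleton_mem_precoverage_iff]
      refine ⟨?_, ?_, ?_⟩
      · exact (MorphismProperty.of_isPullback (P := @Surjective) sq h2).surj
      · exact MorphismProperty.of_isPullback (P := @Flat) sq h1
      · exact MorphismProperty.of_isPullback (P := @LocallyOfFinitePresentation) sq h3
    · intro S' f hf
      cases hf
      exact ⟨𝟙 _, Category.id_comp _⟩

end overS

end Groth.Agent.H28.ExactBC
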