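import Mathlib
import Groth.Prelude.Def_CGrpSh
import Groth.Prelude.Def_AlgGrp
import Groth.Agent.H28.ShBridge

/-!
# Exactness of the sequence of sheaves of points gives local lifting of kernel points
-/

set_option autoImplicit false
set_option linter.unusedSectionVars false
universe u
open CategoryTheory CategoryTheory.Limits MonoidalCategory CartesianMonoidalCategory MonObj
  AlgebraicGeometry Opposite

namespace Groth.Agent.H28.ShBridge

section exact

variable {S : Scheme.{u}} (K : Precoverage Scheme.{u}) [(QuotSh.J K S).Subcanonical]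
variable {F G H : Over S} [GrpObj F] [IsCommMonObj F] [GrpObj G] [IsCommMonObj G]
  [GrpObj H] [IsCommMonObj H]
  (f : F ⟶ G) (p : G ⟶ H) [IsMonHom f] [IsMonHom p]

theorem lift_of_exact (w : f ≫ p = 1) (hex : (CGrpSh.seq K f p w).Exact) {T : Over S}
    (x : T ⟶ G) (hx : x ≫ p = 1) :
    ∃ R ∈ QuotSh.J K S T, ∀ ⦃V : Over S⦄ (c : V ⟶ T), R c → ∃ y : V ⟶ F, y ≫ f = c ≫ x := by
  obtain ⟨Sc, hSc⟩ : ∃ Sc, Sc = CGrpSh.seq K f p w := ⟨_, rfl⟩
  rw [← hSc] at hex
  have hepi : Epi Sc.toCycles := Sc.exact_iff_epi_toCycles.mp hex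
  have hls : Sheaf.IsLocallySurjective Sc.toCycles :=
    (Sheaf.isLocallySurjective_iff_epi' _ _).mpr hepi
  let Γ : BigSite.Ab K S ⥤ AddCommGrpCat.{u+1} :=
    sheafToPresheaf _ _ ⋙ (evaluation _ _).obj (op T)
  have hlim : IsLimit ((KernelFork.ofι Sc.iCycles Sc.iCycles_g).map Γ) :=
    KernelFork.mapIsLimit _ Sc.cyclesIsKernel Γ
  let x₂ : Sc.X₂.obj.obj (op T) := hSc ▸ (ULift.up (Additive.ofMul x) : (CGrpSh.pts K G).obj.obj (op T))
  let φ : AddCommGrpCat.of (ULift.{u+1} ℤ) ⟶ Γ.obj Sc.X₂ :=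
    AddCommGrpCat.ofHom ((zmultiplesHom _ x₂).comp AddEquiv.ulift.toAddMonoidHom)
  have hx₂ : (Γ.map Sc.g) x₂ = 0 := by
    subst hSc
    apply ULift.ext
    exact congrArg Additive.ofMul hx
  have hφ : φ ≫ Γ.map Sc.g = 0 := by
    ext n
    simp only [φ, AddCommGrpCat.hom_comp, AddCommGrpCat.hom_ofHom, AddMonoidHom.comp_apply,
      AddCommGrpCat.hom_zero, AddMonoidHom.zero_apply]
    rw [zmultiplesHom_apply, map_zsmul]
    erw [hx₂]
    rw [smul_zero]
  obtain ⟨l, hl⟩ := KernelFork.IsLimit.lift' hlim φ hφ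
  obtain ⟨z, hzdef⟩ : ∃ z : Sc.cycles.obj.obj (op T), z = l (ULift.up 1) := ⟨_, rfl⟩
  have hz : (Sc.iCycles.hom.app (op T)) z = x₂ := by
    have h1 := congrArg (fun m => m (ULift.up (1 : ℤ))) hl
    simp only [φ, AddCommGrpCat.hom_comp, AddCommGrpCat.hom_ofHom, AddMonoidHom.comp_apply] at h1
    rw [hzdef]
    refine h1.trans ?_
    exact one_zsmul x₂
  refine ⟨Presheaf.imageSieve Sc.toCycles.hom z, Presheaf.imageSieve_mem _ _ _, ?_⟩
  intro V c hc
  obtain ⟨t, ht⟩ := hc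
  have h1 := congrArg (fun e => (Sc.iCycles.hom.app (op V)) e) ht
  simp only at h1
  have h2 : (Sc.iCycles.hom.app (op V)) ((Sc.toCycles.hom.app (op V)) t) =
      (Sc.f.hom.app (op V)) t := by
    have := congrArg (fun m => (m.hom.app (op V)) t) Sc.toCycles_i
    exact this
  have h3 : (Sc.iCycles.hom.app (op V)) ((Sc.cycles.obj.map c.op) z) =
      (Sc.X₂.obj.map c.op) x₂ := by
    have := congrArg (fun m => m z) (Sc.iCycles.hom.naturality c.op)
    simp only [AddCommGrpCat.hom_comp, AddMonoidHom.comp_apply] at this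
    rw [← hz]
    exact this
  rw [h2, h3] at h1
  subst hSc
  refine ⟨t.down.toMul, ?_⟩
  have h4 := congrArg (fun e => e.down.toMul) h1
  exact h4

end exact

section glue

variable {S : Scheme.{u}} (K : Precoverage Scheme.{u}) [(QuotSh.J K S).Subcanonical]

/-- Gluing of a compatible family of morphisms to a (representable) object along a covering
sieve. -/
theorem exists_glue {W N : Over S} (R : Sieve W) (hR : R ∈ QuotSh.J K S W)
    (s : ∀ ⦃V : Over S⦄ (c : V ⟶ W), R c → (V ⟶ N))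
    (hs : ∀ ⦃V V' : Over S⦄ (c : V ⟶ W) (hc : R c) (d : V' ⟶ V),
      s (d ≫ c) (R.downward_closed hc d) = d ≫ s c hc) :
    ∃ ψ' : W ⟶ N, ∀ ⦃V : Over S⦄ (c : V ⟶ W) (hc : R c), c ≫ ψ' = s c hc := by
  have hsh := GrothendieckTopology.Subcanonical.isSheaf_of_isRepresentable (J := QuotSh.J K S)
    (yoneda.obj N)
  have hsf := hsh R hR
  have hirr : ∀ {Z : Over S} (c c' : Z ⟶ W) (_ : c = c') (hc : R c) (hc' : R c'),
      s c hc = s c' hc' := by
    rintro Z c _ rfl _ _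
    rfl
  let x : Presieve.FamilyOfElements (yoneda.obj N) R.arrows := fun V c hc => s c hc
  have hx : x.Compatible := by
    intro Y₁ Y₂ Z g₁ g₂ f₁ f₂ h₁ h₂ hcomm
    change g₁ ≫ s f₁ h₁ = g₂ ≫ s f₂ h₂
    rw [← hs f₁ h₁ g₁, ← hs f₂ h₂ g₂]
    exact hirr _ _ hcomm _ _
  exact ⟨hsf.amalgamate x hx, fun V c hc => hsf.valid_glue hx c hc⟩

end glue

end Groth.Agent.H28.ShBridge
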