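import Mathlib.AlgebraicGeometry.Sites.Fpqc
import Mathlib.AlgebraicGeometry.Noetherian
import Mathlib.CategoryTheory.Limits.Shapes.StrongEpi

set_option autoImplicit false
universe u
open CategoryTheory AlgebraicGeometry

namespace Groth.Agent.H28.FpqcIso

/-- A monomorphism through which an fpqc covering morphism factors is an isomorphism. -/
theorem isIso_of_comp_mono {X Y Z : Scheme.{u}} (s : X ⟶ Y) (f : Y ⟶ Z) [Mono f]
    (h1 : Flat (s ≫ f)) (h2 : Surjective (s ≫ f)) (h3 : QuasiCompact (s ≫ f)) : IsIso f := by
  have : StrongEpi (s ≫ f) := inferInstance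
  have : StrongEpi f := strongEpi_of_strongEpi s f
  exact isIso_of_mono_of_strongEpi f

theorem isIso_over_of_comp_mono {S : Scheme.{u}} {X Y Z : Over S} (s : X ⟶ Y) (f : Y ⟶ Z) [Mono f]
    (h1 : Flat (s ≫ f).left) (h2 : Surjective (s ≫ f).left) (h3 : QuasiCompact (s ≫ f).left) :
    IsIso f := by
  rw [Over.comp_left] at h1 h2 h3
  have : IsIso f.left := isIso_of_comp_mono s.left f.left h1 h2 h3
  have : IsIso ((Over.forget S).map f) := this
  exact isIso_of_reflects_iso f (Over.forget S)

/-- finite type over a field implies noetherian -/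
theorem isNoetherian_of_finiteType (k : Type u) [Field k] (X : Over (Spec (CommRingCat.of k)))
    [LocallyOfFiniteType X.hom] [QuasiCompact X.hom] : IsNoetherian X.left :=
  { toIsLocallyNoetherian := LocallyOfFiniteType.isLocallyNoetherian X.hom
    toCompactSpace := QuasiCompact.compactSpace_of_compactSpace X.hom }

end Groth.Agent.H28.FpqcIso
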