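import Mathlib
import Groth.Prelude.Def_ChGrp
import Groth.Agent.H28.FpqcCov
import Groth.Agent.H28.ActShear
import Groth.Agent.H28.TorsRed
import Groth.Agent.S8039

/-!
# Equivariant morphisms from torsors into a scheme with a "quotient" map: sections and cartesian
squares; squares of the shape `G × H ≅ G ×_X G`.
-/

set_option autoImplicit false
universe u
open CategoryTheory CategoryTheory.Limits MonoidalCategory CartesianMonoidalCategory MonObj
  AlgebraicGeometry

namespace Groth.Agent.H28.TorsEq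

section equivariant

variable {S : Scheme.{u}} {G F Q E : Over S} [GrpObj G] (aG : AlgGrp.Action G F) (π : F ⟶ Q)
  (hsq : IsPullback aG.act (snd G F) π π)
  (aE : AlgGrp.Action G E) (hps : IsIso (lift aE.act (snd G E)))
  (φ : E ⟶ F) (hφ : aE.act ≫ φ = (G ◁ φ) ≫ aG.act)

include hφ in
lemma lift_act_phi {T : Over S} (g : T ⟶ G) (e : T ⟶ E) :
    (lift g e ≫ aE.act) ≫ φ = lift g (e ≫ φ) ≫ aG.act := by
  rw [Category.assoc, hφ, ← Category.assoc, lift_whiskerLeft]

include hsq in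
lemma act_pi {T : Over S} (g : T ⟶ G) (f : T ⟶ F) : (lift g f ≫ aG.act) ≫ π = f ≫ π := by
  rw [Category.assoc, hsq.w, ← Category.assoc, lift_snd]

include hsq hps hφ in
/-- `φ` is a monomorphism on points -/
lemma phi_inj {T : Over S} (e₁ e₂ : T ⟶ E) (h : e₁ ≫ φ = e₂ ≫ φ) : e₁ = e₂ := by
  obtain ⟨g, hg⟩ := Groth.Agent.S8039.torsor_exists aE hps e₁ e₂
  have h1 : lift g (e₂ ≫ φ) ≫ aG.act = lift (1 : T ⟶ G) (e₂ ≫ φ) ≫ aG.act := by
    rw [← lift_act_phi aG aE φ hφ, hg, h, ActShear.lift_one_act]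
  have h2 : lift g (e₂ ≫ φ) = lift (1 : T ⟶ G) (e₂ ≫ φ) := by
    apply hsq.hom_ext
    · exact h1
    · rw [lift_snd, lift_snd]
  have h3 : g = 1 := by
    have := congrArg (fun w => w ≫ fst G F) h2
    simpa using this
  rw [← hg, h3, ActShear.lift_one_act]

include hsq hps hφ in
lemma comp_pi_const {T : Over S} (g₁ g₂ : T ⟶ E) : g₁ ≫ φ ≫ π = g₂ ≫ φ ≫ π := by
  obtain ⟨g, hg⟩ := Groth.Agent.S8039.torsor_exists aE hps g₁ g₂
  rw [← hg, ← Category.assoc, lift_act_phi aG aE φ hφ, act_pi aG π hsq, Category.assoc]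

include hsq hps hφ in
theorem exists_section (hcovE : FpqcCov.Cov (toUnit E).left) :
    ∃ σ : 𝟙_ (Over S) ⟶ Q, toUnit E ≫ σ = φ ≫ π :=
  FpqcCov.desc_of_cov (toUnit E) hcovE (φ ≫ π)
    (fun _ g₁ g₂ _ => comp_pi_const aG π hsq aE hps φ hφ g₁ g₂)

include hsq hps hφ in
theorem isPullback_of_section (hcovE : FpqcCov.Cov (toUnit E).left) (σ : 𝟙_ (Over S) ⟶ Q)
    (hσ : toUnit E ≫ σ = φ ≫ π) : IsPullback φ (toUnit E) π σ := by
  refine TorsRed.isPullback_of_existsUnique hσ.symm ?_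
  intro T f t hft
  have hcovc : FpqcCov.Cov (fst T E).left := by
    rw [Over.fst_left]
    have hc : FpqcCov.Cov E.hom := by
      rw [← TorsRed.toUnit_left]; exact hcovE
    exact FpqcCov.Cov.of_isPullback (IsPullback.of_hasPullback T.hom E.hom).flip hc
  have hepic : Epi (fst T E) := FpqcCov.epi_of_cov _ hcovc
  have hd : (fst T E ≫ f) ≫ π = (snd T E ≫ φ) ≫ π := by
    rw [Category.assoc, hft, Category.assoc, ← hσ, ← Category.assoc, ← Category.assoc]
    congr 1
    exact toUnit_unique _ _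
  have d1 := hsq.lift_fst _ _ hd
  have d2 := hsq.lift_snd _ _ hd
  generalize hsq.lift _ _ hd = d at d1 d2
  have hdeta : d = lift (d ≫ fst G F) (snd T E ≫ φ) := by
    apply CartesianMonoidalCategory.hom_ext
    · rw [lift_fst]
    · rw [lift_snd, d2]
  obtain ⟨e', he'def⟩ : ∃ e' : T ⊗ E ⟶ E, e' = lift (d ≫ fst G F) (snd T E) ≫ aE.act := ⟨_, rfl⟩
  have he' : e' ≫ φ = fst T E ≫ f := by
    rw [he'def, lift_act_phi aG aE φ hφ, ← hdeta, d1]
  obtain ⟨e, he⟩ := FpqcCov.desc_of_cov (fst T E) hcovc e'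
    (fun T'' u₁ u₂ hu => phi_inj aG π hsq aE hps φ hφ _ _ (by
      rw [Category.assoc, Category.assoc, he', ← Category.assoc, ← Category.assoc, hu]))
  have hef : e ≫ φ = f := by
    rw [← cancel_epi (fst T E), ← Category.assoc, he, he']
  refine ⟨e, ⟨hef, toUnit_unique _ _⟩, ?_⟩
  rintro m ⟨hm, -⟩
  exact phi_inj aG π hsq aE hps φ hφ m e (hm.trans hef.symm)

end equivariant

section shape

variable {S : Scheme.{u}} {G H X : Over S} [GrpObj G] (i : H ⟶ G) (p : G ⟶ X)
  (hpb : IsPullback (fst G H) ((G ◁ i) ≫ μ[G]) p p)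

include hpb

lemma tors_mul {T : Over S} (g : T ⟶ G) (h : T ⟶ H) : (g * (h ≫ i)) ≫ p = g ≫ p := by
  have h2 := congrArg (fun w => lift g h ≫ w) hpb.w
  beta_reduce at h2
  rw [← Category.assoc, lift_fst, ← Category.assoc, ← Category.assoc, lift_whiskerLeft,
    ← Hom.mul_def] at h2
  exact h2.symm

lemma tors_exists {T : Over S} (g₁ g₂ : T ⟶ G) (hg : g₁ ≫ p = g₂ ≫ p) :
    ∃ u : T ⟶ H, g₂ = g₁ * (u ≫ i) := by
  refine ⟨hpb.lift g₁ g₂ hg ≫ snd G H, ?_⟩
  have h1 := hpb.lift_fst g₁ g₂ hg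
  have h2 := hpb.lift_snd g₁ g₂ hg
  generalize hpb.lift g₁ g₂ hg = w at h1 h2
  have h3 : lift (w ≫ fst G H) ((w ≫ snd G H) ≫ i) = w ≫ (G ◁ i) := by
    ext <;> simp
  rw [← h2, ← h1, Hom.mul_def, h3, Category.assoc]

/-- `i` is injective on points -/
lemma tors_inj {T : Over S} (u₁ u₂ : T ⟶ H) (h : u₁ ≫ i = u₂ ≫ i) : u₁ = u₂ := by
  have h1 : lift (1 : T ⟶ G) u₁ = lift (1 : T ⟶ G) u₂ := by
    apply hpb.hom_ext
    · rw [lift_fst, lift_fst]
    · rw [← Category.assoc, ← Category.assoc, lift_whiskerLeft, lift_whiskerLeft, h]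
  have := congrArg (fun w => w ≫ snd G H) h1
  simpa using this

variable [GrpObj H] [IsMonHom i]

/-- the same square for the left action `h • g = g i(h)⁻¹` -/
lemma isPullback_invRight :
    IsPullback ((AlgGrp.Action.invRight G).restrict i).act (snd H G) p p := by
  have hact : ∀ {T : Over S} (h : T ⟶ H) (g : T ⟶ G),
      lift h g ≫ ((AlgGrp.Action.invRight G).restrict i).act = g * (h ≫ i)⁻¹ := by
    intro T h g
    rw [AlgGrp.Action.lift_restrict_act, AlgGrp.Action.lift_invRight_act]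
  have hw : ((AlgGrp.Action.invRight G).restrict i).act ≫ p = snd H G ≫ p := by
    apply AlgGrp.Action.hom_ext_lift₂
    intro T h g
    rw [← Category.assoc, hact, ← Category.assoc, lift_snd]
    have h1 := tors_mul i p hpb (g * (h ≫ i)⁻¹) h
    rw [inv_mul_cancel_right] at h1
    exact h1.symm
  refine TorsRed.isPullback_of_existsUnique hw ?_
  intro T x y hxy
  obtain ⟨v, hv⟩ := tors_exists i p hpb x y hxy
  refine ⟨lift v y, ⟨?_, lift_snd _ _⟩, ?_⟩
  · rw [hact, hv, mul_inv_cancel_right]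
  · rintro m ⟨hm1, hm2⟩
    have hm : m = lift (m ≫ fst H G) y := by
      apply CartesianMonoidalCategory.hom_ext
      · rw [lift_fst]
      · rw [lift_snd, hm2]
    rw [hm, hact] at hm1
    have h3 : (m ≫ fst H G) ≫ i = v ≫ i := by
      have h4 : y = x * ((m ≫ fst H G) ≫ i) := by rw [← hm1, inv_mul_cancel_right]
      rw [hv] at h4
      exact (mul_left_cancel h4).symm
    rw [hm, tors_inj i p hpb _ _ h3]

end shape

end Groth.Agent.H28.TorsEq
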