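import Mathlib
import Groth.Prelude.Def_NonAbH2
import Groth.Agent.H28.FpqcCov
import Groth.Agent.H28.TorsEq
import Groth.Agent.H28.TorsRed

/-!
# Extensions of group schemes `1 → G → E → P → 1` (exact in the sense of `NonAbH1.IsExactSeq`):
kernel lifting, fibres of `v`, and descent of morphisms along `v`, `v ▷ X`, `v ⊗ₘ v`.
-/

set_option autoImplicit false
set_option linter.unusedSectionVars false
universe u
open CategoryTheory CategoryTheory.Limits MonoidalCategory CartesianMonoidalCategory MonObj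
  AlgebraicGeometry

namespace Groth.Agent.H28.ExtGrp

variable {S : Scheme.{u}} {G E P : Over S} [GrpObj G] [GrpObj E] [GrpObj P]
  (u : G ⟶ E) (v : E ⟶ P) [IsMonHom u] [IsMonHom v]
  (hpb : IsPullback (fst E G) ((E ◁ u) ≫ μ[E]) v v)

include hpb

lemma u_inj {T : Over S} (g₁ g₂ : T ⟶ G) (h : g₁ ≫ u = g₂ ≫ u) : g₁ = g₂ :=
  TorsEq.tors_inj u v hpb g₁ g₂ h

lemma fibre {T : Over S} (x₁ x₂ : T ⟶ E) (h : x₁ ≫ v = x₂ ≫ v) :
    ∃ w : T ⟶ G, x₂ = x₁ * (w ≫ u) :=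
  TorsEq.tors_exists u v hpb x₁ x₂ h

lemma ker_lift {T : Over S} (x : T ⟶ E) (hx : x ≫ v = 1) : ∃ g : T ⟶ G, g ≫ u = x := by
  have h1 : (1 : T ⟶ E) ≫ v = x ≫ v := by rw [hx, MonObj.one_comp]
  obtain ⟨w, hw⟩ := fibre u v hpb 1 x h1
  rw [_root_.one_mul] at hw
  exact ⟨w, hw.symm⟩

lemma desc (hcov : FpqcCov.Cov v.left) {W : Over S} (a : E ⟶ W)
    (h : ∀ (T : Over S) (x : T ⟶ E) (w : T ⟶ G), (x * (w ≫ u)) ≫ a = x ≫ a) :
    ∃ b : P ⟶ W, v ≫ b = a := by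
  refine FpqcCov.desc_of_cov v hcov a ?_
  intro T x₁ x₂ h12
  obtain ⟨w, hw⟩ := fibre u v hpb x₁ x₂ h12
  rw [hw, h]

lemma desc_whiskerRight (hcov : FpqcCov.Cov v.left) {X W : Over S} (a : E ⊗ X ⟶ W)
    (h : ∀ (T : Over S) (x : T ⟶ E) (w : T ⟶ G) (y : T ⟶ X),
      lift (x * (w ≫ u)) y ≫ a = lift x y ≫ a) :
    ∃ b : P ⊗ X ⟶ W, (v ▷ X) ≫ b = a := by
  refine FpqcCov.desc_of_cov (v ▷ X) (FpqcCov.cov_whiskerRight v hcov X) a ?_
  intro T a₁ a₂ h12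
  have h1 : (a₁ ≫ fst E X) ≫ v = (a₂ ≫ fst E X) ≫ v := by
    have := congrArg (fun z => z ≫ fst P X) h12
    simpa using this
  have h2 : a₁ ≫ snd E X = a₂ ≫ snd E X := by
    have := congrArg (fun z => z ≫ snd P X) h12
    simpa using this
  obtain ⟨w, hw⟩ := fibre u v hpb _ _ h1
  have e1 : a₁ = lift (a₁ ≫ fst E X) (a₁ ≫ snd E X) := by
    rw [← comp_lift, lift_fst_snd, Category.comp_id]
  have e2 : a₂ = lift (a₂ ≫ fst E X) (a₂ ≫ snd E X) := by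
    rw [← comp_lift, lift_fst_snd, Category.comp_id]
  rw [e2, hw, ← h2, h, ← e1]

lemma desc_tensor (hcov : FpqcCov.Cov v.left) {W : Over S} (a : E ⊗ E ⟶ W)
    (h : ∀ (T : Over S) (x y : T ⟶ E) (w z : T ⟶ G),
      lift (x * (w ≫ u)) (y * (z ≫ u)) ≫ a = lift x y ≫ a) :
    ∃ b : P ⊗ P ⟶ W, (v ⊗ₘ v) ≫ b = a := by
  refine FpqcCov.desc_of_cov (v ⊗ₘ v) (FpqcCov.cov_tensorHom v v hcov hcov) a ?_
  intro T a₁ a₂ h12
  have h1 : (a₁ ≫ fst E E) ≫ v = (a₂ ≫ fst E E) ≫ v := by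
    have := congrArg (fun z => z ≫ fst P P) h12
    simpa using this
  have h2 : (a₁ ≫ snd E E) ≫ v = (a₂ ≫ snd E E) ≫ v := by
    have := congrArg (fun z => z ≫ snd P P) h12
    simpa using this
  obtain ⟨w, hw⟩ := fibre u v hpb _ _ h1
  obtain ⟨z, hz⟩ := fibre u v hpb _ _ h2
  have e1 : a₁ = lift (a₁ ≫ fst E E) (a₁ ≫ snd E E) := by
    rw [← comp_lift, lift_fst_snd, Category.comp_id]
  have e2 : a₂ = lift (a₂ ≫ fst E E) (a₂ ≫ snd E E) := by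
    rw [← comp_lift, lift_fst_snd, Category.comp_id]
  rw [e2, hw, hz, h, ← e1]

end Groth.Agent.H28.ExtGrp
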