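import Mathlib

set_option autoImplicit false
open Polynomial

namespace Groth.Agent.H28.Fatou

/-- Gauss-type claim: primitive polynomial times integral power series equal to a nonzero
constant forces unit constant coefficient. -/
lemma isUnit_coeff_zero_of_mul_eq_C : ∀ (N : ℕ), N ≠ 0 → ∀ (Q₁ : ℤ[X]) (W : PowerSeries ℤ),
    Q₁.IsPrimitive → (Q₁ : PowerSeries ℤ) * W = PowerSeries.C (N : ℤ) → IsUnit (Q₁.coeff 0) := by
  intro N
  induction N using Nat.strong_induction_on with
  | _ N ih =>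
    intro hN Q₁ W hprim hmul
    by_cases h1 : N = 1
    · subst h1
      have := congrArg (PowerSeries.coeff 0) hmul
      simp only [Nat.cast_one, map_one, PowerSeries.coeff_zero_eq_constantCoeff, map_mul,
        Polynomial.constantCoeff_coe] at this
      exact IsUnit.of_mul_eq_one _ this
    · set p := N.minFac with hp
      have hpp : p.Prime := Nat.minFac_prime h1
      have : Fact p.Prime := ⟨hpp⟩
      have hpN : p ∣ N := Nat.minFac_dvd N
      -- reduce mod p
      have hmod := congrArg (PowerSeries.map (Int.castRingHom (ZMod p))) hmul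
      rw [map_mul, PowerSeries.map_C] at hmod
      have hN0 : (Int.castRingHom (ZMod p)) (N : ℤ) = 0 := by
        simp only [eq_intCast, Int.cast_natCast]
        exact (ZMod.natCast_eq_zero_iff N p).mpr hpN
      rw [hN0, map_zero] at hmod
      have hQ1 : PowerSeries.map (Int.castRingHom (ZMod p)) (Q₁ : PowerSeries ℤ) ≠ 0 := by
        intro h0
        have hdvd : C (p : ℤ) ∣ Q₁ := by
          rw [Polynomial.C_dvd_iff_dvd_coeff]
          intro i
          have := congrArg (PowerSeries.coeff i) h0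
          simp only [PowerSeries.coeff_map, Polynomial.coeff_coe, eq_intCast, map_zero] at this
          exact (ZMod.intCast_zmod_eq_zero_iff_dvd _ p).mp this
        have := hprim _ hdvd
        rw [Int.isUnit_iff_natAbs_eq] at this
        simp only [Int.natAbs_natCast] at this
        exact hpp.one_lt.ne' this
      have hW0 : PowerSeries.map (Int.castRingHom (ZMod p)) W = 0 :=
        (mul_eq_zero.mp hmod).resolve_left hQ1
      have hWdvd : ∀ i, (p : ℤ) ∣ PowerSeries.coeff i W := by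
        intro i
        have := congrArg (PowerSeries.coeff i) hW0
        simp only [PowerSeries.coeff_map, eq_intCast, map_zero] at this
        exact (ZMod.intCast_zmod_eq_zero_iff_dvd _ p).mp this
      set W₂ : PowerSeries ℤ := PowerSeries.mk (fun i => PowerSeries.coeff i W / p) with hW₂
      have hWW₂ : W = PowerSeries.C (p : ℤ) * W₂ := by
        ext i
        rw [PowerSeries.coeff_C_mul, hW₂, PowerSeries.coeff_mk, Int.mul_ediv_cancel' (hWdvd i)]
      obtain ⟨N', hN'⟩ := hpN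
      have hN'0 : N' ≠ 0 := by rintro rfl; exact hN (by rw [hN', mul_zero])
      have hN'lt : N' < N := by
        rw [hN']
        exact lt_mul_of_one_lt_left (Nat.pos_of_ne_zero hN'0) hpp.one_lt
      have hmul' : (Q₁ : PowerSeries ℤ) * W₂ = PowerSeries.C (N' : ℤ) := by
        have hp0 : PowerSeries.C (p : ℤ) ≠ 0 := by
          rw [Ne, ← map_zero (PowerSeries.C (R := ℤ)), (PowerSeries.C_injective).eq_iff]
          exact_mod_cast hpp.ne_zero
        apply mul_left_cancel₀ hp0
        rw [← mul_assoc, mul_comm _ (Q₁ : PowerSeries ℤ), mul_assoc, ← hWW₂, hmul, hN']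
        simp [map_mul]
      exact ih N' hN'lt hN'0 Q₁ W₂ hprim hmul'

lemma clear (p : ℚ[X]) : ∃ b : ℤ, b ≠ 0 ∧ ∃ q : ℤ[X],
    q.map (Int.castRingHom ℚ) = C (b : ℚ) * p := by
  obtain ⟨b, hb, hq⟩ := IsLocalization.integerNormalization_spec (nonZeroDivisors ℤ) p
  refine ⟨b, nonZeroDivisors.ne_zero hb, IsLocalization.integerNormalization (nonZeroDivisors ℤ) p, ?_⟩
  have : algebraMap ℤ ℚ = Int.castRingHom ℚ := rfl
  rw [this] at hq
  rw [hq]
  ext i
  simp

lemma map_injective : Function.Injective (PowerSeries.map (Int.castRingHom ℚ)) := by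
  intro a b hab
  ext i
  have := congrArg (PowerSeries.coeff i) hab
  simpa using this

theorem fatou (P Q : Polynomial ℚ)
    (hPQ : IsCoprime P Q) (hQ : Q.coeff 0 = 1) (Z : PowerSeries ℤ)
    (hZ : (P : PowerSeries ℚ) = (Q : PowerSeries ℚ) * PowerSeries.map (Int.castRingHom ℚ) Z) :
    (∃ P₀ : Polynomial ℤ, P₀.map (Int.castRingHom ℚ) = P) ∧
      ∃ Q₀ : Polynomial ℤ, Q₀.map (Int.castRingHom ℚ) = Q := by
  obtain ⟨U, V, hUV⟩ := hPQ
  obtain ⟨bU, hbU, U₀, hU₀⟩ := clear U
  obtain ⟨bV, hbV, V₀, hV₀⟩ := clear V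
  obtain ⟨bQ, hbQ, Q', hQ'⟩ := clear Q
  have hUV' : (U : PowerSeries ℚ) * P + (V : PowerSeries ℚ) * Q = 1 := by
    rw [← Polynomial.coe_mul, ← Polynomial.coe_mul, ← Polynomial.coe_add, hUV, Polynomial.coe_one]
  have hcoe : ∀ q : ℤ[X], PowerSeries.map (Int.castRingHom ℚ) (q : PowerSeries ℤ) =
      ((q.map (Int.castRingHom ℚ) : ℚ[X]) : PowerSeries ℚ) := fun q =>
    Polynomial.polynomial_map_coe.symm
  set W : PowerSeries ℤ := ((C bV * U₀ : ℤ[X]) : PowerSeries ℤ) * Z +
    ((C bU * V₀ : ℤ[X]) : PowerSeries ℤ) with hW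
  have hQW : (Q : PowerSeries ℚ) * PowerSeries.map (Int.castRingHom ℚ) W =
      PowerSeries.C ((bU * bV : ℤ) : ℚ) := by
    rw [hW, map_add, map_mul, hcoe, hcoe, Polynomial.map_mul, Polynomial.map_mul, hU₀, hV₀,
      Polynomial.map_C, Polynomial.map_C]
    simp only [Polynomial.coe_mul, Polynomial.coe_C, eq_intCast]
    have h1 : (Q : PowerSeries ℚ) * (PowerSeries.C (bV : ℚ) * (PowerSeries.C (bU : ℚ) * U) *
        PowerSeries.map (Int.castRingHom ℚ) Z + PowerSeries.C (bU : ℚ) *
        (PowerSeries.C (bV : ℚ) * V)) =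
        PowerSeries.C (bU : ℚ) * PowerSeries.C (bV : ℚ) *
        ((U : PowerSeries ℚ) * ((Q : PowerSeries ℚ) * PowerSeries.map (Int.castRingHom ℚ) Z) +
          (V : PowerSeries ℚ) * Q) := by ring
    rw [h1, ← hZ, hUV', mul_one, ← map_mul]
    push_cast
    rfl
  -- integrality of Q' * W
  set M : ℤ := bQ * (bU * bV) with hM
  have hM0 : M ≠ 0 := mul_ne_zero hbQ (mul_ne_zero hbU hbV)
  have hQ'W : (Q' : PowerSeries ℤ) * W = PowerSeries.C M := by
    apply map_injective
    rw [map_mul, hcoe, hQ', Polynomial.coe_mul, Polynomial.coe_C, mul_assoc, hQW, ← map_mul,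
      PowerSeries.map_C]
    simp [hM]
  have hQ'eq := Polynomial.eq_C_content_mul_primPart Q'
  set e := Q'.content with he
  set Q₁ := Q'.primPart with hQ₁
  have hprim : Q₁.IsPrimitive := Polynomial.isPrimitive_primPart Q'
  have hQ₁W : (Q₁ : PowerSeries ℤ) * (PowerSeries.C e * W) = PowerSeries.C M := by
    rw [← hQ'W]
    conv_rhs => rw [hQ'eq]
    rw [Polynomial.coe_mul, Polynomial.coe_C]
    ring
  have hu : IsUnit (Q₁.coeff 0) := by
    have hN0 : M.natAbs ≠ 0 := Int.natAbs_ne_zero.mpr hM0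
    rcases Int.natAbs_eq M with h | h
    · exact isUnit_coeff_zero_of_mul_eq_C M.natAbs hN0 Q₁ _ hprim (by rw [hQ₁W]; congr 1)
    · refine isUnit_coeff_zero_of_mul_eq_C M.natAbs hN0 Q₁ (-(PowerSeries.C e * W)) hprim ?_
      rw [mul_neg, hQ₁W, ← map_neg]
      congr 1
      omega
  -- constant coefficients
  have hconst : e * Q₁.coeff 0 = bQ := by
    have h1 := congrArg (fun q => Polynomial.coeff q 0) hQ'
    simp only [Polynomial.coeff_map, eq_intCast, Polynomial.coeff_C_mul, hQ, mul_one] at h1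
    have h2 : Q'.coeff 0 = e * Q₁.coeff 0 := by
      conv_lhs => rw [hQ'eq]
      rw [Polynomial.coeff_C_mul]
    rw [h2] at h1
    exact_mod_cast h1
  have huu : Q₁.coeff 0 * Q₁.coeff 0 = 1 := by
    rcases Int.isUnit_iff.mp hu with h | h <;> rw [h] <;> norm_num
  have hQ₀ : (C (Q₁.coeff 0) * Q₁).map (Int.castRingHom ℚ) = Q := by
    have hbQ' : (C (bQ : ℚ) : ℚ[X]) ≠ 0 := by
      rw [Ne, Polynomial.C_eq_zero]; exact_mod_cast hbQ
    apply mul_left_cancel₀ hbQ'
    rw [← hQ', Polynomial.map_mul, Polynomial.map_C, ← mul_assoc, ← Polynomial.C_mul]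
    conv_rhs => rw [hQ'eq, Polynomial.map_mul, Polynomial.map_C]
    congr 2
    rw [← hconst]
    simp only [eq_intCast]
    have : ((e * Q₁.coeff 0 : ℤ) : ℚ) * ((Q₁.coeff 0 : ℤ) : ℚ) = ((e * (Q₁.coeff 0 * Q₁.coeff 0) : ℤ) : ℚ) := by
      push_cast; ring
    rw [this, huu, mul_one]
  refine ⟨?_, ⟨_, hQ₀⟩⟩
  rw [← Polynomial.mem_lifts, Polynomial.lifts_iff_coeff_lifts]
  intro n
  have h3 : P.coeff n = PowerSeries.coeff n (P : PowerSeries ℚ) := (Polynomial.coeff_coe P n).symm
  rw [h3, hZ, ← hQ₀, ← hcoe, ← map_mul, PowerSeries.coeff_map]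
  exact ⟨_, rfl⟩

end Groth.Agent.H28.Fatou
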