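import Mathlib

/-!
# Finite-dimensional commutative algebras over an algebraically closed field
Helper lemmas (helper28).
-/

set_option autoImplicit false
set_option linter.style.haveILetI false
set_option linter.unusedSectionVars false
universe u v

namespace Groth.Agent.H28.FinAlg

section Field

variable (k : Type u) [Field k] (A : Type v) [CommRing A] [Algebra k A]

lemma algHom_surjective (f : A →ₐ[k] k) : Function.Surjective f := fun c =>
  ⟨algebraMap k A c, by simp⟩

lemma ker_isMaximal (f : A →ₐ[k] k) : (RingHom.ker f).IsMaximal :=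
  RingHom.ker_isMaximal_of_surjective (f : A →+* k) (algHom_surjective k A f)

variable {k A} in
lemma algHom_ext_of_ker_le (f g : A →ₐ[k] k) (h : RingHom.ker f ≤ RingHom.ker g) : f = g := by
  ext a
  have h1 : a - algebraMap k A (f a) ∈ RingHom.ker f := by
    rw [RingHom.mem_ker, map_sub, AlgHom.commutes]; simp
  have h2 := h h1
  rw [RingHom.mem_ker, map_sub, AlgHom.commutes, sub_eq_zero] at h2
  simpa using h2.symm

variable {k A} in
lemma isCoprime_ker_of_ne {f g : A →ₐ[k] k} (h : f ≠ g) :
    IsCoprime (RingHom.ker f) (RingHom.ker g) := by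
  rw [Ideal.isCoprime_iff_sup_eq]
  have hf := ker_isMaximal k A f
  by_contra hne
  have hle : RingHom.ker f ⊔ RingHom.ker g = RingHom.ker f :=
    (hf.eq_of_le hne le_sup_left).symm
  exact h (algHom_ext_of_ker_le g f (by rw [← hle]; exact le_sup_right)).symm

end Field

section AlgClosed

variable (k : Type u) [Field k] [IsAlgClosed k] (A : Type v) [CommRing A] [Algebra k A]
  [Module.Finite k A]

/-- Every maximal ideal is the kernel of a character. -/
lemma exists_algHom_ker_eq (m : Ideal A) [hm : m.IsMaximal] :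
    ∃ f : A →ₐ[k] k, RingHom.ker f = m := by
  letI : Field (A ⧸ m) := Ideal.Quotient.field m
  haveI : Module.Finite k (A ⧸ m) := Module.Finite.of_surjective
    (Ideal.Quotient.mkₐ k m).toLinearMap (Ideal.Quotient.mkₐ_surjective k m)
  haveI : Algebra.IsIntegral k (A ⧸ m) := Algebra.IsIntegral.of_finite k (A ⧸ m)
  have hbij : Function.Bijective (algebraMap k (A ⧸ m)) :=
    IsAlgClosed.algebraMap_bijective_of_isIntegral
  let e : k ≃ₐ[k] (A ⧸ m) := AlgEquiv.ofBijective (Algebra.ofId k (A ⧸ m)) hbij
  refine ⟨(e.symm : (A ⧸ m) →ₐ[k] k).comp (Ideal.Quotient.mkₐ k m), ?_⟩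
  ext a
  simp only [RingHom.mem_ker, AlgHom.coe_comp, Function.comp_apply,
    Ideal.Quotient.mkₐ_eq_mk]
  rw [show ((e.symm : (A ⧸ m) →ₐ[k] k) (Ideal.Quotient.mk m a)) = e.symm (Ideal.Quotient.mk m a)
    from rfl, map_eq_zero_iff e.symm e.symm.injective, Ideal.Quotient.eq_zero_iff_mem]

lemma finite_algHom : Finite (A →ₐ[k] k) := by
  haveI : IsArtinianRing A := IsArtinianRing.of_finite k A
  let φ : (A →ₐ[k] k) → MaximalSpectrum A := fun f => ⟨RingHom.ker f, ker_isMaximal k A f⟩
  refine Finite.of_injective φ ?_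
  intro f g hfg
  have : RingHom.ker f = RingHom.ker g := congrArg MaximalSpectrum.asIdeal hfg
  exact algHom_ext_of_ker_le f g this.le

lemma mem_nilradical_iff (a : A) : a ∈ nilradical A ↔ ∀ f : A →ₐ[k] k, f a = 0 := by
  haveI : IsArtinianRing A := IsArtinianRing.of_finite k A
  constructor
  · intro ha f
    obtain ⟨n, hn⟩ := ha
    have : f a ^ n = 0 := by rw [← map_pow, hn, map_zero]
    exact pow_eq_zero_iff (n := n) (by rintro rfl; simp at this) |>.mp this
  · intro h
    rw [IsArtinianRing.nilradical_eq_iInf, Ideal.mem_iInf]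
    intro m
    obtain ⟨f, hf⟩ := exists_algHom_ker_eq k A m.asIdeal
    rw [← hf, RingHom.mem_ker]
    exact h f

lemma exists_forall_algHom_eq (g : (A →ₐ[k] k) → k) : ∃ a : A, ∀ f : A →ₐ[k] k, f a = g f := by
  haveI := finite_algHom k A
  obtain ⟨r, hr⟩ := Ideal.exists_forall_sub_mem_ideal
    (I := fun f : A →ₐ[k] k => RingHom.ker f)
    (fun f f' hne => isCoprime_ker_of_ne hne) (fun f => algebraMap k A (g f))
  refine ⟨r, fun f => ?_⟩
  have := hr f
  rw [RingHom.mem_ker, map_sub, AlgHom.commutes, sub_eq_zero] at this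
  simpa using this

end AlgClosed

end Groth.Agent.H28.FinAlg

namespace Groth.Agent.H28.FinAlg

section Retraction

variable (k : Type u) [Field k] [IsAlgClosed k] (A : Type v) [CommRing A] [Algebra k A]
  [Module.Finite k A] [Fintype (A →ₐ[k] k)] [DecidableEq (A →ₐ[k] k)]

/-- A complete system of orthogonal idempotents of `A` dual to the characters. -/
lemma exists_coi : ∃ e : (A →ₐ[k] k) → A, CompleteOrthogonalIdempotents e ∧
    ∀ f f' : A →ₐ[k] k, f' (e f) = if f = f' then 1 else 0 := by
  let π : A →+* ((A →ₐ[k] k) → k) := (AlgHom.pi (R := k) (fun f : A →ₐ[k] k => f) : A →+* _)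
  have hker : ∀ x ∈ RingHom.ker π, IsNilpotent x := by
    intro x hx
    have : x ∈ nilradical A := by
      rw [mem_nilradical_iff k A]
      intro f
      exact congrFun hx f
    exact this
  have hsurj : Function.Surjective π := by
    intro g
    obtain ⟨a, ha⟩ := exists_forall_algHom_eq k A g
    exact ⟨a, funext ha⟩
  obtain ⟨e', he', hcomp⟩ := CompleteOrthogonalIdempotents.lift_of_isNilpotent_ker π hker
    (CompleteOrthogonalIdempotents.single (fun _ : A →ₐ[k] k => k))
    (fun i => hsurj _)
  refine ⟨e', he', fun f f' => ?_⟩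
  have := congrFun (congrFun hcomp f) f'
  simp only [Function.comp_apply] at this
  change f' (e' f) = _ at this
  rw [this, Pi.single_apply]
  simp only [eq_comm]

variable {k A} in
/-- The retraction of `A` onto its largest reduced subalgebra, attached to a dual system of
idempotents. -/
noncomputable def retr (e : (A →ₐ[k] k) → A) (he : CompleteOrthogonalIdempotents e) : A →ₐ[k] A :=
  AlgHom.ofLinearMap
    (∑ f : A →ₐ[k] k, (f.toLinearMap).smulRight (e f))
    (by
      simp only [LinearMap.coe_sum, Finset.sum_apply, LinearMap.smulRight_apply,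
        AlgHom.toLinearMap_apply, map_one, one_smul]
      exact he.complete)
    (by
      intro x y
      simp only [LinearMap.coe_sum, Finset.sum_apply, LinearMap.smulRight_apply,
        AlgHom.toLinearMap_apply, map_mul]
      rw [Finset.sum_mul_sum]
      refine Finset.sum_congr rfl fun f _ => ?_
      rw [Finset.sum_eq_single f]
      · rw [smul_mul_smul_comm, (he.idem f).eq]
      · intro f' _ hne
        rw [smul_mul_smul_comm, he.ortho hne.symm, smul_zero]
      · intro h; exact absurd (Finset.mem_univ f) h)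

variable {k A} in
lemma retr_apply (e : (A →ₐ[k] k) → A) (he : CompleteOrthogonalIdempotents e) (x : A) :
    retr e he x = ∑ f : A →ₐ[k] k, f x • e f := by
  simp [retr]

variable {k A} in
lemma algHom_retr (e : (A →ₐ[k] k) → A) (he : CompleteOrthogonalIdempotents e)
    (hdual : ∀ f f' : A →ₐ[k] k, f' (e f) = if f = f' then 1 else 0)
    (f' : A →ₐ[k] k) (x : A) : f' (retr e he x) = f' x := by
  rw [retr_apply, map_sum]
  simp_rw [map_smul, hdual, smul_eq_mul, mul_ite, mul_one, mul_zero]
  simp

variable {k A} in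
lemma retr_sub_mem_nilradical (e : (A →ₐ[k] k) → A) (he : CompleteOrthogonalIdempotents e)
    (hdual : ∀ f f' : A →ₐ[k] k, f' (e f) = if f = f' then 1 else 0) (x : A) :
    retr e he x - x ∈ nilradical A := by
  rw [mem_nilradical_iff k A]
  intro f
  rw [map_sub, algHom_retr e he hdual, sub_self]

variable {k A} in
lemma retr_eq_zero_of_mem_nilradical (e : (A →ₐ[k] k) → A) (he : CompleteOrthogonalIdempotents e)
    (x : A) (hx : x ∈ nilradical A) : retr e he x = 0 := by
  rw [retr_apply]
  refine Finset.sum_eq_zero fun f _ => ?_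
  rw [(mem_nilradical_iff k A x).mp hx f, zero_smul]

variable {k A} in
lemma retr_eq_self_of_isIdempotentElem (e : (A →ₐ[k] k) → A) (he : CompleteOrthogonalIdempotents e)
    (hdual : ∀ f f' : A →ₐ[k] k, f' (e f) = if f = f' then 1 else 0) (a : A)
    (ha : IsIdempotentElem a) : retr e he a = a :=
  eq_of_isNilpotent_sub_of_isIdempotentElem (ha.map (retr e he)) ha
    (retr_sub_mem_nilradical e he hdual a)

end Retraction

end Groth.Agent.H28.FinAlg
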