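import Mathlib

/-!
# Global functions as morphisms to the affine line, and descent of invariant functions
-/

set_option autoImplicit false
universe u
open CategoryTheory CategoryTheory.Limits AlgebraicGeometry

namespace Groth.Agent.H28.FnDesc

/-- The affine line over `ℤ` as a scheme in universe `u`. -/
noncomputable abbrev A1 : Scheme.{u} :=
  Spec (CommRingCat.of (MvPolynomial PUnit.{u+1} (ULift.{u} ℤ)))

/-- The morphism to the affine line given by a global function. -/
noncomputable def fn {X : Scheme.{u}} (s : Γ(X, ⊤)) : X ⟶ A1.{u} :=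
  (AffineSpace.toSpecMvPolyIntEquiv PUnit.{u+1}).symm (fun _ => s)

/-- The global function given by a morphism to the affine line. -/
noncomputable def val {X : Scheme.{u}} (b : X ⟶ A1.{u}) : Γ(X, ⊤) :=
  AffineSpace.toSpecMvPolyIntEquiv PUnit.{u+1} b PUnit.unit

theorem val_fn {X : Scheme.{u}} (s : Γ(X, ⊤)) : val (fn s) = s := by
  unfold val fn
  rw [Equiv.apply_symm_apply]

theorem fn_val {X : Scheme.{u}} (b : X ⟶ A1.{u}) : fn (val b) = b := by
  unfold fn val
  rw [Equiv.symm_apply_eq]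

theorem val_comp {X Y : Scheme.{u}} (h : Y ⟶ X) (b : X ⟶ A1.{u}) :
    val (h ≫ b) = h.appTop.hom (val b) := rfl

theorem comp_fn {X Y : Scheme.{u}} (h : Y ⟶ X) (s : Γ(X, ⊤)) :
    h ≫ fn s = fn (h.appTop.hom s) := by
  rw [← fn_val (h ≫ fn s), val_comp, val_fn]

theorem fn_injective {X : Scheme.{u}} {s₁ s₂ : Γ(X, ⊤)} (h : fn s₁ = fn s₂) : s₁ = s₂ := by
  rw [← val_fn s₁, ← val_fn s₂, h]

/-- Functions on the target of an effective epimorphism are the functions on the source
equalized by the kernel pair. -/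
theorem fn_descent {X Y P : Scheme.{u}} (f : X ⟶ Y) [EffectiveEpi f] (p₁ p₂ : P ⟶ X)
    (sq : IsPullback p₁ p₂ f f) :
    Function.Injective f.appTop.hom ∧
      ∀ s : Γ(X, ⊤), s ∈ Set.range f.appTop.hom ↔ p₁.appTop.hom s = p₂.appTop.hom s := by
  have hepi : Epi f := inferInstance
  refine ⟨?_, ?_⟩
  · intro s₁ s₂ h
    have h1 : f ≫ fn s₁ = f ≫ fn s₂ := by
      rw [comp_fn, comp_fn]
      exact congrArg fn h
    exact fn_injective ((cancel_epi f).mp h1)
  · intro s
    constructor
    · rintro ⟨s₀, rfl⟩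
      have h1 : val ((p₁ ≫ f) ≫ fn s₀) = val ((p₂ ≫ f) ≫ fn s₀) := by rw [sq.w]
      rw [Category.assoc, Category.assoc, val_comp, val_comp, val_comp, val_comp, val_fn] at h1
      exact h1
    · intro h
      have hc : p₁ ≫ fn s = p₂ ≫ fn s := by
        rw [comp_fn, comp_fn]
        exact congrArg fn h
      have hcond : ∀ {Z : Scheme.{u}} (g₁ g₂ : Z ⟶ X), g₁ ≫ f = g₂ ≫ f →
          g₁ ≫ fn s = g₂ ≫ fn s := by
        intro Z g₁ g₂ hg
        calc g₁ ≫ fn s = (sq.lift g₁ g₂ hg ≫ p₁) ≫ fn s := by rw [sq.lift_fst]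
          _ = (sq.lift g₁ g₂ hg ≫ p₂) ≫ fn s := by rw [Category.assoc, hc, Category.assoc]
          _ = g₂ ≫ fn s := by rw [sq.lift_snd]
      refine ⟨val (EffectiveEpi.desc f (fn s) hcond), ?_⟩
      have hfac : f ≫ EffectiveEpi.desc f (fn s) hcond = fn s := EffectiveEpi.fac _ _ _
      have := congrArg val hfac
      rw [val_comp, val_fn] at this
      exact this

end Groth.Agent.H28.FnDesc
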