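import Mathlib
import Groth.Agent.H28.FpAlg

/-!
# A stack over an algebraic stack whose base changes to schemes are algebraic is algebraic
-/

set_option autoImplicit false
set_option linter.style.haveILetI false
set_option backward.isDefEq.respectTransparency false
set_option backward.isDefEq.respectTransparency.types false

namespace Groth.Agent.H28.RepComp

open CategoryTheory CategoryTheory.Limits FibCat AlgebraicGeometry Opposite Stk MorphismProperty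
open Groth.Agent.Helper22 Groth.Agent.Helper22.EquivComp Groth.Agent.Helper22.FpSq
open Groth.Agent.Helper22.FpEquiv Groth.Agent.H28.LiftFp
open Groth.Agent.H28.FpBase Groth.Agent.H28.PshDict Groth.Agent.H28.IsoCl
open Groth.Agent.H25.AS

universe u

variable {S : Scheme.{u}} {𝒳 𝒴 : AlgSt.Cat S}

theorem repByAlgSp1_diag_of_fp_pts (h𝒴 : FibCat.IsFibGrpd 𝒴.p)
    (hΔ𝒴 : AlgSt.RepByAlgSp1 (FibCat.diag (FibCat.toSelf 𝒴))) (f : 𝒳 ⥤ᵇ 𝒴)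
    (hf : ∀ (U : Over S) (g : FibCat.overCat U ⥤ᵇ 𝒴), FibCat.IsFibGrpd (FibCat.fp g f).p ∧
      AlgSt.RepByAlgSp1 (FibCat.diag (FibCat.toSelf (FibCat.fp g f)))) :
    AlgSt.RepByAlgSp1 (FibCat.diag (FibCat.toSelf 𝒳)) := by
  refine repByAlgSp1_diag_of_pts (fun U x => ?_)
  let g : FibCat.overCat U ⥤ᵇ 𝒴 := BasedFunctor.comp x f
  obtain ⟨h𝒫, hΔ𝒫⟩ := hf U g
  let ι₀ : BasedFunctor.comp (BasedFunctor.id (FibCat.overCat U)) g ≅ BasedFunctor.comp x f :=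
    Iso.refl _
  let x' : FibCat.overCat U ⥤ᵇ FibCat.fp g f := FibCat.fpLift (BasedFunctor.id _) x ι₀
  have hx' : AlgSt.RepByAlgSp1 x' := repByAlgSp1_of_diag h𝒫 hΔ𝒫 x'
  have hg : AlgSt.RepByAlgSp1 g := repByAlgSp1_of_diag h𝒴 hΔ𝒴 g
  have hsnd : AlgSt.RepByAlgSpWith topP (FibCat.fpSnd g f) :=
    repByAlgSpWith_fpSnd topP f g ((repByAlgSp1_iff_top _).1 hg)
  have hc : AlgSt.RepByAlgSpWith topP (BasedFunctor.comp x' (FibCat.fpSnd g f)) :=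
    repByAlgSpWith_comp_goodP goodP_topP (OverFib.isFibGrpd_over U) h𝒫 x' (FibCat.fpSnd g f)
      ((repByAlgSp1_iff_top _).1 hx') hsnd
  exact (repByAlgSp1_iff_top _).2 hc

theorem hasAtlas_of_fp_pts {P : MorphismProperty (AlgSp.Sp S)} (hP : GoodP P) (f : 𝒳 ⥤ᵇ 𝒴)
    (a𝒴 : AlgSt.HasAtlas P 𝒴)
    (hf : ∀ (U : Over S) (g : FibCat.overCat U ⥤ᵇ 𝒴), FibCat.IsFibGrpd (FibCat.fp g f).p ∧
      AlgSt.HasAtlas P (FibCat.fp g f)) : AlgSt.HasAtlas P 𝒳 := by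
  obtain ⟨V, v, hv₁, hv₂⟩ := a𝒴
  obtain ⟨h𝒫, T, t, ht₁, ht₂⟩ := hf V v
  exact ⟨T, BasedFunctor.comp t (FibCat.fpSnd v f),
    repByAlgSpWith_comp_goodP hP (OverFib.isFibGrpd_over T) h𝒫 t _ ht₁
      (repByAlgSpWith_fpSnd _ f v hv₁),
    repByAlgSpWith_comp_goodP goodP_surj (OverFib.isFibGrpd_over T) h𝒫 t _ ht₂
      (repByAlgSpWith_fpSnd _ f v hv₂)⟩

theorem isAlgStack_of_fp_pts (K : Precoverage Scheme.{u})
    (h𝒳 : Stk.IsStack (QuotSh.J K S) 𝒳) (h𝒴 : AlgSt.IsAlgStack K 𝒴) (f : 𝒳 ⥤ᵇ 𝒴)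
    (hf : ∀ (U : Over S) (g : FibCat.overCat U ⥤ᵇ 𝒴), AlgSt.IsAlgStack K (FibCat.fp g f)) :
    AlgSt.IsAlgStack K 𝒳 where
  isStack := h𝒳
  diag := repByAlgSp1_diag_of_fp_pts h𝒴.isStack.1 h𝒴.diag f
    (fun U g => ⟨(hf U g).isStack.1, (hf U g).diag⟩)
  atlas := hasAtlas_of_fp_pts (goodP_locP etLoc_smooth) f h𝒴.atlas
    (fun U g => ⟨(hf U g).isStack.1, (hf U g).atlas⟩)

theorem isDM_of_fp_pts (K : Precoverage Scheme.{u})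
    (h𝒳 : Stk.IsStack (QuotSh.J K S) 𝒳) (h𝒴 : AlgSt.IsDM K 𝒴) (f : 𝒳 ⥤ᵇ 𝒴)
    (hf : ∀ (U : Over S) (g : FibCat.overCat U ⥤ᵇ 𝒴), AlgSt.IsDM K (FibCat.fp g f)) :
    AlgSt.IsDM K 𝒳 :=
  ⟨isAlgStack_of_fp_pts K h𝒳 h𝒴.1 f (fun U g => (hf U g).1),
    hasAtlas_of_fp_pts goodP_isEtaleMor f h𝒴.2
      (fun U g => ⟨(hf U g).1.isStack.1, (hf U g).2⟩)⟩

end Groth.Agent.H28.RepComp
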