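import Mathlib.AlgebraicGeometry.Sites.Fpqc

set_option autoImplicit false
universe u
open CategoryTheory AlgebraicGeometry Opposite

namespace Groth.Agent.H28.FpqcIso2

/-- A monomorphism through which every member of an fpqc covering sieve factors is an isomorphism. -/
theorem isIso_of_mono_of_covering_sieve {Y Z : Scheme.{u}} (f : Y ⟶ Z) [Mono f] (S : Sieve Z)
    (hS : S ∈ Scheme.fpqcTopology Z)
    (hfac : ∀ ⦃T : Scheme.{u}⦄ (g : T ⟶ Z), S g → ∃ s : T ⟶ Y, s ≫ f = g) : IsIso f := by
  have shY : Presieve.IsSheafFor (yoneda.obj Y) S.arrows :=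
    (GrothendieckTopology.Subcanonical.isSheaf_of_isRepresentable (J := Scheme.fpqcTopology)
      (yoneda.obj Y)) S hS
  have shZ : Presieve.IsSheafFor (yoneda.obj Z) S.arrows :=
    (GrothendieckTopology.Subcanonical.isSheaf_of_isRepresentable (J := Scheme.fpqcTopology)
      (yoneda.obj Z)) S hS
  let x : Presieve.FamilyOfElements (yoneda.obj Y) S.arrows := fun T g hg => (hfac g hg).choose
  have hx : ∀ ⦃T : Scheme.{u}⦄ (g : T ⟶ Z) (hg : S g), x g hg ≫ f = g :=
    fun T g hg => (hfac g hg).choose_spec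
  have hcomp : x.Compatible := by
    rw [Presieve.compatible_iff_sieveCompatible]
    intro T T' g k hg
    apply (cancel_mono f).mp
    show x (k ≫ g) (S.downward_closed hg k) ≫ f = (k ≫ x g hg) ≫ f
    rw [hx (k ≫ g) (S.downward_closed hg k), Category.assoc, hx g hg]
  obtain ⟨t, ht, -⟩ := shY x hcomp
  have htf : t ≫ f = 𝟙 Z := by
    apply shZ.isSeparatedFor.ext
    intro T g hg
    show g ≫ (t ≫ f) = g ≫ 𝟙 Z
    have h1 : g ≫ t = x g hg := ht g hg
    rw [← Category.assoc, h1, hx g hg, Category.comp_id]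
  have hft : f ≫ t = 𝟙 Y := by
    apply (cancel_mono f).mp
    rw [Category.assoc, htf, Category.comp_id, Category.id_comp]
  exact ⟨t, hft, htf⟩

/-- Two morphisms which agree on the members of an fpqc covering sieve are equal. -/
theorem eq_of_locally_eq {W Z : Scheme.{u}} (S : Sieve W) (hS : S ∈ Scheme.fpqcTopology W)
    (p q : W ⟶ Z) (h : ∀ ⦃V : Scheme.{u}⦄ (g : V ⟶ W), S g → g ≫ p = g ≫ q) : p = q := by
  have shZ : Presieve.IsSheafFor (yoneda.obj Z) S.arrows :=
    (GrothendieckTopology.Subcanonical.isSheaf_of_isRepresentable (J := Scheme.fpqcTopology)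
      (yoneda.obj Z)) S hS
  apply shZ.isSeparatedFor.ext
  intro T g hg
  exact h g hg

end Groth.Agent.H28.FpqcIso2
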