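import Mathlib

/-!
# Pasting isomorphisms for geometric fibres (helper28)
-/

set_option autoImplicit false
universe v u
open CategoryTheory CategoryTheory.Limits

namespace Groth.Agent.H28.GeomFib

variable {C : Type u} [Category.{v} C] [HasPullbacks C]

/-- Given a cartesian square `sq` (`f'` a base change of `f` along `h`) and a commutative square
`τ ≫ σ = σ' ≫ h`, the base change along `τ` of the fibre of `f` over `σ` is the fibre of `f'`
over `σ'`. -/
theorem exists_iso_pullback {X T X' T' S S₀ : C} (f : X ⟶ T) (h : T' ⟶ T) (f' : X' ⟶ T')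
    (h' : X' ⟶ X) (sq : IsPullback h' f' f h) (σ : S₀ ⟶ T) (τ : S ⟶ S₀) (σ' : S ⟶ T')
    (w : τ ≫ σ = σ' ≫ h) :
    ∃ e : pullback (pullback.snd f σ) τ ≅ pullback f' σ',
      e.hom ≫ pullback.snd f' σ' = pullback.snd (pullback.snd f σ) τ := by
  have big : IsPullback (pullback.fst (pullback.snd f σ) τ ≫ pullback.fst f σ)
      (pullback.snd (pullback.snd f σ) τ) f (τ ≫ σ) :=
    (IsPullback.of_hasPullback (pullback.snd f σ) τ).paste_horiz (IsPullback.of_hasPullback f σ)
  rw [w] at big
  have hw : (pullback.fst (pullback.snd f σ) τ ≫ pullback.fst f σ) ≫ f =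
      (pullback.snd (pullback.snd f σ) τ ≫ σ') ≫ h := by
    rw [big.w, Category.assoc]
  have left : IsPullback (sq.lift _ _ hw) (pullback.snd (pullback.snd f σ) τ) f' σ' :=
    IsPullback.of_right (by rwa [sq.lift_fst]) (sq.lift_snd _ _ _) sq
  exact ⟨left.isoPullback, left.isoPullback_hom_snd⟩

/-- The special case of a trivial base change. -/
theorem exists_iso_pullback_comp {X T S S₀ : C} (f : X ⟶ T) (σ : S₀ ⟶ T) (τ : S ⟶ S₀) :
    ∃ e : pullback (pullback.snd f σ) τ ≅ pullback f (τ ≫ σ),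
      e.hom ≫ pullback.snd f (τ ≫ σ) = pullback.snd (pullback.snd f σ) τ :=
  exists_iso_pullback f (𝟙 T) f (𝟙 X) (IsPullback.of_horiz_isIso ⟨by simp⟩) σ τ (τ ≫ σ) (by simp)

end Groth.Agent.H28.GeomFib
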