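import Mathlib
import Groth.Prelude.Def_StGerb
import Groth.Agent.H13.FibGrpd
import Groth.Agent.H13.FpFibGrpd
import Groth.Agent.H13.EquivOver
import Groth.Agent.Lib.Helper22.PostEquiv
import Groth.Agent.Lib.Helper22.SelfOver

/-!
# Gerbes over a site: composition, base change, equivalences
-/

set_option autoImplicit false
set_option linter.style.haveILetI false
set_option backward.isDefEq.respectTransparency false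

namespace Groth.Agent.H28.GerbLib

open CategoryTheory Groth.Agent.H13

universe v₅ u₅ v₄ u₄ v₃ u₃ v₂ u₂ v u

variable {C : Type u} [Category.{v} C] (J : GrothendieckTopology C)
  {𝒳 : BasedCategory.{v₂, u₂} C} {𝒴 : BasedCategory.{v₃, u₃} C} {𝒵 : BasedCategory.{v₄, u₄} C}

theorem lift_id_congr {X : Type*} [Category X] (p : X ⥤ C) {a b : X} (χ : a ⟶ b) {T T' : C}
    (e : T = T') (h : p.IsHomLift (𝟙 T) χ) : p.IsHomLift (𝟙 T') χ := by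
  subst e; exact h

/-- unbundled form of `LocSurjObj` -/
theorem locSurjObj_at {F : 𝒳 ⥤ᵇ 𝒴} (h : Gerb.LocSurjObj J F) {U : C} (y : 𝒴.obj)
    (hy : 𝒴.p.obj y = U) :
    ∃ R ∈ J U, ∀ ⦃V : C⦄ (f : V ⟶ U), R f →
      ∃ (x : 𝒳.obj) (g : F.obj x ⟶ y), 𝒴.p.IsHomLift f g := by
  subst hy; exact h y

/-- unbundled form of `LocSurjHom` -/
theorem locSurjHom_at {F : 𝒳 ⥤ᵇ 𝒴} (h : Gerb.LocSurjHom J F) {U : C} (x x' : 𝒳.obj)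
    (hx : 𝒳.p.obj x = U) (b : F.obj x ⟶ F.obj x') (hb : 𝒴.p.IsHomLift (𝟙 U) b) :
    ∃ R ∈ J U, ∀ ⦃V : C⦄ (f : V ⟶ U), R f →
      ∃ (x₀ : 𝒳.obj) (φ : x₀ ⟶ x) (ψ : x₀ ⟶ x'),
        𝒳.p.IsHomLift f φ ∧ 𝒳.p.IsHomLift f ψ ∧ F.map φ ≫ b = F.map ψ := by
  subst hx; exact h x x' b hb

/-- the sieve of arrows over which `y` comes from `𝒳` -/
def objSieve (h𝒳 : FibCat.IsFibGrpd 𝒳.p) (F : 𝒳 ⥤ᵇ 𝒴) (y : 𝒴.obj) (U : C) : Sieve U where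
  arrows := fun V f => ∃ (x : 𝒳.obj) (g : F.obj x ⟶ y), 𝒴.p.IsHomLift f g
  downward_closed := by
    rintro V W f ⟨x, g, hg⟩ m
    haveI := hg
    have hx : 𝒳.p.obj x = V := (F.w_obj x).symm.trans (IsHomLift.domain_eq 𝒴.p f g)
    obtain ⟨x', φ, hφ⟩ := FibGrpd.exists_lift' h𝒳 hx m
    haveI := hφ
    exact ⟨x', F.map φ ≫ g, inferInstance⟩

/-- the sieve of arrows over which `b` lifts -/
def homSieve (h𝒳 : FibCat.IsFibGrpd 𝒳.p) (F : 𝒳 ⥤ᵇ 𝒴) (x x' : 𝒳.obj)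
    (b : F.obj x ⟶ F.obj x') (U : C) : Sieve U where
  arrows := fun V f => ∃ (x₀ : 𝒳.obj) (φ : x₀ ⟶ x) (ψ : x₀ ⟶ x'),
    𝒳.p.IsHomLift f φ ∧ 𝒳.p.IsHomLift f ψ ∧ F.map φ ≫ b = F.map ψ
  downward_closed := by
    rintro V W f ⟨x₀, φ, ψ, hφ, hψ, e⟩ m
    haveI := hφ
    haveI := hψ
    have hx₀ : 𝒳.p.obj x₀ = V := IsHomLift.domain_eq 𝒳.p f φ
    obtain ⟨x₁, χ, hχ⟩ := FibGrpd.exists_lift' h𝒳 hx₀ m
    haveI := hχ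
    refine ⟨x₁, χ ≫ φ, χ ≫ ψ, inferInstance, inferInstance, ?_⟩
    rw [F.map_comp, F.map_comp, Category.assoc, e]

theorem locSurjObj_comp (h𝒳 : FibCat.IsFibGrpd 𝒳.p) (F : 𝒳 ⥤ᵇ 𝒴) (G : 𝒴 ⥤ᵇ 𝒵)
    (hF : Gerb.LocSurjObj J F) (hG : Gerb.LocSurjObj J G) :
    Gerb.LocSurjObj J (BasedFunctor.comp F G) := by
  intro z
  obtain ⟨R₁, hR₁, H₁⟩ := hG z
  refine ⟨objSieve h𝒳 (BasedFunctor.comp F G) z (𝒵.p.obj z), ?_, fun V f hf => hf⟩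
  refine J.transitive hR₁ _ ?_
  intro V f hf
  obtain ⟨y, g₁, hg₁⟩ := H₁ f hf
  haveI := hg₁
  have hy : 𝒴.p.obj y = V := (G.w_obj y).symm.trans (IsHomLift.domain_eq 𝒵.p f g₁)
  obtain ⟨R₂, hR₂, H₂⟩ := locSurjObj_at J hF y hy
  refine J.superset_covering ?_ hR₂
  intro W m hm
  obtain ⟨x, g₂, hg₂⟩ := H₂ m hm
  haveI := hg₂
  show ∃ (x : 𝒳.obj) (g : (BasedFunctor.comp F G).obj x ⟶ z), 𝒵.p.IsHomLift (m ≫ f) g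
  exact ⟨x, G.map g₂ ≫ g₁, inferInstance⟩

theorem comp_key {B D E : Type*} [Category B] [Category D] [Category E] (F : B ⥤ D) (G : D ⥤ E)
    {x₀ xV xV' x x' : B} {y₀ : D}
    (φ' : x₀ ⟶ xV) (ψ' : x₀ ⟶ xV') (p : xV ⟶ x) (p' : xV' ⟶ x') (χ : F.obj xV ⟶ y₀)
    (φ : y₀ ⟶ F.obj x) (ψ : y₀ ⟶ F.obj x')
    (β : F.obj xV ⟶ F.obj xV') (b : G.obj (F.obj x) ⟶ G.obj (F.obj x'))
    (hχ : χ ≫ φ = F.map p) (e : G.map φ ≫ b = G.map ψ) (hβ : β ≫ F.map p' = χ ≫ ψ)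
    (e' : F.map φ' ≫ β = F.map ψ') :
    G.map (F.map (φ' ≫ p)) ≫ b = G.map (F.map (ψ' ≫ p')) := by
  have h1 : G.map χ ≫ G.map ψ = G.map β ≫ G.map (F.map p') := by
    rw [← G.map_comp, ← G.map_comp, hβ]
  rw [F.map_comp, F.map_comp, ← e', ← hχ]
  simp only [Functor.map_comp, Category.assoc]
  rw [e, h1]

theorem locSurjHom_comp (h𝒳 : FibCat.IsFibGrpd 𝒳.p) (h𝒴 : FibCat.IsFibGrpd 𝒴.p)
    (F : 𝒳 ⥤ᵇ 𝒴) (G : 𝒴 ⥤ᵇ 𝒵)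
    (hF : Gerb.LocSurjHom J F) (hG : Gerb.LocSurjHom J G) :
    Gerb.LocSurjHom J (BasedFunctor.comp F G) := by
  intro x x' b hb
  haveI := hb
  have hFx : 𝒴.p.obj (F.obj x) = 𝒳.p.obj x := F.w_obj x
  obtain ⟨R₁, hR₁, H₁⟩ := locSurjHom_at J hG (F.obj x) (F.obj x') hFx b hb
  refine ⟨homSieve h𝒳 (BasedFunctor.comp F G) x x' b (𝒳.p.obj x), ?_, fun V f hf => hf⟩
  refine J.transitive hR₁ _ ?_
  intro V f hf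
  obtain ⟨y₀, φ, ψ, hφ, hψ, e⟩ := H₁ f hf
  haveI := hφ
  haveI := hψ
  have hx' : 𝒳.p.obj x' = 𝒳.p.obj x :=
    ((BasedFunctor.comp F G).w_obj x').symm.trans (IsHomLift.codomain_eq 𝒵.p (𝟙 (𝒳.p.obj x)) b)
  obtain ⟨xV, p, hp⟩ := FibGrpd.exists_lift' h𝒳 (rfl : 𝒳.p.obj x = 𝒳.p.obj x) f
  obtain ⟨xV', p', hp'⟩ := FibGrpd.exists_lift' h𝒳 hx' f
  haveI := hp
  haveI := hp'
  haveI : 𝒴.p.IsStronglyCartesian f φ := FibGrpd.isStronglyCartesian' h𝒴 f φ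
  let χ := Functor.IsStronglyCartesian.map 𝒴.p f φ (Category.id_comp f).symm (F.map p)
  have hχl : 𝒴.p.IsHomLift (𝟙 V) χ := inferInstance
  have hχ : χ ≫ φ = F.map p :=
    Functor.IsStronglyCartesian.fac 𝒴.p f φ (Category.id_comp f).symm (F.map p)
  haveI : 𝒴.p.IsStronglyCartesian f (F.map p') := FibGrpd.isStronglyCartesian' h𝒴 f (F.map p')
  haveI : 𝒴.p.IsHomLift f (χ ≫ ψ) := inferInstance
  let β := Functor.IsStronglyCartesian.map 𝒴.p f (F.map p') (Category.id_comp f).symm (χ ≫ ψ)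
  have hβl : 𝒴.p.IsHomLift (𝟙 V) β := inferInstance
  have hβ : β ≫ F.map p' = χ ≫ ψ :=
    Functor.IsStronglyCartesian.fac 𝒴.p f (F.map p') (Category.id_comp f).symm (χ ≫ ψ)
  have hxV : 𝒳.p.obj xV = V := IsHomLift.domain_eq 𝒳.p f p
  obtain ⟨R₂, hR₂, H₂⟩ := locSurjHom_at J hF xV xV' hxV β hβl
  refine J.superset_covering ?_ hR₂
  intro W m hm
  obtain ⟨x₀, φ', ψ', hφ', hψ', e'⟩ := H₂ m hm
  haveI := hφ'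
  haveI := hψ'
  show ∃ (x₀ : 𝒳.obj) (φ₀ : x₀ ⟶ x) (ψ₀ : x₀ ⟶ x'), 𝒳.p.IsHomLift (m ≫ f) φ₀ ∧
    𝒳.p.IsHomLift (m ≫ f) ψ₀ ∧
    (BasedFunctor.comp F G).map φ₀ ≫ b = (BasedFunctor.comp F G).map ψ₀
  refine ⟨x₀, φ' ≫ p, ψ' ≫ p', inferInstance, inferInstance, ?_⟩
  exact comp_key F.toFunctor G.toFunctor φ' ψ' p p' χ φ ψ β b hχ e hβ e'

theorem isGerbeOver_comp (h𝒳 : FibCat.IsFibGrpd 𝒳.p) (h𝒴 : FibCat.IsFibGrpd 𝒴.p)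
    (F : 𝒳 ⥤ᵇ 𝒴) (G : 𝒴 ⥤ᵇ 𝒵) (hF : Gerb.IsGerbeOver J F) (hG : Gerb.IsGerbeOver J G) :
    Gerb.IsGerbeOver J (BasedFunctor.comp F G) :=
  ⟨locSurjObj_comp J h𝒳 F G hF.1 hG.1, locSurjHom_comp J h𝒳 h𝒴 F G hF.2 hG.2⟩

section Fp

variable {𝒴' : BasedCategory.{v₅, u₅} C} (f : 𝒳 ⥤ᵇ 𝒴) (g : 𝒴' ⥤ᵇ 𝒴)

theorem locSurjObj_fpFst (h𝒴' : FibCat.IsFibGrpd 𝒴'.p) (h𝒴 : FibCat.IsFibGrpd 𝒴.p)
    (hf : Gerb.LocSurjObj J f) : Gerb.LocSurjObj J (FibCat.fpFst g f) := by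
  intro y'
  obtain ⟨R, hR, H⟩ := locSurjObj_at J hf (g.obj y') (g.w_obj y')
  refine ⟨R, hR, ?_⟩
  intro V k hk
  obtain ⟨x, m, hm⟩ := H k hk
  haveI := hm
  obtain ⟨y'V, q, hq⟩ := FibGrpd.exists_lift' h𝒴' (rfl : 𝒴'.p.obj y' = 𝒴'.p.obj y') k
  haveI := hq
  haveI : 𝒴.p.IsStronglyCartesian k m := FibGrpd.isStronglyCartesian' h𝒴 k m
  let i := Functor.IsStronglyCartesian.map 𝒴.p k m (Category.id_comp k).symm (g.map q)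
  have hil : 𝒴.p.IsHomLift (𝟙 V) i := inferInstance
  haveI hiiso : IsIso i := FibGrpd.isIso_of_lift_id h𝒴 (S := V) i
  have hV : 𝒴'.p.obj y'V = V := IsHomLift.domain_eq 𝒴'.p k q
  let P : (FibCat.fp g f).obj := ⟨⟨y'V, x, asIso i⟩, lift_id_congr 𝒴.p i hV.symm hil⟩
  exact ⟨P, q, hq⟩

theorem fp_key {D E : Type*} [Category D] [Category E] (g : D ⥤ E) {y₀ y₁ y₂ : D}
    {a₀ a₁ a₂ : E} (q : y₀ ⟶ y₁) (b : y₁ ⟶ y₂) (i₀ : g.obj y₀ ⟶ a₀) (i₁ : g.obj y₁ ≅ a₁)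
    (i₂ : g.obj y₂ ⟶ a₂) (Fφ : a₀ ⟶ a₁) (Fψ : a₀ ⟶ a₂)
    (h0 : i₀ ≫ Fφ = g.map q ≫ i₁.hom) (e : Fφ ≫ (i₁.inv ≫ g.map b ≫ i₂) = Fψ) :
    g.map (q ≫ b) ≫ i₂ = i₀ ≫ Fψ := by
  rw [← e, ← Category.assoc, h0, g.map_comp]
  simp

theorem locSurjHom_fpFst (h𝒴' : FibCat.IsFibGrpd 𝒴'.p) (h𝒴 : FibCat.IsFibGrpd 𝒴.p)
    (hf : Gerb.LocSurjHom J f) : Gerb.LocSurjHom J (FibCat.fpFst g f) := by
  intro P P' b hb
  haveI := hb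
  have hP : 𝒴.p.IsHomLift (𝟙 ((FibCat.fp g f).p.obj P)) P.obj.iso.hom := P.property
  haveI := hP
  have hU' : 𝒴'.p.obj P'.obj.fst = (FibCat.fp g f).p.obj P :=
    IsHomLift.codomain_eq 𝒴'.p (𝟙 ((FibCat.fp g f).p.obj P)) b
  have hP' : 𝒴.p.IsHomLift (𝟙 ((FibCat.fp g f).p.obj P)) P'.obj.iso.hom :=
    lift_id_congr 𝒴.p _ hU' P'.property
  haveI := hP'
  haveI hPinv : 𝒴.p.IsHomLift (𝟙 ((FibCat.fp g f).p.obj P)) P.obj.iso.inv := inferInstance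
  haveI hgb : 𝒴.p.IsHomLift (𝟙 ((FibCat.fp g f).p.obj P)) (g.map b) := inferInstance
  have hβ : 𝒴.p.IsHomLift (𝟙 ((FibCat.fp g f).p.obj P))
      (P.obj.iso.inv ≫ g.map b ≫ P'.obj.iso.hom) := inferInstance
  have hx₁ : 𝒳.p.obj P.obj.snd = (FibCat.fp g f).p.obj P := fp_obj_snd_proj g f P
  obtain ⟨R, hR, H⟩ := locSurjHom_at J hf P.obj.snd P'.obj.snd hx₁
    (P.obj.iso.inv ≫ g.map b ≫ P'.obj.iso.hom) hβ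
  refine ⟨R, hR, ?_⟩
  intro V k hk
  obtain ⟨x₀, φ, ψ, hφ, hψ, e⟩ := H k hk
  haveI := hφ
  haveI := hψ
  obtain ⟨y'₀, q, hq⟩ := FibGrpd.exists_lift' h𝒴'
    (rfl : 𝒴'.p.obj P.obj.fst = (FibCat.fp g f).p.obj P) k
  haveI := hq
  haveI : 𝒴.p.IsStronglyCartesian k (f.map φ) := FibGrpd.isStronglyCartesian' h𝒴 k (f.map φ)
  haveI : 𝒴.p.IsHomLift k (g.map q ≫ P.obj.iso.hom) := inferInstance
  let i₀ := Functor.IsStronglyCartesian.map 𝒴.p k (f.map φ) (Category.id_comp k).symm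
    (g.map q ≫ P.obj.iso.hom)
  have hi₀l : 𝒴.p.IsHomLift (𝟙 V) i₀ := inferInstance
  have hi₀fac : i₀ ≫ f.map φ = g.map q ≫ P.obj.iso.hom :=
    Functor.IsStronglyCartesian.fac 𝒴.p k (f.map φ) (Category.id_comp k).symm
      (g.map q ≫ P.obj.iso.hom)
  haveI : IsIso i₀ := FibGrpd.isIso_of_lift_id h𝒴 (S := V) i₀
  have hV : 𝒴'.p.obj y'₀ = V := IsHomLift.domain_eq 𝒴'.p k q
  let P₀ : (FibCat.fp g f).obj := ⟨⟨y'₀, x₀, asIso i₀⟩, lift_id_congr 𝒴.p i₀ hV.symm hi₀l⟩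
  let Φ : P₀ ⟶ P := ObjectProperty.homMk ⟨q, φ, hi₀fac.symm⟩
  let Ψ : P₀ ⟶ P' := ObjectProperty.homMk ⟨q ≫ b, ψ,
    fp_key g.toFunctor q b i₀ P.obj.iso P'.obj.iso.hom (f.map φ) (f.map ψ) hi₀fac e⟩
  refine ⟨P₀, Φ, Ψ, ?_, ?_, rfl⟩
  · exact (fp_isHomLift_iff g f Φ k).2 hq
  · exact (fp_isHomLift_iff g f Ψ k).2 (inferInstance : 𝒴'.p.IsHomLift k (q ≫ b))

theorem isGerbeOver_fpFst (h𝒴' : FibCat.IsFibGrpd 𝒴'.p) (h𝒴 : FibCat.IsFibGrpd 𝒴.p)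
    (hf : Gerb.IsGerbeOver J f) : Gerb.IsGerbeOver J (FibCat.fpFst g f) :=
  ⟨locSurjObj_fpFst J f g h𝒴' h𝒴 hf.1, locSurjHom_fpFst J f g h𝒴' h𝒴 hf.2⟩

end Fp

section Equiv

theorem isGerbeOver_of_isEquivOver (h𝒳 : FibCat.IsFibGrpd 𝒳.p) (E : 𝒳 ⥤ᵇ 𝒴)
    (hE : FibCat.IsEquivOver E) : Gerb.IsGerbeOver J E := by
  haveI : E.toFunctor.IsEquivalence := isEquivalence_of_isEquivOver E hE
  obtain ⟨G, ⟨e₁⟩, ⟨e₂⟩⟩ := hE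
  refine ⟨?_, ?_⟩
  · intro y
    refine ⟨⊤, J.top_mem _, ?_⟩
    intro V k _
    obtain ⟨x, φ, hφ⟩ := FibGrpd.exists_lift' h𝒳 (G.w_obj y) k
    haveI := hφ
    haveI h2 : 𝒴.p.IsHomLift (𝟙 (𝒴.p.obj y)) (e₂.hom.toNatTrans.app y) := e₂.hom.isHomLift' y
    exact ⟨x, E.map φ ≫ e₂.hom.toNatTrans.app y, inferInstance⟩
  · intro x x' b hb
    refine ⟨⊤, J.top_mem _, ?_⟩
    intro V k _
    obtain ⟨β, hβ⟩ := E.toFunctor.map_surjective b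
    have hβl : 𝒳.p.IsHomLift (𝟙 (𝒳.p.obj x)) β :=
      (E.isHomLift_iff _ β).1 (by rw [hβ]; exact hb)
    obtain ⟨x₀, φ, hφ⟩ := FibGrpd.exists_lift' h𝒳 (rfl : 𝒳.p.obj x = 𝒳.p.obj x) k
    haveI := hφ
    haveI := hβl
    refine ⟨x₀, φ, φ ≫ β, hφ, inferInstance, ?_⟩
    rw [← hβ]
    exact (E.toFunctor.map_comp φ β).symm

theorem isGerbe_of_equiv {𝒮₁ : BasedCategory.{v₂, u₂} C} {𝒮₂ : BasedCategory.{v₃, u₃} C}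
    (F : 𝒮₁ ⥤ᵇ 𝒮₂) (hF : FibCat.IsEquivOver F) (h : Gerb.IsGerbe J 𝒮₁) : Gerb.IsGerbe J 𝒮₂ := by
  refine ⟨Groth.Agent.Helper22.PostEquiv.isStack_of_equiv J F hF h.1, ?_, ?_⟩
  · intro U
    obtain ⟨R, hR, H⟩ := h.2.1 U
    refine ⟨R, hR, ?_⟩
    intro V k hk
    obtain ⟨x, m, hm⟩ := H k hk
    haveI := hm
    exact ⟨F.obj x, eqToHom (F.w_obj x) ≫ m, inferInstance⟩
  · obtain ⟨G, ⟨e₁⟩, ⟨e₂⟩⟩ := hF
    intro y y' b hb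
    haveI := hb
    have hy' : 𝒮₂.p.obj y' = 𝒮₂.p.obj y :=
      IsHomLift.codomain_eq (FibCat.selfOver C).p (𝟙 (𝒮₂.p.obj y)) b
    have hb₁ : (FibCat.selfOver C).p.IsHomLift (𝟙 (𝒮₂.p.obj y))
        (eqToHom (G.w_obj y) ≫ b ≫ eqToHom (G.w_obj y').symm) := inferInstance
    obtain ⟨R, hR, H⟩ := locSurjHom_at J h.2.2 (G.obj y) (G.obj y') (G.w_obj y)
      (eqToHom (G.w_obj y) ≫ b ≫ eqToHom (G.w_obj y').symm) hb₁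
    refine ⟨R, hR, ?_⟩
    intro V k hk
    obtain ⟨x₀, φ, ψ, hφ, hψ, e⟩ := H k hk
    haveI := hφ
    haveI := hψ
    haveI h2 : 𝒮₂.p.IsHomLift (𝟙 (𝒮₂.p.obj y)) (e₂.hom.toNatTrans.app y) := e₂.hom.isHomLift' y
    haveI h3 : 𝒮₂.p.IsHomLift (𝟙 (𝒮₂.p.obj y)) (e₂.hom.toNatTrans.app y') :=
      BasedNatTrans.isHomLift e₂.hom hy'
    haveI h4 : 𝒮₂.p.IsHomLift k (F.map φ ≫ e₂.hom.toNatTrans.app y) := inferInstance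
    haveI h5 : 𝒮₂.p.IsHomLift k (F.map ψ ≫ e₂.hom.toNatTrans.app y') := inferInstance
    refine ⟨F.obj x₀, F.map φ ≫ e₂.hom.toNatTrans.app y, F.map ψ ≫ e₂.hom.toNatTrans.app y',
      h4, h5, ?_⟩
    haveI h6 : (FibCat.selfOver C).p.IsHomLift k
        ((FibCat.toSelf 𝒮₂).map (F.map φ ≫ e₂.hom.toNatTrans.app y)) := inferInstance
    haveI h7 : (FibCat.selfOver C).p.IsHomLift k
        ((FibCat.toSelf 𝒮₂).map (F.map ψ ≫ e₂.hom.toNatTrans.app y')) := inferInstance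
    haveI h8 : (FibCat.selfOver C).p.IsHomLift k
        ((FibCat.toSelf 𝒮₂).map (F.map φ ≫ e₂.hom.toNatTrans.app y) ≫ b) :=
      @IsHomLift.comp_lift_id_right _ _ _ _ (FibCat.selfOver C).p _ _ _ _ _ k
        ((FibCat.toSelf 𝒮₂).map (F.map φ ≫ e₂.hom.toNatTrans.app y)) h6 b hb
    exact @Groth.Agent.Helper22.SelfOver.id_lift_ext C _ _ _ _ _ k _ _ h8 h7

end Equiv

end Groth.Agent.H28.GerbLib
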