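import Mathlib
import Groth.Agent.H28.GerbLib
import Groth.Agent.H28.LiftFp

/-!
# Gerbes over a site: descent along a locally surjective base change
-/

set_option autoImplicit false
set_option linter.style.haveILetI false
set_option backward.isDefEq.respectTransparency false

namespace Groth.Agent.H28.GerbLib

open CategoryTheory Groth.Agent.H13

universe v₆ u₆ v₅ u₅ v₄ u₄ v₃ u₃ v₂ u₂ v u

variable {C : Type u} [Category.{v} C] (J : GrothendieckTopology C)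
  {𝒳 : BasedCategory.{v₂, u₂} C} {𝒴 : BasedCategory.{v₃, u₃} C} {𝒵 : BasedCategory.{v₄, u₄} C}

theorem iso_key {D E : Type*} [Category D] [Category E] {F₁ F₂ : D ⥤ E} (α : F₁ ≅ F₂)
    {x₀ x x' : D} (φ : x₀ ⟶ x) (ψ : x₀ ⟶ x') (b : F₂.obj x ⟶ F₂.obj x')
    (e : F₁.map φ ≫ (α.hom.app x ≫ b ≫ α.inv.app x') = F₁.map ψ) :
    F₂.map φ ≫ b = F₂.map ψ := by
  apply (cancel_epi (α.hom.app x₀)).1
  rw [← α.hom.naturality ψ, ← e]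
  simp

theorem isGerbeOver_of_iso {F₁ F₂ : 𝒳 ⥤ᵇ 𝒴} (α : F₁ ≅ F₂) (h : Gerb.IsGerbeOver J F₁) :
    Gerb.IsGerbeOver J F₂ := by
  refine ⟨?_, ?_⟩
  · intro y
    obtain ⟨R, hR, H⟩ := h.1 y
    refine ⟨R, hR, ?_⟩
    intro V k hk
    obtain ⟨x, g, hg⟩ := H k hk
    haveI := hg
    have hx : 𝒳.p.obj x = V := (F₁.w_obj x).symm.trans (IsHomLift.domain_eq 𝒴.p k g)
    haveI : 𝒴.p.IsHomLift (𝟙 V) (α.inv.toNatTrans.app x) := BasedNatTrans.isHomLift α.inv hx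
    exact ⟨x, α.inv.toNatTrans.app x ≫ g, inferInstance⟩
  · intro x x' b hb
    haveI := hb
    have hx' : 𝒳.p.obj x' = 𝒳.p.obj x :=
      (F₂.w_obj x').symm.trans (IsHomLift.codomain_eq 𝒴.p (𝟙 (𝒳.p.obj x)) b)
    haveI h1 : 𝒴.p.IsHomLift (𝟙 (𝒳.p.obj x)) (α.hom.toNatTrans.app x) := α.hom.isHomLift' x
    haveI h2 : 𝒴.p.IsHomLift (𝟙 (𝒳.p.obj x)) (α.inv.toNatTrans.app x') :=
      BasedNatTrans.isHomLift α.inv hx'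
    have hb₁ : 𝒴.p.IsHomLift (𝟙 (𝒳.p.obj x))
        (α.hom.toNatTrans.app x ≫ b ≫ α.inv.toNatTrans.app x') := inferInstance
    obtain ⟨R, hR, H⟩ := h.2 x x' _ hb₁
    refine ⟨R, hR, ?_⟩
    intro V k hk
    obtain ⟨x₀, φ, ψ, hφ, hψ, e⟩ := H k hk
    exact ⟨x₀, φ, ψ, hφ, hψ, iso_key ((BasedNatTrans.forgetful 𝒳 𝒴).mapIso α) φ ψ b e⟩

section Desc

variable {𝒴' : BasedCategory.{v₅, u₅} C} (F : 𝒳 ⥤ᵇ 𝒴) (G : 𝒴' ⥤ᵇ 𝒴)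

theorem locSurjObj_of_fpFst (h𝒳 : FibCat.IsFibGrpd 𝒳.p) (hG : Gerb.LocSurjObj J G)
    (h : Gerb.LocSurjObj J (FibCat.fpFst G F)) : Gerb.LocSurjObj J F := by
  intro y
  obtain ⟨R₁, hR₁, H₁⟩ := hG y
  refine ⟨objSieve h𝒳 F y (𝒴.p.obj y), ?_, fun V f hf => hf⟩
  refine J.transitive hR₁ _ ?_
  intro V k hk
  obtain ⟨y', m, hm⟩ := H₁ k hk
  haveI := hm
  have hy' : 𝒴'.p.obj y' = V := (G.w_obj y').symm.trans (IsHomLift.domain_eq 𝒴.p k m)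
  obtain ⟨R₂, hR₂, H₂⟩ := locSurjObj_at J h y' hy'
  refine J.superset_covering ?_ hR₂
  intro W l hl
  obtain ⟨P, n, hn⟩ := H₂ l hl
  haveI := hn
  have hW : 𝒴'.p.obj P.obj.fst = W := IsHomLift.domain_eq 𝒴'.p l n
  haveI hPhom : 𝒴.p.IsHomLift (𝟙 W) P.obj.iso.hom := lift_id_congr 𝒴.p _ hW P.property
  haveI hPinv : 𝒴.p.IsHomLift (𝟙 W) P.obj.iso.inv := inferInstance
  show ∃ (x : 𝒳.obj) (g : F.obj x ⟶ y), 𝒴.p.IsHomLift (l ≫ k) g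
  haveI : 𝒴.p.IsHomLift l (G.map n) := inferInstance
  haveI : 𝒴.p.IsHomLift l (P.obj.iso.inv ≫ G.map n) := inferInstance
  exact ⟨P.obj.snd, (P.obj.iso.inv ≫ G.map n) ≫ m, inferInstance⟩

theorem desc_key {D E : Type*} [Category D] [Category E] (F : D ⥤ E)
    {x₀ x₁V x₂V x₁ x₂ : D} {a₀ a₁ : E}
    (s₁ : x₀ ⟶ x₁V) (s₂ : x₀ ⟶ x₂V) (p₁ : x₁V ⟶ x₁) (p₂ : x₂V ⟶ x₂)
    (b : F.obj x₁ ⟶ F.obj x₂) (bV : F.obj x₁V ⟶ F.obj x₂V)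
    (i₀ : a₀ ≅ F.obj x₀) (i₁ : a₁ ⟶ F.obj x₁V) (c₁ c₂ : a₀ ⟶ a₁)
    (hbV : bV ≫ F.map p₂ = F.map p₁ ≫ b)
    (w₁ : c₁ ≫ i₁ = i₀.hom ≫ F.map s₁) (w₂ : c₂ ≫ (i₁ ≫ bV) = i₀.hom ≫ F.map s₂)
    (hc : c₁ = c₂) :
    F.map (s₁ ≫ p₁) ≫ b = F.map (s₂ ≫ p₂) := by
  subst hc
  have h : F.map s₂ = F.map s₁ ≫ bV := by
    apply (cancel_epi i₀.hom).1
    calc i₀.hom ≫ F.map s₂ = c₁ ≫ (i₁ ≫ bV) := w₂.symm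
      _ = (c₁ ≫ i₁) ≫ bV := (Category.assoc _ _ _).symm
      _ = (i₀.hom ≫ F.map s₁) ≫ bV := by rw [w₁]
      _ = i₀.hom ≫ F.map s₁ ≫ bV := Category.assoc _ _ _
  calc F.map (s₁ ≫ p₁) ≫ b = F.map s₁ ≫ (F.map p₁ ≫ b) := by rw [F.map_comp, Category.assoc]
    _ = F.map s₁ ≫ (bV ≫ F.map p₂) := by rw [hbV]
    _ = (F.map s₁ ≫ bV) ≫ F.map p₂ := (Category.assoc _ _ _).symm
    _ = F.map s₂ ≫ F.map p₂ := by rw [h]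
    _ = F.map (s₂ ≫ p₂) := (F.map_comp _ _).symm

theorem locSurjHom_of_fpFst (h𝒳 : FibCat.IsFibGrpd 𝒳.p) (h𝒴 : FibCat.IsFibGrpd 𝒴.p)
    (hG : Gerb.LocSurjObj J G) (h : Gerb.LocSurjHom J (FibCat.fpFst G F)) :
    Gerb.LocSurjHom J F := by
  intro x₁ x₂ b hb
  haveI := hb
  have hx₂ : 𝒳.p.obj x₂ = 𝒳.p.obj x₁ :=
    (F.w_obj x₂).symm.trans (IsHomLift.codomain_eq 𝒴.p (𝟙 (𝒳.p.obj x₁)) b)
  obtain ⟨R₁, hR₁, H₁⟩ := locSurjObj_at J hG (F.obj x₁) (F.w_obj x₁)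
  refine ⟨homSieve h𝒳 F x₁ x₂ b (𝒳.p.obj x₁), ?_, fun V f hf => hf⟩
  refine J.transitive hR₁ _ ?_
  intro V k hk
  obtain ⟨y', m, hm⟩ := H₁ k hk
  haveI := hm
  have hy' : 𝒴'.p.obj y' = V := (G.w_obj y').symm.trans (IsHomLift.domain_eq 𝒴.p k m)
  obtain ⟨x₁V, p₁, hp₁⟩ := FibGrpd.exists_lift' h𝒳 (rfl : 𝒳.p.obj x₁ = 𝒳.p.obj x₁) k
  obtain ⟨x₂V, p₂, hp₂⟩ := FibGrpd.exists_lift' h𝒳 hx₂ k
  haveI := hp₁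
  haveI := hp₂
  haveI : 𝒴.p.IsStronglyCartesian k (F.map p₁) := FibGrpd.isStronglyCartesian' h𝒴 k (F.map p₁)
  let i₁ := Functor.IsStronglyCartesian.map 𝒴.p k (F.map p₁) (Category.id_comp k).symm m
  have hi₁l : 𝒴.p.IsHomLift (𝟙 V) i₁ := inferInstance
  haveI : IsIso i₁ := FibGrpd.isIso_of_lift_id h𝒴 (S := V) i₁
  haveI : 𝒴.p.IsStronglyCartesian k (F.map p₂) := FibGrpd.isStronglyCartesian' h𝒴 k (F.map p₂)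
  haveI : 𝒴.p.IsHomLift k (F.map p₁ ≫ b) := inferInstance
  let bV := Functor.IsStronglyCartesian.map 𝒴.p k (F.map p₂) (Category.id_comp k).symm
    (F.map p₁ ≫ b)
  have hbVl : 𝒴.p.IsHomLift (𝟙 V) bV := inferInstance
  have hbV : bV ≫ F.map p₂ = F.map p₁ ≫ b :=
    Functor.IsStronglyCartesian.fac 𝒴.p k (F.map p₂) (Category.id_comp k).symm (F.map p₁ ≫ b)
  haveI : IsIso bV := FibGrpd.isIso_of_lift_id h𝒴 (S := V) bV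
  have hcl : 𝒴.p.IsHomLift (𝟙 V) (i₁ ≫ bV) := inferInstance
  let P₁ : (FibCat.fp G F).obj := ⟨⟨y', x₁V, asIso i₁⟩, lift_id_congr 𝒴.p i₁ hy'.symm hi₁l⟩
  let P₂ : (FibCat.fp G F).obj :=
    ⟨⟨y', x₂V, asIso (i₁ ≫ bV)⟩, lift_id_congr 𝒴.p (i₁ ≫ bV) hy'.symm hcl⟩
  have hone : 𝒴'.p.IsHomLift (𝟙 V) (𝟙 y') := IsHomLift.id hy'
  obtain ⟨R₂, hR₂, H₂⟩ := locSurjHom_at J h P₁ P₂ hy' (𝟙 y') hone
  refine J.superset_covering ?_ hR₂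
  intro W l hl
  obtain ⟨P₀, Φ, Ψ, hΦ, hΨ, eΦΨ⟩ := H₂ l hl
  haveI := hΦ
  haveI := hΨ
  show ∃ (x₀ : 𝒳.obj) (φ₀ : x₀ ⟶ x₁) (ψ₀ : x₀ ⟶ x₂), 𝒳.p.IsHomLift (l ≫ k) φ₀ ∧
    𝒳.p.IsHomLift (l ≫ k) ψ₀ ∧ F.map φ₀ ≫ b = F.map ψ₀
  haveI h1 : 𝒳.p.IsHomLift l ((FibCat.fpSnd G F).map Φ) := inferInstance
  haveI h2 : 𝒳.p.IsHomLift l ((FibCat.fpSnd G F).map Ψ) := inferInstance
  refine ⟨P₀.obj.snd, (FibCat.fpSnd G F).map Φ ≫ p₁, (FibCat.fpSnd G F).map Ψ ≫ p₂,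
    inferInstance, inferInstance, ?_⟩
  have hc : Φ.hom.fst = Ψ.hom.fst := (Category.comp_id _).symm.trans eΦΨ
  exact desc_key F.toFunctor Φ.hom.snd Ψ.hom.snd p₁ p₂ b bV P₀.obj.iso i₁
    (G.map Φ.hom.fst) (G.map Ψ.hom.fst) hbV Φ.hom.w Ψ.hom.w (congrArg (fun t => G.map t) hc)

end Desc

theorem isGerbeOver_of_twoCart {𝒳' : BasedCategory.{v₅, u₅} C} {𝒴' : BasedCategory.{v₆, u₆} C}
    (h𝒳 : FibCat.IsFibGrpd 𝒳.p) (h𝒴 : FibCat.IsFibGrpd 𝒴.p) (h𝒳' : FibCat.IsFibGrpd 𝒳'.p)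
    (h𝒴' : FibCat.IsFibGrpd 𝒴'.p)
    (F : 𝒳 ⥤ᵇ 𝒴) (G : 𝒴' ⥤ᵇ 𝒴) (F' : 𝒳' ⥤ᵇ 𝒴') (G' : 𝒳' ⥤ᵇ 𝒳)
    (e : BasedFunctor.comp F' G ≅ BasedFunctor.comp G' F) (hc : FibCat.IsTwoCartOver F' G' e)
    (hG : Gerb.LocSurjObj J G) (hF' : Gerb.IsGerbeOver J F') : Gerb.IsGerbeOver J F := by
  have hfp : FibCat.IsFibGrpd (FibCat.fp G F).p := fp_isFibGrpd G F h𝒴' h𝒳 h𝒴
  obtain ⟨Q, ⟨e₁⟩, ⟨e₂⟩⟩ := hc
  have hQ : Gerb.IsGerbeOver J Q := isGerbeOver_of_isEquivOver J hfp Q ⟨_, ⟨e₂⟩, ⟨e₁⟩⟩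
  have h1 : Gerb.IsGerbeOver J (BasedFunctor.comp Q F') := isGerbeOver_comp J hfp h𝒳' Q F' hQ hF'
  have α : BasedFunctor.comp Q F' ≅ FibCat.fpFst G F :=
    Groth.Agent.H28.LiftFp.whiskerRightIso e₂ (FibCat.fpFst G F)
  have h2 : Gerb.IsGerbeOver J (FibCat.fpFst G F) := isGerbeOver_of_iso J α h1
  exact ⟨locSurjObj_of_fpFst J F G h𝒳 hG h2.1, locSurjHom_of_fpFst J F G h𝒳 h𝒴 hG h2.2⟩

end Groth.Agent.H28.GerbLib
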