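import Mathlib.AlgebraicGeometry.Group.Abelian
import Mathlib.CategoryTheory.Monoidal.Cartesian.Over
import Mathlib.CategoryTheory.Monoidal.Cartesian.Grp
import Groth.Agent.H28.CartPB

set_option autoImplicit false
universe u
open CategoryTheory MonoidalCategory CartesianMonoidalCategory MonObj GrpObj AlgebraicGeometry

namespace Groth.Agent.H28.GrpCoset

/-- If a point `y` of `T × G` has `pr₂ y` and `(pr₂ y)⁻¹ · t` both in the image of the homomorphism
`ψ`, then `t (pr₁ y)` is in the image of `ψ`. -/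
theorem mem_range_of_translate {S : Scheme.{u}} (H G : Over S) [GrpObj H] [GrpObj G] (ψ : H ⟶ G)
    [IsMonHom ψ] (T : Over S) (t : T ⟶ G) (y : (T ⊗ G).left)
    (h1 : (snd T G).left y ∈ Set.range ψ.left)
    (h2 : ((snd T G)⁻¹ * (fst T G ≫ t)).left y ∈ Set.range ψ.left) :
    t.left ((fst T G).left y) ∈ Set.range ψ.left := by
  obtain ⟨h₁, hh₁⟩ := h1
  obtain ⟨h₂, hh₂⟩ := h2
  generalize hc : (snd T G)⁻¹ * (fst T G ≫ t) = c at hh₂
  have sq₁ : IsPullback (Limits.pullback.fst (snd T G) ψ).left (Limits.pullback.snd (snd T G) ψ).left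
      (snd T G).left ψ.left := (IsPullback.of_hasPullback (snd T G) ψ).map (Over.forget _)
  obtain ⟨p₁, hp₁y, hp₁h⟩ := Groth.Agent.H28.CartPB.exists_preimage_of_isPullback sq₁ y h₁ hh₁.symm
  have sq₂ : IsPullback (Limits.pullback.fst (Limits.pullback.fst (snd T G) ψ ≫ c) ψ).left
      (Limits.pullback.snd (Limits.pullback.fst (snd T G) ψ ≫ c) ψ).left
      (Limits.pullback.fst (snd T G) ψ ≫ c).left ψ.left :=
    (IsPullback.of_hasPullback (Limits.pullback.fst (snd T G) ψ ≫ c) ψ).map (Over.forget _)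
  obtain ⟨p₂, hp₂, hp₂h⟩ := Groth.Agent.H28.CartPB.exists_preimage_of_isPullback sq₂ p₁ h₂
    (by rw [Over.comp_left, Scheme.Hom.comp_apply, hp₁y, hh₂])
  have key : ∀ {Q : Over S} (q : Q ⟶ T ⊗ G) (u₁ u₂ : Q ⟶ H),
      q ≫ snd T G = u₁ ≫ ψ → q ≫ c = u₂ ≫ ψ → (q ≫ fst T G) ≫ t = (u₁ * u₂) ≫ ψ := by
    intro Q q u₁ u₂ e₁ e₂
    rw [MonObj.mul_comp, ← e₁, ← e₂, ← hc]
    rw [MonObj.comp_mul, GrpObj.comp_inv, mul_inv_cancel_left, Category.assoc]
  have e₁ : (Limits.pullback.fst (Limits.pullback.fst (snd T G) ψ ≫ c) ψ ≫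
      Limits.pullback.fst (snd T G) ψ) ≫ snd T G =
      (Limits.pullback.fst (Limits.pullback.fst (snd T G) ψ ≫ c) ψ ≫
        Limits.pullback.snd (snd T G) ψ) ≫ ψ := by
    rw [Category.assoc, Category.assoc, Limits.pullback.condition]
  have e₂ : (Limits.pullback.fst (Limits.pullback.fst (snd T G) ψ ≫ c) ψ ≫
      Limits.pullback.fst (snd T G) ψ) ≫ c =
      Limits.pullback.snd (Limits.pullback.fst (snd T G) ψ ≫ c) ψ ≫ ψ := by
    rw [Category.assoc, Limits.pullback.condition]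
  have e₃ := key _ _ _ e₁ e₂
  refine ⟨((Limits.pullback.fst (Limits.pullback.fst (snd T G) ψ ≫ c) ψ ≫
        Limits.pullback.snd (snd T G) ψ) *
        Limits.pullback.snd (Limits.pullback.fst (snd T G) ψ ≫ c) ψ).left p₂, ?_⟩
  rw [← Scheme.Hom.comp_apply, ← Over.comp_left, ← e₃, Over.comp_left, Scheme.Hom.comp_apply,
    Over.comp_left, Scheme.Hom.comp_apply, Over.comp_left, Scheme.Hom.comp_apply, hp₂, hp₁y]

end Groth.Agent.H28.GrpCoset
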