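import Mathlib.AlgebraicGeometry.Group.Abelian
import Mathlib.CategoryTheory.Monoidal.Cartesian.Over
import Mathlib.CategoryTheory.Monoidal.Cartesian.Grp
import Mathlib.AlgebraicGeometry.Morphisms.UniversallyOpen
import Mathlib.Topology.Closure

set_option autoImplicit false
universe u
open CategoryTheory CategoryTheory.Limits MonoidalCategory CartesianMonoidalCategory MonObj GrpObj AlgebraicGeometry

namespace Groth.Agent.H28.GrpDense

/-- `U · V = G` for dense subsets `U` (open) and `V` of a group scheme over a field (no finiteness). -/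
theorem mul_image_dense (k : Type u) [Field k] (G : Over (Spec (CommRingCat.of k))) [GrpObj G]
    (U V : Set G.left) (hUo : IsOpen U) (hU : Dense U) (hV : Dense V) :
    μ[G].left '' ((fst G G).left ⁻¹' U ∩ (snd G G).left ⁻¹' V) = Set.univ := by
  rw [Set.eq_univ_iff_forall]
  intro x
  let T : Over (Spec (CommRingCat.of k)) := Over.mk (G.left.fromSpecResidueField x ≫ G.hom)
  let t : T ⟶ G := Over.homMk (G.left.fromSpecResidueField x) rfl
  have ht : ∀ z : T.left, t.left z = x := fun z => Scheme.fromSpecResidueField_apply x z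
  let c : T ⊗ G ⟶ G := (snd T G)⁻¹ * (fst T G ≫ t)
  let b : T ⊗ G ≅ T ⊗ G :=
    { hom := lift (fst T G) c
      inv := lift (fst T G) ((fst T G ≫ t) * (snd T G)⁻¹)
      hom_inv_id := by
        apply CartesianMonoidalCategory.hom_ext
        · simp
        · rw [Category.assoc, lift_snd, MonObj.comp_mul, GrpObj.comp_inv, lift_fst_assoc, lift_snd,
            Category.id_comp]
          show (fst T G ≫ t) * ((snd T G)⁻¹ * (fst T G ≫ t))⁻¹ = snd T G
          rw [_root_.mul_inv_rev, _root_.inv_inv, mul_inv_cancel_left]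
      inv_hom_id := by
        apply CartesianMonoidalCategory.hom_ext
        · simp
        · rw [Category.assoc, lift_snd, Category.id_comp]
          show lift _ _ ≫ ((snd T G)⁻¹ * (fst T G ≫ t)) = _
          rw [MonObj.comp_mul, GrpObj.comp_inv, lift_snd, lift_fst_assoc, _root_.mul_inv_rev, _root_.inv_inv,
            inv_mul_cancel_right] }
  have hc : c = b.hom ≫ snd T G := (lift_snd _ _).symm
  have hsndopen : UniversallyOpen (snd T G).left := by
    rw [Over.snd_left]
    infer_instance
  have hbiso : IsIso b.hom.left := by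
    have : IsIso b.hom := ⟨b.inv, b.hom_inv_id, b.inv_hom_id⟩
    exact inferInstanceAs (IsIso ((Over.forget _).map b.hom))
  have hcopen : IsOpenMap c.left := by
    rw [hc, Over.comp_left]
    exact (b.hom.left ≫ (snd T G).left).isOpenMap
  have hUd : Dense ((snd T G).left ⁻¹' U) := hU.preimage (snd T G).left.isOpenMap
  have hVd : Dense (c.left ⁻¹' V) := hV.preimage hcopen
  have hUo : IsOpen ((snd T G).left ⁻¹' U) :=
    hUo.preimage (snd T G).left.continuous
  obtain ⟨pt⟩ : Nonempty T.left := by
    show Nonempty (Spec (G.left.residueField x))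
    infer_instance
  have hne : Nonempty (T ⊗ G).left := ⟨(lift (𝟙 T) t).left pt⟩
  obtain ⟨y, hyU, hyV⟩ := (hUd.inter_of_isOpen_left hVd hUo).nonempty
  have hwμ : lift (snd T G) c ≫ μ[G] = fst T G ≫ t := by
    rw [← Hom.mul_def]
    show snd T G * ((snd T G)⁻¹ * (fst T G ≫ t)) = _
    rw [mul_inv_cancel_left]
  refine ⟨(lift (snd T G) c).left y, ⟨?_, ?_⟩, ?_⟩
  · show (fst G G).left ((lift (snd T G) c).left y) ∈ U
    rw [← Scheme.Hom.comp_apply, ← Over.comp_left, lift_fst]
    exact hyU
  · show (snd G G).left ((lift (snd T G) c).left y) ∈ V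
    rw [← Scheme.Hom.comp_apply, ← Over.comp_left, lift_snd]
    exact hyV
  · rw [← Scheme.Hom.comp_apply, ← Over.comp_left, hwμ, Over.comp_left, Scheme.Hom.comp_apply]
    exact ht _

end Groth.Agent.H28.GrpDense
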