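import Mathlib.AlgebraicGeometry.Group.Abelian
import Mathlib.CategoryTheory.Monoidal.Cartesian.Over
import Mathlib.CategoryTheory.Monoidal.Cartesian.Grp
import Mathlib.AlgebraicGeometry.Morphisms.UniversallyOpen
import Mathlib.AlgebraicGeometry.Morphisms.ClosedImmersion
import Mathlib.RingTheory.KrullDimension.Zero
import Mathlib.RingTheory.Artinian.Ring
import Mathlib.Topology.Closure

set_option autoImplicit false
universe u
open CategoryTheory CategoryTheory.Limits MonoidalCategory CartesianMonoidalCategory MonObj GrpObj AlgebraicGeometry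

namespace Groth.Agent.H28.GrpDense2

/-- A surjective closed immersion is universally open (it is a universal homeomorphism). -/
theorem universallyOpen_of_isClosedImmersion_of_surjective {X Y : Scheme.{u}} (f : X ⟶ Y)
    [IsClosedImmersion f] [Surjective f] : UniversallyOpen f := by
  constructor
  intro X' Y' i₁ i₂ f' hpb
  have h1 : IsClosedImmersion f' :=
    MorphismProperty.of_isPullback (P := @IsClosedImmersion) hpb.flip inferInstance
  have h2 : Surjective f' :=
    MorphismProperty.of_isPullback (P := @Surjective) hpb.flip inferInstance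
  have h3 : IsHomeomorph f' :=
    isHomeomorph_iff_isEmbedding_surjective.mpr ⟨f'.isClosedEmbedding.isEmbedding, f'.surjective⟩
  exact h3.isOpenMap

/-- Any morphism from the spectrum of a field to the spectrum of an artinian local ring is
universally open. -/
theorem universallyOpen_of_field_of_artinianLocal (A : Type u) [CommRing A] [IsArtinianRing A]
    [IsLocalRing A] (L : CommRingCat.{u}) [IsDomain L] (t : Spec L ⟶ Spec (CommRingCat.of A)) :
    UniversallyOpen t := by
  obtain ⟨φ, rfl⟩ := Spec.map_surjective t
  have hker : IsLocalRing.maximalIdeal A ≤ RingHom.ker φ.hom := by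
    have hp : (RingHom.ker φ.hom).IsPrime := RingHom.ker_isPrime φ.hom
    have hm : (RingHom.ker φ.hom).IsMaximal := Ideal.IsPrime.isMaximal' hp
    exact (IsLocalRing.eq_maximalIdeal hm).ge
  let ψ : IsLocalRing.ResidueField A →+* L :=
    Ideal.Quotient.lift (IsLocalRing.maximalIdeal A) φ.hom (fun a ha => hker ha)
  have hfac : φ = CommRingCat.ofHom (IsLocalRing.residue A) ≫ CommRingCat.ofHom ψ := by
    ext a
    rfl
  rw [hfac, Spec.map_comp]
  have h1 : UniversallyOpen (Spec.map (CommRingCat.ofHom ψ)) := inferInstance
  have h2 : IsClosedImmersion (Spec.map (CommRingCat.ofHom (IsLocalRing.residue A))) :=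
    IsClosedImmersion.spec_of_surjective _ Ideal.Quotient.mk_surjective
  have h3 : Surjective (Spec.map (CommRingCat.ofHom (IsLocalRing.residue A))) := by
    have : Subsingleton (Spec (CommRingCat.of A)) :=
      inferInstanceAs (Subsingleton (PrimeSpectrum A))
    obtain ⟨x₀⟩ : Nonempty (Spec (CommRingCat.of (IsLocalRing.ResidueField A))) := inferInstance
    exact ⟨fun y => ⟨x₀, Subsingleton.elim _ _⟩⟩
  have h4 : UniversallyOpen (Spec.map (CommRingCat.ofHom (IsLocalRing.residue A))) :=
    universallyOpen_of_isClosedImmersion_of_surjective _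
  infer_instance

/-- `U · V = G` for dense subsets `U` (open) and `V` of a group scheme `G` over a base `S` such
that every point of `G` is universally open over `S`. -/
theorem mul_image_dense' {S : Scheme.{u}} (G : Over S) [GrpObj G]
    (hS : ∀ x : G.left, UniversallyOpen (G.left.fromSpecResidueField x ≫ G.hom))
    (U V : Set G.left) (hUo : IsOpen U) (hU : Dense U) (hV : Dense V) :
    μ[G].left '' ((fst G G).left ⁻¹' U ∩ (snd G G).left ⁻¹' V) = Set.univ := by
  rw [Set.eq_univ_iff_forall]
  intro x
  let T : Over (S) := Over.mk (G.left.fromSpecResidueField x ≫ G.hom)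
  let t : T ⟶ G := Over.homMk (G.left.fromSpecResidueField x) rfl
  have ht : ∀ z : T.left, t.left z = x := fun z => Scheme.fromSpecResidueField_apply x z
  let c : T ⊗ G ⟶ G := (snd T G)⁻¹ * (fst T G ≫ t)
  let b : T ⊗ G ≅ T ⊗ G :=
    { hom := lift (fst T G) c
      inv := lift (fst T G) ((fst T G ≫ t) * (snd T G)⁻¹)
      hom_inv_id := by
        apply CartesianMonoidalCategory.hom_ext
        · simp
        · rw [Category.assoc, lift_snd, MonObj.comp_mul, GrpObj.comp_inv, lift_fst_assoc, lift_snd,
            Category.id_comp]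
          show (fst T G ≫ t) * ((snd T G)⁻¹ * (fst T G ≫ t))⁻¹ = snd T G
          rw [_root_.mul_inv_rev, _root_.inv_inv, mul_inv_cancel_left]
      inv_hom_id := by
        apply CartesianMonoidalCategory.hom_ext
        · simp
        · rw [Category.assoc, lift_snd, Category.id_comp]
          show lift _ _ ≫ ((snd T G)⁻¹ * (fst T G ≫ t)) = _
          rw [MonObj.comp_mul, GrpObj.comp_inv, lift_snd, lift_fst_assoc, _root_.mul_inv_rev, _root_.inv_inv,
            inv_mul_cancel_right] }
  have hc : c = b.hom ≫ snd T G := (lift_snd _ _).symm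
  have hsndopen : UniversallyOpen (snd T G).left := by
    have hT : UniversallyOpen T.hom := hS x
    rw [Over.snd_left]
    infer_instance
  have hbiso : IsIso b.hom.left := by
    have : IsIso b.hom := ⟨b.inv, b.hom_inv_id, b.inv_hom_id⟩
    exact inferInstanceAs (IsIso ((Over.forget _).map b.hom))
  have hcopen : IsOpenMap c.left := by
    rw [hc, Over.comp_left]
    exact (b.hom.left ≫ (snd T G).left).isOpenMap
  have hUd : Dense ((snd T G).left ⁻¹' U) := hU.preimage (snd T G).left.isOpenMap
  have hVd : Dense (c.left ⁻¹' V) := hV.preimage hcopen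
  have hUo : IsOpen ((snd T G).left ⁻¹' U) :=
    hUo.preimage (snd T G).left.continuous
  obtain ⟨pt⟩ : Nonempty T.left := by
    show Nonempty (Spec (G.left.residueField x))
    infer_instance
  have hne : Nonempty (T ⊗ G).left := ⟨(lift (𝟙 T) t).left pt⟩
  obtain ⟨y, hyU, hyV⟩ := (hUd.inter_of_isOpen_left hVd hUo).nonempty
  have hwμ : lift (snd T G) c ≫ μ[G] = fst T G ≫ t := by
    rw [← Hom.mul_def]
    show snd T G * ((snd T G)⁻¹ * (fst T G ≫ t)) = _
    rw [mul_inv_cancel_left]
  refine ⟨(lift (snd T G) c).left y, ⟨?_, ?_⟩, ?_⟩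
  · show (fst G G).left ((lift (snd T G) c).left y) ∈ U
    rw [← Scheme.Hom.comp_apply, ← Over.comp_left, lift_fst]
    exact hyU
  · show (snd G G).left ((lift (snd T G) c).left y) ∈ V
    rw [← Scheme.Hom.comp_apply, ← Over.comp_left, lift_snd]
    exact hyV
  · rw [← Scheme.Hom.comp_apply, ← Over.comp_left, hwμ, Over.comp_left, Scheme.Hom.comp_apply]
    exact ht _

end Groth.Agent.H28.GrpDense2
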