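import Mathlib

/-!
# Shear automorphism and diagonal/unit pullback squares for group objects
in a cartesian monoidal category, with applications to group schemes.
-/

set_option autoImplicit false
universe v u
open CategoryTheory MonoidalCategory CartesianMonoidalCategory MonObj Limits

namespace Groth.Agent.H28.GrpShear

section General

variable {C : Type u} [Category.{v} C] [CartesianMonoidalCategory C]
variable {G : C} [GrpObj G] {T : C} (ψ : T ⟶ G)

/-- `(t, g) ↦ (t, ψ t * g)` -/
def shear : T ⊗ G ⟶ T ⊗ G := lift (fst T G) ((fst T G ≫ ψ) * snd T G)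

/-- `(t, g) ↦ (t, (ψ t)⁻¹ * g)` -/
def shearInv : T ⊗ G ⟶ T ⊗ G := lift (fst T G) ((fst T G ≫ ψ)⁻¹ * snd T G)

@[reassoc (attr := simp)]
lemma shear_fst : shear ψ ≫ fst T G = fst T G := by simp [shear]
@[reassoc (attr := simp)]
lemma shear_snd : shear ψ ≫ snd T G = (fst T G ≫ ψ) * snd T G := by simp [shear]
@[reassoc (attr := simp)]
lemma shearInv_fst : shearInv ψ ≫ fst T G = fst T G := by simp [shearInv]
@[reassoc (attr := simp)]
lemma shearInv_snd : shearInv ψ ≫ snd T G = (fst T G ≫ ψ)⁻¹ * snd T G := by simp [shearInv]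

lemma shear_shearInv : shear ψ ≫ shearInv ψ = 𝟙 _ := by
  apply CartesianMonoidalCategory.hom_ext
  · simp
  · rw [Category.assoc, shearInv_snd, MonObj.comp_mul, GrpObj.comp_inv, shear_fst_assoc, shear_snd,
      inv_mul_cancel_left, Category.id_comp]

lemma shearInv_shear : shearInv ψ ≫ shear ψ = 𝟙 _ := by
  apply CartesianMonoidalCategory.hom_ext
  · simp
  · rw [Category.assoc, shear_snd, MonObj.comp_mul, shearInv_fst_assoc, shearInv_snd,
      mul_inv_cancel_left, Category.id_comp]

/-- the shear automorphism -/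
@[simps]
def shearIso : T ⊗ G ≅ T ⊗ G where
  hom := shear ψ
  inv := shearInv ψ
  hom_inv_id := shear_shearInv ψ
  inv_hom_id := shearInv_shear ψ

instance : IsIso (shear ψ) := (shearIso ψ).isIso_hom

/-- `(t, g) ↦ ψ t * g` is the shear followed by the projection. -/
lemma whiskerRight_mul : ψ ▷ G ≫ μ[G] = shear ψ ≫ snd T G := by
  rw [shear_snd, Hom.mul_def]
  congr 1
  apply CartesianMonoidalCategory.hom_ext <;> simp

lemma mul_eq_shear : μ[G] = shear (𝟙 G) ≫ snd G G := by
  rw [← whiskerRight_mul, id_whiskerRight, Category.id_comp]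

variable (G)

/-- The diagonal of a group object is the base change of the unit along `(g, h) ↦ g⁻¹ h`. -/
lemma isPullback_diag_unit :
    IsPullback (lift (𝟙 G) (𝟙 G)) (toUnit G) ((fst G G)⁻¹ * snd G G) η[G] := by
  refine ⟨⟨?_⟩, ⟨PullbackCone.IsLimit.mk _ (fun s => s.fst ≫ fst G G) ?_ ?_ ?_⟩⟩
  · rw [MonObj.comp_mul, GrpObj.comp_inv, lift_fst, lift_snd, inv_mul_cancel, MonObj.one_eq_one,
      MonObj.comp_one]
  · intro s
    have h : s.fst ≫ ((fst G G)⁻¹ * snd G G) = 1 := by
      rw [s.condition, Hom.one_def, toUnit_unique s.snd (toUnit _)]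
    rw [MonObj.comp_mul, GrpObj.comp_inv, inv_mul_eq_one] at h
    apply CartesianMonoidalCategory.hom_ext
    · simp
    · simp [h]
  · intro s
    exact toUnit_unique _ _
  · intro s m h1 _
    rw [← h1, Category.assoc, lift_fst, Category.comp_id]

variable {G}

omit [GrpObj G] in
/-- A section `s` of `G → 𝟙` is the base change of the diagonal of `G` along `g ↦ (s, g)`. -/
lemma isPullback_section (s : 𝟙_ C ⟶ G) :
    IsPullback s s (lift (toUnit G ≫ s) (𝟙 G)) (lift (𝟙 G) (𝟙 G)) := by
  refine ⟨⟨?_⟩, ⟨PullbackCone.IsLimit.mk _ (fun c => toUnit _) ?_ ?_ ?_⟩⟩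
  · apply CartesianMonoidalCategory.hom_ext
    · simp only [Category.assoc, lift_fst, Category.comp_id]
      rw [← Category.assoc, toUnit_unique (s ≫ toUnit G) (𝟙 _), Category.id_comp]
    · simp
  · intro c
    have h := c.condition
    have h1 := congrArg (· ≫ fst G G) h
    have h2 := congrArg (· ≫ snd G G) h
    simp only [Category.assoc, lift_fst, lift_snd, Category.comp_id] at h1 h2
    rw [h2, ← h1, ← Category.assoc, toUnit_unique (c.fst ≫ toUnit G) (toUnit _)]
  · intro c
    have h := c.condition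
    have h1 := congrArg (· ≫ fst G G) h
    simp only [Category.assoc, lift_fst, Category.comp_id] at h1
    rw [← h1, ← Category.assoc, toUnit_unique (c.fst ≫ toUnit G) (toUnit _)]
  · intro c m _ _
    exact toUnit_unique _ _

end General

end Groth.Agent.H28.GrpShear
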