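import Mathlib

set_option autoImplicit false
universe u
open CategoryTheory AlgebraicGeometry

namespace Groth.Agent.H28.GrpSmooth

variable {K : Type u} [Field K] {G : Scheme.{u}} (f : G ⟶ Spec (.of K))
    [LocallyOfFiniteType f] [GrpObj (Over.mk f)]

set_option backward.defeqAttrib.useBackward true in
set_option backward.isDefEq.respectTransparency false in
open MonObj MonoidalCategory CartesianMonoidalCategory in
/-- A group scheme locally of finite type over an algebraically closed field with nonempty smooth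
locus is smooth. (Adapted from Mathlib's `smooth_of_grpObj_of_isAlgClosed`.) -/
lemma smooth_of_nonempty_smoothLocus [IsAlgClosed K]
    (hne : (f.smoothLocus : Set G).Nonempty) : Smooth f := by
  have := LocallyOfFiniteType.jacobsonSpace f
  have : Nonempty G := ⟨η[Over.mk f].1 (IsLocalRing.closedPoint _)⟩
  rw [← Scheme.Hom.smoothLocus_eq_top_iff, ← TopologicalSpace.Opens.coe_eq_univ,
    ← not_ne_iff, ← Set.nonempty_compl]
  intro H
  obtain ⟨x, hx, hxc⟩ :=
    nonempty_inter_closedPoints H f.smoothLocus.2.isClosed_compl.isLocallyClosed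
  obtain ⟨y, hy : y ∈ f.smoothLocus, hyc⟩ := nonempty_inter_closedPoints
    hne f.smoothLocus.2.isLocallyClosed
  let x' : 𝟙_ _ ⟶ Over.mk f := Over.homMk _ ((pointEquivClosedPoint f).symm ⟨x, hxc⟩).2
  let y' : 𝟙_ _ ⟶ Over.mk f := Over.homMk _ ((pointEquivClosedPoint f).symm ⟨y, hyc⟩).2
  let α := (GrpObj.mulRight (A := Over.mk f) x').symm ≪≫
    (GrpObj.mulRight (A := Over.mk f) y')
  have hα : x' ≫ α.hom = y' := by
    dsimp only [Iso.trans_hom, Iso.symm_hom, α]
    rw [← Category.assoc, ← Iso.eq_comp_inv]
    simp [comp_lift_assoc]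
  have hα' : α.hom.left x = y := by
    simpa [x', y', pointEquivClosedPoint] using congr(($hα).left (IsLocalRing.closedPoint K))
  rw! [← hα', ← α.hom.left.mem_preimage, Scheme.Hom.preimage_smoothLocus_eq,
    show α.hom.left ≫ f = f from α.hom.w] at hy
  exact hx hy

/-- The smooth locus of a base change along a surjective morphism is nonempty if the smooth locus
is. -/
lemma nonempty_smoothLocus_pullback {X Y Y' : Scheme.{u}} (f : X ⟶ Y)
    [LocallyOfFinitePresentation f] (g : Y' ⟶ Y) [Surjective g]
    (hne : (f.smoothLocus : Set X).Nonempty) :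
    ((Limits.pullback.snd f g).smoothLocus : Set ↥(Limits.pullback f g)).Nonempty := by
  have hsm : Smooth (f.smoothLocus.ι ≫ f) := by
    rw [← Scheme.Hom.smoothLocus_eq_top_iff, ← Scheme.Hom.preimage_smoothLocus_eq]
    simp
  have hjs : Limits.pullback.map (f.smoothLocus.ι ≫ f) g f g f.smoothLocus.ι (𝟙 Y') (𝟙 Y)
      (Category.comp_id _) ((Category.comp_id _).trans (Category.id_comp _).symm) ≫ Limits.pullback.snd f g =
      Limits.pullback.snd (f.smoothLocus.ι ≫ f) g := by
    rw [Limits.pullback.map, Limits.pullback.lift_snd, Category.comp_id]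
  have hpre : (Limits.pullback.map (f.smoothLocus.ι ≫ f) g f g f.smoothLocus.ι (𝟙 Y') (𝟙 Y)
      (Category.comp_id _) ((Category.comp_id _).trans (Category.id_comp _).symm)) ⁻¹ᵁ (Limits.pullback.snd f g).smoothLocus = ⊤ := by
    rw [Scheme.Hom.preimage_smoothLocus_eq, Scheme.Hom.smoothLocus_eq_top_iff, hjs]
    infer_instance
  obtain ⟨x, hx⟩ := hne
  obtain ⟨z, -⟩ := (Limits.pullback.fst (f.smoothLocus.ι ≫ f) g).surjective ⟨x, hx⟩
  refine ⟨(Limits.pullback.map (f.smoothLocus.ι ≫ f) g f g f.smoothLocus.ι (𝟙 Y') (𝟙 Y)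
      (Category.comp_id _) ((Category.comp_id _).trans (Category.id_comp _).symm)).base z, ?_⟩
  have : z ∈ (Limits.pullback.map (f.smoothLocus.ι ≫ f) g f g f.smoothLocus.ι (𝟙 Y') (𝟙 Y)
      (Category.comp_id _) ((Category.comp_id _).trans (Category.id_comp _).symm)) ⁻¹ᵁ (Limits.pullback.snd f g).smoothLocus := by rw [hpre]; trivial
  exact this

/-- A group scheme locally of finite type over a field with nonempty smooth locus is smooth. -/
lemma smooth_of_nonempty_smoothLocus' (hne : (f.smoothLocus : Set G).Nonempty) : Smooth f := by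
  let Ω : Type u := AlgebraicClosure K
  let g : Spec (.of Ω) ⟶ Spec (.of K) := Spec.map (CommRingCat.ofHom <| algebraMap K Ω)
  apply MorphismProperty.of_pullback_snd_of_descendsAlong
    (Q := @Surjective ⊓ @Flat ⊓ @QuasiCompact) (g := g)
  · exact ⟨⟨inferInstance, inferInstance⟩, inferInstance⟩
  · let : GrpObj (Over.mk (Limits.pullback.snd f g)) := Over.grpObjMkPullbackSnd
    exact smooth_of_nonempty_smoothLocus _ (nonempty_smoothLocus_pullback f g hne)

open MonObj in
/-- A reduced group scheme locally of finite type over a perfect field is smooth. -/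
lemma smooth_of_isReduced_of_perfectField [PerfectField K] [IsReduced G] : Smooth f := by
  have : Nonempty G := ⟨η[Over.mk f].1 (IsLocalRing.closedPoint _)⟩
  exact smooth_of_nonempty_smoothLocus' f f.dense_smoothLocus_of_perfectField.nonempty

end Groth.Agent.H28.GrpSmooth
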