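import Mathlib
import Groth.Prelude.Def_Grpd
import Groth.Agent.H28.GrpdAlg

/-!
# The stabilizer of a groupoid scheme: conjugation identifies `s^* Stab` with `t^* Stab`
-/

set_option autoImplicit false
universe u
open CategoryTheory CategoryTheory.Limits AlgebraicGeometry

namespace Groth.Agent.H28.GrpdAlg

variable {S : Scheme.{u}} (G : Grpd.GroupoidScheme S) {T : Scheme.{u}}

lemma j_fst : G.j ≫ pullback.fst G.pU G.pU = G.t := pullback.lift_fst _ _ _
lemma j_snd : G.j ≫ pullback.snd G.pU G.pU = G.s := pullback.lift_snd _ _ _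
lemma diag_fst : G.diag ≫ pullback.fst G.pU G.pU = 𝟙 _ := pullback.lift_fst _ _ _
lemma diag_snd : G.diag ≫ pullback.snd G.pU G.pU = 𝟙 _ := pullback.lift_snd _ _ _

/-- the arrow underlying a point of the stabilizer -/
noncomputable def q : G.stabilizer ⟶ G.R := pullback.fst G.j G.diag

lemma q_j : q G ≫ G.j = G.stabilizerToU ≫ G.diag := pullback.condition

lemma q_s : q G ≫ G.s = G.stabilizerToU := by
  rw [← j_snd G, ← Category.assoc, q_j, Category.assoc, diag_snd, Category.comp_id]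

lemma q_t : q G ≫ G.t = G.stabilizerToU := by
  rw [← j_fst G, ← Category.assoc, q_j, Category.assoc, diag_fst, Category.comp_id]

/-- a point of the stabilizer from an arrow with equal source and target -/
noncomputable def mkStab (r : T ⟶ G.R) (h : r ≫ G.s = r ≫ G.t) : T ⟶ G.stabilizer :=
  pullback.lift r (r ≫ G.s) (by
    apply pullback.hom_ext
    · rw [Category.assoc, j_fst, Category.assoc, diag_fst, Category.comp_id]
      exact h.symm
    · rw [Category.assoc, j_snd, Category.assoc, diag_snd, Category.comp_id])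

lemma mkStab_q (r : T ⟶ G.R) (h : r ≫ G.s = r ≫ G.t) : mkStab G r h ≫ q G = r :=
  pullback.lift_fst _ _ _

lemma mkStab_p (r : T ⟶ G.R) (h : r ≫ G.s = r ≫ G.t) :
    mkStab G r h ≫ G.stabilizerToU = r ≫ G.s :=
  pullback.lift_snd _ _ _

variable {G}

lemma stab_ext {σ σ' : T ⟶ G.stabilizer} (h : σ ≫ q G = σ' ≫ q G) : σ = σ' := by
  refine pullback.hom_ext (f := G.j) (g := G.diag) h ?_
  have h2 := congrArg (· ≫ G.s) h
  simp only [Category.assoc] at h2
  rw [q_s] at h2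
  exact h2

section conj

variable {r gm : T ⟶ G.R}

lemma hi_s (r : T ⟶ G.R) : (r ≫ G.i) ≫ G.s = r ≫ G.t := by rw [Category.assoc, G.i_s]
lemma hi_t (r : T ⟶ G.R) : (r ≫ G.i) ≫ G.t = r ≫ G.s := by rw [Category.assoc, G.i_t]

lemma conj_s (hs : gm ≫ G.s = r ≫ G.s) (ht : gm ≫ G.t = r ≫ G.s) :
    cmp G (cmp G r gm) (r ≫ G.i) ≫ G.s = r ≫ G.t := by
  have hc2 : cmp G r gm ≫ G.s = (r ≫ G.i) ≫ G.t := (cmp_s ht.symm).trans (hs.trans (hi_t r).symm)
  rw [cmp_s hc2, hi_s]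

lemma conj_t (hs : gm ≫ G.s = r ≫ G.s) (ht : gm ≫ G.t = r ≫ G.s) :
    cmp G (cmp G r gm) (r ≫ G.i) ≫ G.t = r ≫ G.t := by
  have hc2 : cmp G r gm ≫ G.s = (r ≫ G.i) ≫ G.t := (cmp_s ht.symm).trans (hs.trans (hi_t r).symm)
  rw [cmp_t hc2, cmp_t ht.symm]

lemma conj'_s (hs : gm ≫ G.s = r ≫ G.t) (ht : gm ≫ G.t = r ≫ G.t) :
    cmp G (cmp G (r ≫ G.i) gm) r ≫ G.s = r ≫ G.s := by
  have hx : (r ≫ G.i) ≫ G.s = gm ≫ G.t := (hi_s r).trans ht.symm
  have hc2 : cmp G (r ≫ G.i) gm ≫ G.s = r ≫ G.t := (cmp_s hx).trans hs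
  rw [cmp_s hc2]

lemma conj'_t (hs : gm ≫ G.s = r ≫ G.t) (ht : gm ≫ G.t = r ≫ G.t) :
    cmp G (cmp G (r ≫ G.i) gm) r ≫ G.t = r ≫ G.s := by
  have hx : (r ≫ G.i) ≫ G.s = gm ≫ G.t := (hi_s r).trans ht.symm
  have hc2 : cmp G (r ≫ G.i) gm ≫ G.s = r ≫ G.t := (cmp_s hx).trans hs
  rw [cmp_t hc2, cmp_t hx, hi_t]

lemma conj_conj' (h1 : gm ≫ G.s = r ≫ G.t) (h2 : gm ≫ G.t = r ≫ G.t) :
    cmp G (cmp G r (cmp G (cmp G (r ≫ G.i) gm) r)) (r ≫ G.i) = gm := by
  have hx_comp : (r ≫ G.i) ≫ G.s = gm ≫ G.t := (hi_s r).trans h2.symm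
  have hx_s : cmp G (r ≫ G.i) gm ≫ G.s = r ≫ G.t := (cmp_s hx_comp).trans h1
  have hx_t : cmp G (r ≫ G.i) gm ≫ G.t = r ≫ G.s := (cmp_t hx_comp).trans (hi_t r)
  rw [← cmp_assoc hx_t.symm hx_s, ← cmp_assoc (hi_t r).symm hx_comp, cmp_i]
  have h3 : r ≫ G.t ≫ G.e = gm ≫ G.t ≫ G.e := by rw [← Category.assoc, ← h2, Category.assoc]
  rw [h3, e_cmp]
  exact cmp_cmp_i h1

lemma conj'_conj (h1 : gm ≫ G.s = r ≫ G.s) (h2 : gm ≫ G.t = r ≫ G.s) :
    cmp G (cmp G (r ≫ G.i) (cmp G (cmp G r gm) (r ≫ G.i))) r = gm := by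
  have hx_s : cmp G r gm ≫ G.s = r ≫ G.s := (cmp_s h2.symm).trans h1
  have hx_t : cmp G r gm ≫ G.t = r ≫ G.t := cmp_t h2.symm
  rw [← cmp_assoc ((hi_s r).trans hx_t.symm) (hx_s.trans (hi_t r).symm),
    ← cmp_assoc (hi_s r) h2.symm, i_cmp]
  have h3 : r ≫ G.s ≫ G.e = gm ≫ G.t ≫ G.e := by rw [← Category.assoc, ← h2, Category.assoc]
  rw [h3, e_cmp]
  exact cmp_i_cmp h1

end conj

variable (G)

lemma fst_q_s : (pullback.fst G.stabilizerToU G.s ≫ q G) ≫ G.s =
    pullback.snd G.stabilizerToU G.s ≫ G.s := by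
  rw [Category.assoc, q_s, pullback.condition]

lemma fst_q_t : (pullback.fst G.stabilizerToU G.s ≫ q G) ≫ G.t =
    pullback.snd G.stabilizerToU G.s ≫ G.s := by
  rw [Category.assoc, q_t, pullback.condition]

/-- conjugation `(g, r) ↦ r g r⁻¹` from `s^* Stab` to `Stab` -/
noncomputable def conjMap : pullback G.stabilizerToU G.s ⟶ G.stabilizer :=
  mkStab G (cmp G (cmp G (pullback.snd G.stabilizerToU G.s)
      (pullback.fst G.stabilizerToU G.s ≫ q G)) (pullback.snd G.stabilizerToU G.s ≫ G.i))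
    ((conj_s (fst_q_s G) (fst_q_t G)).trans (conj_t (fst_q_s G) (fst_q_t G)).symm)

lemma conjMap_q : conjMap G ≫ q G = cmp G (cmp G (pullback.snd G.stabilizerToU G.s)
      (pullback.fst G.stabilizerToU G.s ≫ q G)) (pullback.snd G.stabilizerToU G.s ≫ G.i) :=
  mkStab_q G _ _

lemma comp_conjMap_q (m : T ⟶ pullback G.stabilizerToU G.s) :
    m ≫ conjMap G ≫ q G = cmp G (cmp G (m ≫ pullback.snd G.stabilizerToU G.s)
      ((m ≫ pullback.fst G.stabilizerToU G.s) ≫ q G))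
      ((m ≫ pullback.snd G.stabilizerToU G.s) ≫ G.i) := by
  have hc1 : pullback.snd G.stabilizerToU G.s ≫ G.s =
      (pullback.fst G.stabilizerToU G.s ≫ q G) ≫ G.t := (fst_q_t G).symm
  have hc2 : cmp G (pullback.snd G.stabilizerToU G.s) (pullback.fst G.stabilizerToU G.s ≫ q G) ≫
      G.s = (pullback.snd G.stabilizerToU G.s ≫ G.i) ≫ G.t :=
    (cmp_s hc1).trans ((fst_q_s G).trans (hi_t _).symm)
  rw [conjMap_q, comp_cmp m hc2, comp_cmp m hc1]
  simp only [Category.assoc]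

/-- `s^* Stab → R` is also the base change of `Stab → U` along `t`, via conjugation -/
theorem isPullback_conj :
    IsPullback (conjMap G) (pullback.snd G.stabilizerToU G.s) G.stabilizerToU G.t := by
  have hw : conjMap G ≫ G.stabilizerToU = pullback.snd G.stabilizerToU G.s ≫ G.t := by
    rw [conjMap, mkStab_p]
    exact conj_s (fst_q_s G) (fst_q_t G)
  have hks : ∀ k : PullbackCone G.stabilizerToU G.t, (k.fst ≫ q G) ≫ G.s = k.snd ≫ G.t := by
    intro k
    rw [Category.assoc, q_s, k.condition]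
  have hkt : ∀ k : PullbackCone G.stabilizerToU G.t, (k.fst ≫ q G) ≫ G.t = k.snd ≫ G.t := by
    intro k
    rw [Category.assoc, q_t, k.condition]
  refine ⟨⟨hw⟩, ⟨PullbackCone.IsLimit.mk _
    (fun k => pullback.lift
      (mkStab G (cmp G (cmp G (k.snd ≫ G.i) (k.fst ≫ q G)) k.snd)
        ((conj'_s (hks k) (hkt k)).trans (conj'_t (hks k) (hkt k)).symm)) k.snd ?_) ?_ ?_ ?_⟩⟩
  · rw [mkStab_p]
    exact conj'_s (hks k) (hkt k)
  · intro k
    apply stab_ext
    rw [Category.assoc, comp_conjMap_q, pullback.lift_snd, pullback.lift_fst, mkStab_q]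
    exact conj_conj' (hks k) (hkt k)
  · intro k
    exact pullback.lift_snd _ _ _
  · intro k m h1 h2
    apply pullback.hom_ext
    · rw [pullback.lift_fst]
      apply stab_ext
      rw [mkStab_q]
      have h3 : k.fst ≫ q G = cmp G (cmp G k.snd ((m ≫ pullback.fst G.stabilizerToU G.s) ≫ q G))
          (k.snd ≫ G.i) := by
        rw [← h1, Category.assoc, comp_conjMap_q, h2]
      have hs0 : ((m ≫ pullback.fst G.stabilizerToU G.s) ≫ q G) ≫ G.s = k.snd ≫ G.s := by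
        rw [Category.assoc, Category.assoc, ← Category.assoc (pullback.fst _ _), fst_q_s,
          ← Category.assoc, h2]
      have ht0 : ((m ≫ pullback.fst G.stabilizerToU G.s) ≫ q G) ≫ G.t = k.snd ≫ G.s := by
        rw [Category.assoc, Category.assoc, ← Category.assoc (pullback.fst _ _), fst_q_t,
          ← Category.assoc, h2]
      rw [h3]
      exact (conj'_conj hs0 ht0).symm
    · rw [pullback.lift_snd, h2]

end Groth.Agent.H28.GrpdAlg
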