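import Mathlib

set_option autoImplicit false
universe v u v' u'
open CategoryTheory CategoryTheory.Limits CategoryTheory.Pretriangulated CategoryTheory.Triangulated
open ZeroObject

namespace Groth.Agent.H28.HeartAb

variable {C : Type u} [Category.{v} C] [Preadditive C] [HasZeroObject C] [HasShift C ℤ]
  [∀ n : ℤ, (shiftFunctor C n).Additive] [Pretriangulated C]
  (t : TStructure C) {H : Type u'} [Category.{v'} H] [Preadditive H] [hH : t.Heart H]

include hH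

/-- negative Ext vanishing between heart objects. -/
lemma hι ⦃X Y : H⦄ ⦃n : ℤ⦄ (f : t.ιHeart.obj X ⟶ (t.ιHeart.obj Y)⟦n⟧) (hn : n < 0) : f = 0 := by
  have : t.IsGE ((t.ιHeart.obj Y)⟦n⟧) (-n) := t.isGE_shift (t.ιHeart.obj Y) 0 n (-n)
  exact t.zero_of_isLE_of_isGE f 0 (-n) (by omega) inferInstance inferInstance

lemma exists_obj_of_heart (X : C) (hX : t.heart X) : ∃ Z : H, Nonempty (t.ιHeart.obj Z ≅ X) := by
  rw [← t.essImage_ιHeart H] at hX
  obtain ⟨Z, ⟨e⟩⟩ := hX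
  exact ⟨Z, ⟨e⟩⟩

lemma hasZeroObject : HasZeroObject H := by
  have h0 : t.heart (0 : C) := by
    rw [t.mem_heart_iff]; exact ⟨inferInstance, inferInstance⟩
  obtain ⟨Z, ⟨e⟩⟩ := exists_obj_of_heart t (H := H) 0 h0
  refine ⟨Z, ?_⟩
  rw [IsZero.iff_id_eq_zero]
  apply t.ιHeart.map_injective
  exact (IsZero.of_iso (isZero_zero C) e).eq_of_src _ _

lemma hasBinaryBiproduct (X Y : H) : HasBinaryBiproduct X Y := by
  have hXY : t.heart (t.ιHeart.obj X ⊞ t.ιHeart.obj Y) := by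
    rw [t.mem_heart_iff]
    have hT := binaryBiproductTriangle_distinguished (t.ιHeart.obj X) (t.ιHeart.obj Y)
    exact ⟨t.isLE₂ _ hT 0 (inferInstanceAs (t.IsLE (t.ιHeart.obj X) 0))
        (inferInstanceAs (t.IsLE (t.ιHeart.obj Y) 0)),
      t.isGE₂ _ hT 0 (inferInstanceAs (t.IsGE (t.ιHeart.obj X) 0))
        (inferInstanceAs (t.IsGE (t.ιHeart.obj Y) 0))⟩
  obtain ⟨Z, ⟨e⟩⟩ := exists_obj_of_heart t (H := H) _ hXY
  refine HasBinaryBiproduct.mk ⟨
    { pt := Z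
      fst := t.ιHeart.preimage (e.hom ≫ biprod.fst)
      snd := t.ιHeart.preimage (e.hom ≫ biprod.snd)
      inl := t.ιHeart.preimage (biprod.inl ≫ e.inv)
      inr := t.ιHeart.preimage (biprod.inr ≫ e.inv)
      inl_fst := t.ιHeart.map_injective (by simp)
      inl_snd := t.ιHeart.map_injective (by simp)
      inr_fst := t.ιHeart.map_injective (by simp)
      inr_snd := t.ιHeart.map_injective (by simp) }, ?_⟩
  apply isBinaryBilimitOfTotal
  apply t.ιHeart.map_injective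
  simp only [Functor.map_add, Functor.map_comp, Functor.map_preimage, Functor.map_id]
  rw [← cancel_epi e.inv, ← cancel_mono e.hom]
  simp only [Category.assoc, Preadditive.comp_add, Preadditive.add_comp, Iso.inv_hom_id,
    Iso.inv_hom_id_assoc, Category.comp_id, Category.id_comp]
  simp [biprod.total]

lemma hasFiniteProducts : HasFiniteProducts H := by
  have := hasZeroObject t (H := H)
  have : HasBinaryBiproducts H := ⟨fun X Y => hasBinaryBiproduct t X Y⟩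
  exact hasFiniteProducts_of_has_binary_and_terminal

end Groth.Agent.H28.HeartAb

namespace Groth.Agent.H28.HeartAb

variable {C : Type u} [Category.{v} C] [Preadditive C] [HasZeroObject C] [HasShift C ℤ]
  [∀ n : ℤ, (shiftFunctor C n).Additive] [Pretriangulated C] [IsTriangulated C]
  (t : TStructure C) {H : Type u'} [Category.{v'} H] [Preadditive H] [hH : t.Heart H]

include hH

set_option backward.defeqAttrib.useBackward true in
set_option backward.isDefEq.respectTransparency false in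
lemma admissible : AbelianSubcategory.admissibleMorphism (t.ιHeart (H := H)) = ⊤ := by
  ext X₁ X₂ f₁
  simp only [MorphismProperty.top_apply, iff_true]
  intro X₃ f₂ f₃ hT
  have hT' := rot_of_distTriang _ hT
  have hLE1 : t.IsLE ((t.ιHeart.obj X₁)⟦(1 : ℤ)⟧) 0 := by
    have : t.IsLE ((t.ιHeart.obj X₁)⟦(1 : ℤ)⟧) (-1) := t.isLE_shift (t.ιHeart.obj X₁) 0 1 (-1)
    exact t.isLE_of_le _ (-1) 0
  have hGE1 : t.IsGE ((t.ιHeart.obj X₁)⟦(1 : ℤ)⟧) (-1) := t.isGE_shift (t.ιHeart.obj X₁) 0 1 (-1)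
  have hGE2 : t.IsGE (t.ιHeart.obj X₂) (-1) := t.isGE_of_ge _ (-1) 0
  have hLE : t.IsLE X₃ 0 := t.isLE₂ _ hT' 0 (inferInstanceAs (t.IsLE (t.ιHeart.obj X₂) 0)) hLE1
  have hGE : t.IsGE X₃ (-1) := t.isGE₂ _ hT' (-1) hGE2 hGE1
  have hQ : t.heart ((t.truncGE 0).obj X₃) := by
    rw [t.mem_heart_iff]; exact ⟨inferInstance, inferInstance⟩
  have hK : t.heart (((t.truncLT 0).obj X₃)⟦(-1 : ℤ)⟧) := by
    rw [t.mem_heart_iff]
    have h1 : t.IsLE ((t.truncLT 0).obj X₃) (-1) := t.isLE_truncLT_obj X₃ 0 (-1)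
    have h2 : t.IsGE ((t.truncLT 0).obj X₃) (-1) := inferInstance
    exact ⟨t.isLE_shift _ (-1) (-1) 0, t.isGE_shift _ (-1) (-1) 0⟩
  obtain ⟨Q, ⟨e₃⟩⟩ := exists_obj_of_heart t (H := H) _ hQ
  obtain ⟨K, ⟨eK⟩⟩ := exists_obj_of_heart t (H := H) _ hK
  let e₁ : (t.ιHeart.obj K)⟦(1 : ℤ)⟧ ≅ (t.truncLT 0).obj X₃ :=
    (shiftFunctor C (1 : ℤ)).mapIso eK ≪≫ (shiftEquiv C (1 : ℤ)).counitIso.app _
  refine ⟨K, Q, e₁.hom ≫ (t.truncLTι 0).app X₃, (t.truncGEπ 0).app X₃ ≫ e₃.inv,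
    e₃.hom ≫ (t.truncGEδLT 0).app X₃ ≫ e₁.inv⟦(1 : ℤ)⟧', ?_⟩
  refine isomorphic_distinguished _ (t.triangleLTGE_distinguished 0 X₃) _ ?_
  exact Triangle.isoMk _ _ e₁ (Iso.refl _) e₃ (by simp) (by simp) (by simp)

end Groth.Agent.H28.HeartAb
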