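import Mathlib
import Groth.Agent.H28.FpAlg

/-!
# Compositions of quasi-compact / universally injective morphisms of algebraic stacks
-/

set_option autoImplicit false
set_option linter.style.haveILetI false
set_option backward.isDefEq.respectTransparency false
set_option backward.isDefEq.respectTransparency.types false

namespace Groth.Agent.H28.RepComp

open CategoryTheory CategoryTheory.Limits FibCat AlgebraicGeometry Opposite Stk MorphismProperty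
open Groth.Agent.Helper22 Groth.Agent.Helper22.EquivComp Groth.Agent.Helper22.FpSq
open Groth.Agent.Helper22.FpEquiv Groth.Agent.H28.LiftFp
open Groth.Agent.H28.FpBase Groth.Agent.H28.PshDict Groth.Agent.H28.IsoCl
open Groth.Agent.H25.AS

universe u

variable {S : Scheme.{u}}

theorem isQuasiCompact_of_equiv {𝒜 ℬ : AlgSt.Cat S} (E : 𝒜 ⥤ᵇ ℬ) (hE : FibCat.IsEquivOver E)
    (h : AlgSt.IsQuasiCompact 𝒜) : AlgSt.IsQuasiCompact ℬ := by
  obtain ⟨U, x, hU, h1, h2⟩ := h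
  exact ⟨U, BasedFunctor.comp x E, hU,
    repByAlgSpWith_of_sq _ (BasedFunctor.comp x E) x (BasedFunctor.id _) E isEquivOver_id hE
      (Iso.refl _) h1,
    repByAlgSpWith_of_sq _ (BasedFunctor.comp x E) x (BasedFunctor.id _) E isEquivOver_id hE
      (Iso.refl _) h2⟩

theorem points_map_congr {𝒜 ℬ : AlgSt.Cat S} {F G : 𝒜 ⥤ᵇ ℬ} (e : F ≅ G) :
    AlgSt.Points.map F = AlgSt.Points.map G := by
  funext p
  obtain ⟨p, rfl⟩ := AlgSt.Points.mk_surjective p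
  exact AlgSt.Points.sound ⟨p.map F, 𝟙 _, e.hom.toNatTrans.app p.obj, trivial⟩

theorem points_map_id {𝒜 : AlgSt.Cat S} (p : AlgSt.Points 𝒜) :
    AlgSt.Points.map (BasedFunctor.id 𝒜) p = p := by
  obtain ⟨p, rfl⟩ := AlgSt.Points.mk_surjective p
  rfl

theorem points_map_injective_of_isEquivOver {𝒜 ℬ : AlgSt.Cat S} (F : 𝒜 ⥤ᵇ ℬ)
    (hF : FibCat.IsEquivOver F) : Function.Injective (AlgSt.Points.map F) := by
  obtain ⟨G, ⟨β₁⟩, ⟨β₂⟩⟩ := id hF
  have h : ∀ p, AlgSt.Points.map G (AlgSt.Points.map F p) = p := fun p => by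
    rw [← points_map_comp, points_map_congr β₁, points_map_id]
  exact Function.LeftInverse.injective h

variable {𝒳 𝒴 𝒵 : AlgSt.Cat S}

theorem isQuasiCompactMor_comp (K : Precoverage Scheme.{u}) (h𝒴 : AlgSt.IsAlgStack K 𝒴)
    (h𝒵 : Stk.IsStack (QuotSh.J K S) 𝒵)
    (hΔ : AlgSt.RepByAlgSp1 (FibCat.diag (FibCat.toSelf 𝒵)))
    (f : 𝒳 ⥤ᵇ 𝒴) (g : 𝒴 ⥤ᵇ 𝒵) (hf : AlgSt.IsQuasiCompactMor K f)
    (hg : AlgSt.IsQuasiCompactMor K g) : AlgSt.IsQuasiCompactMor K (BasedFunctor.comp f g) := by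
  intro 𝒲 h𝒲 hqc h
  have h𝒫 : AlgSt.IsAlgStack K (FibCat.fp h g) := isAlgStack_fp K h𝒵 hΔ h𝒲 h𝒴 h g
  have hq𝒫 : AlgSt.IsQuasiCompact (FibCat.fp h g) := hg 𝒲 h𝒲 hqc h
  have h1 : AlgSt.IsQuasiCompact (FibCat.fp (FibCat.fpSnd h g) f) :=
    hf (FibCat.fp h g) h𝒫 hq𝒫 (FibCat.fpSnd h g)
  obtain ⟨Q, ⟨σ₁⟩, ⟨σ₂⟩⟩ := id (isEquivOver_paste h g f)
  exact isQuasiCompact_of_equiv Q ⟨_, ⟨σ₂⟩, ⟨σ₁⟩⟩ h1

theorem isUnivInjective_comp (K : Precoverage Scheme.{u}) (h𝒴 : AlgSt.IsAlgStack K 𝒴)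
    (h𝒵 : Stk.IsStack (QuotSh.J K S) 𝒵)
    (hΔ : AlgSt.RepByAlgSp1 (FibCat.diag (FibCat.toSelf 𝒵)))
    (f : 𝒳 ⥤ᵇ 𝒴) (g : 𝒴 ⥤ᵇ 𝒵) (hf : AlgSt.IsUnivInjective K f)
    (hg : AlgSt.IsUnivInjective K g) : AlgSt.IsUnivInjective K (BasedFunctor.comp f g) := by
  intro 𝒲 h𝒲 h
  have h𝒫 : AlgSt.IsAlgStack K (FibCat.fp h g) := isAlgStack_fp K h𝒵 hΔ h𝒲 h𝒴 h g
  have h1 : Function.Injective (AlgSt.Points.map (FibCat.fpFst (FibCat.fpSnd h g) f)) :=
    hf (FibCat.fp h g) h𝒫 (FibCat.fpSnd h g)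
  have h2 : Function.Injective (AlgSt.Points.map (FibCat.fpFst h g)) := hg 𝒲 h𝒲 h
  have h3 : Function.Injective (AlgSt.Points.map (paste h g f)) :=
    points_map_injective_of_isEquivOver _ (isEquivOver_paste h g f)
  have heq : BasedFunctor.comp (paste h g f)
      (BasedFunctor.comp (FibCat.fpFst (FibCat.fpSnd h g) f) (FibCat.fpFst h g)) =
      FibCat.fpFst h (BasedFunctor.comp f g) := rfl
  have hfun : AlgSt.Points.map (FibCat.fpFst h (BasedFunctor.comp f g)) =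
      AlgSt.Points.map (FibCat.fpFst h g) ∘
        AlgSt.Points.map (FibCat.fpFst (FibCat.fpSnd h g) f) ∘ AlgSt.Points.map (paste h g f) := by
    funext p
    rw [← heq, points_map_comp, points_map_comp]
    rfl
  rw [hfun]
  exact h2.comp (h1.comp h3)

end Groth.Agent.H28.RepComp
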