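import Mathlib
import Groth.Agent.H28.QcComp
import Groth.Agent.H28.Charts
import Groth.Agent.H28.MonoFF
import Groth.Agent.H28.FpDiag
import Groth.Agent.S12817
import Groth.Agent.S6401
import Groth.Agent.H13.FibGrpd
import Groth.Agent.H13.TwoYoneda

/-!
# Points of 2-fibre products of categories fibred in groupoids
-/

set_option autoImplicit false
set_option linter.style.haveILetI false
set_option backward.isDefEq.respectTransparency false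
set_option backward.isDefEq.respectTransparency.types false

namespace Groth.Agent.H28.RepComp

open CategoryTheory CategoryTheory.Limits FibCat AlgebraicGeometry Opposite Stk MorphismProperty
open Groth.Agent.Helper22 Groth.Agent.Helper22.EquivComp Groth.Agent.Helper22.FpSq
open Groth.Agent.Helper22.FpEquiv Groth.Agent.H28.LiftFp
open Groth.Agent.H28.FpBase Groth.Agent.H28.PshDict Groth.Agent.H28.IsoCl
open Groth.Agent.H25.AS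

universe u

variable {S : Scheme.{u}}

theorem rel_of_mk_eq {𝒜 : AlgSt.Cat S} (h𝒜 : FibCat.IsFibGrpd 𝒜.p) {p q : AlgSt.FPt 𝒜}
    (h : AlgSt.Points.mk p = AlgSt.Points.mk q) : AlgSt.FPt.Rel p q :=
  ((Groth.Agent.S12817.result 𝒜 h𝒜).eqvGen_iff).1 (Quot.eqvGen_exact h)

variable {𝒳 𝒴 𝒵 : AlgSt.Cat S}

theorem rel_lift (h𝒳 : FibCat.IsFibGrpd 𝒳.p) (h𝒴 : FibCat.IsFibGrpd 𝒴.p)
    (h𝒵 : FibCat.IsFibGrpd 𝒵.p) (f : 𝒳 ⥤ᵇ 𝒴) (g : 𝒵 ⥤ᵇ 𝒴) (pz : AlgSt.FPt 𝒵) (px : AlgSt.FPt 𝒳)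
    (hrel : AlgSt.FPt.Rel (pz.map g) (px.map f)) :
    ∃ (K : Type u) (_ : Field K) (str : Spec (CommRingCat.of K) ⟶ S) (a : 𝒵.obj) (b : 𝒳.obj)
      (_ : 𝒵.p.obj a = Over.mk str) (_ : 𝒳.p.obj b = Over.mk str) (_ : a ⟶ pz.obj)
      (_ : b ⟶ px.obj) (ι : g.obj a ≅ f.obj b), 𝒴.p.IsHomLift (𝟙 (Over.mk str)) ι.hom := by
  obtain ⟨r, α, β, -⟩ := hrel
  let T : Over S := Over.mk r.str
  let u : T ⟶ Over.mk pz.str := eqToHom r.lies.symm ≫ 𝒴.p.map α ≫ eqToHom (pz.map g).lies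
  let v : T ⟶ Over.mk px.str := eqToHom r.lies.symm ≫ 𝒴.p.map β ≫ eqToHom (px.map f).lies
  haveI hα : 𝒴.p.IsHomLift u α := IsHomLift.of_fac 𝒴.p u α r.lies (pz.map g).lies rfl
  haveI hβ : 𝒴.p.IsHomLift v β := IsHomLift.of_fac 𝒴.p v β r.lies (px.map f).lies rfl
  obtain ⟨a, φa, hφa⟩ := Groth.Agent.H13.FibGrpd.exists_lift' h𝒵 pz.lies u
  obtain ⟨b, φb, hφb⟩ := Groth.Agent.H13.FibGrpd.exists_lift' h𝒳 px.lies v
  haveI := hφa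
  haveI := hφb
  haveI h1 : 𝒴.p.IsHomLift u (g.map φa) := inferInstance
  haveI h2 : 𝒴.p.IsHomLift v (f.map φb) := inferInstance
  haveI := Groth.Agent.H13.FibGrpd.isStronglyCartesian' h𝒴 u (g.map φa)
  haveI := Groth.Agent.H13.FibGrpd.isStronglyCartesian' h𝒴 v (f.map φb)
  let χ₁ : r.obj ⟶ g.obj a :=
    Functor.IsStronglyCartesian.map 𝒴.p u (g.map φa) (Category.id_comp u).symm α
  let χ₂ : r.obj ⟶ f.obj b :=
    Functor.IsStronglyCartesian.map 𝒴.p v (f.map φb) (Category.id_comp v).symm β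
  haveI hχ₁ : 𝒴.p.IsHomLift (𝟙 T) χ₁ := inferInstance
  haveI hχ₂ : 𝒴.p.IsHomLift (𝟙 T) χ₂ := inferInstance
  haveI i1 : IsIso χ₁ := Groth.Agent.H13.FibGrpd.isIso_of_lift_id h𝒴 (S := T) χ₁
  haveI i2 : IsIso χ₂ := Groth.Agent.H13.FibGrpd.isIso_of_lift_id h𝒴 (S := T) χ₂
  refine ⟨r.K, inferInstance, r.str, a, b, IsHomLift.domain_eq 𝒵.p u φa,
    IsHomLift.domain_eq 𝒳.p v φb, φa, φb, (asIso χ₁).symm ≪≫ asIso χ₂, ?_⟩
  show 𝒴.p.IsHomLift (𝟙 T) (inv χ₁ ≫ χ₂)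
  infer_instance

/-- `|𝒵 ×_𝒴 𝒳| → |𝒵| ×_{|𝒴|} |𝒳|` is surjective. -/
theorem exists_point_fp (h𝒳 : FibCat.IsFibGrpd 𝒳.p) (h𝒴 : FibCat.IsFibGrpd 𝒴.p)
    (h𝒵 : FibCat.IsFibGrpd 𝒵.p) (f : 𝒳 ⥤ᵇ 𝒴) (g : 𝒵 ⥤ᵇ 𝒴)
    (z : AlgSt.Points 𝒵) (x : AlgSt.Points 𝒳)
    (h : AlgSt.Points.map g z = AlgSt.Points.map f x) :
    ∃ w : AlgSt.Points (FibCat.fp g f),
      AlgSt.Points.map (FibCat.fpFst g f) w = z ∧ AlgSt.Points.map (FibCat.fpSnd g f) w = x := by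
  obtain ⟨pz, rfl⟩ := AlgSt.Points.mk_surjective z
  obtain ⟨px, rfl⟩ := AlgSt.Points.mk_surjective x
  have h' : AlgSt.Points.mk (pz.map g) = AlgSt.Points.mk (px.map f) := h
  obtain ⟨K, hK, str, a, b, ha, hb, φa, φb, ι, hι⟩ :=
    rel_lift h𝒳 h𝒴 h𝒵 f g pz px (rel_of_mk_eq h𝒴 h')
  have hι' : 𝒴.p.IsHomLift (𝟙 (𝒵.p.obj a)) ι.hom := by rw [ha]; exact hι
  let w : (FibCat.fp g f).obj := ⟨⟨a, b, ι⟩, hι'⟩
  refine ⟨AlgSt.Points.mk ⟨K, str, w, ha⟩, ?_, ?_⟩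
  · exact AlgSt.Points.sound ⟨_, 𝟙 _, φa, trivial⟩
  · exact AlgSt.Points.sound ⟨_, 𝟙 _, φb, trivial⟩

theorem isSurjective_fpFst (h𝒳 : FibCat.IsFibGrpd 𝒳.p) (h𝒴 : FibCat.IsFibGrpd 𝒴.p)
    (h𝒵 : FibCat.IsFibGrpd 𝒵.p) (f : 𝒳 ⥤ᵇ 𝒴) (g : 𝒵 ⥤ᵇ 𝒴) (hf : AlgSt.IsSurjective f) :
    AlgSt.IsSurjective (FibCat.fpFst g f) := by
  intro z
  obtain ⟨x, hx⟩ := hf (AlgSt.Points.map g z)
  obtain ⟨w, hw, -⟩ := exists_point_fp h𝒳 h𝒴 h𝒵 f g z x hx.symm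
  exact ⟨w, hw⟩

theorem injective_of_isMono (h𝒳 : FibCat.IsFibGrpd 𝒳.p) (h𝒴 : FibCat.IsFibGrpd 𝒴.p)
    (f : 𝒳 ⥤ᵇ 𝒴) (hf : AlgSt.IsMono f) : Function.Injective (AlgSt.Points.map f) := by
  intro x x' h
  obtain ⟨px, rfl⟩ := AlgSt.Points.mk_surjective x
  obtain ⟨px', rfl⟩ := AlgSt.Points.mk_surjective x'
  have h' : AlgSt.Points.mk (px.map f) = AlgSt.Points.mk (px'.map f) := h
  obtain ⟨K, hK, str, a, b, ha, hb, φa, φb, ι, hι⟩ :=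
    rel_lift h𝒳 h𝒴 h𝒳 f f px px' (rel_of_mk_eq h𝒴 h')
  haveI := Groth.Agent.H28.MonoFF.full_of_isMono f h𝒳 h𝒴 hf
  exact AlgSt.Points.sound ⟨⟨K, str, a, ha⟩, φa, f.toFunctor.preimage ι.hom ≫ φb, trivial⟩

theorem injective_of_isUnivInjective_fpFst (K : Precoverage Scheme.{u}) {𝒲 : AlgSt.Cat S}
    (h𝒲 : AlgSt.IsAlgStack K 𝒲) (z : 𝒲 ⥤ᵇ 𝒴) (f : 𝒳 ⥤ᵇ 𝒴)
    (h : AlgSt.IsUnivInjective K (FibCat.fpFst z f)) :
    Function.Injective (AlgSt.Points.map (FibCat.fpFst z f)) := by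
  have h1 : Function.Injective
      (AlgSt.Points.map (FibCat.fpFst (BasedFunctor.id 𝒲) (FibCat.fpFst z f))) :=
    h 𝒲 h𝒲 (BasedFunctor.id 𝒲)
  have h2 : Function.Injective (AlgSt.Points.map (fpBase (BasedFunctor.id 𝒲) z f)) :=
    points_map_injective_of_isEquivOver _ (isEquivOver_fpBase (BasedFunctor.id 𝒲) z f)
  intro p q hpq
  have e1 : ∀ p, AlgSt.Points.map (FibCat.fpFst z f) p =
      AlgSt.Points.map (FibCat.fpFst (BasedFunctor.id 𝒲) (FibCat.fpFst z f))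
        (AlgSt.Points.map (fpBase (BasedFunctor.id 𝒲) z f) p) := fun p =>
    points_map_comp (fpBase (BasedFunctor.id 𝒲) z f)
      (FibCat.fpFst (BasedFunctor.id 𝒲) (FibCat.fpFst z f)) p
  rw [e1 p, e1 q] at hpq
  exact h2 (h1 hpq)

/-- universal injectivity can be tested on field-valued (in particular affine) test objects -/
theorem isUnivInjective_of_affine (h𝒳 : AlgSt.IsAlgStack Scheme.fppfPrecoverage 𝒳)
    (h𝒴 : AlgSt.IsAlgStack Scheme.fppfPrecoverage 𝒴) (f : 𝒳 ⥤ᵇ 𝒴)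
    (h : ∀ (Z : Over S) [IsAffine Z.left] (z : FibCat.overCat Z ⥤ᵇ 𝒴),
      AlgSt.IsUnivInjective Scheme.fppfPrecoverage (FibCat.fpFst z f)) :
    AlgSt.IsUnivInjective Scheme.fppfPrecoverage f := by
  intro 𝒵 h𝒵 g w₁ w₂ hw
  have h𝒫 : AlgSt.IsAlgStack Scheme.fppfPrecoverage (FibCat.fp g f) :=
    isAlgStack_fp _ h𝒴.isStack h𝒴.diag h𝒵 h𝒳 g f
  obtain ⟨pq, hq⟩ := AlgSt.Points.mk_surjective (AlgSt.Points.map (FibCat.fpFst g f) w₁)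
  let Z : Over S := Over.mk pq.str
  haveI : IsAffine Z.left := (inferInstance : IsAffine (Spec (CommRingCat.of pq.K)))
  haveI : 𝒵.p.IsFibered := Groth.Agent.H13.FibGrpd.isFibered h𝒵.isStack.1
  let t₀ : (FibCat.overCat Z).obj := Over.mk (𝟙 Z)
  have ht : Limits.IsTerminal t₀ := Over.mkIdTerminal
  let ĉ : FibCat.overCat Z ⥤ᵇ 𝒵 := Groth.Agent.H13.TwoYoneda.pbFunctor ht pq.obj pq.lies
  let π₀ : ĉ.obj t₀ ⟶ pq.obj := Groth.Agent.H13.TwoYoneda.pbπ ht pq.obj pq.lies t₀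
  let pt : AlgSt.FPt (FibCat.overCat Z) := ⟨pq.K, pq.str, t₀, rfl⟩
  have hpt : AlgSt.Points.map ĉ (AlgSt.Points.mk pt) =
      AlgSt.Points.map (FibCat.fpFst g f) w₁ := by
    rw [← hq]
    exact AlgSt.Points.sound ⟨pt.map ĉ, 𝟙 _, π₀, trivial⟩
  have hOv : FibCat.IsFibGrpd (FibCat.overCat Z).p := (isAlgStack_overCat Z).isStack.1
  obtain ⟨v₁, hv₁, hv₁'⟩ := exists_point_fp h𝒫.isStack.1 h𝒵.isStack.1 hOv (FibCat.fpFst g f) ĉ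
    (AlgSt.Points.mk pt) w₁ hpt
  obtain ⟨v₂, hv₂, hv₂'⟩ := exists_point_fp h𝒫.isStack.1 h𝒵.isStack.1 hOv (FibCat.fpFst g f) ĉ
    (AlgSt.Points.mk pt) w₂ (hpt.trans hw)
  have hρ : Function.Injective
      (AlgSt.Points.map (FibCat.fpFst (BasedFunctor.comp ĉ g) f)) :=
    injective_of_isUnivInjective_fpFst _ (isAlgStack_overCat Z) (BasedFunctor.comp ĉ g) f
      (h Z (BasedFunctor.comp ĉ g))
  obtain ⟨v₁', rfl⟩ := points_map_surjective_of_isEquivOver _ (isEquivOver_fpBase ĉ g f) v₁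
  obtain ⟨v₂', rfl⟩ := points_map_surjective_of_isEquivOver _ (isEquivOver_fpBase ĉ g f) v₂
  have e1 : ∀ p, AlgSt.Points.map (FibCat.fpFst (BasedFunctor.comp ĉ g) f) p =
      AlgSt.Points.map (FibCat.fpFst ĉ (FibCat.fpFst g f))
        (AlgSt.Points.map (fpBase ĉ g f) p) := fun p =>
    points_map_comp (fpBase ĉ g f) (FibCat.fpFst ĉ (FibCat.fpFst g f)) p
  have h12 : v₁' = v₂' := hρ (by rw [e1, e1, hv₁, hv₂])
  rw [← hv₁', ← hv₂', h12]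

theorem isSurjective_diag_of_isUnivInjective (K : Precoverage Scheme.{u})
    (h𝒳 : AlgSt.IsAlgStack K 𝒳) (f : 𝒳 ⥤ᵇ 𝒴) (hf : AlgSt.IsUnivInjective K f) :
    AlgSt.IsSurjective (FibCat.diag f) := by
  intro w
  have hinj : Function.Injective (AlgSt.Points.map (FibCat.fpFst f f)) := hf 𝒳 h𝒳 f
  refine ⟨AlgSt.Points.map (FibCat.fpFst f f) w, hinj ?_⟩
  rw [← points_map_comp]
  exact points_map_id _

theorem isUnivInjective_of_isSurjective_diag (K : Precoverage Scheme.{u})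
    (h𝒳 : FibCat.IsFibGrpd 𝒳.p) (h𝒴 : FibCat.IsFibGrpd 𝒴.p) (f : 𝒳 ⥤ᵇ 𝒴)
    (hΔ : AlgSt.IsSurjective (FibCat.diag f)) : AlgSt.IsUnivInjective K f := by
  intro 𝒵 h𝒵 g w₁ w₂ hw
  have hz : FibCat.IsFibGrpd 𝒵.p := h𝒵.isStack.1
  have h𝒫 : FibCat.IsFibGrpd (FibCat.fp g f).p := Groth.Agent.S6401.result g f hz h𝒳 h𝒴
  have h𝒫2 : FibCat.IsFibGrpd (FibCat.fp (FibCat.fpFst g f) (FibCat.fpFst g f)).p :=
    Groth.Agent.S6401.result _ _ h𝒫 h𝒫 hz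
  have h𝒳2 : FibCat.IsFibGrpd (FibCat.fp f f).p := Groth.Agent.S6401.result f f h𝒳 h𝒳 h𝒴
  -- the diagonal of the base change is surjective
  have hs1 : AlgSt.IsSurjective (FibCat.fpFst (Q2 f g) (FibCat.diag f)) :=
    isSurjective_fpFst h𝒳 h𝒳2 h𝒫2 (FibCat.diag f) (Q2 f g) hΔ
  have hs2 : AlgSt.IsSurjective (FibCat.diag (FibCat.fpFst g f)) := by
    intro v
    obtain ⟨v', rfl⟩ := hs1 v
    obtain ⟨v'', rfl⟩ := points_map_surjective_of_isEquivOver _ (isEquivOver_Ediag f g) v'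
    exact ⟨v'', points_map_comp (Ediag f g) (FibCat.fpFst (Q2 f g) (FibCat.diag f)) v''⟩
  obtain ⟨v, hv₁, hv₂⟩ := exists_point_fp h𝒫 hz h𝒫 (FibCat.fpFst g f) (FibCat.fpFst g f) w₁ w₂ hw
  obtain ⟨x, rfl⟩ := hs2 v
  rw [← hv₁, ← hv₂, ← points_map_comp, ← points_map_comp]
  rfl

end Groth.Agent.H28.RepComp
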