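import Mathlib
import Groth.Agent.H28.PtsFp

/-!
# Surjectivity on points of morphisms representable by algebraic spaces
-/

set_option autoImplicit false
set_option linter.style.haveILetI false
set_option backward.isDefEq.respectTransparency false
set_option backward.isDefEq.respectTransparency.types false

namespace Groth.Agent.H28.RepComp

open CategoryTheory CategoryTheory.Limits FibCat AlgebraicGeometry Opposite Stk MorphismProperty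
open Groth.Agent.Helper22 Groth.Agent.Helper22.EquivComp Groth.Agent.Helper22.FpSq
open Groth.Agent.Helper22.FpEquiv Groth.Agent.H28.LiftFp
open Groth.Agent.H28.FpBase Groth.Agent.H28.PshDict Groth.Agent.H28.IsoCl
open Groth.Agent.H25.AS

universe u

variable {S : Scheme.{u}} {𝒳 𝒴 : AlgSt.Cat S}

theorem isSurjective_of_repByAlgSpWith_surj (h𝒴 : FibCat.IsFibGrpd 𝒴.p) (f : 𝒳 ⥤ᵇ 𝒴)
    (hs : AlgSt.RepByAlgSpWith AlgSp.IsSurjectiveMor f) : AlgSt.IsSurjective f := by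
  intro q
  obtain ⟨pq, rfl⟩ := AlgSt.Points.mk_surjective q
  let Z : Over S := Over.mk pq.str
  haveI : 𝒴.p.IsFibered := Groth.Agent.H13.FibGrpd.isFibered h𝒴
  let t₀ : (FibCat.overCat Z).obj := Over.mk (𝟙 Z)
  have ht : Limits.IsTerminal t₀ := Over.mkIdTerminal
  let ĉ : FibCat.overCat Z ⥤ᵇ 𝒴 := Groth.Agent.H13.TwoYoneda.pbFunctor ht pq.obj pq.lies
  let π₀ : ĉ.obj t₀ ⟶ pq.obj := Groth.Agent.H13.TwoYoneda.pbπ ht pq.obj pq.lies t₀
  obtain ⟨F, e, he, hsurj⟩ := hs Z ĉ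
  let p₀ : AlgSp.FieldPt ((AlgSp.yon S).obj Z) := ⟨pq.K, pq.str, ⟨𝟙 _⟩⟩
  obtain ⟨P, -⟩ := hsurj (AlgSp.Points.mk p₀)
  obtain ⟨pF, rfl⟩ := AlgSp.Points.mk_surjective P
  let o : (AlgSt.ofSp F.obj).obj := ⟨Over.mk pF.str, pF.val⟩
  let ξ : (FibCat.fp ĉ f).obj := e.obj o
  have hξ : (FibCat.fp ĉ f).p.obj ξ = Over.mk pF.str := e.w_obj o
  have ha : 𝒳.p.obj ξ.obj.snd = Over.mk pF.str :=
    (Groth.Agent.H13.fp_obj_snd_proj ĉ f ξ).trans hξ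
  refine ⟨AlgSt.Points.mk ⟨pF.K, pF.str, ξ.obj.snd, ha⟩, ?_⟩
  exact AlgSt.Points.sound ⟨_, 𝟙 _, ξ.obj.iso.inv ≫ ĉ.map (ht.from ξ.obj.fst) ≫ π₀, trivial⟩

theorem repByAlgSpWith_surj_of_isSurjective (h𝒳 : FibCat.IsFibGrpd 𝒳.p)
    (h𝒴 : FibCat.IsFibGrpd 𝒴.p) (f : 𝒳 ⥤ᵇ 𝒴)
    (hf : AlgSt.RepByAlgSp1 f) (hs : AlgSt.IsSurjective f) :
    AlgSt.RepByAlgSpWith AlgSp.IsSurjectiveMor f := by
  intro U y
  obtain ⟨F, e, he⟩ := hf U y
  refine ⟨F, e, he, ?_⟩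
  intro Q
  obtain ⟨pu, rfl⟩ := AlgSp.Points.mk_surjective Q
  let u : Over.mk pu.str ⟶ U := pu.val.down
  let pU : AlgSt.FPt (FibCat.overCat U) := ⟨pu.K, pu.str, Over.mk u, rfl⟩
  obtain ⟨x, hx⟩ := hs (AlgSt.Points.map y (AlgSt.Points.mk pU))
  have hOv : FibCat.IsFibGrpd (FibCat.overCat U).p := OverFib.isFibGrpd_over U
  obtain ⟨w, hw, -⟩ := exists_point_fp h𝒳 h𝒴 hOv f y (AlgSt.Points.mk pU) x hx.symm
  obtain ⟨pw, rfl⟩ := AlgSt.Points.mk_surjective w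
  have hw' : AlgSt.Points.mk (pw.map (FibCat.fpFst y f)) = AlgSt.Points.mk pU := hw
  obtain ⟨r, m₁, m₂, -⟩ := rel_of_mk_eq hOv hw'
  obtain ⟨o, ι, hι⟩ := Groth.Agent.Helper12.exists_iso_lift_of_isEquivOver e he pw.obj
  haveI := hι
  have ho : o.base = Over.mk pw.str :=
    (e.w_obj o).symm.trans ((IsHomLift.domain_eq (FibCat.fp y f).p
      (𝟙 ((FibCat.fp y f).p.obj pw.obj)) ι.hom).trans pw.lies)
  obtain ⟨T, σ⟩ := o
  have ho' : T = Over.mk pw.str := ho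
  subst ho'
  let pF : AlgSp.FieldPt F.obj := ⟨pw.K, pw.str, σ⟩
  refine ⟨AlgSp.Points.mk pF, AlgSp.Points.sound ?_⟩
  let Φ : AlgSt.ofSp F.obj ⥤ᵇ FibCat.overCat U := BasedFunctor.comp e (FibCat.fpFst y f)
  let o' : (AlgSt.ofSp F.obj).obj := ⟨Over.mk pw.str, σ⟩
  let t : Over U := pw.obj.obj.fst
  have hm : (FibCat.overCat U).p.IsHomLift (𝟙 t.left) ι.hom.hom.fst :=
    (Groth.Agent.H13.fp_isHomLift_iff y f ι.hom _).1 hι
  have hsec : AlgSt.secHom Φ o' = eqToHom pw.lies.symm ≫ t.hom :=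
    Groth.Agent.H28.MonoFF.secHom_of_lift Φ o' t ι.hom.hom.fst hm pw.lies.symm
  let a : Over.mk r.str ⟶ Over.mk pw.str := eqToHom r.lies.symm ≫ m₁.left ≫ eqToHom pw.lies
  let b : Over.mk r.str ⟶ Over.mk pu.str := eqToHom r.lies.symm ≫ m₂.left
  refine ⟨r.K, inferInstance, r.str, a, b, ?_⟩
  apply ULift.ext
  show a ≫ AlgSt.secHom Φ o' = b ≫ u
  rw [hsec]
  have h1 : m₁.left ≫ t.hom = r.obj.hom := Over.w m₁
  have h2 : m₂.left ≫ u = r.obj.hom := Over.w m₂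
  simp only [a, b, Category.assoc, eqToHom_trans_assoc, eqToHom_refl, Category.id_comp, h1, h2]

end Groth.Agent.H28.RepComp
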