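import Mathlib
import Groth.Agent.H28.Charts2

/-!
# Quasi-compact stacks: affine charts, quasi-compact scheme charts, quasi-compact space charts
-/

set_option autoImplicit false
set_option linter.style.haveILetI false
set_option backward.isDefEq.respectTransparency false
set_option backward.isDefEq.respectTransparency.types false

namespace Groth.Agent.H28.RepComp

open CategoryTheory CategoryTheory.Limits FibCat AlgebraicGeometry Opposite Stk MorphismProperty
open Groth.Agent.Helper22 Groth.Agent.Helper22.EquivComp Groth.Agent.Helper22.FpSq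
open Groth.Agent.Helper22.FpEquiv Groth.Agent.H28.LiftFp
open Groth.Agent.H28.FpBase Groth.Agent.H28.PshDict Groth.Agent.H28.IsoCl
open Groth.Agent.H25.AS

universe u

theorem exists_affine_etale_cover (X : Scheme.{u}) [CompactSpace X] :
    ∃ (W : Scheme.{u}) (c : W ⟶ X), IsAffine W ∧ Etale c ∧ Surjective c := by
  let 𝒰 := X.affineCover.finiteSubcover
  haveI : IsZariskiLocalAtSource @Etale :=
    HasRingHomProperty.instIsZariskiLocalAtSource (Q := RingHom.Etale)
  refine ⟨∐ 𝒰.X, Sigma.desc 𝒰.f, inferInstance, ?_, ?_⟩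
  · exact IsZariskiLocalAtSource.sigmaDesc (fun i => inferInstance)
  · refine ⟨fun x => ?_⟩
    obtain ⟨i, y, hy⟩ := 𝒰.exists_eq x
    refine ⟨(Sigma.ι 𝒰.X i) y, ?_⟩
    rw [← Scheme.Hom.comp_apply, Sigma.ι_desc]
    exact hy

variable {S : Scheme.{u}} {𝒳 : AlgSt.Cat S}

/-- the functor of an etale surjective morphism of schemes is smooth and surjective -/
theorem overMap_smooth_surj {W V : Over S} (g : W ⟶ V) (h1 : Etale g.left)
    (h2 : Surjective g.left) :
    AlgSt.RepByAlgSpWith (AlgSp.LocP @Smooth) (AlgSt.overMap g) ∧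
      AlgSt.RepByAlgSpWith AlgSp.IsSurjectiveMor (AlgSt.overMap g) := by
  have hpe : AlgSp.RepWith @Etale ((AlgSp.yon S).map g) := (AlgSp.repWith_yon_map_iff @Etale g).2 h1
  have hps : AlgSp.RepWith @Surjective ((AlgSp.yon S).map g) :=
    (AlgSp.repWith_yon_map_iff @Surjective g).2 h2
  have e1 := chartFun_smooth (yonSpace V) ((AlgSp.yon S).map g) hpe
  have e2 := chartFun_surj (yonSpace V) ((AlgSp.yon S).map g) hps
  have hE := Groth.Agent.H28.DiagRep.isEquivOver_toOverCat V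
  exact ⟨repByAlgSpWith_of_sq _ (BasedFunctor.comp (chartFun ((AlgSp.yon S).map g))
      (AlgSt.toOverCat V)) (chartFun ((AlgSp.yon S).map g)) (BasedFunctor.id _)
      (AlgSt.toOverCat V) isEquivOver_id hE (Iso.refl _) e1,
    repByAlgSpWith_of_sq _ (BasedFunctor.comp (chartFun ((AlgSp.yon S).map g))
      (AlgSt.toOverCat V)) (chartFun ((AlgSp.yon S).map g)) (BasedFunctor.id _)
      (AlgSt.toOverCat V) isEquivOver_id hE (Iso.refl _) e2⟩

theorem isQuasiCompact_of_compact_chart {V : Over S} (v : FibCat.overCat V ⥤ᵇ 𝒳)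
    (hV : CompactSpace ↥V.left) (hv₁ : AlgSt.RepByAlgSpWith (AlgSp.LocP @Smooth) v)
    (hv₂ : AlgSt.RepByAlgSpWith AlgSp.IsSurjectiveMor v) : AlgSt.IsQuasiCompact 𝒳 := by
  obtain ⟨W, c, hW, hc₁, hc₂⟩ := exists_affine_etale_cover V.left
  let W' : Over S := Over.mk (c ≫ V.hom)
  let g : W' ⟶ V := Over.homMk c rfl
  obtain ⟨hg₁, hg₂⟩ := overMap_smooth_surj g hc₁ hc₂
  exact ⟨W', BasedFunctor.comp (AlgSt.overMap g) v, hW,
    repByAlgSpWith_comp_goodP (goodP_locP etLoc_smooth) (OverFib.isFibGrpd_over W')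
      (OverFib.isFibGrpd_over V) _ _ hg₁ hv₁,
    repByAlgSpWith_comp_goodP goodP_surj (OverFib.isFibGrpd_over W')
      (OverFib.isFibGrpd_over V) _ _ hg₂ hv₂⟩

theorem isQuasiCompact_iff_compact_chart :
    AlgSt.IsQuasiCompact 𝒳 ↔
      ∃ (U : Over S) (x : FibCat.overCat U ⥤ᵇ 𝒳), CompactSpace ↥U.left ∧
        AlgSt.RepByAlgSpWith (AlgSp.LocP @Smooth) x ∧
          AlgSt.RepByAlgSpWith AlgSp.IsSurjectiveMor x := by
  constructor
  · rintro ⟨U, x, hU, h1, h2⟩
    exact ⟨U, x, inferInstance, h1, h2⟩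
  · rintro ⟨U, x, hU, h1, h2⟩
    exact isQuasiCompact_of_compact_chart x hU h1 h2

theorem isQuasiCompact_iff_space_chart :
    AlgSt.IsQuasiCompact 𝒳 ↔
      ∃ (U : AlgSp.Space S) (x : AlgSt.ofSp U.obj ⥤ᵇ 𝒳), AlgSp.IsQuasiCompactSp U.obj ∧
        AlgSt.RepByAlgSpWith (AlgSp.LocP @Smooth) x ∧
          AlgSt.RepByAlgSpWith AlgSp.IsSurjectiveMor x := by
  constructor
  · rintro ⟨V, v, hV, h1, h2⟩
    exact ⟨yonSpace V, BasedFunctor.comp (AlgSt.toOverCat V) v,
      ⟨V, 𝟙 _, AlgSp.repWith_id _ V, AlgSp.repWith_id _ V, inferInstance⟩,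
      repByAlgSpWith_toOverCat_comp _ v h1, repByAlgSpWith_toOverCat_comp _ v h2⟩
  · rintro ⟨U, x, ⟨V, p, hpe, hps, hV⟩, hx₁, hx₂⟩
    exact isQuasiCompact_of_compact_chart (BasedFunctor.comp (chartFun p) x) hV
      (repByAlgSpWith_comp_goodP (goodP_locP etLoc_smooth) (OverFib.isFibGrpd_over V)
        (Stk.isFibGrpd_ofPsh _) _ _ (chartFun_smooth U p hpe) hx₁)
      (repByAlgSpWith_comp_goodP goodP_surj (OverFib.isFibGrpd_over V)
        (Stk.isFibGrpd_ofPsh _) _ _ (chartFun_surj U p hps) hx₂)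

end Groth.Agent.H28.RepComp
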