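import Mathlib
import Groth.Agent.H28.PtsSurj
import Groth.Agent.H28.QcChart

/-!
# The topology on the points of an algebraic stack
-/

set_option autoImplicit false
set_option linter.style.haveILetI false
set_option backward.isDefEq.respectTransparency false
set_option backward.isDefEq.respectTransparency.types false

namespace Groth.Agent.H28.RepComp

open CategoryTheory CategoryTheory.Limits FibCat AlgebraicGeometry Opposite Stk MorphismProperty
open Groth.Agent.Helper22 Groth.Agent.Helper22.EquivComp Groth.Agent.Helper22.FpSq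
open Groth.Agent.Helper22.FpEquiv Groth.Agent.H28.LiftFp
open Groth.Agent.H28.FpBase Groth.Agent.H28.PshDict Groth.Agent.H28.IsoCl
open Groth.Agent.H25.AS

universe u

noncomputable section

variable {S : Scheme.{u}}

section sch

variable (V : Over S)

/-- field points of `(Sch/V)` to field points of `h_V` -/
def fptToSp (p : AlgSt.FPt (FibCat.overCat V)) : AlgSp.FieldPt ((AlgSp.yon S).obj V) :=
  { K := p.K
    str := p.str
    val := ULift.up (eqToHom p.lies.symm ≫ p.obj.hom : Over.mk p.str ⟶ V) }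

theorem fptToSp_rel {p q : AlgSt.FPt (FibCat.overCat V)} (h : AlgSt.FPt.Rel p q) :
    AlgSp.FieldPt.Rel (fptToSp V p) (fptToSp V q) := by
  obtain ⟨r, a, b, -⟩ := h
  have h1 : a.left ≫ p.obj.hom = r.obj.hom := Over.w a
  have h2 : b.left ≫ q.obj.hom = r.obj.hom := Over.w b
  refine ⟨r.K, inferInstance, r.str, eqToHom r.lies.symm ≫ a.left ≫ eqToHom p.lies,
    eqToHom r.lies.symm ≫ b.left ≫ eqToHom q.lies, ?_⟩
  apply ULift.ext
  show (eqToHom r.lies.symm ≫ a.left ≫ eqToHom p.lies) ≫ (eqToHom p.lies.symm ≫ p.obj.hom) =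
    (eqToHom r.lies.symm ≫ b.left ≫ eqToHom q.lies) ≫ (eqToHom q.lies.symm ≫ q.obj.hom)
  simp only [Category.assoc, eqToHom_trans_assoc, eqToHom_refl, Category.id_comp, h1, h2]

/-- points of `(Sch/V)` to points of `h_V` -/
def ptsToSp : AlgSt.Points (FibCat.overCat V) → AlgSp.Points ((AlgSp.yon S).obj V) :=
  Quot.lift (fun p => AlgSp.Points.mk (fptToSp V p))
    (fun _ _ h => AlgSp.Points.sound (fptToSp_rel V h))

theorem ptsToSp_injective : Function.Injective (ptsToSp V) := by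
  intro x y h
  obtain ⟨p, rfl⟩ := AlgSt.Points.mk_surjective x
  obtain ⟨q, rfl⟩ := AlgSt.Points.mk_surjective y
  have h' : AlgSp.Points.mk (fptToSp V p) = AlgSp.Points.mk (fptToSp V q) := h
  obtain ⟨Ω, hΩ, w, a, b, hab⟩ := AlgSp.Points.mk_eq_mk_iff.1 h'
  have hab' : a ≫ (eqToHom p.lies.symm ≫ p.obj.hom : Over.mk p.str ⟶ V) =
      b ≫ (eqToHom q.lies.symm ≫ q.obj.hom : Over.mk q.str ⟶ V) := congrArg ULift.down hab
  let r : AlgSt.FPt (FibCat.overCat V) :=
    ⟨Ω, w, Over.mk (a ≫ (eqToHom p.lies.symm ≫ p.obj.hom : Over.mk p.str ⟶ V)), rfl⟩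
  exact AlgSt.Points.sound ⟨r, Over.homMk (a ≫ eqToHom p.lies.symm) (Category.assoc _ _ _),
    Over.homMk (b ≫ eqToHom q.lies.symm) ((Category.assoc _ _ _).trans hab'.symm), trivial⟩

/-- the underlying point of the scheme -/
def ptOf (x : AlgSt.Points (FibCat.overCat V)) : ↥V.left :=
  AlgSp.Points.toScheme V (ptsToSp V x)

theorem eqToHom_comp_self {C : Type*} [Category C] {X Y : C} (h : X = X) (m : X ⟶ Y) :
    eqToHom h ≫ m = m := by simp

theorem ptsToSp_mk_std (K : Type u) [Field K] (str : Spec (CommRingCat.of K) ⟶ S)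
    (m : Over.mk str ⟶ V) :
    ptsToSp V (AlgSt.Points.mk ⟨K, str, Over.mk m, rfl⟩) =
      AlgSp.Points.mk ⟨K, str, ULift.up m⟩ := by
  show AlgSp.Points.mk (fptToSp V ⟨K, str, Over.mk m, rfl⟩) = _
  refine AlgSp.Points.sound ⟨K, inferInstance, str, 𝟙 _, 𝟙 _, ?_⟩
  apply ULift.ext
  show 𝟙 _ ≫ (eqToHom _ ≫ m) = 𝟙 _ ≫ m
  rw [Category.id_comp, Category.id_comp]
  exact eqToHom_comp_self _ m

theorem ofChart_id_eq (t : ↥V.left) :
    AlgSt.Points.ofChart (BasedFunctor.id (FibCat.overCat V)) t =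
      AlgSt.Points.mk ⟨↥(V.left.residueField t), V.left.fromSpecResidueField t ≫ V.hom,
        Over.mk (Over.homMk (V.left.fromSpecResidueField t) rfl :
          Over.mk (V.left.fromSpecResidueField t ≫ V.hom) ⟶ V), rfl⟩ := rfl

theorem ptsToSp_ofChart_id (t : ↥V.left) :
    ptsToSp V (AlgSt.Points.ofChart (BasedFunctor.id (FibCat.overCat V)) t) =
      AlgSp.Points.ofScheme V t := by
  rw [ofChart_id_eq, ptsToSp_mk_std]
  rfl

theorem ptOf_ofChart_id (t : ↥V.left) :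
    ptOf V (AlgSt.Points.ofChart (BasedFunctor.id (FibCat.overCat V)) t) = t := by
  unfold ptOf
  rw [ptsToSp_ofChart_id]
  exact AlgSp.Points.toScheme_ofScheme V t

theorem eq_ofChart_ptOf (x : AlgSt.Points (FibCat.overCat V)) :
    x = AlgSt.Points.ofChart (BasedFunctor.id (FibCat.overCat V)) (ptOf V x) := by
  apply ptsToSp_injective V
  rw [ptsToSp_ofChart_id]
  exact (AlgSp.Points.ofScheme_toScheme V _).symm

end sch

section nat

theorem ptsToSp_map_overMap {V V' : Over S} (φ : V ⟶ V')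
    (x : AlgSt.Points (FibCat.overCat V)) :
    ptsToSp V' (AlgSt.Points.map (AlgSt.overMap φ) x) =
      AlgSp.Points.map ((AlgSp.yon S).map φ) (ptsToSp V x) := by
  obtain ⟨p, rfl⟩ := AlgSt.Points.mk_surjective x
  show AlgSp.Points.mk (fptToSp V' (p.map (AlgSt.overMap φ))) =
    AlgSp.Points.mk ((fptToSp V p).map ((AlgSp.yon S).map φ))
  refine AlgSp.Points.sound ⟨p.K, inferInstance, p.str, 𝟙 _, 𝟙 _, ?_⟩
  apply ULift.ext
  show 𝟙 _ ≫ (eqToHom _ ≫ (p.obj.hom ≫ φ)) = 𝟙 _ ≫ ((eqToHom _ ≫ p.obj.hom) ≫ φ)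
  rw [Category.assoc]

theorem ptOf_map_overMap {V V' : Over S} (φ : V ⟶ V') (x : AlgSt.Points (FibCat.overCat V)) :
    ptOf V' (AlgSt.Points.map (AlgSt.overMap φ) x) = φ.left (ptOf V x) := by
  have e := AlgSp.Points.ofScheme_toScheme V (ptsToSp V x)
  show AlgSp.Points.toScheme V' (ptsToSp V' (AlgSt.Points.map (AlgSt.overMap φ) x)) =
    φ.left (AlgSp.Points.toScheme V (ptsToSp V x))
  rw [ptsToSp_map_overMap]
  conv_lhs => rw [← e]
  rw [map_yon_map_ofScheme, AlgSp.Points.toScheme_ofScheme]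

variable {𝒳 : AlgSt.Cat S}

theorem ofChart_eq_map {V : Over S} (x : FibCat.overCat V ⥤ᵇ 𝒳) (t : ↥V.left) :
    AlgSt.Points.ofChart x t =
      AlgSt.Points.map x (AlgSt.Points.ofChart (BasedFunctor.id (FibCat.overCat V)) t) := rfl

theorem ofChart_overMap {T V : Over S} (φ : T ⟶ V) (x : FibCat.overCat V ⥤ᵇ 𝒳) (t : ↥T.left) :
    AlgSt.Points.ofChart (BasedFunctor.comp (AlgSt.overMap φ) x) t =
      AlgSt.Points.ofChart x (φ.left t) := by
  rw [ofChart_eq_map, points_map_comp, ofChart_eq_map x,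
    eq_ofChart_ptOf V (AlgSt.Points.map (AlgSt.overMap φ)
      (AlgSt.Points.ofChart (BasedFunctor.id (FibCat.overCat T)) t)),
    ptOf_map_overMap, ptOf_ofChart_id]

theorem ofChart_congr {V : Over S} {x x' : FibCat.overCat V ⥤ᵇ 𝒳} (e : x ≅ x') :
    AlgSt.Points.ofChart x = AlgSt.Points.ofChart x' := by
  funext t
  rw [ofChart_eq_map, ofChart_eq_map x', points_map_congr e]

theorem ofChart_surjective {V : Over S} (x : FibCat.overCat V ⥤ᵇ 𝒳)
    (hx : AlgSt.IsSurjective x) : Function.Surjective (AlgSt.Points.ofChart x) := by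
  intro q
  obtain ⟨τ, rfl⟩ := hx q
  exact ⟨ptOf V τ, by rw [ofChart_eq_map, ← eq_ofChart_ptOf V τ]⟩

theorem prop_of_overMap {P : MorphismProperty (AlgSp.Sp S)} (hP : GoodP P) {T V : Over S}
    (q : T ⟶ V) (h : AlgSt.RepByAlgSpWith P (AlgSt.overMap q)) : P ((AlgSp.yon S).map q) := by
  have h1 : AlgSt.RepByAlgSpWith P (chartFun ((AlgSp.yon S).map q)) :=
    repByAlgSpWith_of_sq' P (AlgSt.overMap q) (chartFun ((AlgSp.yon S).map q))
      (BasedFunctor.id _) (AlgSt.toOverCat V) isEquivOver_id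
      (Groth.Agent.H28.DiagRep.isEquivOver_toOverCat V) (Iso.refl _) h
  have h2 : AlgSt.RepByAlgSpWith P (AlgSt.ofSpMap ((AlgSp.yon S).map q)) :=
    repByAlgSpWith_of_sq P (AlgSt.ofSpMap ((AlgSp.yon S).map q))
      (chartFun ((AlgSp.yon S).map q)) (AlgSt.ofOverCat T) (BasedFunctor.id _)
      (isEquivOver_ofOverCat T) isEquivOver_id (Iso.refl _) h1
  exact (repByAlgSpWith_ofSpMap_iff hP.cancelIso hP.baseChange hP.descends
    (AlgSp.IsAlgSpace.yon_obj T) (AlgSp.IsAlgSpace.yon_obj V) _).1 h2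

theorem repByAlgSpWith_mono_le {P Q : MorphismProperty (AlgSp.Sp S)} (hPQ : P ≤ Q)
    {𝒜 ℬ : AlgSt.Cat S} {f : 𝒜 ⥤ᵇ ℬ} (h : AlgSt.RepByAlgSpWith P f) :
    AlgSt.RepByAlgSpWith Q f := fun U y => by
  obtain ⟨F, e, he, hP⟩ := h U y
  exact ⟨F, e, he, hPQ _ hP⟩

theorem locP_mono {P Q : MorphismProperty Scheme.{u}} (hPQ : P ≤ Q) :
    AlgSp.LocP (S := S) P ≤ AlgSp.LocP Q :=
  fun _ _ _ h _ _ a b g ha hb hab => hPQ _ (h a b g ha hb hab)

theorem smooth_le_flat : (@Smooth : MorphismProperty Scheme.{u}) ≤ @Flat :=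
  fun _ _ f (_ : Smooth f) => (inferInstance : Flat f)

theorem smooth_le_lfp : (@Smooth : MorphismProperty Scheme.{u}) ≤ @LocallyOfFinitePresentation :=
  fun _ _ f (_ : Smooth f) => (inferInstance : LocallyOfFinitePresentation f)

theorem overMap_smooth {W V : Over S} (g : W ⟶ V) (h1 : Etale g.left) :
    AlgSt.RepByAlgSpWith (AlgSp.LocP @Smooth) (AlgSt.overMap g) := by
  have hpe : AlgSp.RepWith @Etale ((AlgSp.yon S).map g) :=
    (AlgSp.repWith_yon_map_iff @Etale g).2 h1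
  have e1 := chartFun_smooth (yonSpace V) ((AlgSp.yon S).map g) hpe
  have hE := Groth.Agent.H28.DiagRep.isEquivOver_toOverCat V
  exact repByAlgSpWith_of_sq _ (BasedFunctor.comp (chartFun ((AlgSp.yon S).map g))
      (AlgSt.toOverCat V)) (chartFun ((AlgSp.yon S).map g)) (BasedFunctor.id _)
      (AlgSt.toOverCat V) isEquivOver_id hE (Iso.refl _) e1

end nat

section top

variable {𝒳 𝒴 : AlgSt.Cat S}

/-- every scheme chart of an algebraic stack is continuous on points -/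
theorem continuous_ofChart (h𝒴 : AlgSt.IsAlgStack Scheme.fppfPrecoverage 𝒴) {U : Over S}
    (y : FibCat.overCat U ⥤ᵇ 𝒴) : Continuous (AlgSt.Points.ofChart y) := by
  rw [continuous_def]
  intro W hW
  obtain ⟨V, v, hv₁, hv₂⟩ := h𝒴.atlas
  obtain ⟨T, a, x'', hx₁, hx₂, ⟨ι⟩⟩ :=
    exists_chart_over (isAlgStack_overCat U) h𝒴 y V v hv₁ hv₂
  obtain ⟨q, ⟨κ⟩⟩ := exists_overMap_iso x''
  have hq₁ : AlgSt.RepByAlgSpWith (AlgSp.LocP @Smooth) (AlgSt.overMap q) :=
    repByAlgSpWith_of_iso _ κ hx₁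
  have hq₂ : AlgSt.RepByAlgSpWith AlgSp.IsSurjectiveMor (AlgSt.overMap q) :=
    repByAlgSpWith_of_iso _ κ hx₂
  haveI hsm : Smooth q.left :=
    AlgSp.locP_yon_map (prop_of_overMap (goodP_locP etLoc_smooth) q hq₁)
  have hsurj : Surjective q.left :=
    surjective_left_of_isSurjectiveMor q (prop_of_overMap goodP_surj q hq₂)
  have hkey : ∀ t : ↥T.left,
      AlgSt.Points.ofChart y (q.left t) = AlgSt.Points.ofChart v (a.left t) := fun t => by
    rw [← ofChart_overMap q y t, ← ofChart_overMap a v t]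
    exact congrFun (ofChart_congr (whiskerRightIso κ.symm y ≪≫ ι)) t
  have hopen : IsOpen (⇑a.left ⁻¹' (AlgSt.Points.ofChart v ⁻¹' W)) :=
    (AlgSt.Points.isOpen_iff.1 hW V v hv₁).preimage a.left.continuous
  have hset : AlgSt.Points.ofChart y ⁻¹' W =
      ⇑q.left '' (⇑a.left ⁻¹' (AlgSt.Points.ofChart v ⁻¹' W)) := by
    ext u
    constructor
    · intro hu
      obtain ⟨t, rfl⟩ := hsurj.surj u
      refine ⟨t, ?_, rfl⟩
      show AlgSt.Points.ofChart v (a.left t) ∈ W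
      rw [← hkey]
      exact hu
    · rintro ⟨t, ht, rfl⟩
      show AlgSt.Points.ofChart y (q.left t) ∈ W
      rw [hkey]
      exact ht
  rw [hset]
  exact q.left.isOpenMap _ hopen

theorem continuous_points_map (h𝒴 : AlgSt.IsAlgStack Scheme.fppfPrecoverage 𝒴) (f : 𝒳 ⥤ᵇ 𝒴) :
    Continuous (AlgSt.Points.map f) := by
  rw [continuous_def]
  intro W hW
  refine AlgSt.Points.isOpen_iff.2 (fun U x _ => ?_)
  show IsOpen (AlgSt.Points.ofChart (BasedFunctor.comp x f) ⁻¹' W)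
  exact (continuous_ofChart h𝒴 (BasedFunctor.comp x f)).isOpen_preimage W hW

/-- flat, locally finitely presented scheme charts are open on points -/
theorem isOpenMap_ofChart (h𝒳 : AlgSt.IsAlgStack Scheme.fppfPrecoverage 𝒳) {U : Over S}
    (x : FibCat.overCat U ⥤ᵇ 𝒳) (hx₁ : AlgSt.RepByAlgSpWith (AlgSp.LocP @Flat) x)
    (hx₂ : AlgSt.RepByAlgSpWith (AlgSp.LocP @LocallyOfFinitePresentation) x) :
    IsOpenMap (AlgSt.Points.ofChart x) := by
  intro U' hU'
  refine AlgSt.Points.isOpen_iff.2 (fun V v _ => ?_)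
  have hOU := isAlgStack_overCat U
  have hOV := isAlgStack_overCat V
  have h𝒫 : AlgSt.IsAlgStack Scheme.fppfPrecoverage (FibCat.fp v x) :=
    isAlgStack_fp _ h𝒳.isStack h𝒳.diag hOV hOU v x
  obtain ⟨T, t, ht₁, ht₂⟩ := h𝒫.atlas
  obtain ⟨q, ⟨κq⟩⟩ := exists_overMap_iso (BasedFunctor.comp t (FibCat.fpFst v x))
  obtain ⟨p, ⟨κp⟩⟩ := exists_overMap_iso (BasedFunctor.comp t (FibCat.fpSnd v x))
  have hT := OverFib.isFibGrpd_over T
  have hflat : AlgSt.RepByAlgSpWith (AlgSp.LocP @Flat) (AlgSt.overMap q) :=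
    repByAlgSpWith_of_iso _ κq (repByAlgSpWith_comp_goodP (goodP_locP etLoc_flat) hT
      h𝒫.isStack.1 t _ (repByAlgSpWith_mono_le (locP_mono smooth_le_flat) ht₁)
      (repByAlgSpWith_fpFst _ x v hx₁))
  have hlfp : AlgSt.RepByAlgSpWith (AlgSp.LocP @LocallyOfFinitePresentation) (AlgSt.overMap q) :=
    repByAlgSpWith_of_iso _ κq (repByAlgSpWith_comp_goodP
      (goodP_locP etLoc_locallyOfFinitePresentation) hT
      h𝒫.isStack.1 t _ (repByAlgSpWith_mono_le (locP_mono smooth_le_lfp) ht₁)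
      (repByAlgSpWith_fpFst _ x v hx₂))
  haveI : Flat q.left := AlgSp.locP_yon_map (prop_of_overMap (goodP_locP etLoc_flat) q hflat)
  haveI : LocallyOfFinitePresentation q.left :=
    AlgSp.locP_yon_map
      (prop_of_overMap (goodP_locP etLoc_locallyOfFinitePresentation) q hlfp)
  have hkey : ∀ s : ↥T.left,
      AlgSt.Points.ofChart v (q.left s) = AlgSt.Points.ofChart x (p.left s) := fun s => by
    rw [← ofChart_overMap q v s, ← ofChart_overMap p x s]
    exact congrFun (ofChart_congr (whiskerRightIso κq.symm v ≪≫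
      whiskerLeftIso t (FibCat.fpIso v x) ≪≫ whiskerRightIso κp x)) s
  have hsurjt : AlgSt.IsSurjective t := isSurjective_of_repByAlgSpWith_surj h𝒫.isStack.1 t ht₂
  have hset : AlgSt.Points.ofChart v ⁻¹' (AlgSt.Points.ofChart x '' U') =
      ⇑q.left '' (⇑p.left ⁻¹' U') := by
    ext s_V
    constructor
    · rintro ⟨s_U, hsU, hEq⟩
      obtain ⟨w, hw₁, hw₂⟩ := exists_point_fp hOU.isStack.1 h𝒳.isStack.1 hOV.isStack.1 x v
        (AlgSt.Points.ofChart (BasedFunctor.id (FibCat.overCat V)) s_V)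
        (AlgSt.Points.ofChart (BasedFunctor.id (FibCat.overCat U)) s_U) hEq.symm
      obtain ⟨τ, rfl⟩ := hsurjt w
      have hp : p.left (ptOf T τ) = s_U := by
        rw [← ptOf_map_overMap, ← points_map_congr κp, points_map_comp, hw₂, ptOf_ofChart_id]
      have hq : q.left (ptOf T τ) = s_V := by
        rw [← ptOf_map_overMap, ← points_map_congr κq, points_map_comp, hw₁, ptOf_ofChart_id]
      refine ⟨ptOf T τ, ?_, hq⟩
      show p.left (ptOf T τ) ∈ U'
      rw [hp]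
      exact hsU
    · rintro ⟨s, hs, rfl⟩
      exact ⟨p.left s, hs, (hkey s).symm⟩
  rw [hset]
  exact q.left.isOpenMap _ (hU'.preimage p.left.continuous)

theorem isOpenMap_points_map_of_space (h𝒳 : AlgSt.IsAlgStack Scheme.fppfPrecoverage 𝒳)
    (U : AlgSp.Space S) (u : AlgSt.ofSp U.obj ⥤ᵇ 𝒳)
    (hu₁ : AlgSt.RepByAlgSpWith (AlgSp.LocP @Flat) u)
    (hu₂ : AlgSt.RepByAlgSpWith (AlgSp.LocP @LocallyOfFinitePresentation) u) :
    IsOpenMap (AlgSt.Points.map u) := by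
  intro W hW
  obtain ⟨T, a, hae, has⟩ := U.property.atlas
  let c : FibCat.overCat T ⥤ᵇ AlgSt.ofSp U.obj := chartFun a
  have hc₁ : AlgSt.RepByAlgSpWith (AlgSp.LocP @Smooth) c := chartFun_smooth U a hae
  have hc₂ : AlgSt.RepByAlgSpWith AlgSp.IsSurjectiveMor c := chartFun_surj U a has
  have hUfib : FibCat.IsFibGrpd (AlgSt.ofSp U.obj).p := Stk.isFibGrpd_ofPsh _
  have hcs : Function.Surjective (AlgSt.Points.ofChart c) :=
    ofChart_surjective c (isSurjective_of_repByAlgSpWith_surj hUfib c hc₂)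
  have hWT : IsOpen (AlgSt.Points.ofChart c ⁻¹' W) := AlgSt.Points.isOpen_iff.1 hW T c hc₁
  have himg : AlgSt.Points.map u '' W =
      AlgSt.Points.ofChart (BasedFunctor.comp c u) '' (AlgSt.Points.ofChart c ⁻¹' W) := by
    ext z
    constructor
    · rintro ⟨w, hw, rfl⟩
      obtain ⟨s, rfl⟩ := hcs w
      exact ⟨s, hw, rfl⟩
    · rintro ⟨s, hs, rfl⟩
      exact ⟨AlgSt.Points.ofChart c s, hs, rfl⟩
  rw [himg]
  have hT := OverFib.isFibGrpd_over T
  exact isOpenMap_ofChart h𝒳 (BasedFunctor.comp c u)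
    (repByAlgSpWith_comp_goodP (goodP_locP etLoc_flat) hT hUfib c u
      (repByAlgSpWith_mono_le (locP_mono smooth_le_flat) hc₁) hu₁)
    (repByAlgSpWith_comp_goodP (goodP_locP etLoc_locallyOfFinitePresentation) hT hUfib c u
      (repByAlgSpWith_mono_le (locP_mono smooth_le_lfp) hc₁) hu₂) _ hWT

theorem isOpen_iff_preimage_space (h𝒳 : AlgSt.IsAlgStack Scheme.fppfPrecoverage 𝒳)
    (U : AlgSp.Space S) (p : AlgSt.ofSp U.obj ⥤ᵇ 𝒳)
    (hp₁ : AlgSt.RepByAlgSpWith (AlgSp.LocP @Flat) p)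
    (hp₂ : AlgSt.RepByAlgSpWith (AlgSp.LocP @LocallyOfFinitePresentation) p)
    (hp₃ : AlgSt.RepByAlgSpWith AlgSp.IsSurjectiveMor p) (W : Set (AlgSt.Points 𝒳)) :
    IsOpen W ↔ IsOpen (AlgSt.Points.map p ⁻¹' W) := by
  constructor
  · intro hW
    exact (continuous_points_map h𝒳 p).isOpen_preimage W hW
  · intro h
    have hs : AlgSt.IsSurjective p := isSurjective_of_repByAlgSpWith_surj h𝒳.isStack.1 p hp₃
    have hW : W = AlgSt.Points.map p '' (AlgSt.Points.map p ⁻¹' W) :=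
      (Set.image_preimage_eq W hs).symm
    rw [hW]
    exact isOpenMap_points_map_of_space h𝒳 U p hp₁ hp₂ _ h

theorem exists_compact_open_nhd (h𝒳 : AlgSt.IsAlgStack Scheme.fppfPrecoverage 𝒳)
    (x : AlgSt.Points 𝒳) (W : Set (AlgSt.Points 𝒳)) (hW : IsOpen W) (hx : x ∈ W) :
    ∃ K : Set (AlgSt.Points 𝒳), IsOpen K ∧ IsCompact K ∧ x ∈ K ∧ K ⊆ W := by
  obtain ⟨V, v, hv₁, hv₂⟩ := h𝒳.atlas
  have hvs : Function.Surjective (AlgSt.Points.ofChart v) :=
    ofChart_surjective v (isSurjective_of_repByAlgSpWith_surj h𝒳.isStack.1 v hv₂)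
  obtain ⟨s, rfl⟩ := hvs x
  have hWV : IsOpen (AlgSt.Points.ofChart v ⁻¹' W) := AlgSt.Points.isOpen_iff.1 hW V v hv₁
  obtain ⟨_, ⟨V', hV', rfl⟩, hsV', hV'W⟩ :=
    V.left.isBasis_affineOpens.exists_subset_of_mem_open hx hWV
  refine ⟨AlgSt.Points.ofChart v '' (V' : Set ↥V.left), ?_, ?_, ⟨s, hsV', rfl⟩,
    Set.image_subset_iff.2 hV'W⟩
  · exact isOpenMap_ofChart h𝒳 v (repByAlgSpWith_mono_le (locP_mono smooth_le_flat) hv₁)
      (repByAlgSpWith_mono_le (locP_mono smooth_le_lfp) hv₁) _ V'.isOpen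
  · exact (IsAffineOpen.isCompact hV').image (continuous_ofChart h𝒳 v)

theorem compactSpace_of_isQuasiCompact (h𝒳 : AlgSt.IsAlgStack Scheme.fppfPrecoverage 𝒳)
    (h : AlgSt.IsQuasiCompact 𝒳) : CompactSpace (AlgSt.Points 𝒳) := by
  obtain ⟨U, x, hU, hx₁, hx₂⟩ := h
  haveI := hU
  have hs : Function.Surjective (AlgSt.Points.ofChart x) :=
    ofChart_surjective x (isSurjective_of_repByAlgSpWith_surj h𝒳.isStack.1 x hx₂)
  constructor
  rw [← Set.range_eq_univ.2 hs]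
  exact isCompact_range (continuous_ofChart h𝒳 x)

theorem isQuasiCompact_of_compactSpace (h𝒳 : AlgSt.IsAlgStack Scheme.fppfPrecoverage 𝒳)
    (hc : CompactSpace (AlgSt.Points 𝒳)) : AlgSt.IsQuasiCompact 𝒳 := by
  obtain ⟨V, v, hv₁, hv₂⟩ := h𝒳.atlas
  have hvs : Function.Surjective (AlgSt.Points.ofChart v) :=
    ofChart_surjective v (isSurjective_of_repByAlgSpWith_surj h𝒳.isStack.1 v hv₂)
  have hopen : ∀ A : V.left.affineOpens,
      IsOpen (AlgSt.Points.ofChart v '' ((A : V.left.Opens) : Set ↥V.left)) := fun A =>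
    isOpenMap_ofChart h𝒳 v (repByAlgSpWith_mono_le (locP_mono smooth_le_flat) hv₁)
      (repByAlgSpWith_mono_le (locP_mono smooth_le_lfp) hv₁) _ (A : V.left.Opens).isOpen
  have hcov : (Set.univ : Set (AlgSt.Points 𝒳)) ⊆
      ⋃ A : V.left.affineOpens, AlgSt.Points.ofChart v '' ((A : V.left.Opens) : Set ↥V.left) := by
    intro z _
    obtain ⟨s, rfl⟩ := hvs z
    obtain ⟨_, ⟨A, hA, rfl⟩, hsA, -⟩ :=
      V.left.isBasis_affineOpens.exists_subset_of_mem_open (Set.mem_univ s) isOpen_univ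
    exact Set.mem_iUnion.2 ⟨⟨A, hA⟩, s, hsA, rfl⟩
  obtain ⟨I, hI⟩ := isCompact_univ.elim_finite_subcover _ hopen hcov
  let V₀ : V.left.Opens := ⨆ A ∈ I, (A : V.left.Opens)
  have hV₀c : IsCompact (V₀ : Set ↥V.left) := by
    have h0 : (V₀ : Set ↥V.left) = ⋃ A ∈ I, ((A : V.left.Opens) : Set ↥V.left) := by
      simp [V₀]
    rw [h0]
    exact I.isCompact_biUnion (fun A _ => IsAffineOpen.isCompact A.2)
  let T : Over S := Over.mk (V₀.ι ≫ V.hom)
  let g : T ⟶ V := Over.homMk V₀.ι rfl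
  have hTc : CompactSpace ↥T.left := isCompact_iff_compactSpace.1 hV₀c
  have hg₁ : AlgSt.RepByAlgSpWith (AlgSp.LocP @Smooth) (AlgSt.overMap g) :=
    overMap_smooth g (inferInstance : Etale V₀.ι)
  have hv₀₁ : AlgSt.RepByAlgSpWith (AlgSp.LocP @Smooth) (BasedFunctor.comp (AlgSt.overMap g) v) :=
    repByAlgSpWith_comp_goodP (goodP_locP etLoc_smooth) (OverFib.isFibGrpd_over T)
      (OverFib.isFibGrpd_over V) _ _ hg₁ hv₁
  have hv₀s : AlgSt.IsSurjective (BasedFunctor.comp (AlgSt.overMap g) v) := by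
    intro z
    obtain ⟨A, hA, s, hsA, rfl⟩ := Set.mem_iUnion₂.1 (hI (Set.mem_univ z))
    have hs₀ : s ∈ V₀ :=
      TopologicalSpace.Opens.mem_iSup.2 ⟨A, TopologicalSpace.Opens.mem_iSup.2 ⟨hA, hsA⟩⟩
    obtain ⟨s', rfl⟩ : s ∈ Set.range V₀.ι := by
      rw [Scheme.Opens.range_ι]
      exact hs₀
    refine ⟨AlgSt.Points.ofChart (BasedFunctor.id (FibCat.overCat T)) s', ?_⟩
    exact ofChart_overMap g v s'
  have hv₀₂ : AlgSt.RepByAlgSpWith AlgSp.IsSurjectiveMor
      (BasedFunctor.comp (AlgSt.overMap g) v) :=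
    repByAlgSpWith_surj_of_isSurjective (OverFib.isFibGrpd_over T) h𝒳.isStack.1 _
      (Groth.Agent.H28.MonoFF.repByAlgSp1_of_with hv₀₁) hv₀s
  exact isQuasiCompact_of_compact_chart _ hTc hv₀₁ hv₀₂

end top

end

end Groth.Agent.H28.RepComp
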