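import Mathlib
import Groth.Agent.H28.QcChart
import Groth.Agent.H25.AlgSp12

/-!
# Quasi-compact representable morphisms are quasi-compact morphisms of stacks
-/

set_option autoImplicit false
set_option linter.style.haveILetI false
set_option backward.isDefEq.respectTransparency false
set_option backward.isDefEq.respectTransparency.types false

namespace Groth.Agent.H28.RepComp

open CategoryTheory CategoryTheory.Limits FibCat AlgebraicGeometry Opposite Stk MorphismProperty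
open Groth.Agent.Helper22 Groth.Agent.Helper22.EquivComp Groth.Agent.Helper22.FpSq
open Groth.Agent.Helper22.FpEquiv Groth.Agent.H28.LiftFp
open Groth.Agent.H28.FpBase Groth.Agent.H28.PshDict Groth.Agent.H28.IsoCl
open Groth.Agent.H25.AS

universe u

variable {S : Scheme.{u}} {𝒳 𝒴 𝒵 : AlgSt.Cat S}

/-- the base change map `𝒰 ×_𝒵 𝒴 ⟶ 𝒳 ×_𝒵 𝒴` of `u : 𝒰 ⟶ 𝒳` -/
theorem repByAlgSpWith_fpBaseMap {𝒰 : AlgSt.Cat S} (P : MorphismProperty (AlgSp.Sp S))
    (u : 𝒰 ⥤ᵇ 𝒳) (f : 𝒳 ⥤ᵇ 𝒵) (g : 𝒴 ⥤ᵇ 𝒵) (hu : AlgSt.RepByAlgSpWith P u) :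
    AlgSt.RepByAlgSpWith P
      (BasedFunctor.comp (fpBase u f g) (FibCat.fpSnd u (FibCat.fpFst f g))) :=
  repByAlgSpWith_of_sq' P (FibCat.fpSnd u (FibCat.fpFst f g)) _ (fpBase u f g)
    (BasedFunctor.id _) (isEquivOver_fpBase u f g) isEquivOver_id (Iso.refl _)
    (repByAlgSpWith_fpSnd P (FibCat.fpFst f g) u hu)

theorem isQuasiCompactSp_yon_of_affine (V : Over S) (hV : IsAffine V.left) :
    AlgSp.IsQuasiCompactSp ((AlgSp.yon S).obj V) :=
  ⟨V, 𝟙 _, AlgSp.repWith_id _ V, AlgSp.repWith_id _ V, inferInstance⟩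

theorem isQuasiCompactMor_of_rep (K : Precoverage Scheme.{u}) (f : 𝒳 ⥤ᵇ 𝒴)
    (hf : AlgSt.RepByAlgSpWith AlgSp.IsQuasiCompactMor f) : AlgSt.IsQuasiCompactMor K f := by
  intro 𝒲 _ hq g
  obtain ⟨V, v, hV, hv₁, hv₂⟩ := hq
  obtain ⟨F, e, he, hqc⟩ := hf V (BasedFunctor.comp v g)
  have hF : AlgSp.IsQuasiCompactSp F.obj :=
    hqc (AlgSp.IsAlgSpace.yon_obj V) (isQuasiCompactSp_yon_of_affine V hV) (𝟙 _) (𝟙 _)
      (AlgSt.spMapOfOver (BasedFunctor.comp e (FibCat.fpFst (BasedFunctor.comp v g) f)))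
      (IsPullback.of_horiz_isIso ⟨by simp⟩)
  have h1 := repByAlgSpWith_fpBaseMap (AlgSp.LocP @Smooth) v g f hv₁
  have h2 := repByAlgSpWith_fpBaseMap AlgSp.IsSurjectiveMor v g f hv₂
  refine (isQuasiCompact_iff_space_chart).2 ⟨F, BasedFunctor.comp e
    (BasedFunctor.comp (fpBase v g f) (FibCat.fpSnd v (FibCat.fpFst g f))), hF, ?_, ?_⟩
  · exact repByAlgSpWith_of_sq' _ _ _ e (BasedFunctor.id _) he isEquivOver_id (Iso.refl _) h1
  · exact repByAlgSpWith_of_sq' _ _ _ e (BasedFunctor.id _) he isEquivOver_id (Iso.refl _) h2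

theorem isQuasiCompactMor_of_isClosedImm (K : Precoverage Scheme.{u}) (f : 𝒳 ⥤ᵇ 𝒴)
    (hf : AlgSt.IsClosedImm f) : AlgSt.IsQuasiCompactMor K f :=
  isQuasiCompactMor_of_rep K f (repByAlgSpWith_mono (fun _ _ a h =>
    isQuasiCompactMor_of_repWith a (repWith_mono (fun _ _ k hk => by
      have : IsClosedImmersion k := hk
      exact (inferInstance : QuasiCompact k)) h)) f hf)

end Groth.Agent.H28.RepComp
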