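import Mathlib
import Groth.Agent.H28.QcRep
import Groth.Agent.H28.QcComp
import Groth.Agent.H25.AlgSp4
import Groth.Agent.S10519

/-!
# Quasi-compact morphisms of stacks that are representable have quasi-compact base changes
-/

set_option autoImplicit false
set_option linter.style.haveILetI false
set_option backward.isDefEq.respectTransparency false
set_option backward.isDefEq.respectTransparency.types false

namespace Groth.Agent.H28.RepComp

open CategoryTheory CategoryTheory.Limits FibCat AlgebraicGeometry Opposite Stk MorphismProperty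
open Groth.Agent.Helper22 Groth.Agent.Helper22.EquivComp Groth.Agent.Helper22.FpSq
open Groth.Agent.Helper22.FpEquiv Groth.Agent.H28.LiftFp
open Groth.Agent.H28.FpBase Groth.Agent.H28.PshDict Groth.Agent.H28.IsoCl
open Groth.Agent.H25.AS

universe u

variable {S : Scheme.{u}} {𝒳 𝒴 : AlgSt.Cat S}

/-- the source is quasi-compact whenever the target is -/
def QcSrc : MorphismProperty (AlgSp.Sp S) :=
  fun X Y _ => AlgSp.IsQuasiCompactSp Y → AlgSp.IsQuasiCompactSp X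

theorem isSurjectiveMor_of_iso {X Y : AlgSp.Sp S} (e : X ≅ Y) : AlgSp.IsSurjectiveMor e.hom :=
  fun y => ⟨AlgSp.Points.map e.inv y, by
    rw [← AlgSp.Points.map_comp, e.inv_hom_id, AlgSp.Points.map_id]⟩

theorem cancelIso_qcSrc : CancelIso (QcSrc (S := S)) :=
  fun _ _ _ _ hY _ e _ h hZq =>
    isQuasiCompactSp_of_isSurjectiveMor hY e.hom (isSurjectiveMor_of_iso e) (h hZq)

theorem isQuasiCompactSp_of_isQuasiCompact_ofSp (F : AlgSp.Space S)
    (h : AlgSt.IsQuasiCompact (AlgSt.ofSp F.obj)) : AlgSp.IsQuasiCompactSp F.obj := by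
  obtain ⟨V, v, hV, -, hv₂⟩ := h
  let Φ : AlgSt.ofSch V ⥤ᵇ AlgSt.ofSp F.obj := BasedFunctor.comp (AlgSt.toOverCat V) v
  let q : (AlgSp.yon S).obj V ⟶ F.obj := ObjectProperty.homMk (pshMapOf Φ)
  have κ : AlgSt.ofSpMap q ≅ Φ := ofPshMapIso Φ
  have h1 : AlgSt.RepByAlgSpWith AlgSp.IsSurjectiveMor Φ := repByAlgSpWith_toOverCat_comp _ v hv₂
  have h2 : AlgSt.RepByAlgSpWith AlgSp.IsSurjectiveMor (AlgSt.ofSpMap q) :=
    repByAlgSpWith_of_iso _ κ.symm h1
  have hq : AlgSp.IsSurjectiveMor q :=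
    (repByAlgSpWith_ofSpMap_iff goodP_surj.cancelIso goodP_surj.baseChange goodP_surj.descends
      (AlgSp.IsAlgSpace.yon_obj V) F.property q).1 h2
  exact isQuasiCompactSp_of_isSurjectiveMor F.property q hq (isQuasiCompactSp_yon_of_affine V hV)

theorem isQuasiCompact_overCat (U : Over S) (hU : CompactSpace ↥U.left) :
    AlgSt.IsQuasiCompact (FibCat.overCat U) := by
  have hE := Groth.Agent.H28.DiagRep.isEquivOver_toOverCat U
  have e1 := chartFun_smooth (yonSpace U) (𝟙 _) (AlgSp.repWith_id _ U)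
  have e2 := chartFun_surj (yonSpace U) (𝟙 _) (AlgSp.repWith_id _ U)
  exact isQuasiCompact_of_compact_chart
    (BasedFunctor.comp (chartFun (𝟙 ((AlgSp.yon S).obj U))) (AlgSt.toOverCat U)) hU
    (repByAlgSpWith_of_sq _ _ (chartFun (𝟙 ((AlgSp.yon S).obj U))) (BasedFunctor.id _)
      (AlgSt.toOverCat U) isEquivOver_id hE (Iso.refl _) e1)
    (repByAlgSpWith_of_sq _ _ (chartFun (𝟙 ((AlgSp.yon S).obj U))) (BasedFunctor.id _)
      (AlgSt.toOverCat U) isEquivOver_id hE (Iso.refl _) e2)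

theorem repByAlgSpWith_qcSrc (f : 𝒳 ⥤ᵇ 𝒴) (hf1 : AlgSt.RepByAlgSp1 f)
    (hf : AlgSt.IsQuasiCompactMor Scheme.fppfPrecoverage f) : AlgSt.RepByAlgSpWith QcSrc f := by
  intro U y
  obtain ⟨F, e, he⟩ := hf1 U y
  refine ⟨F, e, he, fun hUq => ?_⟩
  have hc : CompactSpace ↥U.left := by
    haveI := compactSpace_of_isQuasiCompactSp hUq
    exact (AlgSp.Points.schemeHomeo U).symm.compactSpace
  have h1 : AlgSt.IsQuasiCompact (FibCat.fp y f) :=
    hf (FibCat.overCat U) (isAlgStack_overCat U) (isQuasiCompact_overCat U hc) y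
  obtain ⟨eI, ⟨β₁⟩, ⟨β₂⟩⟩ := id he
  exact isQuasiCompactSp_of_isQuasiCompact_ofSp F
    (isQuasiCompact_of_equiv eI ⟨e, ⟨β₂⟩, ⟨β₁⟩⟩ h1)

theorem repByAlgSpWith_qc_of_isQuasiCompactMor (h𝒳 : FibCat.IsFibGrpd 𝒳.p)
    (h𝒴 : FibCat.IsFibGrpd 𝒴.p) (f : 𝒳 ⥤ᵇ 𝒴) (hf1 : AlgSt.RepByAlgSp1 f)
    (hf : AlgSt.IsQuasiCompactMor Scheme.fppfPrecoverage f) :
    AlgSt.RepByAlgSpWith AlgSp.IsQuasiCompactMor f := by
  have hQ := repByAlgSpWith_qcSrc f hf1 hf
  have hiso : CancelIso (AlgSp.IsQuasiCompactMor (S := S)) :=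
    cancelIso_of_baseChange _ (fun _ _ _ _ _ _ _ _ _ _ _ _ sq ha =>
      isQuasiCompactMor_of_isPullback sq ha)
  have hD : DescendsP (AlgSp.IsQuasiCompactMor (S := S)) :=
    descendsP_of_fppf _ (isLocalOnBase_fppf_of_fpqc (Groth.Agent.S10519.result S))
  refine (repByAlgSpWith_iff_space h𝒳 h𝒴 AlgSp.IsQuasiCompactMor hiso hD f).2 (fun Z z => ?_)
  obtain ⟨W, w₀, Ew, hEw, ⟨κ⟩, hrep⟩ := boot QcSrc cancelIso_qcSrc h𝒳 h𝒴 f hQ Z.obj.obj z
  obtain ⟨hWs, hWa⟩ := Groth.Agent.H28.RepBySp.isAlgSpaceP_of_repBySp w₀ hrep.repBySp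
    ((AlgSp.isAlgSpaceP_obj_iff _).2 Z.property)
  let V : AlgSp.Space S := ⟨⟨W, hWs⟩, hWa⟩
  let w : V.obj ⟶ Z.obj := ObjectProperty.homMk w₀
  refine ⟨V, ObjectProperty.homMk w, Ew, hEw, ⟨κ⟩, ?_⟩
  show AlgSp.IsQuasiCompactMor w
  refine isQuasiCompactMor_of_affine w (fun Z₀ hZ₀ g P fst snd sq => ?_)
  have sq' : IsPullback fst.hom snd.hom w.hom g.hom :=
    sq.map (sheafToPresheaf (AlgSp.J S) (Type (u + 1)))
  obtain ⟨h, hA, hq⟩ := hrep g.hom fst.hom snd.hom sq'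
  exact hq (isQuasiCompactSp_yon_of_affine Z₀ hZ₀)

end Groth.Agent.H28.RepComp
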