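import Mathlib
import Groth.Agent.H28.QcRep2

/-!
# More on quasi-compact morphisms of algebraic stacks
-/

set_option autoImplicit false
set_option linter.style.haveILetI false
set_option backward.isDefEq.respectTransparency false
set_option backward.isDefEq.respectTransparency.types false

namespace Groth.Agent.H28.RepComp

open CategoryTheory CategoryTheory.Limits FibCat AlgebraicGeometry Opposite Stk MorphismProperty
open Groth.Agent.Helper22 Groth.Agent.Helper22.EquivComp Groth.Agent.Helper22.FpSq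
open Groth.Agent.Helper22.FpEquiv Groth.Agent.H28.LiftFp
open Groth.Agent.H28.FpBase Groth.Agent.H28.PshDict Groth.Agent.H28.IsoCl
open Groth.Agent.H25.AS

universe u

variable {S : Scheme.{u}}

section sq

variable {𝒳 𝒴 𝒳' 𝒴' 𝒵 : AlgSt.Cat S}

theorem isQuasiCompactMor_of_sq (K : Precoverage Scheme.{u}) (f : 𝒳 ⥤ᵇ 𝒴) (f' : 𝒳' ⥤ᵇ 𝒴')
    (a : 𝒳' ⥤ᵇ 𝒳) (b : 𝒴' ⥤ᵇ 𝒴) (ha : FibCat.IsEquivOver a) (hb : FibCat.IsEquivOver b)
    (e : BasedFunctor.comp f' b ≅ BasedFunctor.comp a f) (hf : AlgSt.IsQuasiCompactMor K f) :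
    AlgSt.IsQuasiCompactMor K f' := by
  intro 𝒲 h𝒲 hq k
  have h1 := hf 𝒲 h𝒲 hq (BasedFunctor.comp k b)
  obtain ⟨Q, ⟨σ₁⟩, ⟨σ₂⟩⟩ :=
    id (isEquivOver_sqFun (BasedFunctor.comp k b) f k f' a b (Iso.refl _) e ha hb)
  exact isQuasiCompact_of_equiv Q ⟨_, ⟨σ₂⟩, ⟨σ₁⟩⟩ h1

theorem isQuasiCompactMor_fpFst (K : Precoverage Scheme.{u}) (f : 𝒳 ⥤ᵇ 𝒴) (g : 𝒵 ⥤ᵇ 𝒴)
    (hf : AlgSt.IsQuasiCompactMor K f) : AlgSt.IsQuasiCompactMor K (FibCat.fpFst g f) := by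
  intro 𝒲 h𝒲 hq k
  exact isQuasiCompact_of_equiv (fpBase k g f) (isEquivOver_fpBase k g f)
    (hf 𝒲 h𝒲 hq (BasedFunctor.comp k g))

theorem isQuasiCompactMor_fpSnd (K : Precoverage Scheme.{u}) (f : 𝒳 ⥤ᵇ 𝒴) (z : 𝒵 ⥤ᵇ 𝒴)
    (hz : AlgSt.IsQuasiCompactMor K z) : AlgSt.IsQuasiCompactMor K (FibCat.fpSnd z f) :=
  isQuasiCompactMor_of_sq K (FibCat.fpFst f z) (FibCat.fpSnd z f) (fpSwapB z f)
    (BasedFunctor.id 𝒳) (isEquivOver_fpSwapB z f) isEquivOver_id (Iso.refl _)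
    (isQuasiCompactMor_fpFst K z f hz)

end sq

section main

variable {𝒳 𝒴 𝒵 : AlgSt.Cat S}

theorem isQuasiCompactMor_of_comp_qs (K : Precoverage Scheme.{u}) (h𝒳 : AlgSt.IsAlgStack K 𝒳)
    (h𝒴 : AlgSt.IsAlgStack K 𝒴) (h𝒵 : AlgSt.IsAlgStack K 𝒵) (f : 𝒳 ⥤ᵇ 𝒴) (g : 𝒴 ⥤ᵇ 𝒵)
    (hfg : AlgSt.IsQuasiCompactMor K (BasedFunctor.comp f g))
    (hg : AlgSt.IsQuasiSeparatedMor g) : AlgSt.IsQuasiCompactMor K f := by
  let a : 𝒳 ⥤ᵇ 𝒵 := BasedFunctor.comp f g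
  let e' : BasedFunctor.comp (BasedFunctor.id 𝒳) a ≅ BasedFunctor.comp f g := Iso.refl _
  have hΔ : AlgSt.RepByAlgSpWith AlgSp.IsQuasiCompactMor (FibCat.diag g) :=
    repByAlgSpWith_mono (fun _ _ _ h => h.1) _ hg
  have h1 : AlgSt.RepByAlgSpWith AlgSp.IsQuasiCompactMor
      (FibCat.fpLift (BasedFunctor.id 𝒳) f e') := repByAlgSpWith_graph _ a g f e' hΔ
  have h1' : AlgSt.IsQuasiCompactMor K (FibCat.fpLift (BasedFunctor.id 𝒳) f e') :=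
    isQuasiCompactMor_of_rep K _ h1
  have h2 : AlgSt.IsQuasiCompactMor K (FibCat.fpSnd a g) := isQuasiCompactMor_fpSnd K g a hfg
  have h𝒫 : AlgSt.IsAlgStack K (FibCat.fp a g) :=
    isAlgStack_fp K h𝒵.isStack h𝒵.diag h𝒳 h𝒴 a g
  exact isQuasiCompactMor_comp K h𝒫 h𝒴.isStack h𝒴.diag
    (FibCat.fpLift (BasedFunctor.id 𝒳) f e') (FibCat.fpSnd a g) h1' h2

theorem isEquivOver_toSelf_terminal :
    FibCat.IsEquivOver (FibCat.toSelf (FibCat.overCat (Over.mk (𝟙 S)))) := by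
  let T : Over S := Over.mk (𝟙 S)
  let F : FibCat.overCat T ⥤ᵇ FibCat.selfOver (Over S) := FibCat.toSelf (FibCat.overCat T)
  haveI : F.toFunctor.Faithful := ⟨fun {X X'} m m' h => Over.OverMorphism.ext h⟩
  haveI : F.toFunctor.Full :=
    ⟨fun {X X'} n => ⟨Over.homMk n (Over.mkIdTerminal.hom_ext _ _), rfl⟩⟩
  apply FibLift.isEquivOver_of_ff
  intro η
  exact ⟨Over.mk (Over.mkIdTerminal.from η), Iso.refl _, IsHomLift.id rfl⟩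

theorem repByAlgSpWith_qc_toSelf_overCat [QuasiSeparatedSpace ↥S] (V : Over S)
    (hV : CompactSpace ↥V.left) :
    AlgSt.RepByAlgSpWith AlgSp.IsQuasiCompactMor (FibCat.toSelf (FibCat.overCat V)) := by
  let T : Over S := Over.mk (𝟙 S)
  let j : V ⟶ T := Over.homMk V.hom (by simp [T])
  have hj : QuasiCompact j.left := by
    show QuasiCompact V.hom
    infer_instance
  have h0 : AlgSp.RepWith @QuasiCompact ((AlgSp.yon S).map j) :=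
    (AlgSp.repWith_yon_map_iff @QuasiCompact j).2 hj
  have h1 : AlgSp.IsQuasiCompactMor ((AlgSp.yon S).map j) := isQuasiCompactMor_of_repWith _ h0
  have h2 : AlgSt.RepByAlgSpWith AlgSp.IsQuasiCompactMor (AlgSt.ofSpMap ((AlgSp.yon S).map j)) :=
    (repByAlgSpWith_ofSpMap_iff goodP_qc.cancelIso goodP_qc.baseChange goodP_qc.descends
      (AlgSp.IsAlgSpace.yon_obj V) (AlgSp.IsAlgSpace.yon_obj T) _).2 h1
  exact repByAlgSpWith_of_sq _ (FibCat.toSelf (FibCat.overCat V))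
    (AlgSt.ofSpMap ((AlgSp.yon S).map j)) (AlgSt.toOverCat V)
    (BasedFunctor.comp (AlgSt.toOverCat T) (FibCat.toSelf (FibCat.overCat T)))
    (Groth.Agent.H28.DiagRep.isEquivOver_toOverCat V)
    (isEquivOver_comp _ _ (Groth.Agent.H28.DiagRep.isEquivOver_toOverCat T)
      isEquivOver_toSelf_terminal)
    (selfIso _ _) h2

theorem isQuasiCompact_of_smooth_surj {𝒜 ℬ : AlgSt.Cat S} (h𝒜 : FibCat.IsFibGrpd 𝒜.p)
    (m : 𝒜 ⥤ᵇ ℬ) (hm₁ : AlgSt.RepByAlgSpWith (AlgSp.LocP @Smooth) m)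
    (hm₂ : AlgSt.RepByAlgSpWith AlgSp.IsSurjectiveMor m) (h : AlgSt.IsQuasiCompact 𝒜) :
    AlgSt.IsQuasiCompact ℬ := by
  obtain ⟨U, x, hU, h1, h2⟩ := h
  exact ⟨U, BasedFunctor.comp x m, hU,
    repByAlgSpWith_comp_goodP (goodP_locP etLoc_smooth) (OverFib.isFibGrpd_over U) h𝒜 x m h1 hm₁,
    repByAlgSpWith_comp_goodP goodP_surj (OverFib.isFibGrpd_over U) h𝒜 x m h2 hm₂⟩

/-- the base change map `𝒲 ×_𝒯 𝒱 ⟶ 𝒲 ×_𝒯 𝒳` of `v : 𝒱 ⟶ 𝒳` -/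
theorem repByAlgSpWith_pasteMap {𝒲 𝒱 𝒯 : AlgSt.Cat S} (P : MorphismProperty (AlgSp.Sp S))
    (k : 𝒲 ⥤ᵇ 𝒯) (t : 𝒳 ⥤ᵇ 𝒯) (v : 𝒱 ⥤ᵇ 𝒳) (hv : AlgSt.RepByAlgSpWith P v) :
    AlgSt.RepByAlgSpWith P
      (BasedFunctor.comp (paste k t v) (FibCat.fpFst (FibCat.fpSnd k t) v)) :=
  repByAlgSpWith_of_sq' P (FibCat.fpFst (FibCat.fpSnd k t) v) _ (paste k t v)
    (BasedFunctor.id _) (isEquivOver_paste k t v) isEquivOver_id (Iso.refl _)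
    (repByAlgSpWith_fpFst P v (FibCat.fpSnd k t) hv)

theorem isQuasiCompactMor_toSelf [QuasiSeparatedSpace ↥S] (K : Precoverage Scheme.{u})
    (hq : AlgSt.IsQuasiCompact 𝒳) : AlgSt.IsQuasiCompactMor K (FibCat.toSelf 𝒳) := by
  intro 𝒲 h𝒲 hq𝒲 k
  obtain ⟨V, v, hV, hv₁, hv₂⟩ := hq
  have hVt : AlgSt.IsQuasiCompactMor K (BasedFunctor.comp v (FibCat.toSelf 𝒳)) := by
    rw [toSelf_comp v]
    exact isQuasiCompactMor_of_rep K _ (repByAlgSpWith_qc_toSelf_overCat V inferInstance)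
  have h1 : AlgSt.IsQuasiCompact (FibCat.fp k (BasedFunctor.comp v (FibCat.toSelf 𝒳))) :=
    hVt 𝒲 h𝒲 hq𝒲 k
  exact isQuasiCompact_of_smooth_surj
    (Groth.Agent.S6401.result k (BasedFunctor.comp v (FibCat.toSelf 𝒳)) h𝒲.isStack.1
      (OverFib.isFibGrpd_over V) SelfOver.isFibGrpd_self) _
    (repByAlgSpWith_pasteMap _ k (FibCat.toSelf 𝒳) v hv₁)
    (repByAlgSpWith_pasteMap _ k (FibCat.toSelf 𝒳) v hv₂) h1

theorem isQuasiCompactMor_of_qc_of_qs [QuasiSeparatedSpace ↥S]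
    (h𝒳 : AlgSt.IsAlgStack Scheme.fppfPrecoverage 𝒳)
    (h𝒴 : AlgSt.IsAlgStack Scheme.fppfPrecoverage 𝒴) (f : 𝒳 ⥤ᵇ 𝒴)
    (hq : AlgSt.IsQuasiCompact 𝒳) (hqs : AlgSt.IsQuasiSeparatedOver 𝒴) :
    AlgSt.IsQuasiCompactMor Scheme.fppfPrecoverage f := by
  have hself : AlgSt.IsAlgStack Scheme.fppfPrecoverage (FibCat.selfOver (Over S)) :=
    (isDM_of_repByAlgSp repByAlgSp_selfOver).1
  have h1 : AlgSt.IsQuasiCompactMor Scheme.fppfPrecoverage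
      (BasedFunctor.comp f (FibCat.toSelf 𝒴)) := by
    rw [toSelf_comp f]
    exact isQuasiCompactMor_toSelf _ hq
  exact isQuasiCompactMor_of_comp_qs _ h𝒳 h𝒴 hself f (FibCat.toSelf 𝒴) h1 hqs

end main

end Groth.Agent.H28.RepComp
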