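import Mathlib
import Groth.Agent.H28.PtsTop
import Groth.Agent.H28.QcMore

/-!
# Quasi-compactness and surjections of algebraic stacks
-/

set_option autoImplicit false
set_option linter.style.haveILetI false
set_option backward.isDefEq.respectTransparency false
set_option backward.isDefEq.respectTransparency.types false

namespace Groth.Agent.H28.RepComp

open CategoryTheory CategoryTheory.Limits FibCat AlgebraicGeometry Opposite Stk MorphismProperty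
open Groth.Agent.Helper22 Groth.Agent.Helper22.EquivComp Groth.Agent.Helper22.FpSq
open Groth.Agent.Helper22.FpEquiv Groth.Agent.H28.LiftFp
open Groth.Agent.H28.FpBase Groth.Agent.H28.PshDict Groth.Agent.H28.IsoCl
open Groth.Agent.H25.AS

universe u

variable {S : Scheme.{u}} {𝒳 𝒴 𝒵 : AlgSt.Cat S}

theorem isQuasiCompact_of_surjective {𝒰 : AlgSt.Cat S}
    (h𝒰 : AlgSt.IsAlgStack Scheme.fppfPrecoverage 𝒰)
    (h𝒳 : AlgSt.IsAlgStack Scheme.fppfPrecoverage 𝒳) (f : 𝒰 ⥤ᵇ 𝒳) (hf : AlgSt.IsSurjective f)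
    (h : AlgSt.IsQuasiCompact 𝒰) : AlgSt.IsQuasiCompact 𝒳 := by
  haveI := compactSpace_of_isQuasiCompact h𝒰 h
  apply isQuasiCompact_of_compactSpace h𝒳
  constructor
  rw [← Set.range_eq_univ.2 hf]
  exact isCompact_range (continuous_points_map h𝒳 f)

theorem isQuasiCompactMor_of_surjective_comp
    (h𝒳 : AlgSt.IsAlgStack Scheme.fppfPrecoverage 𝒳)
    (h𝒴 : AlgSt.IsAlgStack Scheme.fppfPrecoverage 𝒴)
    (h𝒵 : AlgSt.IsAlgStack Scheme.fppfPrecoverage 𝒵)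
    (f : 𝒳 ⥤ᵇ 𝒴) (p : 𝒳 ⥤ᵇ 𝒵) (q : 𝒴 ⥤ᵇ 𝒵) (e : BasedFunctor.comp f q ≅ p)
    (hf : AlgSt.IsSurjective f) (hp : AlgSt.IsQuasiCompactMor Scheme.fppfPrecoverage p) :
    AlgSt.IsQuasiCompactMor Scheme.fppfPrecoverage q := by
  have hp' : AlgSt.IsQuasiCompactMor Scheme.fppfPrecoverage (BasedFunctor.comp f q) :=
    isQuasiCompactMor_of_sq _ p (BasedFunctor.comp f q) (BasedFunctor.id _) (BasedFunctor.id _)
      isEquivOver_id isEquivOver_id e hp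
  intro 𝒲 h𝒲 hq k
  have h1 : AlgSt.IsQuasiCompact (FibCat.fp k (BasedFunctor.comp f q)) := hp' 𝒲 h𝒲 hq k
  have h𝒫 : AlgSt.IsAlgStack Scheme.fppfPrecoverage (FibCat.fp k q) :=
    isAlgStack_fp _ h𝒵.isStack h𝒵.diag h𝒲 h𝒴 k q
  have h𝒫' : AlgSt.IsAlgStack Scheme.fppfPrecoverage (FibCat.fp (FibCat.fpSnd k q) f) :=
    isAlgStack_fp _ h𝒴.isStack h𝒴.diag h𝒫 h𝒳 (FibCat.fpSnd k q) f
  have h2 : AlgSt.IsQuasiCompact (FibCat.fp (FibCat.fpSnd k q) f) :=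
    isQuasiCompact_of_equiv (paste k q f) (isEquivOver_paste k q f) h1
  have hs : AlgSt.IsSurjective (FibCat.fpFst (FibCat.fpSnd k q) f) :=
    isSurjective_fpFst h𝒳.isStack.1 h𝒴.isStack.1 h𝒫.isStack.1 f (FibCat.fpSnd k q) hf
  exact isQuasiCompact_of_surjective h𝒫' h𝒫 _ hs h2

/-- a quasi-compact open part of a flat, locally finitely presented surjective chart already
covers a quasi-compact stack -/
theorem exists_compact_open_chart (h𝒵 : AlgSt.IsAlgStack Scheme.fppfPrecoverage 𝒵)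
    (hc : CompactSpace (AlgSt.Points 𝒵)) {T : Over S} (ρ : FibCat.overCat T ⥤ᵇ 𝒵)
    (hρ₁ : AlgSt.RepByAlgSpWith (AlgSp.LocP @Flat) ρ)
    (hρ₂ : AlgSt.RepByAlgSpWith (AlgSp.LocP @LocallyOfFinitePresentation) ρ)
    (hρs : Function.Surjective (AlgSt.Points.ofChart ρ)) :
    ∃ T₀ : T.left.Opens, IsCompact (T₀ : Set ↥T.left) ∧
      ∀ z : AlgSt.Points 𝒵, ∃ s ∈ T₀, AlgSt.Points.ofChart ρ s = z := by
  have hopen : ∀ A : T.left.affineOpens,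
      IsOpen (AlgSt.Points.ofChart ρ '' ((A : T.left.Opens) : Set ↥T.left)) := fun A =>
    isOpenMap_ofChart h𝒵 ρ hρ₁ hρ₂ _ (A : T.left.Opens).isOpen
  have hcov : (Set.univ : Set (AlgSt.Points 𝒵)) ⊆
      ⋃ A : T.left.affineOpens, AlgSt.Points.ofChart ρ '' ((A : T.left.Opens) : Set ↥T.left) := by
    intro z _
    obtain ⟨s, rfl⟩ := hρs z
    obtain ⟨_, ⟨A, hA, rfl⟩, hsA, -⟩ :=
      T.left.isBasis_affineOpens.exists_subset_of_mem_open (Set.mem_univ s) isOpen_univ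
    exact Set.mem_iUnion.2 ⟨⟨A, hA⟩, s, hsA, rfl⟩
  obtain ⟨I, hI⟩ := isCompact_univ.elim_finite_subcover _ hopen hcov
  refine ⟨⨆ A ∈ I, (A : T.left.Opens), ?_, ?_⟩
  · have h0 : ((⨆ A ∈ I, (A : T.left.Opens) : T.left.Opens) : Set ↥T.left) =
        ⋃ A ∈ I, ((A : T.left.Opens) : Set ↥T.left) := by
      simp
    rw [h0]
    exact I.isCompact_biUnion (fun A _ => IsAffineOpen.isCompact A.2)
  · intro z
    obtain ⟨A, hA, s, hsA, rfl⟩ := Set.mem_iUnion₂.1 (hI (Set.mem_univ z))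
    exact ⟨s, TopologicalSpace.Opens.mem_iSup.2 ⟨A, TopologicalSpace.Opens.mem_iSup.2 ⟨hA, hsA⟩⟩,
      rfl⟩

theorem isSurjective_restrict {T : Over S} (ρ : FibCat.overCat T ⥤ᵇ 𝒵) (T₀ : T.left.Opens)
    (h : ∀ z : AlgSt.Points 𝒵, ∃ s ∈ T₀, AlgSt.Points.ofChart ρ s = z) :
    AlgSt.IsSurjective (BasedFunctor.comp
      (AlgSt.overMap (Over.homMk T₀.ι rfl : Over.mk (T₀.ι ≫ T.hom) ⟶ T)) ρ) := by
  intro z
  obtain ⟨s, hs, rfl⟩ := h z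
  obtain ⟨s', rfl⟩ : s ∈ Set.range T₀.ι := by
    rw [Scheme.Opens.range_ι]
    exact hs
  exact ⟨AlgSt.Points.ofChart (BasedFunctor.id (FibCat.overCat (Over.mk (T₀.ι ≫ T.hom)))) s',
    ofChart_overMap (Over.homMk T₀.ι rfl : Over.mk (T₀.ι ≫ T.hom) ⟶ T) ρ s'⟩

theorem isQuasiCompactMor_of_fppf_cover
    (h𝒳 : AlgSt.IsAlgStack Scheme.fppfPrecoverage 𝒳)
    (h𝒴 : AlgSt.IsAlgStack Scheme.fppfPrecoverage 𝒴) (f : 𝒳 ⥤ᵇ 𝒴)
    (W : AlgSp.Space S) (w : AlgSt.ofSp W.obj ⥤ᵇ 𝒴)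
    (hw₁ : AlgSt.RepByAlgSpWith (AlgSp.LocP @Flat) w)
    (hw₂ : AlgSt.RepByAlgSpWith (AlgSp.LocP @LocallyOfFinitePresentation) w)
    (hw₃ : AlgSt.RepByAlgSpWith AlgSp.IsSurjectiveMor w)
    (h : AlgSt.IsQuasiCompactMor Scheme.fppfPrecoverage (FibCat.fpFst w f)) :
    AlgSt.IsQuasiCompactMor Scheme.fppfPrecoverage f := by
  intro 𝒵 h𝒵 hq g
  have hWalg : AlgSt.IsAlgStack Scheme.fppfPrecoverage (AlgSt.ofSp W.obj) := (isDM_ofSp W).1
  have h𝒬 : AlgSt.IsAlgStack Scheme.fppfPrecoverage (FibCat.fp g w) :=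
    isAlgStack_fp _ h𝒴.isStack h𝒴.diag h𝒵 hWalg g w
  obtain ⟨T, t, ht₁, ht₂⟩ := h𝒬.atlas
  have hT := OverFib.isFibGrpd_over T
  let ρ : FibCat.overCat T ⥤ᵇ 𝒵 := BasedFunctor.comp t (FibCat.fpFst g w)
  have hρ₁ : AlgSt.RepByAlgSpWith (AlgSp.LocP @Flat) ρ :=
    repByAlgSpWith_comp_goodP (goodP_locP etLoc_flat) hT h𝒬.isStack.1 t _
      (repByAlgSpWith_mono_le (locP_mono smooth_le_flat) ht₁) (repByAlgSpWith_fpFst _ w g hw₁)
  have hρ₂ : AlgSt.RepByAlgSpWith (AlgSp.LocP @LocallyOfFinitePresentation) ρ :=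
    repByAlgSpWith_comp_goodP (goodP_locP etLoc_locallyOfFinitePresentation) hT h𝒬.isStack.1 t _
      (repByAlgSpWith_mono_le (locP_mono smooth_le_lfp) ht₁) (repByAlgSpWith_fpFst _ w g hw₂)
  have hρ₃ : AlgSt.RepByAlgSpWith AlgSp.IsSurjectiveMor ρ :=
    repByAlgSpWith_comp_goodP goodP_surj hT h𝒬.isStack.1 t _ ht₂
      (repByAlgSpWith_fpFst _ w g hw₃)
  have hρs : Function.Surjective (AlgSt.Points.ofChart ρ) :=
    ofChart_surjective ρ (isSurjective_of_repByAlgSpWith_surj h𝒵.isStack.1 ρ hρ₃)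
  obtain ⟨T₀, hT₀c, hT₀s⟩ := exists_compact_open_chart h𝒵
    (compactSpace_of_isQuasiCompact h𝒵 hq) ρ hρ₁ hρ₂ hρs
  let T' : Over S := Over.mk (T₀.ι ≫ T.hom)
  let j : T' ⟶ T := Over.homMk T₀.ι rfl
  have hT'c : CompactSpace ↥T'.left := isCompact_iff_compactSpace.1 hT₀c
  let ρ' : FibCat.overCat T' ⥤ᵇ 𝒵 := BasedFunctor.comp (AlgSt.overMap j) ρ
  have hρ's : AlgSt.IsSurjective ρ' := isSurjective_restrict ρ T₀ hT₀s
  have hT'q : AlgSt.IsQuasiCompact (FibCat.overCat T') := isQuasiCompact_overCat T' hT'c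
  have hT'alg := isAlgStack_overCat T'
  let σ : FibCat.overCat T' ⥤ᵇ AlgSt.ofSp W.obj :=
    BasedFunctor.comp (AlgSt.overMap j) (BasedFunctor.comp t (FibCat.fpSnd g w))
  have ι : BasedFunctor.comp ρ' g ≅ BasedFunctor.comp σ w :=
    whiskerLeftIso (AlgSt.overMap j) (whiskerLeftIso t (FibCat.fpIso g w))
  have h1 : AlgSt.IsQuasiCompact (FibCat.fp σ (FibCat.fpFst w f)) :=
    h (FibCat.overCat T') hT'alg hT'q σ
  have h2 : AlgSt.IsQuasiCompact (FibCat.fp (BasedFunctor.comp σ w) f) := by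
    obtain ⟨Q, ⟨σ₁⟩, ⟨σ₂⟩⟩ := id (isEquivOver_fpBase σ w f)
    exact isQuasiCompact_of_equiv Q ⟨_, ⟨σ₂⟩, ⟨σ₁⟩⟩ h1
  have h3 : AlgSt.IsQuasiCompact (FibCat.fp (BasedFunctor.comp ρ' g) f) :=
    isQuasiCompact_of_equiv
      (sqFun (BasedFunctor.comp ρ' g) f (BasedFunctor.comp σ w) f (BasedFunctor.id _)
        (BasedFunctor.id _) ι.symm (Iso.refl _))
      (isEquivOver_sqFun (BasedFunctor.comp ρ' g) f (BasedFunctor.comp σ w) f (BasedFunctor.id _)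
        (BasedFunctor.id _) ι.symm (Iso.refl _) isEquivOver_id isEquivOver_id) h2
  have h4 : AlgSt.IsQuasiCompact (FibCat.fp ρ' (FibCat.fpFst g f)) :=
    isQuasiCompact_of_equiv (fpBase ρ' g f) (isEquivOver_fpBase ρ' g f) h3
  have h𝒫 : AlgSt.IsAlgStack Scheme.fppfPrecoverage (FibCat.fp g f) :=
    isAlgStack_fp _ h𝒴.isStack h𝒴.diag h𝒵 h𝒳 g f
  have h𝒫' : AlgSt.IsAlgStack Scheme.fppfPrecoverage (FibCat.fp (FibCat.fpFst g f) ρ') :=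
    isAlgStack_fp _ h𝒵.isStack h𝒵.diag h𝒫 hT'alg (FibCat.fpFst g f) ρ'
  have h5 : AlgSt.IsQuasiCompact (FibCat.fp (FibCat.fpFst g f) ρ') :=
    isQuasiCompact_of_equiv (fpSwapB ρ' (FibCat.fpFst g f))
      (isEquivOver_fpSwapB ρ' (FibCat.fpFst g f)) h4
  have hs : AlgSt.IsSurjective (FibCat.fpFst (FibCat.fpFst g f) ρ') :=
    isSurjective_fpFst hT'alg.isStack.1 h𝒵.isStack.1 h𝒫.isStack.1 ρ' (FibCat.fpFst g f) hρ's
  exact isQuasiCompact_of_surjective h𝒫' h𝒫 _ hs h5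

end Groth.Agent.H28.RepComp
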