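import Mathlib
import Groth.Agent.H28.QcSurj

/-!
# Open maps on points; finite subcovers; descent of universal injectivity
-/

set_option autoImplicit false
set_option linter.style.haveILetI false
set_option backward.isDefEq.respectTransparency false
set_option backward.isDefEq.respectTransparency.types false

namespace Groth.Agent.H28.RepComp

open CategoryTheory CategoryTheory.Limits FibCat AlgebraicGeometry Opposite Stk MorphismProperty
open Groth.Agent.Helper22 Groth.Agent.Helper22.EquivComp Groth.Agent.Helper22.FpSq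
open Groth.Agent.Helper22.FpEquiv Groth.Agent.H28.LiftFp
open Groth.Agent.H28.FpBase Groth.Agent.H28.PshDict Groth.Agent.H28.IsoCl
open Groth.Agent.H25.AS

universe w u

variable {S : Scheme.{u}} {𝒳 𝒴 𝒵 : AlgSt.Cat S}

/-- flat, locally finitely presented representable morphisms of algebraic stacks are open on points -/
theorem isOpenMap_points_map (h𝒴 : AlgSt.IsAlgStack Scheme.fppfPrecoverage 𝒴)
    (h𝒳 : AlgSt.IsAlgStack Scheme.fppfPrecoverage 𝒳) (f : 𝒴 ⥤ᵇ 𝒳)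
    (hf₁ : AlgSt.RepByAlgSpWith (AlgSp.LocP @Flat) f)
    (hf₂ : AlgSt.RepByAlgSpWith (AlgSp.LocP @LocallyOfFinitePresentation) f) :
    IsOpenMap (AlgSt.Points.map f) := by
  intro W hW
  obtain ⟨V, v, hv₁, hv₂⟩ := h𝒴.atlas
  have hvs : Function.Surjective (AlgSt.Points.ofChart v) :=
    ofChart_surjective v (isSurjective_of_repByAlgSpWith_surj h𝒴.isStack.1 v hv₂)
  have hWV : IsOpen (AlgSt.Points.ofChart v ⁻¹' W) := AlgSt.Points.isOpen_iff.1 hW V v hv₁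
  have himg : AlgSt.Points.map f '' W =
      AlgSt.Points.ofChart (BasedFunctor.comp v f) '' (AlgSt.Points.ofChart v ⁻¹' W) := by
    ext z
    constructor
    · rintro ⟨w, hw, rfl⟩
      obtain ⟨s, rfl⟩ := hvs w
      exact ⟨s, hw, rfl⟩
    · rintro ⟨s, hs, rfl⟩
      exact ⟨AlgSt.Points.ofChart v s, hs, rfl⟩
  rw [himg]
  have hV := OverFib.isFibGrpd_over V
  exact isOpenMap_ofChart h𝒳 (BasedFunctor.comp v f)
    (repByAlgSpWith_comp_goodP (goodP_locP etLoc_flat) hV h𝒴.isStack.1 v f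
      (repByAlgSpWith_mono_le (locP_mono smooth_le_flat) hv₁) hf₁)
    (repByAlgSpWith_comp_goodP (goodP_locP etLoc_locallyOfFinitePresentation) hV h𝒴.isStack.1 v f
      (repByAlgSpWith_mono_le (locP_mono smooth_le_lfp) hv₁) hf₂) _ hWV

theorem openImm_flat {f : 𝒴 ⥤ᵇ 𝒳} (hf : AlgSt.IsOpenImm f) :
    AlgSt.RepByAlgSpWith (AlgSp.LocP @Flat) f :=
  repByAlgSpWith_mono_le (fun _ _ _ hg =>
    locP_of_repWith (fun g hg => by haveI := hg; infer_instance)
      (repWith_mono (fun _ _ g hg => by haveI : IsOpenImmersion g := hg; infer_instance) hg)) hf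

theorem openImm_lfp {f : 𝒴 ⥤ᵇ 𝒳} (hf : AlgSt.IsOpenImm f) :
    AlgSt.RepByAlgSpWith (AlgSp.LocP @LocallyOfFinitePresentation) f :=
  repByAlgSpWith_mono_le (fun _ _ _ hg =>
    locP_of_repWith (fun g hg => by haveI := hg; infer_instance)
      (repWith_mono (fun _ _ g hg => by haveI : IsOpenImmersion g := hg; infer_instance) hg)) hf

theorem isOpen_range_of_openImm (h𝒴 : AlgSt.IsAlgStack Scheme.fppfPrecoverage 𝒴)
    (h𝒳 : AlgSt.IsAlgStack Scheme.fppfPrecoverage 𝒳) (f : 𝒴 ⥤ᵇ 𝒳) (hf : AlgSt.IsOpenImm f) :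
    IsOpen (Set.range (AlgSt.Points.map f)) :=
  (isOpenMap_points_map h𝒴 h𝒳 f (openImm_flat hf) (openImm_lfp hf)).isOpen_range

theorem finite_subcover_substacks (h𝒳 : AlgSt.IsAlgStack Scheme.fppfPrecoverage 𝒳)
    (Q' : 𝒳.obj → Prop) (hQ' : AlgSt.IsOpenSubstack 𝒳 Q' Scheme.fppfPrecoverage)
    (hqc : AlgSt.IsQuasiCompact (AlgSt.fullSub 𝒳 Q'))
    {ι : Type w} (Q : ι → 𝒳.obj → Prop)
    (hQ : ∀ i, AlgSt.IsOpenSubstack 𝒳 (Q i) Scheme.fppfPrecoverage)
    (hcov : Set.range (AlgSt.Points.map (AlgSt.subIncl 𝒳 Q')) ⊆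
      ⋃ i, Set.range (AlgSt.Points.map (AlgSt.subIncl 𝒳 (Q i)))) :
    ∃ I' : Finset ι, Set.range (AlgSt.Points.map (AlgSt.subIncl 𝒳 Q')) ⊆
      ⋃ i ∈ I', Set.range (AlgSt.Points.map (AlgSt.subIncl 𝒳 (Q i))) := by
  haveI := compactSpace_of_isQuasiCompact hQ'.2.1 hqc
  have hK : IsCompact (Set.range (AlgSt.Points.map (AlgSt.subIncl 𝒳 Q'))) :=
    isCompact_range (continuous_points_map h𝒳 (AlgSt.subIncl 𝒳 Q'))
  exact hK.elim_finite_subcover _
    (fun i => isOpen_range_of_openImm (hQ i).2.1 h𝒳 _ (hQ i).2.2) hcov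

section inj

variable {𝒜 ℬ 𝒞 : AlgSt.Cat S}

theorem injective_comp_of_equiv (E : 𝒜 ⥤ᵇ ℬ) (hE : FibCat.IsEquivOver E) (F : ℬ ⥤ᵇ 𝒞)
    (hF : Function.Injective (AlgSt.Points.map F)) :
    Function.Injective (AlgSt.Points.map (BasedFunctor.comp E F)) := by
  intro a b hab
  rw [points_map_comp, points_map_comp] at hab
  exact points_map_injective_of_isEquivOver E hE (hF hab)

theorem injective_of_comp_equiv (E : 𝒜 ⥤ᵇ ℬ) (hE : FibCat.IsEquivOver E) (F : ℬ ⥤ᵇ 𝒞)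
    (h : Function.Injective (AlgSt.Points.map (BasedFunctor.comp E F))) :
    Function.Injective (AlgSt.Points.map F) := by
  intro a b hab
  obtain ⟨a', rfl⟩ := points_map_surjective_of_isEquivOver E hE a
  obtain ⟨b', rfl⟩ := points_map_surjective_of_isEquivOver E hE b
  have h1 : AlgSt.Points.map (BasedFunctor.comp E F) a' =
      AlgSt.Points.map (BasedFunctor.comp E F) b' := by
    rw [points_map_comp, points_map_comp]
    exact hab
  rw [h h1]

end inj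

theorem isUnivInjective_of_cover (h𝒳 : AlgSt.IsAlgStack Scheme.fppfPrecoverage 𝒳)
    (h𝒴 : AlgSt.IsAlgStack Scheme.fppfPrecoverage 𝒴) (f : 𝒳 ⥤ᵇ 𝒴)
    (W : AlgSp.Space S) (w : AlgSt.ofSp W.obj ⥤ᵇ 𝒴)
    (hw₃ : AlgSt.RepByAlgSpWith AlgSp.IsSurjectiveMor w)
    (h : AlgSt.IsUnivInjective Scheme.fppfPrecoverage (FibCat.fpFst w f)) :
    AlgSt.IsUnivInjective Scheme.fppfPrecoverage f := by
  intro 𝒵 h𝒵 g v₁ v₂ hv
  have hWalg : AlgSt.IsAlgStack Scheme.fppfPrecoverage (AlgSt.ofSp W.obj) := (isDM_ofSp W).1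
  have h𝒬 : AlgSt.IsAlgStack Scheme.fppfPrecoverage (FibCat.fp g w) :=
    isAlgStack_fp _ h𝒴.isStack h𝒴.diag h𝒵 hWalg g w
  have h𝒫 : AlgSt.IsAlgStack Scheme.fppfPrecoverage (FibCat.fp g f) :=
    isAlgStack_fp _ h𝒴.isStack h𝒴.diag h𝒵 h𝒳 g f
  let πw : FibCat.fp g w ⥤ᵇ 𝒵 := FibCat.fpFst g w
  let πf : FibCat.fp g f ⥤ᵇ 𝒵 := FibCat.fpFst g f
  let σ : FibCat.fp g w ⥤ᵇ AlgSt.ofSp W.obj := FibCat.fpSnd g w
  have hπws : AlgSt.IsSurjective πw :=
    isSurjective_fpFst hWalg.isStack.1 h𝒴.isStack.1 h𝒵.isStack.1 w g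
      (isSurjective_of_repByAlgSpWith_surj h𝒴.isStack.1 w hw₃)
  obtain ⟨q', hq'⟩ := hπws (AlgSt.Points.map πf v₁)
  obtain ⟨u₁, hu₁, hu₁'⟩ := exists_point_fp h𝒫.isStack.1 h𝒵.isStack.1 h𝒬.isStack.1 πf πw q' v₁ hq'
  obtain ⟨u₂, hu₂, hu₂'⟩ := exists_point_fp h𝒫.isStack.1 h𝒵.isStack.1 h𝒬.isStack.1 πf πw q' v₂
    (hq'.trans hv)
  -- injectivity of the projection `fp πw πf ⟶ fp g w`
  have hinj0 : Function.Injective (AlgSt.Points.map (FibCat.fpFst σ (FibCat.fpFst w f))) :=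
    h (FibCat.fp g w) h𝒬 σ
  have hinj1 : Function.Injective
      (AlgSt.Points.map (FibCat.fpFst (BasedFunctor.comp σ w) f)) :=
    injective_comp_of_equiv (fpBase σ w f) (isEquivOver_fpBase σ w f) _ hinj0
  have hinj2 : Function.Injective
      (AlgSt.Points.map (FibCat.fpFst (BasedFunctor.comp πw g) f)) :=
    injective_comp_of_equiv
      (sqFun (BasedFunctor.comp σ w) f (BasedFunctor.comp πw g) f (BasedFunctor.id _)
        (BasedFunctor.id _) (FibCat.fpIso g w) (Iso.refl _))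
      (isEquivOver_sqFun (BasedFunctor.comp σ w) f (BasedFunctor.comp πw g) f (BasedFunctor.id _)
        (BasedFunctor.id _) (FibCat.fpIso g w) (Iso.refl _) isEquivOver_id isEquivOver_id) _ hinj1
  have hinj3 : Function.Injective (AlgSt.Points.map (FibCat.fpFst πw πf)) :=
    injective_of_comp_equiv (fpBase πw g f) (isEquivOver_fpBase πw g f) _ hinj2
  have h12 : u₁ = u₂ := hinj3 (hu₁.trans hu₂.symm)
  rw [← hu₁', ← hu₂', h12]

end Groth.Agent.H28.RepComp
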