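import Mathlib
import Groth.Agent.H28.PtsOpen

/-!
# `LocQ` from representability with a smooth-local property
-/

set_option autoImplicit false
set_option linter.style.haveILetI false
set_option backward.isDefEq.respectTransparency false
set_option backward.isDefEq.respectTransparency.types false

namespace Groth.Agent.H28.RepComp

open CategoryTheory CategoryTheory.Limits FibCat AlgebraicGeometry Opposite Stk MorphismProperty
open Groth.Agent.Helper22 Groth.Agent.Helper22.EquivComp Groth.Agent.Helper22.FpSq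
open Groth.Agent.Helper22.FpEquiv Groth.Agent.H28.LiftFp
open Groth.Agent.H28.FpBase Groth.Agent.H28.PshDict Groth.Agent.H28.IsoCl
open Groth.Agent.H25.AS

universe w u

variable {S : Scheme.{u}} {𝒳 𝒴 𝒵 : AlgSt.Cat S}

theorem locQ_of_repByAlgSpWith {P₀ : MorphismProperty Scheme.{u}} (hP₀ : EtLoc P₀)
    (hsm : (@Smooth : MorphismProperty Scheme.{u}) ≤ P₀)
    (h𝒳 : AlgSt.IsAlgStack Scheme.fppfPrecoverage 𝒳)
    (h𝒴 : AlgSt.IsAlgStack Scheme.fppfPrecoverage 𝒴) (f : 𝒳 ⥤ᵇ 𝒴)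
    (hf : AlgSt.RepByAlgSpWith (AlgSp.LocP P₀) f) : AlgSt.LocQ (AlgSp.LocP P₀) f := by
  obtain ⟨V, y, hy₁, hy₂⟩ := h𝒴.atlas
  have h𝒫 : AlgSt.IsAlgStack Scheme.fppfPrecoverage (FibCat.fp y f) :=
    isAlgStack_fp _ h𝒴.isStack h𝒴.diag (isAlgStack_overCat V) h𝒳 y f
  obtain ⟨T, t, ht₁, ht₂⟩ := h𝒫.atlas
  obtain ⟨a, ⟨ι⟩⟩ := exists_overMap_iso (BasedFunctor.comp t (FibCat.fpFst y f))
  have hT := OverFib.isFibGrpd_over T
  have hc : AlgSt.RepByAlgSpWith (AlgSp.LocP P₀) (BasedFunctor.comp t (FibCat.fpFst y f)) :=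
    repByAlgSpWith_comp_goodP (goodP_locP hP₀) hT h𝒫.isStack.1 t _
      (repByAlgSpWith_mono_le (locP_mono hsm) ht₁) (repByAlgSpWith_fpFst _ f y hf)
  have ha : AlgSt.RepByAlgSpWith (AlgSp.LocP P₀) (AlgSt.overMap a) :=
    repByAlgSpWith_of_iso _ ι hc
  exact ⟨T, V, BasedFunctor.comp t (FibCat.fpSnd y f), y, a,
    (whiskerLeftIso t (FibCat.fpIso y f)).symm ≪≫ whiskerRightIso ι y,
    repByAlgSpWith_comp_goodP (goodP_locP etLoc_smooth) hT h𝒫.isStack.1 t _
      ht₁ (repByAlgSpWith_fpSnd _ f y hy₁),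
    repByAlgSpWith_comp_goodP goodP_surj hT h𝒫.isStack.1 t _
      ht₂ (repByAlgSpWith_fpSnd _ f y hy₂), hy₁, prop_of_overMap (goodP_locP hP₀) a ha⟩

theorem smooth_le_lft : (@Smooth : MorphismProperty Scheme.{u}) ≤ @LocallyOfFiniteType :=
  fun _ _ f (_ : Smooth f) => (inferInstance : LocallyOfFiniteType f)

theorem imm_lft {f : 𝒴 ⥤ᵇ 𝒳} (hf : AlgSt.IsImm f) :
    AlgSt.RepByAlgSpWith (AlgSp.LocP @LocallyOfFiniteType) f :=
  repByAlgSpWith_mono_le (fun _ _ _ hg =>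
    locP_of_repWith (fun g hg => by haveI := hg; infer_instance)
      (repWith_mono (fun _ _ g hg => by haveI : IsImmersion g := hg; infer_instance) hg)) hf

end Groth.Agent.H28.RepComp
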