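import Mathlib
import Groth.Agent.H28.LocQRep

/-!
# Quasi-compactness descends along flat, lfp, surjective morphisms of algebraic stacks
-/

set_option autoImplicit false
set_option linter.style.haveILetI false
set_option backward.isDefEq.respectTransparency false
set_option backward.isDefEq.respectTransparency.types false

namespace Groth.Agent.H28.RepComp

open CategoryTheory CategoryTheory.Limits FibCat AlgebraicGeometry Opposite Stk MorphismProperty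
open Groth.Agent.Helper22 Groth.Agent.Helper22.EquivComp Groth.Agent.Helper22.FpSq
open Groth.Agent.Helper22.FpEquiv Groth.Agent.H28.LiftFp
open Groth.Agent.H28.FpBase Groth.Agent.H28.PshDict Groth.Agent.H28.IsoCl
open Groth.Agent.H25.AS

universe w u

variable {S : Scheme.{u}} {𝒳 𝒴 𝒵 : AlgSt.Cat S}

theorem overMap_of_prop {P : MorphismProperty (AlgSp.Sp S)} (hP : GoodP P) {T V : Over S}
    (q : T ⟶ V) (h : P ((AlgSp.yon S).map q)) : AlgSt.RepByAlgSpWith P (AlgSt.overMap q) := by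
  have h2 : AlgSt.RepByAlgSpWith P (AlgSt.ofSpMap ((AlgSp.yon S).map q)) :=
    (repByAlgSpWith_ofSpMap_iff hP.cancelIso hP.baseChange hP.descends
      (AlgSp.IsAlgSpace.yon_obj T) (AlgSp.IsAlgSpace.yon_obj V) _).2 h
  have h1 : AlgSt.RepByAlgSpWith P (chartFun ((AlgSp.yon S).map q)) :=
    repByAlgSpWith_of_sq' P (AlgSt.ofSpMap ((AlgSp.yon S).map q))
      (chartFun ((AlgSp.yon S).map q)) (AlgSt.ofOverCat T) (BasedFunctor.id _)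
      (isEquivOver_ofOverCat T) isEquivOver_id (Iso.refl _) h2
  exact repByAlgSpWith_of_sq P (AlgSt.overMap q) (chartFun ((AlgSp.yon S).map q))
      (BasedFunctor.id _) (AlgSt.toOverCat V) isEquivOver_id
      (Groth.Agent.H28.DiagRep.isEquivOver_toOverCat V) (Iso.refl _) h1

theorem isQuasiCompactMor_of_fppf_cover' {𝒲 : AlgSt.Cat S}
    (h𝒳 : AlgSt.IsAlgStack Scheme.fppfPrecoverage 𝒳)
    (h𝒴 : AlgSt.IsAlgStack Scheme.fppfPrecoverage 𝒴) (f : 𝒳 ⥤ᵇ 𝒴)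
    (hWalg : AlgSt.IsAlgStack Scheme.fppfPrecoverage 𝒲) (w : 𝒲 ⥤ᵇ 𝒴)
    (hw₁ : AlgSt.RepByAlgSpWith (AlgSp.LocP @Flat) w)
    (hw₂ : AlgSt.RepByAlgSpWith (AlgSp.LocP @LocallyOfFinitePresentation) w)
    (hw₃ : AlgSt.RepByAlgSpWith AlgSp.IsSurjectiveMor w)
    (h : AlgSt.IsQuasiCompactMor Scheme.fppfPrecoverage (FibCat.fpFst w f)) :
    AlgSt.IsQuasiCompactMor Scheme.fppfPrecoverage f := by
  intro 𝒵 h𝒵 hq g
  have h𝒬 : AlgSt.IsAlgStack Scheme.fppfPrecoverage (FibCat.fp g w) :=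
    isAlgStack_fp _ h𝒴.isStack h𝒴.diag h𝒵 hWalg g w
  obtain ⟨T, t, ht₁, ht₂⟩ := h𝒬.atlas
  have hT := OverFib.isFibGrpd_over T
  let ρ : FibCat.overCat T ⥤ᵇ 𝒵 := BasedFunctor.comp t (FibCat.fpFst g w)
  have hρ₁ : AlgSt.RepByAlgSpWith (AlgSp.LocP @Flat) ρ :=
    repByAlgSpWith_comp_goodP (goodP_locP etLoc_flat) hT h𝒬.isStack.1 t _
      (repByAlgSpWith_mono_le (locP_mono smooth_le_flat) ht₁) (repByAlgSpWith_fpFst _ w g hw₁)
  have hρ₂ : AlgSt.RepByAlgSpWith (AlgSp.LocP @LocallyOfFinitePresentation) ρ :=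
    repByAlgSpWith_comp_goodP (goodP_locP etLoc_locallyOfFinitePresentation) hT h𝒬.isStack.1 t _
      (repByAlgSpWith_mono_le (locP_mono smooth_le_lfp) ht₁) (repByAlgSpWith_fpFst _ w g hw₂)
  have hρ₃ : AlgSt.RepByAlgSpWith AlgSp.IsSurjectiveMor ρ :=
    repByAlgSpWith_comp_goodP goodP_surj hT h𝒬.isStack.1 t _ ht₂
      (repByAlgSpWith_fpFst _ w g hw₃)
  have hρs : Function.Surjective (AlgSt.Points.ofChart ρ) :=
    ofChart_surjective ρ (isSurjective_of_repByAlgSpWith_surj h𝒵.isStack.1 ρ hρ₃)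
  obtain ⟨T₀, hT₀c, hT₀s⟩ := exists_compact_open_chart h𝒵
    (compactSpace_of_isQuasiCompact h𝒵 hq) ρ hρ₁ hρ₂ hρs
  let T' : Over S := Over.mk (T₀.ι ≫ T.hom)
  let j : T' ⟶ T := Over.homMk T₀.ι rfl
  have hT'c : CompactSpace ↥T'.left := isCompact_iff_compactSpace.1 hT₀c
  let ρ' : FibCat.overCat T' ⥤ᵇ 𝒵 := BasedFunctor.comp (AlgSt.overMap j) ρ
  have hρ's : AlgSt.IsSurjective ρ' := isSurjective_restrict ρ T₀ hT₀s
  have hT'q : AlgSt.IsQuasiCompact (FibCat.overCat T') := isQuasiCompact_overCat T' hT'c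
  have hT'alg := isAlgStack_overCat T'
  let σ : FibCat.overCat T' ⥤ᵇ 𝒲 :=
    BasedFunctor.comp (AlgSt.overMap j) (BasedFunctor.comp t (FibCat.fpSnd g w))
  have ι : BasedFunctor.comp ρ' g ≅ BasedFunctor.comp σ w :=
    whiskerLeftIso (AlgSt.overMap j) (whiskerLeftIso t (FibCat.fpIso g w))
  have h1 : AlgSt.IsQuasiCompact (FibCat.fp σ (FibCat.fpFst w f)) :=
    h (FibCat.overCat T') hT'alg hT'q σ
  have h2 : AlgSt.IsQuasiCompact (FibCat.fp (BasedFunctor.comp σ w) f) := by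
    obtain ⟨Q, ⟨σ₁⟩, ⟨σ₂⟩⟩ := id (isEquivOver_fpBase σ w f)
    exact isQuasiCompact_of_equiv Q ⟨_, ⟨σ₂⟩, ⟨σ₁⟩⟩ h1
  have h3 : AlgSt.IsQuasiCompact (FibCat.fp (BasedFunctor.comp ρ' g) f) :=
    isQuasiCompact_of_equiv
      (sqFun (BasedFunctor.comp ρ' g) f (BasedFunctor.comp σ w) f (BasedFunctor.id _)
        (BasedFunctor.id _) ι.symm (Iso.refl _))
      (isEquivOver_sqFun (BasedFunctor.comp ρ' g) f (BasedFunctor.comp σ w) f (BasedFunctor.id _)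
        (BasedFunctor.id _) ι.symm (Iso.refl _) isEquivOver_id isEquivOver_id) h2
  have h4 : AlgSt.IsQuasiCompact (FibCat.fp ρ' (FibCat.fpFst g f)) :=
    isQuasiCompact_of_equiv (fpBase ρ' g f) (isEquivOver_fpBase ρ' g f) h3
  have h𝒫 : AlgSt.IsAlgStack Scheme.fppfPrecoverage (FibCat.fp g f) :=
    isAlgStack_fp _ h𝒴.isStack h𝒴.diag h𝒵 h𝒳 g f
  have h𝒫' : AlgSt.IsAlgStack Scheme.fppfPrecoverage (FibCat.fp (FibCat.fpFst g f) ρ') :=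
    isAlgStack_fp _ h𝒵.isStack h𝒵.diag h𝒫 hT'alg (FibCat.fpFst g f) ρ'
  have h5 : AlgSt.IsQuasiCompact (FibCat.fp (FibCat.fpFst g f) ρ') :=
    isQuasiCompact_of_equiv (fpSwapB ρ' (FibCat.fpFst g f))
      (isEquivOver_fpSwapB ρ' (FibCat.fpFst g f)) h4
  have hs : AlgSt.IsSurjective (FibCat.fpFst (FibCat.fpFst g f) ρ') :=
    isSurjective_fpFst hT'alg.isStack.1 h𝒵.isStack.1 h𝒫.isStack.1 ρ' (FibCat.fpFst g f) hρ's
  exact isQuasiCompact_of_surjective h𝒫' h𝒫 _ hs h5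


theorem isQuasiCompactMor_fpFst_comp {𝒱 : AlgSt.Cat S} (v : 𝒱 ⥤ᵇ 𝒵) (z : 𝒵 ⥤ᵇ 𝒴) (f : 𝒳 ⥤ᵇ 𝒴)
    (h : AlgSt.IsQuasiCompactMor Scheme.fppfPrecoverage (FibCat.fpFst z f)) :
    AlgSt.IsQuasiCompactMor Scheme.fppfPrecoverage (FibCat.fpFst (BasedFunctor.comp v z) f) := by
  intro 𝒬 h𝒬 hq g
  have h1 : AlgSt.IsQuasiCompact (FibCat.fp (BasedFunctor.comp g v) (FibCat.fpFst z f)) :=
    h 𝒬 h𝒬 hq (BasedFunctor.comp g v)
  have h2 : AlgSt.IsQuasiCompact (FibCat.fp (BasedFunctor.comp (BasedFunctor.comp g v) z) f) := by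
    obtain ⟨Q, ⟨σ₁⟩, ⟨σ₂⟩⟩ := id (isEquivOver_fpBase (BasedFunctor.comp g v) z f)
    exact isQuasiCompact_of_equiv Q ⟨_, ⟨σ₂⟩, ⟨σ₁⟩⟩ h1
  exact isQuasiCompact_of_equiv (fpBase g (BasedFunctor.comp v z) f)
    (isEquivOver_fpBase g (BasedFunctor.comp v z) f) h2

theorem isQuasiCompactMor_of_locQ_cover
    (h𝒳 : AlgSt.IsAlgStack Scheme.fppfPrecoverage 𝒳)
    (h𝒴 : AlgSt.IsAlgStack Scheme.fppfPrecoverage 𝒴) (f : 𝒳 ⥤ᵇ 𝒴)
    (h𝒵 : AlgSt.IsAlgStack Scheme.fppfPrecoverage 𝒵) (z : 𝒵 ⥤ᵇ 𝒴)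
    (hz₁ : AlgSt.LocQ (AlgSp.LocP @Flat) z)
    (hz₂ : AlgSt.LocQ (AlgSp.LocP @LocallyOfFinitePresentation) z)
    (hz₃ : AlgSt.IsSurjective z)
    (h : AlgSt.IsQuasiCompactMor Scheme.fppfPrecoverage (FibCat.fpFst z f)) :
    AlgSt.IsQuasiCompactMor Scheme.fppfPrecoverage f := by
  obtain ⟨U₁, V₁, x₁, y₁, h₁, α₁, hx₁sm, hx₁sj, hy₁sm, hh₁⟩ := hz₁
  obtain ⟨U₂, V₂, x₂, y₂, h₂, α₂, hx₂sm, hx₂sj, hy₂sm, hh₂⟩ := hz₂
  have hU₁ := OverFib.isFibGrpd_over U₁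
  have hU₂ := OverFib.isFibGrpd_over U₂
  have hV₁ := OverFib.isFibGrpd_over V₁
  have hV₂ := OverFib.isFibGrpd_over V₂
  have hc₁ : AlgSt.RepByAlgSpWith (AlgSp.LocP @Flat) (BasedFunctor.comp x₁ z) :=
    repByAlgSpWith_of_iso _ α₁.symm (repByAlgSpWith_comp_goodP (goodP_locP etLoc_flat) hU₁ hV₁
      (AlgSt.overMap h₁) y₁ (overMap_of_prop (goodP_locP etLoc_flat) h₁ hh₁)
      (repByAlgSpWith_mono_le (locP_mono smooth_le_flat) hy₁sm))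
  have hc₂ : AlgSt.RepByAlgSpWith (AlgSp.LocP @LocallyOfFinitePresentation)
      (BasedFunctor.comp x₂ z) :=
    repByAlgSpWith_of_iso _ α₂.symm (repByAlgSpWith_comp_goodP
      (goodP_locP etLoc_locallyOfFinitePresentation) hU₂ hV₂
      (AlgSt.overMap h₂) y₂ (overMap_of_prop (goodP_locP etLoc_locallyOfFinitePresentation) h₂ hh₂)
      (repByAlgSpWith_mono_le (locP_mono smooth_le_lfp) hy₂sm))
  have h𝒫 : AlgSt.IsAlgStack Scheme.fppfPrecoverage (FibCat.fp x₁ x₂) :=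
    isAlgStack_fp _ h𝒵.isStack h𝒵.diag (isAlgStack_overCat U₁) (isAlgStack_overCat U₂) x₁ x₂
  obtain ⟨T, t, ht₁, ht₂⟩ := h𝒫.atlas
  have hT := OverFib.isFibGrpd_over T
  let w₁ : FibCat.overCat T ⥤ᵇ FibCat.overCat U₁ := BasedFunctor.comp t (FibCat.fpFst x₁ x₂)
  let w₂ : FibCat.overCat T ⥤ᵇ FibCat.overCat U₂ := BasedFunctor.comp t (FibCat.fpSnd x₁ x₂)
  have hw₁sm : AlgSt.RepByAlgSpWith (AlgSp.LocP @Smooth) w₁ :=
    repByAlgSpWith_comp_goodP (goodP_locP etLoc_smooth) hT h𝒫.isStack.1 t _ ht₁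
      (repByAlgSpWith_fpFst _ x₂ x₁ hx₂sm)
  have hw₁sj : AlgSt.RepByAlgSpWith AlgSp.IsSurjectiveMor w₁ :=
    repByAlgSpWith_comp_goodP goodP_surj hT h𝒫.isStack.1 t _ ht₂
      (repByAlgSpWith_fpFst _ x₂ x₁ hx₂sj)
  have hw₂sm : AlgSt.RepByAlgSpWith (AlgSp.LocP @Smooth) w₂ :=
    repByAlgSpWith_comp_goodP (goodP_locP etLoc_smooth) hT h𝒫.isStack.1 t _ ht₁
      (repByAlgSpWith_fpSnd _ x₂ x₁ hx₁sm)
  let v : FibCat.overCat T ⥤ᵇ 𝒵 := BasedFunctor.comp w₁ x₁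
  have κ : BasedFunctor.comp w₁ x₁ ≅ BasedFunctor.comp w₂ x₂ :=
    whiskerLeftIso t (FibCat.fpIso x₁ x₂)
  let w : FibCat.overCat T ⥤ᵇ 𝒴 := BasedFunctor.comp v z
  have hwflat : AlgSt.RepByAlgSpWith (AlgSp.LocP @Flat) w :=
    repByAlgSpWith_comp_goodP (goodP_locP etLoc_flat) hT hU₁ w₁ (BasedFunctor.comp x₁ z)
      (repByAlgSpWith_mono_le (locP_mono smooth_le_flat) hw₁sm) hc₁
  have hwlfp : AlgSt.RepByAlgSpWith (AlgSp.LocP @LocallyOfFinitePresentation) w :=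
    repByAlgSpWith_of_iso _ (whiskerRightIso κ z).symm
      (repByAlgSpWith_comp_goodP (goodP_locP etLoc_locallyOfFinitePresentation) hT hU₂ w₂
        (BasedFunctor.comp x₂ z) (repByAlgSpWith_mono_le (locP_mono smooth_le_lfp) hw₂sm) hc₂)
  have hvsj : AlgSt.RepByAlgSpWith AlgSp.IsSurjectiveMor v :=
    repByAlgSpWith_comp_goodP goodP_surj hT hU₁ w₁ x₁ hw₁sj hx₁sj
  have hvs : AlgSt.IsSurjective v := isSurjective_of_repByAlgSpWith_surj h𝒵.isStack.1 v hvsj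
  have hws : AlgSt.IsSurjective w := by
    intro q
    obtain ⟨p, rfl⟩ := hz₃ q
    obtain ⟨r, rfl⟩ := hvs p
    exact ⟨r, points_map_comp v z r⟩
  have hwsj : AlgSt.RepByAlgSpWith AlgSp.IsSurjectiveMor w :=
    repByAlgSpWith_surj_of_isSurjective hT h𝒴.isStack.1 w
      (Groth.Agent.H28.MonoFF.repByAlgSp1_of_with hwflat) hws
  exact isQuasiCompactMor_of_fppf_cover' h𝒳 h𝒴 f (isAlgStack_overCat T) w hwflat hwlfp hwsj
    (isQuasiCompactMor_fpFst_comp v z f h)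

end Groth.Agent.H28.RepComp
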