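import Mathlib
import Groth.Agent.H28.QcCover

/-!
# Immersions into locally Noetherian algebraic stacks are quasi-compact
-/

set_option autoImplicit false
set_option linter.style.haveILetI false
set_option backward.isDefEq.respectTransparency false
set_option backward.isDefEq.respectTransparency.types false

namespace Groth.Agent.H28.RepComp

open CategoryTheory CategoryTheory.Limits FibCat AlgebraicGeometry Opposite Stk MorphismProperty
open Groth.Agent.Helper22 Groth.Agent.Helper22.EquivComp Groth.Agent.Helper22.FpSq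
open Groth.Agent.Helper22.FpEquiv Groth.Agent.H28.LiftFp
open Groth.Agent.H28.FpBase Groth.Agent.H28.PshDict Groth.Agent.H28.IsoCl
open Groth.Agent.H25.AS

universe w u

variable {S : Scheme.{u}} {𝒳 𝒴 𝒵 : AlgSt.Cat S}

theorem quasiCompact_of_isImmersion_of_isLocallyNoetherian {X Y : Scheme.{u}} (f : X ⟶ Y)
    [IsImmersion f] [IsLocallyNoetherian Y] : QuasiCompact f := by
  rw [← f.liftCoborder_ι]
  infer_instance

theorem repWith_of_id_chart (P : MorphismProperty Scheme.{u}) [P.IsStableUnderBaseChange]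
    {F : AlgSp.Sp S} {V I : Over S} (a : F ⟶ (AlgSp.yon S).obj V)
    (fst₀ : (AlgSp.yon S).obj I ⟶ F) (i : I ⟶ V)
    (sq₀ : IsPullback fst₀ ((AlgSp.yon S).map i) a (𝟙 _)) (hi : P i.left) :
    AlgSp.RepWith P a := by
  apply MorphismProperty.relative.of_exists
  intro T g
  obtain ⟨g', rfl⟩ := (AlgSp.yon S).map_surjective g
  have sq₁ : IsPullback (pullback.fst i g') (pullback.snd i g') i g' :=
    IsPullback.of_hasPullback i g'
  have sq₂ := sq₁.map (AlgSp.yon S)
  have sq₃ := sq₂.paste_horiz sq₀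
  rw [Category.comp_id] at sq₃
  refine ⟨pullback i g', _, pullback.snd i g', sq₃, ?_⟩
  exact MorphismProperty.of_isPullback (P := P.inverseImage (Over.forget S)) sq₁ hi

theorem isQuasiCompactMor_of_isImm_of_noeth
    (h𝒳 : AlgSt.IsAlgStack Scheme.fppfPrecoverage 𝒳)
    (h𝒴 : AlgSt.IsAlgStack Scheme.fppfPrecoverage 𝒴) (j : 𝒳 ⥤ᵇ 𝒴) (hj : AlgSt.IsImm j)
    (hN : AlgSt.SmoothLocally (fun T ↦ IsLocallyNoetherian T) 𝒴) :
    AlgSt.IsQuasiCompactMor Scheme.fppfPrecoverage j := by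
  obtain ⟨V, w, hw₁, hw₂⟩ := h𝒴.atlas
  haveI : IsLocallyNoetherian V.left := hN V w hw₁
  refine isQuasiCompactMor_of_fppf_cover' h𝒳 h𝒴 j (isAlgStack_overCat V) w
    (repByAlgSpWith_mono_le (locP_mono smooth_le_flat) hw₁)
    (repByAlgSpWith_mono_le (locP_mono smooth_le_lfp) hw₁) hw₂ ?_
  apply isQuasiCompactMor_of_rep
  obtain ⟨F₀, e₀, he₀, hP₀⟩ := hj V w
  have hqc : AlgSp.RepWith @QuasiCompact
      (AlgSt.spMapOfOver (BasedFunctor.comp e₀ (FibCat.fpFst w j))) := by
    have sq₀ := hP₀.rep.isPullback (𝟙 ((AlgSp.yon S).obj V))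
    haveI : IsImmersion (hP₀.rep.snd (𝟙 ((AlgSp.yon S).obj V))).left := hP₀.property_snd (𝟙 _)
    exact repWith_of_id_chart @QuasiCompact _ _ _ sq₀
      (quasiCompact_of_isImmersion_of_isLocallyNoetherian _)
  have h1 := isQuasiCompactMor_of_repWith _ hqc
  have h2 : AlgSt.RepByAlgSpWith AlgSp.IsQuasiCompactMor
      (AlgSt.ofSpMap (AlgSt.spMapOfOver (BasedFunctor.comp e₀ (FibCat.fpFst w j)))) :=
    (repByAlgSpWith_ofSpMap_iff goodP_qc.cancelIso goodP_qc.baseChange goodP_qc.descends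
      F₀.property (AlgSp.IsAlgSpace.yon_obj V) _).2 h1
  exact repByAlgSpWith_of_sq _ (FibCat.fpFst w j) _ e₀ (AlgSt.toOverCat V) he₀
    (Groth.Agent.H28.DiagRep.isEquivOver_toOverCat V)
    (toOverCatIso (BasedFunctor.comp e₀ (FibCat.fpFst w j))).symm h2

end Groth.Agent.H28.RepComp
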