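import Mathlib

/-!
# Descent of local Noetherianity along flat, locally finitely presented coverings
-/

set_option autoImplicit false
set_option linter.style.haveILetI false

namespace Groth.Agent.H28.NoethDesc

open AlgebraicGeometry CategoryTheory Opposite TopologicalSpace

universe u

theorem isNoetherianRing_of_faithfullyFlat {A B : Type u} [CommRing A] [CommRing B] (φ : A →+* B)
    (hφ : φ.FaithfullyFlat) [IsNoetherianRing B] : IsNoetherianRing A := by
  algebraize [φ]
  have hinj : Function.Injective (Ideal.map (algebraMap A B)) :=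
    Ideal.map_injective_of_faithfullyFlat
  have hmono : StrictMono (Ideal.map (algebraMap A B)) :=
    Monotone.strictMono_of_injective (fun _ _ h => Ideal.map_mono h) hinj
  rw [isNoetherianRing_iff, isNoetherian_iff']
  have hB : WellFoundedGT (Ideal B) := (isNoetherian_iff' (R := B) (M := B)).1 inferInstance
  exact hmono.wellFoundedGT

theorem isLocallyNoetherian_of_flat_surjective_affine {X Y : Scheme.{u}} [IsAffine X] [IsAffine Y]
    (f : X ⟶ Y) [Flat f] [Surjective f] [IsLocallyNoetherian X] : IsLocallyNoetherian Y := by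
  have hff : f.appTop.hom.FaithfullyFlat :=
    (Flat.flat_and_surjective_iff_faithfullyFlat_of_isAffine (f := f)).1 ⟨inferInstance, inferInstance⟩
  have hX : IsNoetherianRing Γ(X, ⊤) :=
    IsLocallyNoetherian.component_noetherian ⟨⊤, isAffineOpen_top X⟩
  have hY : IsNoetherianRing Γ(Y, ⊤) := isNoetherianRing_of_faithfullyFlat _ hff
  exact isLocallyNoetherian_of_affine_cover (S := fun _ : Unit => ⟨⊤, isAffineOpen_top Y⟩)
    (by simp) (fun _ => hY)

theorem exists_noetherian_affine_nhd {V U : Scheme.{u}} (g : V ⟶ U) [Flat g]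
    [LocallyOfFinitePresentation g] [IsLocallyNoetherian V] (v : V) :
    ∃ O : U.Opens, IsAffineOpen O ∧ g v ∈ O ∧ IsNoetherianRing Γ(U, O) := by
  obtain ⟨W, hW, huW, -⟩ := exists_isAffineOpen_mem_and_subset (x := g v) (U := ⊤) trivial
  obtain ⟨W', hW', hvW', hW'W⟩ := exists_isAffineOpen_mem_and_subset (x := v) (U := g ⁻¹ᵁ W) huW
  let f' : (W' : Scheme) ⟶ U := W'.ι ≫ g
  have hopen : IsOpen (Set.range f') := f'.isOpenMap.isOpen_range
  let R : U.Opens := ⟨Set.range f', hopen⟩
  have huR : g v ∈ R := ⟨⟨v, hvW'⟩, rfl⟩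
  obtain ⟨O, hO, huO, hOsub⟩ :=
    exists_isAffineOpen_mem_and_subset (x := g v) (U := W ⊓ R) ⟨huW, huR⟩
  have hOW : O ≤ W := fun x hx => (hOsub hx).1
  have hOR : O ≤ R := fun x hx => (hOsub hx).2
  refine ⟨O, hO, huO, ?_⟩
  haveI : IsAffine (W : Scheme) := hW
  haveI : IsAffine (W' : Scheme) := hW'
  let g₁ : (W' : Scheme) ⟶ (W : Scheme) := g.resLE W W' hW'W
  have hfac : f' = g₁ ≫ W.ι := (Scheme.Hom.resLE_comp_ι g hW'W).symm
  have h1 : IsAffineOpen (W.ι ⁻¹ᵁ O) :=
    hO.preimage_of_isOpenImmersion W.ι (by rw [Scheme.Opens.opensRange_ι]; exact hOW)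
  have haff : IsAffineOpen (f' ⁻¹ᵁ O) := by
    rw [hfac, Scheme.Hom.comp_preimage]
    exact h1.preimage g₁
  haveI : IsAffine (O : Scheme) := hO
  haveI : IsAffine ((f' ⁻¹ᵁ O : (W' : Scheme).Opens) : Scheme) := haff
  haveI : Surjective (f' ∣_ O) := ⟨fun o => by
    obtain ⟨w, hw⟩ := hOR o.2
    refine ⟨⟨w, ?_⟩, ?_⟩
    · show f' w ∈ O
      rw [hw]
      exact o.2
    · apply Subtype.ext
      rw [morphismRestrict_base_coe]
      exact hw⟩
  haveI : IsLocallyNoetherian (O : Scheme) :=
    isLocallyNoetherian_of_flat_surjective_affine (f' ∣_ O)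
  have : IsNoetherianRing Γ(O, ⊤) :=
    IsLocallyNoetherian.component_noetherian ⟨⊤, isAffineOpen_top _⟩
  exact isNoetherianRing_of_ringEquiv _ (Scheme.Opens.topIso O).commRingCatIsoToRingEquiv

/-- local Noetherianity descends along jointly surjective flat lfp families -/
theorem isLocallyNoetherian_of_cover {U : Scheme.{u}}
    (h : ∀ u : U, ∃ (V : Scheme.{u}) (g : V ⟶ U), Flat g ∧ LocallyOfFinitePresentation g ∧
      IsLocallyNoetherian V ∧ u ∈ Set.range g) : IsLocallyNoetherian U := by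
  have h' : ∀ u : U, ∃ O : U.Opens, IsAffineOpen O ∧ u ∈ O ∧ IsNoetherianRing Γ(U, O) := by
    intro u
    obtain ⟨V, g, hg₁, hg₂, hV, v, rfl⟩ := h u
    exact exists_noetherian_affine_nhd g v
  choose O hO huO hN using h'
  refine isLocallyNoetherian_of_affine_cover (S := fun u : U => ⟨O u, hO u⟩) ?_ hN
  rw [eq_top_iff]
  intro u _
  exact Opens.mem_iSup.2 ⟨u, huO u⟩

theorem isLocallyNoetherian_smooth_local (U : Scheme.{u}) (R : Presieve U)
    (hR : R ∈ Scheme.precoverage @Smooth U) :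
    IsLocallyNoetherian U ↔ ∀ ⦃V : Scheme.{u}⦄ (g : V ⟶ U), R g → IsLocallyNoetherian V := by
  constructor
  · intro hU V g hg
    have : Smooth g := hR.2 hg
    exact LocallyOfFiniteType.isLocallyNoetherian g
  · intro h
    refine isLocallyNoetherian_of_cover fun u => ?_
    obtain ⟨_, _, ⟨hg⟩, hu⟩ := hR.1 u
    have hsm : Smooth _ := hR.2 hg
    exact ⟨_, _, inferInstance, inferInstance, h _ hg, hu⟩

end Groth.Agent.H28.NoethDesc
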