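import Mathlib
import Groth.Agent.H28.ImmNoeth
import Groth.Agent.H28.DiagComp
import Groth.Agent.H28.RepCancel2
import Groth.Agent.H28.DiagRep4
import Groth.Agent.H28.RepMore
import Groth.Agent.H28.NoethDesc

/-!
# Immersions into Noetherian algebraic stacks
-/

set_option autoImplicit false
set_option linter.style.haveILetI false
set_option backward.isDefEq.respectTransparency false
set_option backward.isDefEq.respectTransparency.types false

namespace Groth.Agent.H28.RepComp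

open CategoryTheory CategoryTheory.Limits FibCat AlgebraicGeometry Opposite Stk MorphismProperty
open Groth.Agent.Helper22 Groth.Agent.Helper22.EquivComp Groth.Agent.Helper22.FpSq
open Groth.Agent.Helper22.FpEquiv Groth.Agent.H28.LiftFp
open Groth.Agent.H28.FpBase Groth.Agent.H28.PshDict Groth.Agent.H28.IsoCl
open Groth.Agent.H25.AS

universe w u

variable {S : Scheme.{u}} {𝒳 𝒴 𝒵 : AlgSt.Cat S}

theorem proper_le_qcqs :
    (AlgSp.IsProperMor (S := S)) ≤ AlgSp.IsQuasiCompactMor ⊓ AlgSp.IsQuasiSeparatedMor :=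
  fun _ _ _ h => ⟨h.2.1.2, repWith_mono (fun _ _ k hk => by
    have : IsClosedImmersion k := hk
    exact (inferInstance : QuasiCompact k)) h.1⟩

theorem isQuasiSeparatedMor_of_isSeparatedMor {f : 𝒳 ⥤ᵇ 𝒴} (h : AlgSt.IsSeparatedMor f) :
    AlgSt.IsQuasiSeparatedMor f :=
  repByAlgSpWith_mono_le proper_le_qcqs h

theorem isQuasiCompact_of_isQuasiCompactMor
    (h𝒳 : AlgSt.IsAlgStack Scheme.fppfPrecoverage 𝒳)
    (h𝒴 : AlgSt.IsAlgStack Scheme.fppfPrecoverage 𝒴) (j : 𝒳 ⥤ᵇ 𝒴)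
    (hj : AlgSt.IsQuasiCompactMor Scheme.fppfPrecoverage j) (hq : AlgSt.IsQuasiCompact 𝒴) :
    AlgSt.IsQuasiCompact 𝒳 := by
  obtain ⟨V, v, hV, hv₁, hv₂⟩ := hq
  haveI : IsAffine V.left := hV
  have hVq : AlgSt.IsQuasiCompact (FibCat.overCat V) := isQuasiCompact_overCat V inferInstance
  have h1 : AlgSt.IsQuasiCompact (FibCat.fp v j) :=
    hj (FibCat.overCat V) (isAlgStack_overCat V) hVq v
  have h𝒫 : AlgSt.IsAlgStack Scheme.fppfPrecoverage (FibCat.fp v j) :=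
    isAlgStack_fp _ h𝒴.isStack h𝒴.diag (isAlgStack_overCat V) h𝒳 v j
  exact isQuasiCompact_of_smooth_surj h𝒫.isStack.1 (FibCat.fpSnd v j)
    (repByAlgSpWith_fpSnd _ j v hv₁) (repByAlgSpWith_fpSnd _ j v hv₂) h1

theorem isQuasiSeparatedOver_of_isMono
    (h𝒳 : AlgSt.IsAlgStack Scheme.fppfPrecoverage 𝒳)
    (h𝒴 : AlgSt.IsAlgStack Scheme.fppfPrecoverage 𝒴) (j : 𝒳 ⥤ᵇ 𝒴) (hj : AlgSt.IsMono j)
    (hqs : AlgSt.IsQuasiSeparatedOver 𝒴) : AlgSt.IsQuasiSeparatedOver 𝒳 := by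
  have hsep : AlgSt.IsSeparatedMor j :=
    Groth.Agent.H28.DiagRep.isSeparatedMor_of_isMono j h𝒳.isStack.1 h𝒴.isStack.1 hj
  show AlgSt.IsQuasiSeparatedMor (FibCat.toSelf 𝒳)
  rw [← toSelf_comp j]
  exact isQuasiSeparatedMor_comp' h𝒳.isStack.1 h𝒴.isStack.1 j (FibCat.toSelf 𝒴)
    (isQuasiSeparatedMor_of_isSeparatedMor hsep) hqs

end Groth.Agent.H28.RepComp
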