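import Groth.Agent.H28.AssocBundle2
import Groth.Agent.H28.ExactBridge

/-!
# Locally (iso)trivial bundles are principal (helper28)
-/

set_option autoImplicit false
universe u
open CategoryTheory CategoryTheory.Limits MonoidalCategory CartesianMonoidalCategory MonObj
  AlgebraicGeometry

namespace Groth.Agent.H28.IsoTriv

section Algebra

/-- Flatness descends along a faithfully flat extension of the target. -/
theorem flat_of_faithfullyFlat_of_flat (A B C : Type*) [CommRing A] [CommRing B] [CommRing C]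
    [Algebra A B] [Algebra B C] [Algebra A C] [IsScalarTower A B C] [Module.FaithfullyFlat B C]
    [Module.Flat A C] : Module.Flat A B := by
  rw [Module.Flat.iff_lTensor_preserves_injective_linearMap]
  intro N N' _ _ _ _ f hf
  have h1 : Function.Injective (f.lTensor C) :=
    Module.Flat.lTensor_preserves_injective_linearMap f hf
  have h2 := TensorProduct.AlgebraTensorModule.lTensor_comp_cancelBaseChange
    (R := A) (A := B) (B := B) (M := C) f
  have h3 : Function.Injective
      ((TensorProduct.AlgebraTensorModule.lTensor B B f).lTensor C) := by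
    have h4 : Function.Injective
        (((TensorProduct.AlgebraTensorModule.cancelBaseChange A B B C N').toLinearMap ∘ₗ
          TensorProduct.AlgebraTensorModule.lTensor B C
            (TensorProduct.AlgebraTensorModule.lTensor B B f))) := by
      rw [← h2]
      exact h1.comp (LinearEquiv.injective _)
    intro x y hxy
    exact h4 (congrArg (TensorProduct.AlgebraTensorModule.cancelBaseChange A B B C N') hxy)
  rw [Module.FaithfullyFlat.lTensor_injective_iff_injective] at h3
  exact h3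

theorem ringHom_flat_of_comp_of_isLocalHom {A B C : Type u} [CommRing A] [CommRing B]
    [CommRing C] [IsLocalRing B] [IsLocalRing C] (f : A →+* B) (g : B →+* C) [IsLocalHom g]
    (hg : g.Flat) (hgf : (g.comp f).Flat) : f.Flat := by
  algebraize [f, g, g.comp f]
  have : IsLocalHom (algebraMap B C) := ‹IsLocalHom g›
  have : Module.FaithfullyFlat B C := Module.FaithfullyFlat.of_flat_of_isLocalHom
  exact flat_of_faithfullyFlat_of_flat A B C

end Algebra

section FlatLocal

/-- A morphism is flat as soon as, locally on the source for the flat topology, it becomes a flat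
morphism after a flat base change. -/
theorem flat_of_forall_exists_isPullback {P X : Scheme.{u}} (π : P ⟶ X)
    (h : ∀ p : P, ∃ (E U' : Scheme.{u}) (τ : E ⟶ P) (f : E ⟶ U') (ψ : U' ⟶ X),
      IsPullback f τ ψ π ∧ Flat ψ ∧ Flat f ∧ p ∈ Set.range τ.base) : Flat π := by
  rw [Flat.iff_flat_stalkMap]
  intro p
  obtain ⟨E, U', τ, f, ψ, sq, hψ, hf, e, rfl⟩ := h p
  have hτ : Flat τ := MorphismProperty.of_isPullback (P := @Flat) sq hψ
  have hcomp : Flat (τ ≫ π) := by
    rw [← sq.w]
    infer_instance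
  have h1 : ((τ ≫ π).stalkMap e).hom.Flat := Flat.stalkMap (τ ≫ π) e
  rw [Scheme.Hom.stalkMap_comp] at h1
  exact ringHom_flat_of_comp_of_isLocalHom (π.stalkMap (τ e)).hom (τ.stalkMap e).hom
    (Flat.stalkMap τ e) h1

end FlatLocal

section Points

variable {S : Scheme.{u}} (K : Precoverage Scheme.{u}) [(QuotSh.J K S).Subcanonical]
  {G P X : Over S} [GrpObj G] (a : AlgGrp.Action G P) (π : P ⟶ X)

/-- Local triviality of `π : P ⟶ X` on points: locally on any `T ⟶ X` there is a section such that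
every point over it is uniquely a translate of the section. -/
def LocTriv : Prop :=
  ∀ (T : Over S) (z : T ⟶ X), ∃ R ∈ QuotSh.J K S T, ∀ ⦃V : Over S⦄ (c : V ⟶ T), R c →
    ∃ σ : V ⟶ P, σ ≫ π = c ≫ z ∧
      ∀ (V' : Over S) (d : V' ⟶ V) (y : V' ⟶ P), y ≫ π = d ≫ c ≫ z →
        ∃! g : V' ⟶ G, lift g (d ≫ σ) ≫ a.act = y

variable {K a π}

theorem existsUnique_of_locTriv (hinv : GIT.IsInvariant a π) (h : LocTriv K a π) {T : Over S}
    (y' y : T ⟶ P) (hy : y' ≫ π = y ≫ π) : ∃! g : T ⟶ G, lift g y ≫ a.act = y' := by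
  have hinv' : a.act ≫ π = snd G P ≫ π := hinv
  obtain ⟨R, hR, hloc⟩ := h T (y ≫ π)
  have key : ∀ ⦃V : Over S⦄ (c : V ⟶ T), R c →
      (∃ g : V ⟶ G, lift g (c ≫ y) ≫ a.act = c ≫ y') ∧
      (∀ g g' : V ⟶ G, lift g (c ≫ y) ≫ a.act = lift g' (c ≫ y) ≫ a.act → g = g') := by
    intro V c hc
    obtain ⟨σ, hσ, hu⟩ := hloc c hc
    obtain ⟨g₁, hg₁, -⟩ := hu V (𝟙 V) (c ≫ y) (by rw [Category.id_comp, Category.assoc])
    obtain ⟨g₂, hg₂, -⟩ := hu V (𝟙 V) (c ≫ y') (by rw [Category.id_comp, Category.assoc, hy])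
    rw [Category.id_comp] at hg₁ hg₂
    constructor
    · refine ⟨g₂ * g₁⁻¹, ?_⟩
      rw [← hg₁, ← ActShear.lift_mul_act, inv_mul_cancel_right, hg₂]
    · intro g g' hgg
      rw [← hg₁, ← ActShear.lift_mul_act, ← ActShear.lift_mul_act] at hgg
      have hπ1 : (lift (g * g₁) σ ≫ a.act) ≫ π = 𝟙 V ≫ c ≫ y ≫ π := by
        rw [Category.assoc, hinv', ← Category.assoc, lift_snd, hσ, Category.id_comp]
      obtain ⟨g₀, -, hg₀u⟩ := hu V (𝟙 V) (lift (g * g₁) σ ≫ a.act) hπ1
      have e1 := hg₀u (g * g₁) (by simp only [Category.id_comp])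
      have e2 := hg₀u (g' * g₁) (by simp only [Category.id_comp]; exact hgg.symm)
      exact mul_right_cancel (e1.trans e2.symm)
  have hex : ∀ ⦃V : Over S⦄ (c : V ⟶ T), R c → ∃ g : V ⟶ G, lift g (c ≫ y) ≫ a.act = c ≫ y' :=
    fun V c hc => (key c hc).1
  choose gl hgl using hex
  obtain ⟨g, hg⟩ := ShBridge.exists_glue K R hR gl (by
    intro V V' c hc d
    refine (key (d ≫ c) (R.downward_closed hc d)).2 _ _ ?_
    rw [hgl, Category.assoc d c y, ← comp_lift]
    simp only [Category.assoc]
    rw [hgl c hc])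
  have hgy : lift g y ≫ a.act = y' := by
    refine ShBridge.ext_of_mem K R hR _ _ (fun V c hc => ?_)
    rw [← Category.assoc, comp_lift, hg c hc, hgl]
  refine ⟨g, hgy, ?_⟩
  intro g' hg'
  refine ShBridge.ext_of_mem K R hR _ _ (fun V c hc => ?_)
  refine (key c hc).2 _ _ ?_
  rw [← comp_lift, ← comp_lift, Category.assoc, Category.assoc, hg', hgy]

/-- If the action is simply transitive on the fibres of `π` (on points), `PsiY` is an iso. -/
theorem isIso_psiY_of_existsUnique (hinv : GIT.IsInvariant a π)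
    (h : ∀ {T : Over S} (y' y : T ⟶ P), y' ≫ π = y ≫ π → ∃! g : T ⟶ G, lift g y ≫ a.act = y') :
    IsIso (GIT.PsiY a π hinv) := by
  have hPX : π.left ≫ X.hom = P.hom := Over.w π
  have hcond : pullback.fst π.left π.left ≫ P.hom = pullback.snd π.left π.left ≫ P.hom := by
    rw [← hPX, ← Category.assoc, pullback.condition, Category.assoc]
  obtain ⟨W', hW'⟩ : ∃ W' : Over S, W' = Over.mk (pullback.snd π.left π.left ≫ P.hom) := ⟨_, rfl⟩
  subst hW'
  let y₀ : Over.mk (pullback.snd π.left π.left ≫ P.hom) ⟶ P :=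
    Over.homMk (pullback.snd π.left π.left) rfl
  let y'₀ : Over.mk (pullback.snd π.left π.left ≫ P.hom) ⟶ P :=
    Over.homMk (pullback.fst π.left π.left) hcond
  have hyy : y'₀ ≫ π = y₀ ≫ π := by
    apply Over.OverMorphism.ext
    exact pullback.condition
  obtain ⟨g₀, hg₀, -⟩ := h y'₀ y₀ hyy
  have hw : GIT.PsiY a π hinv ≫ (pullback.snd π.left π.left ≫ P.hom) = (G ⊗ P).hom := by
    rw [← Category.assoc, AssocBundle.psiY_snd, Over.w]
  let t : G ⊗ P ⟶ Over.mk (pullback.snd π.left π.left ≫ P.hom) :=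
    Over.homMk (GIT.PsiY a π hinv) hw
  have ht1 : t ≫ y₀ = snd G P := by
    apply Over.OverMorphism.ext
    exact AssocBundle.psiY_snd a π hinv
  have ht2 : t ≫ y'₀ = a.act := by
    apply Over.OverMorphism.ext
    exact AssocBundle.psiY_fst a π hinv
  have ht3 : t ≫ g₀ = fst G P := by
    obtain ⟨g₁, -, hg₁u⟩ := h (T := G ⊗ P) a.act (snd G P) hinv
    have e1 : lift (t ≫ g₀) (snd G P) ≫ a.act = a.act := by
      rw [← ht1, ← comp_lift, Category.assoc, hg₀, ht2]
    have e2 : lift (fst G P) (snd G P) ≫ a.act = a.act := by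
      rw [lift_fst_snd, Category.id_comp]
    exact (hg₁u _ e1).trans (hg₁u _ e2).symm
  refine ⟨⟨(lift g₀ y₀).left, ?_, ?_⟩⟩
  · have e : t ≫ lift g₀ y₀ = 𝟙 (G ⊗ P) := by
      rw [comp_lift, ht3, ht1, lift_fst_snd]
    exact congrArg CommaMorphism.left e
  · apply pullback.hom_ext
    · rw [Category.assoc, AssocBundle.psiY_fst, ← Over.comp_left, hg₀, Category.id_comp]
      rfl
    · rw [Category.assoc, AssocBundle.psiY_snd, ← Over.comp_left, lift_snd, Category.id_comp]
      rfl

end Points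

end Groth.Agent.H28.IsoTriv
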