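import Mathlib
import Groth.Prelude.Def_AlgGrp
import Groth.Prelude.Def_ChGrp
import Groth.Agent.H28.TorsRed
import Groth.Agent.H28.CartPB

/-!
# Kernels of homomorphisms of group schemes: the shear square `G × N ≅ G ×_H G`, and
cancellation for morphisms locally of finite presentation.
-/

set_option autoImplicit false
set_option linter.unusedSectionVars false
universe u
open CategoryTheory CategoryTheory.Limits MonoidalCategory CartesianMonoidalCategory MonObj
  AlgebraicGeometry

namespace Groth.Agent.H28.KerShear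

section kernel

variable {S : Scheme.{u}} {N G H : Over S} [GrpObj G] [GrpObj H] (i : N ⟶ G) (f : G ⟶ H)
  [IsMonHom f] (hi : AlgGrp.IsKernel i f)

include hi

lemma i_inj {T : Over S} (n₁ n₂ : T ⟶ N) (h : n₁ ≫ i = n₂ ≫ i) : n₁ = n₂ :=
  hi.hom_ext h (toUnit_unique _ _)

lemma ker_pt {T : Over S} (x : T ⟶ G) (hx : x ≫ f = 1) : ∃ n : T ⟶ N, n ≫ i = x :=
  ⟨hi.lift x (toUnit T) (by rw [hx, Hom.one_def]), hi.lift_fst _ _ _⟩

lemma i_f : i ≫ f = 1 := by
  rw [hi.w, Hom.one_def]

lemma pt_i_f {T : Over S} (n : T ⟶ N) : (n ≫ i) ≫ f = 1 := by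
  rw [Category.assoc, i_f i f hi, MonObj.comp_one]

theorem isPullback_shear : IsPullback (fst G N) ((G ◁ i) ≫ μ[G]) f f := by
  have hpt : ∀ {T : Over S} (x : T ⟶ G) (n : T ⟶ N),
      lift x n ≫ (G ◁ i) ≫ μ[G] = x * (n ≫ i) := by
    intro T x n
    rw [← Category.assoc, lift_whiskerLeft, ← Hom.mul_def]
  have w : fst G N ≫ f = ((G ◁ i) ≫ μ[G]) ≫ f := by
    apply AlgGrp.Action.hom_ext_lift₂
    intro T x n
    rw [← Category.assoc, lift_fst, ← Category.assoc, hpt, MonObj.mul_comp, pt_i_f i f hi,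
      _root_.mul_one]
  refine TorsRed.isPullback_of_existsUnique w ?_
  intro T x y hxy
  have hk : (x⁻¹ * y) ≫ f = 1 := by
    rw [MonObj.mul_comp, GrpObj.inv_comp, hxy, inv_mul_cancel]
  obtain ⟨n, hn⟩ := ker_pt i f hi _ hk
  refine ⟨lift x n, ⟨lift_fst _ _, ?_⟩, ?_⟩
  · rw [hpt, hn, mul_inv_cancel_left]
  · rintro m ⟨hm1, hm2⟩
    have hm : m = lift x (m ≫ snd G N) := by
      rw [← hm1, ← comp_lift, lift_fst_snd, Category.comp_id]
    rw [hm]
    congr 1
    apply i_inj i f hi
    rw [hn]
    have h3 : x * ((m ≫ snd G N) ≫ i) = y := by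
      rw [← hpt, ← hm, hm2]
    rw [← h3, inv_mul_cancel_left]

end kernel

/-- If `f ≫ g` is locally of finite presentation and `g` is locally of finite type, then `f` is
locally of finite presentation. -/
theorem lfp_of_comp {X Y Z : Scheme.{u}} (f : X ⟶ Y) (g : Y ⟶ Z)
    (h : LocallyOfFinitePresentation (f ≫ g)) (hg : LocallyOfFiniteType g) :
    LocallyOfFinitePresentation f := by
  wlog hZ : IsAffine Z generalizing X Y Z
  · rw [IsZariskiLocalAtTarget.iff_of_iSup_eq_top (P := @LocallyOfFinitePresentation) _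
      (g.iSup_preimage_eq_top (iSup_affineOpens_eq_top Z))]
    intro U
    have H := IsZariskiLocalAtTarget.restrict h U.1
    rw [morphismRestrict_comp] at H
    exact this _ _ H (IsZariskiLocalAtTarget.restrict hg U.1) inferInstance
  wlog hY : IsAffine Y generalizing X Y
  · rw [IsZariskiLocalAtTarget.iff_of_iSup_eq_top (P := @LocallyOfFinitePresentation) _
      (iSup_affineOpens_eq_top Y)]
    intro U
    have H : LocallyOfFinitePresentation ((f ⁻¹ᵁ U.1).ι ≫ f ≫ g) := inferInstance
    rw [← morphismRestrict_ι_assoc] at H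
    have hg' : LocallyOfFiniteType (U.1.ι ≫ g) := inferInstance
    exact this _ _ H hg' inferInstance
  wlog hX : IsAffine X generalizing X
  · rw [IsZariskiLocalAtSource.iff_of_iSup_eq_top (P := @LocallyOfFinitePresentation) _
      (iSup_affineOpens_eq_top X)]
    intro U
    have H : LocallyOfFinitePresentation (U.1.ι ≫ f ≫ g) := inferInstance
    rw [← Category.assoc] at H
    exact this _ H inferInstance
  rw [HasRingHomProperty.iff_of_isAffine (P := @LocallyOfFinitePresentation)] at h ⊢
  rw [HasRingHomProperty.iff_of_isAffine (P := @LocallyOfFiniteType)] at hg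
  rw [Scheme.Hom.comp_appTop] at h
  exact RingHom.FinitePresentation.of_comp_finiteType _ h hg

end Groth.Agent.H28.KerShear
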