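import Mathlib

/-!
# Null-homotopies on mapping cones of multiplication maps (helper28)
-/

set_option autoImplicit false
universe v u w

open CategoryTheory CategoryTheory.Limits CochainComplex HomComplex

namespace Groth.Agent.H28.KoszulHomotopy

variable {R : Type w} [CommRing R] {C : Type u} [Category.{v} C] [Preadditive C] [Linear R C]

lemma ofHom_smul {F G : CochainComplex C ℤ} (a : R) (φ : F ⟶ G) :
    Cochain.ofHom (a • φ) = a • Cochain.ofHom φ := by
  ext p
  simp [Cochain.ofHom_v, Cochain.smul_v]

variable (K : CochainComplex C ℤ) (f : R) [HomologicalComplex.HasHomotopyCofiber (f • 𝟙 K)]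

/-- multiplication by `f` is null-homotopic on the cone of multiplication by `f` -/
noncomputable def homotopySelf : Homotopy (f • 𝟙 (mappingCone (f • 𝟙 K))) 0 :=
  mappingCone.descHomotopy (f • 𝟙 K) _ _ 0 (mappingCone.inl (f • 𝟙 K))
    (by
      simp only [ofHom_smul, Cochain.ofHom_zero, Cochain.comp_zero, add_zero, δ_zero, zero_add,
        Cochain.comp_smul, Cochain.smul_comp, Cochain.comp_id, Cochain.id_comp])
    (by
      rw [mappingCone.δ_inl]
      simp only [Limits.comp_zero, Cochain.ofHom_zero, add_zero, Linear.smul_comp,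
        Linear.comp_smul, Category.id_comp, Category.comp_id])

/-- a null-homotopy of multiplication by `a` on `K` induces one on the cone of multiplication
by `f` -/
noncomputable def homotopyCone (a : R) (h : Homotopy (a • 𝟙 K) 0) :
    Homotopy (a • 𝟙 (mappingCone (f • 𝟙 K))) 0 := by
  let y : Cochain K K (-1) := (Cochain.equivHomotopy _ _ h).1
  have hy : δ (-1) 0 y = a • Cochain.ofHom (𝟙 K) := by
    have := (Cochain.equivHomotopy _ _ h).2
    simp only [Cochain.ofHom_zero, add_zero, ofHom_smul] at this
    exact this.symm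
  refine mappingCone.descHomotopy (f • 𝟙 K) _ _
    (-(y.comp (mappingCone.inl (f • 𝟙 K)) (by norm_num : (-1 : ℤ) + -1 = -2)))
    (y.comp (Cochain.ofHom (mappingCone.inr (f • 𝟙 K))) (add_zero (-1))) ?_ ?_
  · rw [δ_neg, δ_comp y (mappingCone.inl (f • 𝟙 K)) (by norm_num : (-1 : ℤ) + -1 = -2) 0 0 (-1)
      (by norm_num) (by norm_num) (by norm_num), mappingCone.δ_inl, hy]
    simp only [ofHom_smul, Cochain.ofHom_zero, Cochain.comp_zero, add_zero, Cochain.ofHom_comp,
      Cochain.comp_smul, Cochain.smul_comp, Cochain.comp_id, Cochain.id_comp,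
      Int.negOnePow_neg, Int.negOnePow_one, Units.neg_smul, one_smul]
    abel
  · rw [δ_comp_zero_cochain _ _ _ (neg_add_cancel 1), hy]
    simp only [δ_ofHom, Cochain.comp_zero, zero_add, Limits.comp_zero, Cochain.ofHom_zero,
      add_zero, Linear.comp_smul, Category.comp_id, ofHom_smul, Cochain.smul_comp,
      Cochain.id_comp]

end Groth.Agent.H28.KoszulHomotopy
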