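import Mathlib
import Groth.Prelude.Def_NonAbH2
import Groth.Prelude.Def_Red2
import Groth.Agent.H28.KerShear
import Groth.Agent.H28.ExactBC

/-!
# The Kummer sequence `1 → μ_n → G_m → G_m → 1`
-/

set_option autoImplicit false
set_option linter.unusedSimpArgs false
universe u
open CategoryTheory CategoryTheory.Limits MonoidAlgebra

namespace Groth.Agent.H28.Kummer

variable (R : Type u) [CommRing R] (n : ℕ)

/-- the `n`-th power map on `Multiplicative ℤ`. -/
noncomputable abbrev powHom : Multiplicative ℤ →* Multiplicative ℤ :=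
  AddMonoidHom.toMultiplicative (zmultiplesHom ℤ (n : ℤ))

noncomputable abbrev castHom : Multiplicative ℤ →* Multiplicative (ZMod n) :=
  AddMonoidHom.toMultiplicative (Int.castAddHom (ZMod n))

lemma castHom_surjective : Function.Surjective (castHom n) := by
  intro z
  obtain ⟨k, hk⟩ := ZMod.intCast_surjective (Multiplicative.toAdd z)
  exact ⟨Multiplicative.ofAdd k, by simpa using congrArg Multiplicative.ofAdd hk⟩

lemma ker_castHom_le {G : Type*} [Group G] (g : Multiplicative ℤ →* G)
    (hg : g (Multiplicative.ofAdd (n : ℤ)) = 1) : (castHom n).ker ≤ g.ker := by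
  intro x hx
  rw [MonoidHom.mem_ker] at hx ⊢
  have h1 : ((Multiplicative.toAdd x : ℤ) : ZMod n) = 0 := by
    simpa using congrArg Multiplicative.toAdd hx
  rw [ZMod.intCast_zmod_eq_zero_iff_dvd] at h1
  obtain ⟨k, hk⟩ := h1
  have hx' : x = (Multiplicative.ofAdd (n : ℤ)) ^ k := by
    rw [← ofAdd_zsmul, smul_eq_mul, mul_comm, ← hk, ofAdd_toAdd]
  rw [hx', map_zpow, hg, one_zpow]

lemma powHom_ofAdd_one : powHom n (Multiplicative.ofAdd 1) = Multiplicative.ofAdd (n : ℤ) := by
  simp [powHom]

section pushout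

noncomputable abbrev pw : MonoidAlgebra R (Multiplicative ℤ) →+* MonoidAlgebra R (Multiplicative ℤ) :=
  mapDomainRingHom R (powHom n)
noncomputable abbrev cs :
    MonoidAlgebra R (Multiplicative ℤ) →+* MonoidAlgebra R (Multiplicative (ZMod n)) :=
  mapDomainRingHom R (castHom n)
noncomputable abbrev cu : MonoidAlgebra R (Multiplicative ℤ) →+* R :=
  (Bialgebra.counitAlgHom R (MonoidAlgebra R (Multiplicative ℤ))).toRingHom

lemma cu_single (m : Multiplicative ℤ) (r : R) : cu R (single m r) = r := by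
  simp [cu]

lemma pw_single (m : Multiplicative ℤ) (r : R) : pw R n (single m r) = single (powHom n m) r := by
  simp [pw]

lemma cs_single (m : Multiplicative ℤ) (r : R) : cs R n (single m r) = single (castHom n m) r := by
  simp [cs]

variable {R n}
variable {W : Type u} [CommRing W] (φ₁ : MonoidAlgebra R (Multiplicative ℤ) →+* W) (φ₂ : R →+* W)
  (hφ : φ₁.comp (pw R n) = φ₂.comp (cu R))

noncomputable def g₀ : Multiplicative ℤ →* W :=
  (φ₁ : MonoidAlgebra R (Multiplicative ℤ) →* W).comp (of R (Multiplicative ℤ))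

lemma g₀_apply (m : Multiplicative ℤ) : g₀ φ₁ m = φ₁ (single m 1) := rfl

include hφ in
lemma g₀_n : (g₀ φ₁).toHomUnits (Multiplicative.ofAdd (n : ℤ)) = 1 := by
  apply Units.ext
  rw [MonoidHom.coe_toHomUnits, g₀_apply, Units.val_one, ← powHom_ofAdd_one, ← pw_single]
  have := congrArg (fun f => f (single (Multiplicative.ofAdd (1:ℤ)) (1:R))) hφ
  simp only [RingHom.comp_apply] at this
  rw [this, cu_single, map_one]

noncomputable def g' : Multiplicative (ZMod n) →* Wˣ :=
  (castHom n).liftOfSurjective (castHom_surjective n)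
    ⟨(g₀ φ₁).toHomUnits, ker_castHom_le n _ (g₀_n φ₁ φ₂ hφ)⟩

lemma g'_cast (m : Multiplicative ℤ) : ((g' φ₁ φ₂ hφ (castHom n m) : Wˣ) : W) = φ₁ (single m 1) := by
  unfold g'
  rw [MonoidHom.liftOfRightInverse_comp_apply]
  rfl

noncomputable def desc : MonoidAlgebra R (Multiplicative (ZMod n)) →+* W :=
  liftNCRingHom φ₂ ((Units.coeHom W).comp (g' φ₁ φ₂ hφ)) (fun _ _ => Commute.all _ _)

lemma desc_single (z : Multiplicative (ZMod n)) (r : R) :
    desc φ₁ φ₂ hφ (single z r) = φ₂ r * ((g' φ₁ φ₂ hφ z : Wˣ) : W) := by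
  simp [desc, liftNCRingHom]

include hφ in
lemma φ₁_single_one (r : R) : φ₁ (single 1 r) = φ₂ r := by
  have := congrArg (fun f => f (single (1 : Multiplicative ℤ) r)) hφ
  simp only [RingHom.comp_apply] at this
  rw [pw_single, cu_single, map_one] at this
  exact this

variable (R n) in
lemma castHom_powHom (m : Multiplicative ℤ) : castHom n (powHom n m) = 1 := by
  apply Multiplicative.toAdd.injective
  simp [castHom, powHom]

variable (R n) in
theorem isPushout_kummer :
    IsPushout (CommRingCat.ofHom (pw R n)) (CommRingCat.ofHom (cu R)) (CommRingCat.ofHom (cs R n))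
      (CommRingCat.ofHom (algebraMap R (MonoidAlgebra R (Multiplicative (ZMod n))))) := by
  have hs : ∀ s : PushoutCocone (CommRingCat.ofHom (pw R n)) (CommRingCat.ofHom (cu R)),
      s.inl.hom.comp (pw R n) = s.inr.hom.comp (cu R) := fun s =>
    congrArg CommRingCat.Hom.hom s.condition
  have w : CommRingCat.ofHom (pw R n) ≫ CommRingCat.ofHom (cs R n) =
      CommRingCat.ofHom (cu R) ≫
        CommRingCat.ofHom (algebraMap R (MonoidAlgebra R (Multiplicative (ZMod n)))) := by
    ext1
    apply MonoidAlgebra.ringHom_ext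
    · intro r
      simp [pw_single, cs_single, cu_single]
    · intro m
      simp only [CommRingCat.hom_comp, CommRingCat.hom_ofHom, RingHom.comp_apply]
      rw [pw_single, cs_single, cu_single, castHom_powHom, map_one]
      rfl
  refine ⟨⟨w⟩, ⟨PushoutCocone.IsColimit.mk w
    (fun s => CommRingCat.ofHom (desc s.inl.hom s.inr.hom (hs s))) ?_ ?_ ?_⟩⟩
  · intro s
    ext1
    apply MonoidAlgebra.ringHom_ext
    · intro r
      simp only [CommRingCat.hom_comp, CommRingCat.hom_ofHom, RingHom.comp_apply]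
      rw [cs_single, desc_single, map_one, map_one, Units.val_one, mul_one,
        φ₁_single_one _ _ (hs s)]
    · intro m
      simp only [CommRingCat.hom_comp, CommRingCat.hom_ofHom, RingHom.comp_apply]
      rw [cs_single, desc_single, map_one, one_mul, g'_cast]
  · intro s
    ext1
    ext r
    simp only [CommRingCat.hom_comp, CommRingCat.hom_ofHom, RingHom.comp_apply]
    rw [MonoidAlgebra.coe_algebraMap]
    simp only [Function.comp_apply, Algebra.algebraMap_self, RingHom.id_apply]
    rw [desc_single, map_one, Units.val_one, mul_one]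
  · intro s m h1 h2
    ext1
    apply MonoidAlgebra.ringHom_ext
    · intro r
      simp only [CommRingCat.hom_ofHom]
      rw [desc_single, map_one, Units.val_one, mul_one]
      have := congrArg (fun f => f.hom r) h2
      simp only [CommRingCat.hom_comp, CommRingCat.hom_ofHom, RingHom.comp_apply] at this
      rw [← this, MonoidAlgebra.coe_algebraMap]
      simp
    · intro z
      obtain ⟨k, rfl⟩ := castHom_surjective n z
      simp only [CommRingCat.hom_ofHom]
      rw [desc_single, map_one, one_mul, g'_cast]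
      have := congrArg (fun f => f.hom (single k (1:R))) h1
      simp only [CommRingCat.hom_comp, CommRingCat.hom_ofHom, RingHom.comp_apply] at this
      rw [← this, cs_single]

end pushout

section adjoin
open Polynomial

noncomputable def tU : (MonoidAlgebra R (Multiplicative ℤ))ˣ :=
  Units.map (of R (Multiplicative ℤ) : _ →* MonoidAlgebra R (Multiplicative ℤ))
    (toUnits (Multiplicative.ofAdd (1 : ℤ)))

lemma tU_val : ((tU R : (MonoidAlgebra R (Multiplicative ℤ))ˣ) : MonoidAlgebra R (Multiplicative ℤ)) =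
    single (Multiplicative.ofAdd (1 : ℤ)) 1 := rfl

noncomputable def P : Polynomial (MonoidAlgebra R (Multiplicative ℤ)) :=
  X ^ n - C ((tU R : (MonoidAlgebra R (Multiplicative ℤ))ˣ) : MonoidAlgebra R (Multiplicative ℤ))

variable {n}
variable (hn : 0 < n)

include hn in
lemma P_monic : (P R n).Monic := monic_X_pow_sub_C _ hn.ne'

lemma pw_t : pw R n (tU R : (MonoidAlgebra R (Multiplicative ℤ))ˣ) =
    ((tU R : (MonoidAlgebra R (Multiplicative ℤ))ˣ) : MonoidAlgebra R (Multiplicative ℤ)) ^ n := by
  rw [tU_val, pw_single, powHom_ofAdd_one, single_pow, one_pow]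
  congr 1
  rw [← ofAdd_nsmul]
  simp

lemma eval_P : (P R n).eval₂ (pw R n)
    ((tU R : (MonoidAlgebra R (Multiplicative ℤ))ˣ) : MonoidAlgebra R (Multiplicative ℤ)) = 0 := by
  rw [P, eval₂_sub, eval₂_pow, eval₂_X, eval₂_C, pw_t, sub_self]

noncomputable def Φ : AdjoinRoot (P R n) →+* MonoidAlgebra R (Multiplicative ℤ) :=
  AdjoinRoot.lift (pw R n) _ (eval_P R)

lemma root_pow : (AdjoinRoot.root (P R n)) ^ n =
    AdjoinRoot.of (P R n) ((tU R : (MonoidAlgebra R (Multiplicative ℤ))ˣ) :
      MonoidAlgebra R (Multiplicative ℤ)) := by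
  have h := AdjoinRoot.eval₂_root (P R n)
  rw [P, eval₂_sub, eval₂_pow, eval₂_X, eval₂_C, sub_eq_zero] at h
  exact h

include hn in
lemma root_mul : AdjoinRoot.root (P R n) * ((AdjoinRoot.root (P R n)) ^ (n - 1) *
    AdjoinRoot.of (P R n) (((tU R)⁻¹ : (MonoidAlgebra R (Multiplicative ℤ))ˣ) :
      MonoidAlgebra R (Multiplicative ℤ))) = 1 := by
  rw [← mul_assoc, ← pow_succ', Nat.sub_add_cancel hn, root_pow, ← map_mul, Units.mul_inv, map_one]

noncomputable def ρ : (AdjoinRoot (P R n))ˣ := Units.mkOfMulEqOne _ _ (root_mul R hn)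

lemma ρ_val : ((ρ R hn : (AdjoinRoot (P R n))ˣ) : AdjoinRoot (P R n)) = AdjoinRoot.root (P R n) := rfl

noncomputable def gB : Multiplicative ℤ →* AdjoinRoot (P R n) :=
  (Units.coeHom _).comp (zpowersHom _ (ρ R hn))

lemma gB_one : gB R hn (Multiplicative.ofAdd 1) = AdjoinRoot.root (P R n) := by
  simp [gB, ρ_val]

lemma gB_n : gB R hn (Multiplicative.ofAdd (n : ℤ)) = AdjoinRoot.of (P R n)
    ((tU R : (MonoidAlgebra R (Multiplicative ℤ))ˣ) : MonoidAlgebra R (Multiplicative ℤ)) := by
  simp [gB, ρ_val, root_pow]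

noncomputable def Ψ : MonoidAlgebra R (Multiplicative ℤ) →+* AdjoinRoot (P R n) :=
  liftNCRingHom ((AdjoinRoot.of (P R n)).comp (algebraMap R (MonoidAlgebra R (Multiplicative ℤ))))
    (gB R hn) (fun _ _ => Commute.all _ _)

lemma Ψ_single (m : Multiplicative ℤ) (r : R) : Ψ R hn (single m r) =
    AdjoinRoot.of (P R n) (single 1 r) * gB R hn m := by
  simp [Ψ, liftNCRingHom]

lemma Ψ_pw : (Ψ R hn).comp (pw R n) = AdjoinRoot.of (P R n) := by
  apply MonoidAlgebra.ringHom_ext
  · intro r
    rw [RingHom.comp_apply, pw_single, map_one, Ψ_single, map_one, mul_one]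
  · intro m
    have : ((Ψ R hn).comp (pw R n) : MonoidAlgebra R (Multiplicative ℤ) →* _).comp
        (of R (Multiplicative ℤ)) =
        ((AdjoinRoot.of (P R n) : MonoidAlgebra R (Multiplicative ℤ) →+* AdjoinRoot (P R n)) :
          MonoidAlgebra R (Multiplicative ℤ) →* AdjoinRoot (P R n)).comp
          (of R (Multiplicative ℤ)) := by
      apply MonoidHom.ext_mint
      simp only [MonoidHom.comp_apply, of_apply, MonoidHom.coe_coe, RingHom.comp_apply]
      rw [pw_single, powHom_ofAdd_one, Ψ_single, gB_n, ← tU_val]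
      rw [show (single (1 : Multiplicative ℤ) (1 : R)) = 1 from rfl, map_one, one_mul]
    exact congrArg (fun f => f m) this

theorem Φ_Ψ : (Φ R (n := n)).comp (Ψ R hn) = RingHom.id _ := by
  apply MonoidAlgebra.ringHom_ext
  · intro r
    rw [RingHom.comp_apply, Ψ_single, map_one, mul_one, Φ, AdjoinRoot.lift_of, pw_single, map_one]
    rfl
  · intro m
    have : ((Φ R (n := n)).comp (Ψ R hn) : MonoidAlgebra R (Multiplicative ℤ) →* _).comp
        (of R (Multiplicative ℤ)) =
        ((RingHom.id _ : MonoidAlgebra R (Multiplicative ℤ) →+* MonoidAlgebra R (Multiplicative ℤ)) :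
          MonoidAlgebra R (Multiplicative ℤ) →* MonoidAlgebra R (Multiplicative ℤ)).comp
          (of R (Multiplicative ℤ)) := by
      apply MonoidHom.ext_mint
      simp only [MonoidHom.comp_apply, of_apply, MonoidHom.coe_coe, RingHom.comp_apply,
        RingHom.id_apply]
      rw [Ψ_single, gB_one, show (single (1 : Multiplicative ℤ) (1 : R)) = 1 from rfl, map_one,
        one_mul, Φ, AdjoinRoot.lift_root, tU_val]
    exact congrArg (fun f => f m) this

theorem Ψ_Φ : (Ψ R hn).comp (Φ R (n := n)) = RingHom.id _ := by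
  apply AdjoinRoot.ringHom_ext
  · rw [RingHom.comp_assoc, Φ, AdjoinRoot.lift_comp_of, Ψ_pw]
    rfl
  · rw [RingHom.comp_apply, Φ, AdjoinRoot.lift_root, tU_val, Ψ_single, gB_one,
      show (single (1 : Multiplicative ℤ) (1 : R)) = 1 from rfl, map_one, one_mul]
    rfl

noncomputable def e : AdjoinRoot (P R n) ≃+* MonoidAlgebra R (Multiplicative ℤ) :=
  RingEquiv.ofRingHom (Φ R) (Ψ R hn) (Φ_Ψ R hn) (Ψ_Φ R hn)

lemma pw_eq : pw R n = ((e R hn : AdjoinRoot (P R n) ≃+* MonoidAlgebra R (Multiplicative ℤ)) :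
        AdjoinRoot (P R n) →+* MonoidAlgebra R (Multiplicative ℤ)).comp
    (algebraMap _ (AdjoinRoot (P R n))) := by
  change _ = (Φ R).comp (AdjoinRoot.of _)
  rw [Φ, AdjoinRoot.lift_comp_of]

end adjoin

section scheme
open AlgebraicGeometry Polynomial

variable {n}

theorem flat_surj_lfp [Nontrivial R] (hn : 0 < n) :
    Flat (Spec.map (CommRingCat.ofHom (pw R n))) ∧
      Surjective (Spec.map (CommRingCat.ofHom (pw R n))) ∧
      LocallyOfFinitePresentation (Spec.map (CommRingCat.ofHom (pw R n))) := by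
  have hfree : Module.Free (MonoidAlgebra R (Multiplicative ℤ)) (AdjoinRoot (P R n)) :=
    Module.Free.of_basis (AdjoinRoot.powerBasis' (P_monic R hn)).basis
  have hnt : Nontrivial (AdjoinRoot (P R n)) := (e R hn).symm.injective.nontrivial
  have hff : (algebraMap (MonoidAlgebra R (Multiplicative ℤ)) (AdjoinRoot (P R n))).FaithfullyFlat :=
    RingHom.faithfullyFlat_algebraMap_iff.mpr inferInstance
  have hfp : Algebra.FinitePresentation (MonoidAlgebra R (Multiplicative ℤ)) (AdjoinRoot (P R n)) :=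
    Algebra.FinitePresentation.quotient (I := Ideal.span {P R n}) ⟨{P R n}, by simp⟩
  have h1 := (flat_and_surjective_SpecMap_iff (CommRingCat.ofHom
    (algebraMap (MonoidAlgebra R (Multiplicative ℤ)) (AdjoinRoot (P R n))))).mpr hff
  have h2 : LocallyOfFinitePresentation (Spec.map (CommRingCat.ofHom
      (algebraMap (MonoidAlgebra R (Multiplicative ℤ)) (AdjoinRoot (P R n))))) := by
    rw [HasRingHomProperty.Spec_iff (P := @LocallyOfFinitePresentation)]
    exact RingHom.finitePresentation_algebraMap.mpr hfp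
  have hiso : IsIso (CommRingCat.ofHom
      ((e R hn : AdjoinRoot (P R n) ≃+* MonoidAlgebra R (Multiplicative ℤ)) :
        AdjoinRoot (P R n) →+* MonoidAlgebra R (Multiplicative ℤ))) := by
    have := (e R hn).toCommRingCatIso.isIso_hom
    exact this
  have heq : Spec.map (CommRingCat.ofHom (pw R n)) =
      Spec.map (CommRingCat.ofHom
        ((e R hn : AdjoinRoot (P R n) ≃+* MonoidAlgebra R (Multiplicative ℤ)) :
        AdjoinRoot (P R n) →+* MonoidAlgebra R (Multiplicative ℤ))) ≫
      Spec.map (CommRingCat.ofHom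
        (algebraMap (MonoidAlgebra R (Multiplicative ℤ)) (AdjoinRoot (P R n)))) := by
    rw [← Spec.map_comp, ← CommRingCat.ofHom_comp, ← pw_eq]
  obtain ⟨h1a, h1b⟩ := h1
  rw [heq]
  exact ⟨inferInstance, inferInstance, inferInstance⟩

end scheme

section grp
open AlgebraicGeometry MonoidalCategory CartesianMonoidalCategory MonObj

theorem isMonHom_diagMap {M N : Type} [AddCommGroup M] [AddCommGroup N] (φ : M →+ N) :
    IsMonHom (Red.diagMap R φ) := by
  have h := ((bialgSpec (CommRingCat.of R)).map (Quiver.Hom.op (CommBialgCat.ofHom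
    (MonoidAlgebra.mapDomainBialgHom R (AddMonoidHom.toMultiplicative φ))))).isMonHom_hom
  exact h

theorem isKernel : AlgGrp.IsKernel (Red.diagMap R (Int.castAddHom (ZMod n)))
    (Red.diagMap R (zmultiplesHom ℤ (n:ℤ))) := by
  unfold AlgGrp.IsKernel
  apply IsPullback.of_map_of_faithful (Over.forget _)
  have h := isPullback_SpecMap_of_isPushout _ _ _ _ (isPushout_kummer R n)
  exact h

theorem kummer_exact {S : Scheme.{u}} (K : Precoverage Scheme.{u})
    (hK : Scheme.fppfPrecoverage ≤ K) {n : ℕ} (hn : 0 < n) :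
    NonAbH1.IsExactSeq K (Red.DSmap S (Int.castAddHom (ZMod n))) (Red.chi S (n : ℤ)) := by
  have hv : IsMonHom (Red.diagMap (ULift.{u} ℤ) (zmultiplesHom ℤ (n:ℤ))) := isMonHom_diagMap _ _
  have hk := isKernel (ULift.{u} ℤ) n
  obtain ⟨h1, h2, h3⟩ := flat_surj_lfp (ULift.{u} ℤ) hn
  exact ExactBC.exact_bc _ K hK _ _ (isMonHom_diagMap _ _) hv (KerShear.i_f _ _ hk)
    (KerShear.isPullback_shear _ _ hk) h1 h2 h3

end grp

end Groth.Agent.H28.Kummer
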