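import Mathlib

/-!
# Extracting `n`-th roots of units étale locally (helper28)
-/

set_option autoImplicit false
universe u
open Polynomial CategoryTheory AlgebraicGeometry

namespace Groth.Agent.H28.KummerEt

variable {A : Type u} [CommRing A]

/-- the standard étale pair `(X^n - v, 1)` -/
noncomputable def pair (v : Aˣ) (n : ℕ) (hn : 0 < n) (hnA : IsUnit (n : A)) :
    StandardEtalePair A where
  f := X ^ n - C (v : A)
  monic_f := monic_X_pow_sub_C _ hn.ne'
  g := 1
  cond := by
    obtain ⟨m, rfl⟩ : ∃ m, n = m + 1 := ⟨n - 1, by omega⟩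
    obtain ⟨w, hw⟩ := hnA
    refine ⟨C ((↑w⁻¹ : A) * ↑v⁻¹) * X,
      -(C ((↑w⁻¹ : A) * ↑v⁻¹) * C ((m + 1 : ℕ) : A)), 0, ?_⟩
    have h1 : (↑w⁻¹ : A) * ↑w = 1 := Units.inv_mul w
    have h2 : (↑v⁻¹ : A) * ↑v = 1 := Units.inv_mul v
    have hc : (↑w⁻¹ : A) * ↑v⁻¹ * ((m + 1 : ℕ) : A) * (v : A) = 1 := by
      rw [← hw]
      linear_combination ((↑v⁻¹ : A) * ↑v) * h1 + h2
    have h3 : C ((↑w⁻¹ : A) * ↑v⁻¹) * C ((m + 1 : ℕ) : A) * C (v : A) = 1 := by
      rw [← C_mul, ← C_mul, hc, C_1]
    simp only [derivative_sub, derivative_X_pow, derivative_C, sub_zero, pow_zero,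
      Nat.add_sub_cancel]
    linear_combination h3

variable (v : Aˣ) (n : ℕ) (hn : 0 < n) (hnA : IsUnit (n : A))

lemma X_pow : (pair v n hn hnA).X ^ n = algebraMap A (pair v n hn hnA).Ring (v : A) := by
  have h : aeval (pair v n hn hnA).X (X ^ n - C (v : A)) = 0 :=
    (StandardEtalePair.hasMap_X (P := pair v n hn hnA)).1
  simpa [sub_eq_zero] using h

lemma isUnit_X : IsUnit (pair v n hn hnA).X := by
  have h := X_pow v n hn hnA
  have h2 : IsUnit ((pair v n hn hnA).X ^ n) := by
    rw [h]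
    exact v.isUnit.map (algebraMap A (pair v n hn hnA).Ring)
  exact (isUnit_pow_iff hn.ne').mp h2

noncomputable def equivAdjoinRoot :
    (pair v n hn hnA).Ring ≃ₐ[A] AdjoinRoot (X ^ n - C (v : A)) :=
  AlgEquiv.ofAlgHom
    ((pair v n hn hnA).lift (AdjoinRoot.root (X ^ n - C (v : A)))
      ⟨by
        change aeval (AdjoinRoot.root (X ^ n - C (v : A))) (X ^ n - C (v : A)) = 0
        rw [AdjoinRoot.aeval_eq, AdjoinRoot.mk_self], by
        change IsUnit (aeval (AdjoinRoot.root (X ^ n - C (v : A))) (1 : A[X]))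
        simp⟩)
    (AdjoinRoot.liftAlgHom _ _ (pair v n hn hnA).X
      (StandardEtalePair.hasMap_X (P := pair v n hn hnA)).1)
    (by
      apply AdjoinRoot.algHom_ext
      simp)
    (by
      apply StandardEtalePair.hom_ext
      simp)

theorem faithfullyFlat [Nontrivial A] : Module.FaithfullyFlat A (pair v n hn hnA).Ring := by
  have hmonic : (X ^ n - C (v : A)).Monic := monic_X_pow_sub_C _ hn.ne'
  have hfree : Module.Free A (AdjoinRoot (X ^ n - C (v : A))) :=
    Module.Free.of_basis (AdjoinRoot.powerBasis' hmonic).basis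
  have hdim : 0 < (AdjoinRoot.powerBasis' hmonic).dim := by
    rw [AdjoinRoot.powerBasis'_dim, natDegree_X_pow_sub_C]
    exact hn
  have hnt : Nontrivial (AdjoinRoot (X ^ n - C (v : A))) :=
    ⟨⟨(AdjoinRoot.powerBasis' hmonic).basis ⟨0, hdim⟩, 0,
      (AdjoinRoot.powerBasis' hmonic).basis.ne_zero _⟩⟩
  have hfree' : Module.Free A (pair v n hn hnA).Ring :=
    Module.Free.of_equiv (equivAdjoinRoot v n hn hnA).symm.toLinearEquiv
  have hnt' : Nontrivial (pair v n hn hnA).Ring :=
    (equivAdjoinRoot v n hn hnA).symm.injective.nontrivial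
  infer_instance

theorem spec_etale_surj (R : CommRingCat.{u}) [Nontrivial R] (v : Rˣ) (n : ℕ) (hn : 0 < n)
    (hnR : IsUnit (n : R)) :
    Etale (Spec.map (CommRingCat.ofHom (algebraMap R (pair v n hn hnR).Ring))) ∧
    Surjective (Spec.map (CommRingCat.ofHom (algebraMap R (pair v n hn hnR).Ring))) := by
  constructor
  · rw [HasRingHomProperty.Spec_iff (P := @Etale)]
    exact RingHom.etale_algebraMap.mpr inferInstance
  · have hff : (algebraMap R (pair v n hn hnR).Ring).FaithfullyFlat :=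
      RingHom.faithfullyFlat_algebraMap_iff.mpr (faithfullyFlat v n hn hnR)
    exact ((flat_and_surjective_SpecMap_iff (CommRingCat.ofHom
      (algebraMap R (pair v n hn hnR).Ring))).mpr hff).2

end Groth.Agent.H28.KummerEt
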