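import Groth.Prelude.Def_LambdaRing
import Mathlib

set_option autoImplicit false
universe u
open Finset
open LambdaRing

namespace Groth.Agent.H28.LambdaAux

variable {K : Type u} [CommRing K] [LambdaRing.LambdaOps K]

/-- `λ^{i+1}(y + 1) = λ^{i+1}(y) + λ^i(y)` when `λ_t(1) = 1 + t`. -/
lemma lam_succ_add_one (h1 : ∀ k : ℕ, 2 ≤ k → LambdaRing.LambdaOps.lam k (1 : K) = 0) (i : ℕ) (y : K) :
    LambdaOps.lam (i + 1) (y + 1) = LambdaOps.lam (i + 1) y + LambdaOps.lam i y := by
  rw [LambdaOps.lam_add, Finset.sum_range_succ, Finset.sum_range_succ]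
  have hz : ∑ j ∈ range i, LambdaOps.lam j y * LambdaOps.lam (i + 1 - j) (1 : K) = 0 := by
    refine Finset.sum_eq_zero fun j hj => ?_
    have hj' : j < i := Finset.mem_range.mp hj
    rw [h1 (i + 1 - j) (by omega), mul_zero]
  rw [hz, zero_add]
  have e1 : i + 1 - i = 1 := by omega
  have e2 : i + 1 - (i + 1) = 0 := by omega
  rw [e1, e2, LambdaOps.lam_one, LambdaOps.lam_zero, mul_one, mul_one, add_comm]

/-- `λ^n(x + m) = Σ_j C(m, n - j) λ^j(x)`. -/
lemma lam_add_natCast (h1 : ∀ k : ℕ, 2 ≤ k → LambdaRing.LambdaOps.lam k (1 : K) = 0) (m : ℕ) :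
    ∀ (n : ℕ) (x : K), LambdaOps.lam n (x + (m : K)) =
      ∑ j ∈ range (n + 1), (Nat.choose m (n - j) : K) * LambdaOps.lam j x := by
  induction m with
  | zero =>
    intro n x
    rw [Nat.cast_zero, add_zero, Finset.sum_eq_single n]
    · simp
    · intro j hj hjn
      have : j < n + 1 := Finset.mem_range.mp hj
      have hpos : 0 < n - j := by omega
      rw [Nat.choose_eq_zero_of_lt hpos, Nat.cast_zero, zero_mul]
    · intro h; exact absurd (Finset.mem_range.mpr (Nat.lt_succ_self n)) h
  | succ m ih =>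
    intro n x
    have hx : x + ((m + 1 : ℕ) : K) = (x + (m : K)) + 1 := by push_cast; ring
    rw [hx]
    cases n with
    | zero => simp [LambdaOps.lam_zero]
    | succ n =>
      rw [lam_succ_add_one h1, ih (n + 1) x, ih n x]
      rw [Finset.sum_range_succ _ (n + 1), Finset.sum_range_succ _ (n + 1)]
      have e : n + 1 - (n + 1) = 0 := by omega
      rw [e, Nat.choose_zero_right, Nat.choose_zero_right, add_right_comm, ← Finset.sum_add_distrib]
      congr 1
      refine Finset.sum_congr rfl fun j hj => ?_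
      have hj' : j < n + 1 := Finset.mem_range.mp hj
      have e2 : n + 1 - j = (n - j) + 1 := by omega
      rw [e2, Nat.choose_succ_succ, Nat.cast_add]
      ring

end Groth.Agent.H28.LambdaAux
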