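import Mathlib
import Groth.Agent.H28.QcCover

/-!
# A chart on which a `LocQ`-flat, `LocQ`-lfp morphism becomes representable flat and lfp
-/

set_option autoImplicit false
set_option linter.style.haveILetI false
set_option backward.isDefEq.respectTransparency false
set_option backward.isDefEq.respectTransparency.types false

namespace Groth.Agent.H28.RepComp

open CategoryTheory CategoryTheory.Limits FibCat AlgebraicGeometry Opposite Stk MorphismProperty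
open Groth.Agent.Helper22 Groth.Agent.Helper22.EquivComp Groth.Agent.Helper22.FpSq
open Groth.Agent.Helper22.FpEquiv Groth.Agent.H28.LiftFp
open Groth.Agent.H28.FpBase Groth.Agent.H28.PshDict Groth.Agent.H28.IsoCl
open Groth.Agent.H25.AS

universe w u

variable {S : Scheme.{u}} {𝒳 𝒴 𝒵 : AlgSt.Cat S}

theorem exists_flat_lfp_chart
    (h𝒵 : AlgSt.IsAlgStack Scheme.fppfPrecoverage 𝒵) (z : 𝒵 ⥤ᵇ 𝒴)
    (hz₁ : AlgSt.LocQ (AlgSp.LocP @Flat) z)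
    (hz₂ : AlgSt.LocQ (AlgSp.LocP @LocallyOfFinitePresentation) z) :
    ∃ (T : Over S) (v : FibCat.overCat T ⥤ᵇ 𝒵),
      AlgSt.RepByAlgSpWith (AlgSp.LocP @Smooth) v ∧ AlgSt.RepByAlgSpWith AlgSp.IsSurjectiveMor v ∧
      AlgSt.RepByAlgSpWith (AlgSp.LocP @Flat) (BasedFunctor.comp v z) ∧
      AlgSt.RepByAlgSpWith (AlgSp.LocP @LocallyOfFinitePresentation) (BasedFunctor.comp v z) := by
  obtain ⟨U₁, V₁, x₁, y₁, h₁, α₁, hx₁sm, hx₁sj, hy₁sm, hh₁⟩ := hz₁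
  obtain ⟨U₂, V₂, x₂, y₂, h₂, α₂, hx₂sm, hx₂sj, hy₂sm, hh₂⟩ := hz₂
  have hU₁ := OverFib.isFibGrpd_over U₁
  have hU₂ := OverFib.isFibGrpd_over U₂
  have hV₁ := OverFib.isFibGrpd_over V₁
  have hV₂ := OverFib.isFibGrpd_over V₂
  have hc₁ : AlgSt.RepByAlgSpWith (AlgSp.LocP @Flat) (BasedFunctor.comp x₁ z) :=
    repByAlgSpWith_of_iso _ α₁.symm (repByAlgSpWith_comp_goodP (goodP_locP etLoc_flat) hU₁ hV₁
      (AlgSt.overMap h₁) y₁ (overMap_of_prop (goodP_locP etLoc_flat) h₁ hh₁)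
      (repByAlgSpWith_mono_le (locP_mono smooth_le_flat) hy₁sm))
  have hc₂ : AlgSt.RepByAlgSpWith (AlgSp.LocP @LocallyOfFinitePresentation)
      (BasedFunctor.comp x₂ z) :=
    repByAlgSpWith_of_iso _ α₂.symm (repByAlgSpWith_comp_goodP
      (goodP_locP etLoc_locallyOfFinitePresentation) hU₂ hV₂
      (AlgSt.overMap h₂) y₂ (overMap_of_prop (goodP_locP etLoc_locallyOfFinitePresentation) h₂ hh₂)
      (repByAlgSpWith_mono_le (locP_mono smooth_le_lfp) hy₂sm))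
  have h𝒫 : AlgSt.IsAlgStack Scheme.fppfPrecoverage (FibCat.fp x₁ x₂) :=
    isAlgStack_fp _ h𝒵.isStack h𝒵.diag (isAlgStack_overCat U₁) (isAlgStack_overCat U₂) x₁ x₂
  obtain ⟨T, t, ht₁, ht₂⟩ := h𝒫.atlas
  have hT := OverFib.isFibGrpd_over T
  let w₁ : FibCat.overCat T ⥤ᵇ FibCat.overCat U₁ := BasedFunctor.comp t (FibCat.fpFst x₁ x₂)
  let w₂ : FibCat.overCat T ⥤ᵇ FibCat.overCat U₂ := BasedFunctor.comp t (FibCat.fpSnd x₁ x₂)
  have hw₁sm : AlgSt.RepByAlgSpWith (AlgSp.LocP @Smooth) w₁ :=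
    repByAlgSpWith_comp_goodP (goodP_locP etLoc_smooth) hT h𝒫.isStack.1 t _ ht₁
      (repByAlgSpWith_fpFst _ x₂ x₁ hx₂sm)
  have hw₁sj : AlgSt.RepByAlgSpWith AlgSp.IsSurjectiveMor w₁ :=
    repByAlgSpWith_comp_goodP goodP_surj hT h𝒫.isStack.1 t _ ht₂
      (repByAlgSpWith_fpFst _ x₂ x₁ hx₂sj)
  have hw₂sm : AlgSt.RepByAlgSpWith (AlgSp.LocP @Smooth) w₂ :=
    repByAlgSpWith_comp_goodP (goodP_locP etLoc_smooth) hT h𝒫.isStack.1 t _ ht₁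
      (repByAlgSpWith_fpSnd _ x₂ x₁ hx₁sm)
  have κ : BasedFunctor.comp w₁ x₁ ≅ BasedFunctor.comp w₂ x₂ :=
    whiskerLeftIso t (FibCat.fpIso x₁ x₂)
  refine ⟨T, BasedFunctor.comp w₁ x₁,
    repByAlgSpWith_comp_goodP (goodP_locP etLoc_smooth) hT hU₁ w₁ x₁ hw₁sm hx₁sm,
    repByAlgSpWith_comp_goodP goodP_surj hT hU₁ w₁ x₁ hw₁sj hx₁sj,
    repByAlgSpWith_comp_goodP (goodP_locP etLoc_flat) hT hU₁ w₁ (BasedFunctor.comp x₁ z)
      (repByAlgSpWith_mono_le (locP_mono smooth_le_flat) hw₁sm) hc₁,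
    repByAlgSpWith_of_iso _ (whiskerRightIso κ z).symm
      (repByAlgSpWith_comp_goodP (goodP_locP etLoc_locallyOfFinitePresentation) hT hU₂ w₂
        (BasedFunctor.comp x₂ z) (repByAlgSpWith_mono_le (locP_mono smooth_le_lfp) hw₂sm) hc₂)⟩

theorem isOpenMor_of_locQ (h𝒳 : AlgSt.IsAlgStack Scheme.fppfPrecoverage 𝒳)
    (h𝒴 : AlgSt.IsAlgStack Scheme.fppfPrecoverage 𝒴) (f : 𝒳 ⥤ᵇ 𝒴)
    (hf₁ : AlgSt.LocQ (AlgSp.LocP @Flat) f)
    (hf₂ : AlgSt.LocQ (AlgSp.LocP @LocallyOfFinitePresentation) f) : AlgSt.IsOpenMor f := by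
  obtain ⟨T, v, hv₁, hv₂, hw₁, hw₂⟩ := exists_flat_lfp_chart h𝒳 f hf₁ hf₂
  intro W hW
  have hvs : Function.Surjective (AlgSt.Points.ofChart v) :=
    ofChart_surjective v (isSurjective_of_repByAlgSpWith_surj h𝒳.isStack.1 v hv₂)
  have hWV : IsOpen (AlgSt.Points.ofChart v ⁻¹' W) := AlgSt.Points.isOpen_iff.1 hW T v hv₁
  have himg : AlgSt.Points.map f '' W =
      AlgSt.Points.ofChart (BasedFunctor.comp v f) '' (AlgSt.Points.ofChart v ⁻¹' W) := by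
    ext z
    constructor
    · rintro ⟨w, hw, rfl⟩
      obtain ⟨s, rfl⟩ := hvs w
      exact ⟨s, hw, rfl⟩
    · rintro ⟨s, hs, rfl⟩
      exact ⟨AlgSt.Points.ofChart v s, hs, rfl⟩
  rw [himg]
  exact isOpenMap_ofChart h𝒴 (BasedFunctor.comp v f) hw₁ hw₂ _ hWV

/-- a flat, lfp, surjective (in the `LocQ` sense) morphism admits a scheme chart of its source whose
composite is representable flat, lfp and surjective -/
theorem exists_fppf_chart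
    (h𝒵 : AlgSt.IsAlgStack Scheme.fppfPrecoverage 𝒵)
    (h𝒴 : AlgSt.IsAlgStack Scheme.fppfPrecoverage 𝒴) (z : 𝒵 ⥤ᵇ 𝒴)
    (hz₁ : AlgSt.LocQ (AlgSp.LocP @Flat) z)
    (hz₂ : AlgSt.LocQ (AlgSp.LocP @LocallyOfFinitePresentation) z)
    (hz₃ : AlgSt.IsSurjective z) :
    ∃ (T : Over S) (v : FibCat.overCat T ⥤ᵇ 𝒵),
      AlgSt.RepByAlgSpWith (AlgSp.LocP @Smooth) v ∧ AlgSt.RepByAlgSpWith AlgSp.IsSurjectiveMor v ∧
      AlgSt.RepByAlgSpWith (AlgSp.LocP @Flat) (BasedFunctor.comp v z) ∧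
      AlgSt.RepByAlgSpWith (AlgSp.LocP @LocallyOfFinitePresentation) (BasedFunctor.comp v z) ∧
      AlgSt.RepByAlgSpWith AlgSp.IsSurjectiveMor (BasedFunctor.comp v z) := by
  obtain ⟨T, v, hv₁, hv₂, hw₁, hw₂⟩ := exists_flat_lfp_chart h𝒵 z hz₁ hz₂
  refine ⟨T, v, hv₁, hv₂, hw₁, hw₂, ?_⟩
  have hvs : AlgSt.IsSurjective v := isSurjective_of_repByAlgSpWith_surj h𝒵.isStack.1 v hv₂
  have hws : AlgSt.IsSurjective (BasedFunctor.comp v z) := by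
    intro q
    obtain ⟨p, rfl⟩ := hz₃ q
    obtain ⟨r, rfl⟩ := hvs p
    exact ⟨r, points_map_comp v z r⟩
  exact repByAlgSpWith_surj_of_isSurjective (OverFib.isFibGrpd_over T) h𝒴.isStack.1 _
    (Groth.Agent.H28.MonoFF.repByAlgSp1_of_with hw₁) hws

theorem repByAlgSpWith_iff_fpFst_locQ_cover (P : MorphismProperty (AlgSp.Sp S))
    (hP₁ : BaseChangeP P) (hP₂ : AlgSp.IsLocalOnBase AlgSp.IsFppfCover P)
    (h𝒴 : AlgSt.IsAlgStack Scheme.fppfPrecoverage 𝒴)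
    (f : 𝒳 ⥤ᵇ 𝒴) (hf : AlgSt.RepByAlgSp1 f)
    (h𝒵 : AlgSt.IsAlgStack Scheme.fppfPrecoverage 𝒵) (z : 𝒵 ⥤ᵇ 𝒴)
    (hz₁ : AlgSt.LocQ (AlgSp.LocP @Flat) z)
    (hz₂ : AlgSt.LocQ (AlgSp.LocP @LocallyOfFinitePresentation) z)
    (hz₃ : AlgSt.IsSurjective z) :
    AlgSt.RepByAlgSpWith P f ↔ AlgSt.RepByAlgSpWith P (FibCat.fpFst z f) := by
  refine ⟨fun h => repByAlgSpWith_fpFst P f z h, fun h' => ?_⟩
  obtain ⟨T, v, hv₁, hv₂, hw₁, hw₂, hw₃⟩ := exists_fppf_chart h𝒵 h𝒴 z hz₁ hz₂ hz₃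
  have h1 : AlgSt.RepByAlgSpWith P (FibCat.fpFst v (FibCat.fpFst z f)) :=
    repByAlgSpWith_fpFst P (FibCat.fpFst z f) v h'
  have h2 : AlgSt.RepByAlgSpWith P (FibCat.fpFst (BasedFunctor.comp v z) f) :=
    repByAlgSpWith_of_sq' P (FibCat.fpFst v (FibCat.fpFst z f))
      (FibCat.fpFst (BasedFunctor.comp v z) f) (fpBase v z f) (BasedFunctor.id _)
      (isEquivOver_fpBase v z f) isEquivOver_id (Iso.refl _) h1
  exact repByAlgSpWith_of_fpFst_cover P (cancelIso_of_baseChange P hP₁) hP₂ f hf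
    (BasedFunctor.comp v z) hw₁ hw₂ hw₃ h2

theorem exists_lift_chart (h𝒳 : AlgSt.IsAlgStack Scheme.fppfPrecoverage 𝒳)
    (h𝒵 : AlgSt.IsAlgStack Scheme.fppfPrecoverage 𝒵) (z : 𝒵 ⥤ᵇ 𝒳)
    (hz₁ : AlgSt.LocQ (AlgSp.LocP @Flat) z)
    (hz₂ : AlgSt.LocQ (AlgSp.LocP @LocallyOfFinitePresentation) z)
    {U : Over S} (x : FibCat.overCat U ⥤ᵇ 𝒳) :
    ∃ (A : Over S) (g : A ⟶ U) (x' : FibCat.overCat A ⥤ᵇ 𝒵), Flat g.left ∧
      LocallyOfFinitePresentation g.left ∧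
      Nonempty (BasedFunctor.comp x' z ≅ BasedFunctor.comp (AlgSt.overMap g) x) ∧
      ∀ u : ↥U.left, AlgSt.Points.ofChart x u ∈ Set.range (AlgSt.Points.map z) →
        u ∈ Set.range g.left := by
  obtain ⟨T, v, hv₁, hv₂, hw₁, hw₂⟩ := exists_flat_lfp_chart h𝒵 z hz₁ hz₂
  have h𝒫 : AlgSt.IsAlgStack Scheme.fppfPrecoverage (FibCat.fp x (BasedFunctor.comp v z)) :=
    isAlgStack_fp _ h𝒳.isStack h𝒳.diag (isAlgStack_overCat U) (isAlgStack_overCat T) x _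
  obtain ⟨A, t, ht₁, ht₂⟩ := h𝒫.atlas
  obtain ⟨g, ⟨ι⟩⟩ := exists_overMap_iso
    (BasedFunctor.comp t (FibCat.fpFst x (BasedFunctor.comp v z)))
  have hA := OverFib.isFibGrpd_over A
  have hflat : AlgSt.RepByAlgSpWith (AlgSp.LocP @Flat) (AlgSt.overMap g) :=
    repByAlgSpWith_of_iso _ ι (repByAlgSpWith_comp_goodP (goodP_locP etLoc_flat) hA
      h𝒫.isStack.1 t _ (repByAlgSpWith_mono_le (locP_mono smooth_le_flat) ht₁)
      (repByAlgSpWith_fpFst _ (BasedFunctor.comp v z) x hw₁))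
  have hlfp : AlgSt.RepByAlgSpWith (AlgSp.LocP @LocallyOfFinitePresentation) (AlgSt.overMap g) :=
    repByAlgSpWith_of_iso _ ι (repByAlgSpWith_comp_goodP
      (goodP_locP etLoc_locallyOfFinitePresentation) hA
      h𝒫.isStack.1 t _ (repByAlgSpWith_mono_le (locP_mono smooth_le_lfp) ht₁)
      (repByAlgSpWith_fpFst _ (BasedFunctor.comp v z) x hw₂))
  refine ⟨A, g, BasedFunctor.comp t (BasedFunctor.comp (FibCat.fpSnd x (BasedFunctor.comp v z)) v),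
    AlgSp.locP_yon_map (prop_of_overMap (goodP_locP etLoc_flat) g hflat),
    AlgSp.locP_yon_map (prop_of_overMap (goodP_locP etLoc_locallyOfFinitePresentation) g hlfp),
    ⟨(whiskerLeftIso t (FibCat.fpIso x (BasedFunctor.comp v z))).symm ≪≫ whiskerRightIso ι x⟩,
    ?_⟩
  rintro u ⟨p, hp⟩
  have hvs : AlgSt.IsSurjective v := isSurjective_of_repByAlgSpWith_surj h𝒵.isStack.1 v hv₂
  obtain ⟨r, rfl⟩ := hvs p
  have h : AlgSt.Points.map x (AlgSt.Points.ofChart (BasedFunctor.id (FibCat.overCat U)) u) =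
      AlgSt.Points.map (BasedFunctor.comp v z) r := by
    rw [points_map_comp, hp]
    rfl
  obtain ⟨s, hs₁, -⟩ := exists_point_fp (OverFib.isFibGrpd_over T) h𝒳.isStack.1
    (OverFib.isFibGrpd_over U) (BasedFunctor.comp v z) x _ r h
  have hts : AlgSt.IsSurjective t := isSurjective_of_repByAlgSpWith_surj h𝒫.isStack.1 t ht₂
  obtain ⟨a, rfl⟩ := hts s
  have h1 : AlgSt.Points.map (AlgSt.overMap g) a =
      AlgSt.Points.ofChart (BasedFunctor.id (FibCat.overCat U)) u := by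
    rw [← points_map_congr ι, points_map_comp]
    exact hs₁
  refine ⟨ptOf A a, ?_⟩
  rw [← ptOf_map_overMap, h1, ptOf_ofChart_id]

theorem exists_fppf_lifts (h𝒳 : AlgSt.IsAlgStack Scheme.fppfPrecoverage 𝒳)
    (J : Type u) (𝒳' : J → AlgSt.Cat S)
    (h𝒳' : ∀ j, AlgSt.IsAlgStack Scheme.fppfPrecoverage (𝒳' j))
    (f : ∀ j, 𝒳' j ⥤ᵇ 𝒳)
    (hf₁ : ∀ j, AlgSt.LocQ (AlgSp.LocP @Flat) (f j))
    (hf₂ : ∀ j, AlgSt.LocQ (AlgSp.LocP @LocallyOfFinitePresentation) (f j))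
    (hf₃ : ∀ p : AlgSt.Points 𝒳, ∃ j, p ∈ Set.range (AlgSt.Points.map (f j)))
    (U : Over S) (x : FibCat.overCat U ⥤ᵇ 𝒳) :
    ∃ (ι : Type u) (V : ι → Over S) (g : ∀ i, V i ⟶ U) (c : ι → J),
      (Presieve.ofArrows (fun i ↦ (V i).left) fun i ↦ (g i).left) ∈
        Scheme.fppfPrecoverage U.left ∧
      ∀ i, ∃ x' : FibCat.overCat (V i) ⥤ᵇ 𝒳' (c i),
        Nonempty (BasedFunctor.comp x' (f (c i)) ≅ BasedFunctor.comp (AlgSt.overMap (g i)) x) := by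
  choose A g x' hflat hlfp hiso hsurj using
    fun j => exists_lift_chart h𝒳 (h𝒳' j) (f j) (hf₁ j) (hf₂ j) x
  refine ⟨J, A, g, id, ?_, fun j => ⟨x' j, hiso j⟩⟩
  rw [Scheme.fppfPrecoverage, Scheme.ofArrows_mem_precoverage_iff]
  refine ⟨fun u => ?_, fun j => ⟨hflat j, hlfp j⟩⟩
  obtain ⟨j, hj⟩ := hf₃ (AlgSt.Points.ofChart x u)
  exact ⟨j, hsurj j u hj⟩

end Groth.Agent.H28.RepComp
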