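import Mathlib
import Groth.Agent.H28.LocQChart

/-!
# `LocQ` read on algebraic-space charts
-/

set_option autoImplicit false
set_option linter.style.haveILetI false
set_option backward.isDefEq.respectTransparency false
set_option backward.isDefEq.respectTransparency.types false

namespace Groth.Agent.H28.RepComp

open CategoryTheory CategoryTheory.Limits FibCat AlgebraicGeometry Opposite Stk MorphismProperty
open Groth.Agent.Helper22 Groth.Agent.Helper22.EquivComp Groth.Agent.Helper22.FpSq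
open Groth.Agent.Helper22.FpEquiv Groth.Agent.H28.LiftFp
open Groth.Agent.H28.FpBase Groth.Agent.H28.PshDict Groth.Agent.H28.IsoCl
open Groth.Agent.H25.AS

universe w u

variable {S : Scheme.{u}} {𝒳 𝒴 𝒵 : AlgSt.Cat S}

/-- a 2-isomorphism between composites of slice functors gives an equality of morphisms -/
theorem overMap_comp_eq {T U V W : Over S} (a : T ⟶ U) (h : U ⟶ W) (b : T ⟶ V) (c : V ⟶ W)
    (ι : BasedFunctor.comp (AlgSt.overMap a) (AlgSt.overMap h) ≅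
      BasedFunctor.comp (AlgSt.overMap b) (AlgSt.overMap c)) : a ≫ h = b ≫ c := by
  let o : (FibCat.overCat T).obj := Over.mk (𝟙 T)
  have hθ : (FibCat.overCat W).p.IsHomLift (𝟙 T) (ι.hom.toNatTrans.app o) :=
    ι.hom.isHomLift' o
  have h1 : (ι.hom.toNatTrans.app o).left = 𝟙 T := by
    haveI : (Over.forget W).IsHomLift (𝟙 T) (ι.hom.toNatTrans.app o) := hθ
    have h1' := IsHomLift.fac' (Over.forget W) (𝟙 T) (ι.hom.toNatTrans.app o)
    simp at h1'
    exact h1'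
  have h2 : (ι.hom.toNatTrans.app o).left ≫ ((𝟙 T ≫ b) ≫ c) = (𝟙 T ≫ a) ≫ h :=
    Over.w (ι.hom.toNatTrans.app o)
  have h3 : (𝟙 T : T ⟶ T) ≫ ((𝟙 T ≫ b) ≫ c) = (𝟙 T ≫ a) ≫ h := by
    rw [← h2]; exact congrArg (· ≫ ((𝟙 T ≫ b) ≫ c)) h1.symm
  simpa using h3.symm

theorem locQ_lft_of_comp
    (h𝒴 : AlgSt.IsAlgStack Scheme.fppfPrecoverage 𝒴)
    (h𝒵 : AlgSt.IsAlgStack Scheme.fppfPrecoverage 𝒵) (f : 𝒳 ⥤ᵇ 𝒴) (g : 𝒴 ⥤ᵇ 𝒵)
    (hfg : AlgSt.LocQ (AlgSp.LocP @LocallyOfFiniteType) (BasedFunctor.comp f g)) :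
    AlgSt.LocQ (AlgSp.LocP @LocallyOfFiniteType) f := by
  obtain ⟨U, W, x, z, h, ι, hx₁, hx₂, hz₁, hh⟩ := hfg
  have h𝒫 : AlgSt.IsAlgStack Scheme.fppfPrecoverage (FibCat.fp z g) :=
    isAlgStack_fp _ h𝒵.isStack h𝒵.diag (isAlgStack_overCat W) h𝒴 z g
  obtain ⟨V, v, hv₁, hv₂⟩ := h𝒫.atlas
  let ι' : BasedFunctor.comp (AlgSt.overMap h) z ≅
      BasedFunctor.comp (BasedFunctor.comp x f) g := ι.symm
  let u : FibCat.overCat U ⥤ᵇ FibCat.fp z g :=
    FibCat.fpLift (AlgSt.overMap h) (BasedFunctor.comp x f) ι'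
  obtain ⟨T, b, t', ht'₁, ht'₂, ⟨κ⟩⟩ :=
    exists_chart_over (isAlgStack_overCat U) h𝒫 u V v hv₁ hv₂
  obtain ⟨a, ⟨ιa⟩⟩ := exists_overMap_iso t'
  obtain ⟨c, ⟨ιc⟩⟩ := exists_overMap_iso (BasedFunctor.comp v (FibCat.fpFst z g))
  have hT := OverFib.isFibGrpd_over T
  have hU := OverFib.isFibGrpd_over U
  have sq : BasedFunctor.comp (AlgSt.overMap a) (AlgSt.overMap h) ≅
      BasedFunctor.comp (AlgSt.overMap b) (AlgSt.overMap c) :=
    (whiskerRightIso ιa (AlgSt.overMap h)).symm ≪≫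
      (Iso.refl _ : BasedFunctor.comp t' (AlgSt.overMap h) ≅
        BasedFunctor.comp (BasedFunctor.comp t' u) (FibCat.fpFst z g)) ≪≫
      whiskerRightIso κ (FibCat.fpFst z g) ≪≫
      (Iso.refl _ : BasedFunctor.comp (BasedFunctor.comp (AlgSt.overMap b) v) (FibCat.fpFst z g) ≅
        BasedFunctor.comp (AlgSt.overMap b) (BasedFunctor.comp v (FibCat.fpFst z g))) ≪≫
      whiskerLeftIso (AlgSt.overMap b) ιc
  have key : a ≫ h = b ≫ c := overMap_comp_eq a h b c sq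
  have ha : AlgSt.RepByAlgSpWith (AlgSp.LocP @Smooth) (AlgSt.overMap a) :=
    repByAlgSpWith_of_iso _ ιa ht'₁
  have hab : AlgSp.LocP @LocallyOfFiniteType ((AlgSp.yon S).map b ≫ (AlgSp.yon S).map c) := by
    rw [← Functor.map_comp, ← key, Functor.map_comp]
    exact locP_comp etLoc_locallyOfFiniteType (AlgSp.IsAlgSpace.yon_obj T)
      (AlgSp.IsAlgSpace.yon_obj U) (AlgSp.IsAlgSpace.yon_obj W) _ _
      (locP_mono smooth_le_lft _ (prop_of_overMap (goodP_locP etLoc_smooth) a ha)) hh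
  have hb : AlgSp.LocP @LocallyOfFiniteType ((AlgSp.yon S).map b) :=
    locP_cancel (Q := ⊤) etLoc_locallyOfFiniteType
      (fun h k _ hhk => by haveI : LocallyOfFiniteType (h ≫ k) := hhk
                           exact locallyOfFiniteType_of_comp h k)
      (AlgSp.IsAlgSpace.yon_obj T) (AlgSp.IsAlgSpace.yon_obj V) (AlgSp.IsAlgSpace.yon_obj W) _ _
      (fun _ _ _ _ _ _ _ _ => trivial) hab
  refine ⟨T, V, BasedFunctor.comp t' x, BasedFunctor.comp v (FibCat.fpSnd z g), b,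
    (Iso.refl _ : BasedFunctor.comp (BasedFunctor.comp t' x) f ≅
        BasedFunctor.comp (BasedFunctor.comp t' u) (FibCat.fpSnd z g)) ≪≫
      whiskerRightIso κ (FibCat.fpSnd z g) ≪≫
      (Iso.refl _ : BasedFunctor.comp (BasedFunctor.comp (AlgSt.overMap b) v) (FibCat.fpSnd z g) ≅
        BasedFunctor.comp (AlgSt.overMap b) (BasedFunctor.comp v (FibCat.fpSnd z g))),
    repByAlgSpWith_comp_goodP (goodP_locP etLoc_smooth) hT hU t' x ht'₁ hx₁,
    repByAlgSpWith_comp_goodP goodP_surj hT hU t' x ht'₂ hx₂,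
    repByAlgSpWith_comp_goodP (goodP_locP etLoc_smooth) (OverFib.isFibGrpd_over V) h𝒫.isStack.1 v _
      hv₁ (repByAlgSpWith_fpSnd _ g z hz₁), hb⟩

end Groth.Agent.H28.RepComp
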