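import Mathlib
import Groth.Agent.H28.LocQCancel

/-!
# `LocQ` read on algebraic-space charts
-/

set_option autoImplicit false
set_option linter.style.haveILetI false
set_option backward.isDefEq.respectTransparency false
set_option backward.isDefEq.respectTransparency.types false

namespace Groth.Agent.H28.RepComp

open CategoryTheory CategoryTheory.Limits FibCat AlgebraicGeometry Opposite Stk MorphismProperty
open Groth.Agent.Helper22 Groth.Agent.Helper22.EquivComp Groth.Agent.Helper22.FpSq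
open Groth.Agent.Helper22.FpEquiv Groth.Agent.H28.LiftFp
open Groth.Agent.H28.FpBase Groth.Agent.H28.PshDict Groth.Agent.H28.IsoCl
open Groth.Agent.H25.AS

universe w u

variable {S : Scheme.{u}} {𝒳 𝒴 𝒵 : AlgSt.Cat S}

theorem hom_eq_of_iso {T W : Over S} {φ ψ : FibCat.overCat T ⥤ᵇ FibCat.overCat W} (ι : φ ≅ ψ)
    (m n : T ⟶ W) (hm : φ.obj (Over.mk (𝟙 T)) = Over.mk m)
    (hn : ψ.obj (Over.mk (𝟙 T)) = Over.mk n) : m = n := by
  have hθ : (FibCat.overCat W).p.IsHomLift (𝟙 T) (ι.hom.toNatTrans.app (Over.mk (𝟙 T))) :=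
    ι.hom.isHomLift' (Over.mk (𝟙 T))
  revert hθ
  generalize ι.hom.toNatTrans.app (Over.mk (𝟙 T)) = θ
  revert θ
  rw [hm, hn]
  intro θ hθ
  haveI : (Over.forget W).IsHomLift (𝟙 T) θ := hθ
  have h1' := IsHomLift.fac' (Over.forget W) (𝟙 T) θ
  simp at h1'
  have h1 : θ.left = 𝟙 T := h1'
  have h2 : θ.left ≫ n = m := Over.w θ
  rw [← h2, h1]
  exact Category.id_comp n

theorem overMap_obj_id {T W : Over S} (c : T ⟶ W) :
    (AlgSt.overMap c).obj (Over.mk (𝟙 T)) = Over.mk c := by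
  show Over.mk (𝟙 T ≫ c) = Over.mk c
  rw [Category.id_comp]

theorem overMap2_obj_id {T V W : Over S} (b : T ⟶ V) (c : V ⟶ W) :
    (BasedFunctor.comp (AlgSt.overMap b) (AlgSt.overMap c)).obj (Over.mk (𝟙 T)) =
      Over.mk (b ≫ c) := by
  show Over.mk ((𝟙 T ≫ b) ≫ c) = Over.mk (b ≫ c)
  rw [Category.id_comp]

theorem overMap3_obj_id {T U V W : Over S} (a : T ⟶ U) (b : U ⟶ V) (c : V ⟶ W) :
    (BasedFunctor.comp (AlgSt.overMap a)
      (BasedFunctor.comp (AlgSt.overMap b) (AlgSt.overMap c))).obj (Over.mk (𝟙 T)) =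
      Over.mk (a ≫ b ≫ c) := by
  show Over.mk (((𝟙 T ≫ a) ≫ b) ≫ c) = Over.mk (a ≫ b ≫ c)
  rw [Category.id_comp, Category.assoc]

theorem locQ_cancel_stage {P₀ : MorphismProperty Scheme.{u}} (hP₀ : EtLoc P₀)
    (hsm : (@Smooth : MorphismProperty Scheme.{u}) ≤ P₀)
    (hcancel : ∀ {A B C : Scheme.{u}} (h : A ⟶ B) (k : B ⟶ C),
      LocallyOfFiniteType k → P₀ (h ≫ k) → P₀ h)
    (f : 𝒳 ⥤ᵇ 𝒴) (g : 𝒴 ⥤ᵇ 𝒵) {U W : Over S} (x : FibCat.overCat U ⥤ᵇ 𝒳)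
    (z : FibCat.overCat W ⥤ᵇ 𝒵) (h : U ⟶ W)
    (ι : BasedFunctor.comp x (BasedFunctor.comp f g) ≅ BasedFunctor.comp (AlgSt.overMap h) z)
    (hx₁ : AlgSt.RepByAlgSpWith (AlgSp.LocP @Smooth) x)
    (hx₂ : AlgSt.RepByAlgSpWith AlgSp.IsSurjectiveMor x)
    (hz₁ : AlgSt.RepByAlgSpWith (AlgSp.LocP @Smooth) z)
    (hh : AlgSp.LocP P₀ ((AlgSp.yon S).map h))
    (h𝒫 : AlgSt.IsAlgStack Scheme.fppfPrecoverage (FibCat.fp z g))
    {V : Over S} (v : FibCat.overCat V ⥤ᵇ FibCat.fp z g)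
    (hv₁ : AlgSt.RepByAlgSpWith (AlgSp.LocP @Smooth) v)
    (hv₂ : AlgSt.RepByAlgSpWith AlgSp.IsSurjectiveMor v)
    (c : V ⟶ W) (ιc : BasedFunctor.comp v (FibCat.fpFst z g) ≅ AlgSt.overMap c)
    (hc : AlgSp.LocP @LocallyOfFiniteType ((AlgSp.yon S).map c)) :
    AlgSt.LocQ (AlgSp.LocP P₀) f := by
  let ι' : BasedFunctor.comp (AlgSt.overMap h) z ≅
      BasedFunctor.comp (BasedFunctor.comp x f) g := ι.symm
  let u : FibCat.overCat U ⥤ᵇ FibCat.fp z g :=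
    FibCat.fpLift (AlgSt.overMap h) (BasedFunctor.comp x f) ι'
  obtain ⟨T, b, t', ht'₁, ht'₂, ⟨κ⟩⟩ :=
    exists_chart_over (isAlgStack_overCat U) h𝒫 u V v hv₁ hv₂
  obtain ⟨a, ⟨ιa⟩⟩ := exists_overMap_iso t'
  have hT := OverFib.isFibGrpd_over T
  have hU := OverFib.isFibGrpd_over U
  have sq : BasedFunctor.comp (AlgSt.overMap a) (AlgSt.overMap h) ≅
      BasedFunctor.comp (AlgSt.overMap b) (AlgSt.overMap c) :=
    (whiskerRightIso ιa (AlgSt.overMap h)).symm ≪≫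
      (Iso.refl _ : BasedFunctor.comp t' (AlgSt.overMap h) ≅
        BasedFunctor.comp (BasedFunctor.comp t' u) (FibCat.fpFst z g)) ≪≫
      whiskerRightIso κ (FibCat.fpFst z g) ≪≫
      (Iso.refl _ : BasedFunctor.comp (BasedFunctor.comp (AlgSt.overMap b) v) (FibCat.fpFst z g) ≅
        BasedFunctor.comp (AlgSt.overMap b) (BasedFunctor.comp v (FibCat.fpFst z g))) ≪≫
      whiskerLeftIso (AlgSt.overMap b) ιc
  have key : a ≫ h = b ≫ c := overMap_comp_eq a h b c sq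
  have ha : AlgSt.RepByAlgSpWith (AlgSp.LocP @Smooth) (AlgSt.overMap a) :=
    repByAlgSpWith_of_iso _ ιa ht'₁
  have hab : AlgSp.LocP P₀ ((AlgSp.yon S).map b ≫ (AlgSp.yon S).map c) := by
    rw [← Functor.map_comp, ← key, Functor.map_comp]
    exact locP_comp hP₀ (AlgSp.IsAlgSpace.yon_obj T)
      (AlgSp.IsAlgSpace.yon_obj U) (AlgSp.IsAlgSpace.yon_obj W) _ _
      (locP_mono hsm _ (prop_of_overMap (goodP_locP etLoc_smooth) a ha)) hh
  have hb : AlgSp.LocP P₀ ((AlgSp.yon S).map b) :=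
    locP_cancel (Q := @LocallyOfFiniteType) hP₀ hcancel
      (AlgSp.IsAlgSpace.yon_obj T) (AlgSp.IsAlgSpace.yon_obj V) (AlgSp.IsAlgSpace.yon_obj W) _ _
      hc hab
  refine ⟨T, V, BasedFunctor.comp t' x, BasedFunctor.comp v (FibCat.fpSnd z g), b,
    (Iso.refl _ : BasedFunctor.comp (BasedFunctor.comp t' x) f ≅
        BasedFunctor.comp (BasedFunctor.comp t' u) (FibCat.fpSnd z g)) ≪≫
      whiskerRightIso κ (FibCat.fpSnd z g) ≪≫
      (Iso.refl _ : BasedFunctor.comp (BasedFunctor.comp (AlgSt.overMap b) v) (FibCat.fpSnd z g) ≅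
        BasedFunctor.comp (AlgSt.overMap b) (BasedFunctor.comp v (FibCat.fpSnd z g))),
    repByAlgSpWith_comp_goodP (goodP_locP etLoc_smooth) hT hU t' x ht'₁ hx₁,
    repByAlgSpWith_comp_goodP goodP_surj hT hU t' x ht'₂ hx₂,
    repByAlgSpWith_comp_goodP (goodP_locP etLoc_smooth) (OverFib.isFibGrpd_over V) h𝒫.isStack.1 v _
      hv₁ (repByAlgSpWith_fpSnd _ g z hz₁), hb⟩


theorem locQ_lfp_of_comp
    (h𝒴 : AlgSt.IsAlgStack Scheme.fppfPrecoverage 𝒴)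
    (h𝒵 : AlgSt.IsAlgStack Scheme.fppfPrecoverage 𝒵) (f : 𝒳 ⥤ᵇ 𝒴) (g : 𝒴 ⥤ᵇ 𝒵)
    (hfg : AlgSt.LocQ (AlgSp.LocP @LocallyOfFinitePresentation) (BasedFunctor.comp f g))
    (hg : AlgSt.LocQ (AlgSp.LocP @LocallyOfFiniteType) g) :
    AlgSt.LocQ (AlgSp.LocP @LocallyOfFinitePresentation) f := by
  obtain ⟨U, W, x, z, h, ι, hx₁, hx₂, hz₁, hh⟩ := hfg
  obtain ⟨V₀, W₀, y₀, z₀, h₀, ι₀, hy₀₁, hy₀₂, hz₀₁, hh₀⟩ := hg
  have h𝒫 : AlgSt.IsAlgStack Scheme.fppfPrecoverage (FibCat.fp z g) :=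
    isAlgStack_fp _ h𝒵.isStack h𝒵.diag (isAlgStack_overCat W) h𝒴 z g
  have hsnd : AlgSt.RepByAlgSpWith (AlgSp.LocP @Smooth) (FibCat.fpSnd z g) :=
    repByAlgSpWith_fpSnd _ g z hz₁
  have h𝒬 : AlgSt.IsAlgStack Scheme.fppfPrecoverage (FibCat.fp (FibCat.fpSnd z g) y₀) :=
    isAlgStack_fp _ h𝒴.isStack h𝒴.diag h𝒫 (isAlgStack_overCat V₀) (FibCat.fpSnd z g) y₀
  obtain ⟨V, q, hq₁, hq₂⟩ := h𝒬.atlas
  have hV := OverFib.isFibGrpd_over V
  let v : FibCat.overCat V ⥤ᵇ FibCat.fp z g :=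
    BasedFunctor.comp q (FibCat.fpFst (FibCat.fpSnd z g) y₀)
  have hv₁ : AlgSt.RepByAlgSpWith (AlgSp.LocP @Smooth) v :=
    repByAlgSpWith_comp_goodP (goodP_locP etLoc_smooth) hV h𝒬.isStack.1 q _ hq₁
      (repByAlgSpWith_fpFst _ y₀ (FibCat.fpSnd z g) hy₀₁)
  have hv₂ : AlgSt.RepByAlgSpWith AlgSp.IsSurjectiveMor v :=
    repByAlgSpWith_comp_goodP goodP_surj hV h𝒬.isStack.1 q _ hq₂
      (repByAlgSpWith_fpFst _ y₀ (FibCat.fpSnd z g) hy₀₂)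
  obtain ⟨c, ⟨ιc⟩⟩ := exists_overMap_iso (BasedFunctor.comp v (FibCat.fpFst z g))
  obtain ⟨d, ⟨ιd⟩⟩ :=
    exists_overMap_iso (BasedFunctor.comp q (FibCat.fpSnd (FibCat.fpSnd z g) y₀))
  have hd : AlgSt.RepByAlgSpWith (AlgSp.LocP @Smooth) (AlgSt.overMap d) :=
    repByAlgSpWith_of_iso _ ιd
      (repByAlgSpWith_comp_goodP (goodP_locP etLoc_smooth) hV h𝒬.isStack.1 q _ hq₁
        (repByAlgSpWith_fpSnd _ y₀ (FibCat.fpSnd z g) hsnd))
  have hR : AlgSt.IsAlgStack Scheme.fppfPrecoverage (FibCat.fp z z₀) :=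
    isAlgStack_fp _ h𝒵.isStack h𝒵.diag (isAlgStack_overCat W) (isAlgStack_overCat W₀) z z₀
  let εr : BasedFunctor.comp (AlgSt.overMap c) z ≅
      BasedFunctor.comp (BasedFunctor.comp (AlgSt.overMap d) (AlgSt.overMap h₀)) z₀ :=
    whiskerRightIso ιc.symm z ≪≫
      (Iso.refl _ : BasedFunctor.comp (BasedFunctor.comp v (FibCat.fpFst z g)) z ≅
        BasedFunctor.comp v (BasedFunctor.comp (FibCat.fpFst z g) z)) ≪≫
      whiskerLeftIso v (FibCat.fpIso z g) ≪≫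
      (Iso.refl _ : BasedFunctor.comp v (BasedFunctor.comp (FibCat.fpSnd z g) g) ≅
        BasedFunctor.comp (BasedFunctor.comp q
          (BasedFunctor.comp (FibCat.fpFst (FibCat.fpSnd z g) y₀) (FibCat.fpSnd z g))) g) ≪≫
      whiskerRightIso (whiskerLeftIso q (FibCat.fpIso (FibCat.fpSnd z g) y₀)) g ≪≫
      (Iso.refl _ : BasedFunctor.comp (BasedFunctor.comp q
          (BasedFunctor.comp (FibCat.fpSnd (FibCat.fpSnd z g) y₀) y₀)) g ≅
        BasedFunctor.comp (BasedFunctor.comp q (FibCat.fpSnd (FibCat.fpSnd z g) y₀))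
          (BasedFunctor.comp y₀ g)) ≪≫
      whiskerRightIso ιd (BasedFunctor.comp y₀ g) ≪≫
      whiskerLeftIso (AlgSt.overMap d) ι₀ ≪≫
      (Iso.refl _ : BasedFunctor.comp (AlgSt.overMap d)
          (BasedFunctor.comp (AlgSt.overMap h₀) z₀) ≅
        BasedFunctor.comp (BasedFunctor.comp (AlgSt.overMap d) (AlgSt.overMap h₀)) z₀)
  let r : FibCat.overCat V ⥤ᵇ FibCat.fp z z₀ :=
    FibCat.fpLift (AlgSt.overMap c)
      (BasedFunctor.comp (AlgSt.overMap d) (AlgSt.overMap h₀)) εr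
  obtain ⟨R', ρ, hρ₁, hρ₂⟩ := hR.atlas
  obtain ⟨V', b', t'', ht''₁, ht''₂, ⟨κ'⟩⟩ :=
    exists_chart_over (isAlgStack_overCat V) hR r R' ρ hρ₁ hρ₂
  obtain ⟨a'', ⟨ιa''⟩⟩ := exists_overMap_iso t''
  obtain ⟨ρW, ⟨ιρW⟩⟩ := exists_overMap_iso (BasedFunctor.comp ρ (FibCat.fpFst z z₀))
  obtain ⟨ρW₀, ⟨ιρW₀⟩⟩ := exists_overMap_iso (BasedFunctor.comp ρ (FibCat.fpSnd z z₀))
  have hV' := OverFib.isFibGrpd_over V'
  let v' : FibCat.overCat V' ⥤ᵇ FibCat.fp z g := BasedFunctor.comp t'' v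
  obtain ⟨c', ⟨ιc'⟩⟩ := exists_overMap_iso (BasedFunctor.comp v' (FibCat.fpFst z g))
  have e1 : c' = b' ≫ ρW :=
    hom_eq_of_iso (ιc'.symm ≪≫
      (Iso.refl _ : BasedFunctor.comp v' (FibCat.fpFst z g) ≅
        BasedFunctor.comp t'' (BasedFunctor.comp v (FibCat.fpFst z g))) ≪≫
      whiskerLeftIso t'' ιc ≪≫
      (Iso.refl _ : BasedFunctor.comp t'' (AlgSt.overMap c) ≅
        BasedFunctor.comp (BasedFunctor.comp t'' r) (FibCat.fpFst z z₀)) ≪≫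
      whiskerRightIso κ' (FibCat.fpFst z z₀) ≪≫
      (Iso.refl _ : BasedFunctor.comp (BasedFunctor.comp (AlgSt.overMap b') ρ) (FibCat.fpFst z z₀) ≅
        BasedFunctor.comp (AlgSt.overMap b') (BasedFunctor.comp ρ (FibCat.fpFst z z₀))) ≪≫
      whiskerLeftIso (AlgSt.overMap b') ιρW) c' (b' ≫ ρW)
      (overMap_obj_id c') (overMap2_obj_id b' ρW)
  have e2 : a'' ≫ d ≫ h₀ = b' ≫ ρW₀ :=
    hom_eq_of_iso ((whiskerRightIso ιa''
        (BasedFunctor.comp (AlgSt.overMap d) (AlgSt.overMap h₀))).symm ≪≫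
      (Iso.refl _ : BasedFunctor.comp t''
          (BasedFunctor.comp (AlgSt.overMap d) (AlgSt.overMap h₀)) ≅
        BasedFunctor.comp (BasedFunctor.comp t'' r) (FibCat.fpSnd z z₀)) ≪≫
      whiskerRightIso κ' (FibCat.fpSnd z z₀) ≪≫
      (Iso.refl _ : BasedFunctor.comp (BasedFunctor.comp (AlgSt.overMap b') ρ) (FibCat.fpSnd z z₀) ≅
        BasedFunctor.comp (AlgSt.overMap b') (BasedFunctor.comp ρ (FibCat.fpSnd z z₀))) ≪≫
      whiskerLeftIso (AlgSt.overMap b') ιρW₀) (a'' ≫ d ≫ h₀) (b' ≫ ρW₀)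
      (overMap3_obj_id a'' d h₀) (overMap2_obj_id b' ρW₀)
  have ha'' : AlgSt.RepByAlgSpWith (AlgSp.LocP @Smooth) (AlgSt.overMap a'') :=
    repByAlgSpWith_of_iso _ ιa'' ht''₁
  have hlb' : AlgSp.LocP @LocallyOfFiniteType
      ((AlgSp.yon S).map b' ≫ (AlgSp.yon S).map ρW₀) := by
    rw [← Functor.map_comp, ← e2, Functor.map_comp, Functor.map_comp]
    exact locP_comp etLoc_locallyOfFiniteType (AlgSp.IsAlgSpace.yon_obj V')
      (AlgSp.IsAlgSpace.yon_obj V) (AlgSp.IsAlgSpace.yon_obj W₀) _ _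
      (locP_mono smooth_le_lft _ (prop_of_overMap (goodP_locP etLoc_smooth) a'' ha''))
      (locP_comp etLoc_locallyOfFiniteType (AlgSp.IsAlgSpace.yon_obj V)
        (AlgSp.IsAlgSpace.yon_obj V₀) (AlgSp.IsAlgSpace.yon_obj W₀) _ _
        (locP_mono smooth_le_lft _ (prop_of_overMap (goodP_locP etLoc_smooth) d hd)) hh₀)
  have hb' : AlgSp.LocP @LocallyOfFiniteType ((AlgSp.yon S).map b') :=
    locP_cancel (Q := ⊤) etLoc_locallyOfFiniteType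
      (fun h k _ hhk => by haveI : LocallyOfFiniteType (h ≫ k) := hhk
                           exact locallyOfFiniteType_of_comp h k)
      (AlgSp.IsAlgSpace.yon_obj V') (AlgSp.IsAlgSpace.yon_obj R') (AlgSp.IsAlgSpace.yon_obj W₀) _ _
      (fun _ _ _ _ _ _ _ _ => trivial) hlb'
  have hρW : AlgSt.RepByAlgSpWith (AlgSp.LocP @Smooth) (AlgSt.overMap ρW) :=
    repByAlgSpWith_of_iso _ ιρW
      (repByAlgSpWith_comp_goodP (goodP_locP etLoc_smooth) (OverFib.isFibGrpd_over R')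
        hR.isStack.1 ρ _ hρ₁ (repByAlgSpWith_fpFst _ z₀ z hz₀₁))
  have hc' : AlgSp.LocP @LocallyOfFiniteType ((AlgSp.yon S).map c') := by
    rw [e1, Functor.map_comp]
    exact locP_comp etLoc_locallyOfFiniteType (AlgSp.IsAlgSpace.yon_obj V')
      (AlgSp.IsAlgSpace.yon_obj R') (AlgSp.IsAlgSpace.yon_obj W) _ _ hb'
      (locP_mono smooth_le_lft _ (prop_of_overMap (goodP_locP etLoc_smooth) ρW hρW))
  exact locQ_cancel_stage etLoc_locallyOfFinitePresentation smooth_le_lfp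
    (fun h k hk hhk => lfp_of_comp h k hhk hk) f g x z h ι hx₁ hx₂ hz₁ hh h𝒫 v'
    (repByAlgSpWith_comp_goodP (goodP_locP etLoc_smooth) hV' hV t'' v ht''₁ hv₁)
    (repByAlgSpWith_comp_goodP goodP_surj hV' hV t'' v ht''₂ hv₂) c' ιc' hc'

end Groth.Agent.H28.RepComp
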