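import Mathlib
import Groth.Agent.H28.LocQChart

/-!
# `LocQ` read on algebraic-space charts
-/

set_option autoImplicit false
set_option linter.style.haveILetI false
set_option backward.isDefEq.respectTransparency false
set_option backward.isDefEq.respectTransparency.types false

namespace Groth.Agent.H28.RepComp

open CategoryTheory CategoryTheory.Limits FibCat AlgebraicGeometry Opposite Stk MorphismProperty
open Groth.Agent.Helper22 Groth.Agent.Helper22.EquivComp Groth.Agent.Helper22.FpSq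
open Groth.Agent.Helper22.FpEquiv Groth.Agent.H28.LiftFp
open Groth.Agent.H28.FpBase Groth.Agent.H28.PshDict Groth.Agent.H28.IsoCl
open Groth.Agent.H25.AS

universe w u

variable {S : Scheme.{u}} {𝒳 𝒴 𝒵 : AlgSt.Cat S}

/-- the square relating `overMap h` and the functor of `h_h` -/
def overMapSqIso {U V : Over S} (h : U ⟶ V) :
    BasedFunctor.comp (AlgSt.toOverCat U) (AlgSt.overMap h) ≅
      BasedFunctor.comp (AlgSt.ofSpMap ((AlgSp.yon S).map h)) (AlgSt.toOverCat V) :=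
  Iso.refl _

theorem spaceCharts_of_locQ (P : MorphismProperty (AlgSp.Sp S)) (f : 𝒳 ⥤ᵇ 𝒴)
    (hf : AlgSt.LocQ P f) :
    ∃ (U V : AlgSp.Space S) (x : AlgSt.ofSp U.obj ⥤ᵇ 𝒳) (y : AlgSt.ofSp V.obj ⥤ᵇ 𝒴) (h : U ⟶ V)
      (_ : BasedFunctor.comp x f ≅ BasedFunctor.comp (AlgSt.ofSpMap h.hom) y),
      AlgSt.RepByAlgSpWith (AlgSp.LocP @Smooth) x ∧ AlgSt.RepByAlgSpWith AlgSp.IsSurjectiveMor x ∧
      AlgSt.RepByAlgSpWith (AlgSp.LocP @Smooth) y ∧ P h.hom := by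
  obtain ⟨U, V, x, y, h, α, hx₁, hx₂, hy₁, hh⟩ := hf
  refine ⟨yonSpace U, yonSpace V, BasedFunctor.comp (AlgSt.toOverCat U) x,
    BasedFunctor.comp (AlgSt.toOverCat V) y, ObjectProperty.homMk ((AlgSp.yon S).map h),
    whiskerLeftIso (AlgSt.toOverCat U) α ≪≫ whiskerRightIso (overMapSqIso h) y,
    repByAlgSpWith_toOverCat_comp _ x hx₁, repByAlgSpWith_toOverCat_comp _ x hx₂,
    repByAlgSpWith_toOverCat_comp _ y hy₁, hh⟩

theorem exists_scheme_charts (P : MorphismProperty (AlgSp.Sp S)) (hP : AlgSp.IsSmoothLocalST P)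
    {F G : AlgSp.Sp S} (hF : AlgSp.IsAlgSpace F) (hG : AlgSp.IsAlgSpace G) (a : F ⟶ G)
    (ha : P a) :
    ∃ (U V : Over S) (p : (AlgSp.yon S).obj U ⟶ F) (q : (AlgSp.yon S).obj V ⟶ G) (h : U ⟶ V),
      AlgSp.RepWith @Etale p ∧ AlgSp.RepWith @Surjective p ∧ AlgSp.RepWith @Etale q ∧
        p ≫ a = (AlgSp.yon S).map h ≫ q ∧ P ((AlgSp.yon S).map h) := by
  obtain ⟨V, q, hqe, hqs⟩ := hG.atlas
  have sq : IsPullback (pullback.fst a q) (pullback.snd a q) a q := IsPullback.of_hasPullback a q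
  have hW : AlgSp.IsAlgSpace (pullback a q) :=
    isAlgSpace_of_isPullback hG.diag hF (AlgSp.IsAlgSpace.yon_obj V) sq
  have hfe : AlgSp.RepWith @Etale (pullback.fst a q) := repWith_fst_of_isPullback sq hqe
  have hfs : AlgSp.RepWith @Surjective (pullback.fst a q) := repWith_fst_of_isPullback sq hqs
  have hqsm : AlgSp.LocP @Smooth q :=
    locP_smooth_of_isEtaleMor (fun _ _ hφ => repWith_etale_comp hφ hqe)
  have hPsnd : P (pullback.snd a q) :=
    hP.baseChange hF hG hW (AlgSp.IsAlgSpace.yon_obj V) a q _ _ sq hqsm ha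
  obtain ⟨U, r, hre, hrs⟩ := hW.atlas
  have hrsm : AlgSp.LocP @Smooth r :=
    locP_smooth_of_isEtaleMor (fun _ _ hφ => repWith_etale_comp hφ hre)
  obtain ⟨h, hh⟩ := (AlgSp.yon S).map_surjective (r ≫ pullback.snd a q)
  refine ⟨U, V, r ≫ pullback.fst a q, q, h, repWith_etale_comp hre hfe,
    repWith_surjective_comp hrs hfs, hqe, ?_, ?_⟩
  · rw [hh, Category.assoc, Category.assoc, sq.w]
  · rw [hh]
    exact hP.precomp (AlgSp.IsAlgSpace.yon_obj U) hW (AlgSp.IsAlgSpace.yon_obj V) r _ hrsm hPsnd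

/-- the 2-commutative square of chart functors attached to a commutative square of sheaves -/
def chartSqIso {U V : Over S} {F G : AlgSp.Sp S} (p : (AlgSp.yon S).obj U ⟶ F)
    (q : (AlgSp.yon S).obj V ⟶ G) (h : U ⟶ V) (a : F ⟶ G)
    (comm : p ≫ a = (AlgSp.yon S).map h ≫ q) :
    BasedFunctor.comp (chartFun p) (AlgSt.ofSpMap a) ≅
      BasedFunctor.comp (AlgSt.overMap h) (chartFun q) :=
  have e1 : BasedFunctor.comp (chartFun p) (AlgSt.ofSpMap a) ≅
      BasedFunctor.comp (AlgSt.ofOverCat U) (AlgSt.ofSpMap (p ≫ a)) := Iso.refl _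
  have e2 : BasedFunctor.comp (AlgSt.ofOverCat U) (AlgSt.ofSpMap ((AlgSp.yon S).map h ≫ q)) ≅
      BasedFunctor.comp (AlgSt.overMap h) (chartFun q) := Iso.refl _
  e1 ≪≫ eqToIso (by rw [comm]) ≪≫ e2

theorem locQ_ofSpMap_of_prop (P : MorphismProperty (AlgSp.Sp S)) (hP : AlgSp.IsSmoothLocalST P)
    (F G : AlgSp.Space S) (a : F ⟶ G) (ha : P a.hom) : AlgSt.LocQ P (AlgSt.ofSpMap a.hom) := by
  obtain ⟨U, V, p, q, h, hpe, hps, hqe, comm, hPh⟩ :=
    exists_scheme_charts P hP F.property G.property a.hom ha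
  exact ⟨U, V, chartFun p, chartFun q, h, chartSqIso p q h a.hom comm, chartFun_smooth F p hpe,
    chartFun_surj F p hps, chartFun_smooth G q hqe, hPh⟩

theorem locQ_of_spaceCharts (P : MorphismProperty (AlgSp.Sp S)) (hP : AlgSp.IsSmoothLocalST P)
    (f : 𝒳 ⥤ᵇ 𝒴)
    (h : ∃ (U V : AlgSp.Space S) (x : AlgSt.ofSp U.obj ⥤ᵇ 𝒳) (y : AlgSt.ofSp V.obj ⥤ᵇ 𝒴)
      (h : U ⟶ V) (_ : BasedFunctor.comp x f ≅ BasedFunctor.comp (AlgSt.ofSpMap h.hom) y),
      AlgSt.RepByAlgSpWith (AlgSp.LocP @Smooth) x ∧ AlgSt.RepByAlgSpWith AlgSp.IsSurjectiveMor x ∧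
      AlgSt.RepByAlgSpWith (AlgSp.LocP @Smooth) y ∧ P h.hom) : AlgSt.LocQ P f := by
  obtain ⟨U, V, x, y, h, α, hx₁, hx₂, hy₁, hPh⟩ := h
  obtain ⟨U₀, V₀, p, q, h₀, hpe, hps, hqe, comm, hP₀⟩ :=
    exists_scheme_charts P hP U.property V.property h.hom hPh
  have hU₀ := OverFib.isFibGrpd_over U₀
  have hV₀ := OverFib.isFibGrpd_over V₀
  refine ⟨U₀, V₀, BasedFunctor.comp (chartFun p) x, BasedFunctor.comp (chartFun q) y, h₀,
    whiskerLeftIso (chartFun p) α ≪≫ whiskerRightIso (chartSqIso p q h₀ h.hom comm) y,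
    repByAlgSpWith_comp_goodP (goodP_locP etLoc_smooth) hU₀ (Stk.isFibGrpd_ofPsh _) _ _
      (chartFun_smooth U p hpe) hx₁,
    repByAlgSpWith_comp_goodP goodP_surj hU₀ (Stk.isFibGrpd_ofPsh _) _ _
      (chartFun_surj U p hps) hx₂,
    repByAlgSpWith_comp_goodP (goodP_locP etLoc_smooth) hV₀ (Stk.isFibGrpd_ofPsh _) _ _
      (chartFun_smooth V q hqe) hy₁, hP₀⟩

theorem prop_of_locQ_ofSpMap (P : MorphismProperty (AlgSp.Sp S)) (hP : AlgSp.IsSmoothLocalST P)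
    (F G : AlgSp.Space S) (a : F ⟶ G) (hL : AlgSt.LocQ P (AlgSt.ofSpMap a.hom)) : P a.hom := by
  obtain ⟨U, V, x, y, h, α, hx₁, hx₂, hy₁, hh⟩ := hL
  let Φx : AlgSt.ofSch U ⥤ᵇ AlgSt.ofSp F.obj := BasedFunctor.comp (AlgSt.toOverCat U) x
  let Φy : AlgSt.ofSch V ⥤ᵇ AlgSt.ofSp G.obj := BasedFunctor.comp (AlgSt.toOverCat V) y
  let p : (AlgSp.yon S).obj U ⟶ F.obj := ObjectProperty.homMk (pshMapOf Φx)
  let q : (AlgSp.yon S).obj V ⟶ G.obj := ObjectProperty.homMk (pshMapOf Φy)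
  have κx : AlgSt.ofSpMap p ≅ Φx := ofPshMapIso Φx
  have κy : AlgSt.ofSpMap q ≅ Φy := ofPshMapIso Φy
  have hsm := goodP_locP (S := S) etLoc_smooth
  have hp₁ : AlgSp.LocP @Smooth p :=
    (repByAlgSpWith_ofSpMap_iff hsm.cancelIso hsm.baseChange hsm.descends
      (AlgSp.IsAlgSpace.yon_obj U) F.property p).1
      (repByAlgSpWith_of_iso _ κx.symm (repByAlgSpWith_toOverCat_comp _ x hx₁))
  have hp₂ : AlgSp.IsSurjectiveMor p :=
    (repByAlgSpWith_ofSpMap_iff goodP_surj.cancelIso goodP_surj.baseChange goodP_surj.descends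
      (AlgSp.IsAlgSpace.yon_obj U) F.property p).1
      (repByAlgSpWith_of_iso _ κx.symm (repByAlgSpWith_toOverCat_comp _ x hx₂))
  have hq₁ : AlgSp.LocP @Smooth q :=
    (repByAlgSpWith_ofSpMap_iff hsm.cancelIso hsm.baseChange hsm.descends
      (AlgSp.IsAlgSpace.yon_obj V) G.property q).1
      (repByAlgSpWith_of_iso _ κy.symm (repByAlgSpWith_toOverCat_comp _ y hy₁))
  have ι : BasedFunctor.comp Φx (AlgSt.ofSpMap a.hom) ≅
      BasedFunctor.comp (AlgSt.ofSpMap ((AlgSp.yon S).map h)) Φy :=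
    whiskerLeftIso (AlgSt.toOverCat U) α ≪≫ whiskerRightIso (overMapSqIso h) y
  have comm0 : pshMapOf Φx ≫ a.hom.hom = ((AlgSp.yon S).map h).hom ≫ pshMapOf Φy := by
    have h1 : pshMapOf (BasedFunctor.comp Φx (AlgSt.ofSpMap a.hom)) =
        pshMapOf Φx ≫ a.hom.hom := by
      rw [pshMapOf_comp]
      congr 1
      exact pshMapOf_ofPshMap _
    have h2 : pshMapOf (BasedFunctor.comp (AlgSt.ofSpMap ((AlgSp.yon S).map h)) Φy) =
        ((AlgSp.yon S).map h).hom ≫ pshMapOf Φy := by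
      rw [pshMapOf_comp]
      congr 1
      exact pshMapOf_ofPshMap _
    rw [← h1, ← h2]
    exact pshMapOf_congr ι.hom
  have comm : p ≫ a.hom = (AlgSp.yon S).map h ≫ q := by
    apply ObjectProperty.hom_ext
    exact comm0
  refine (hP.locality F.property G.property a.hom).2 (fun pt => ?_)
  obtain ⟨v, hv⟩ := hp₂ pt
  exact ⟨_, _, p, q, (AlgSp.yon S).map h, v, AlgSp.IsAlgSpace.yon_obj U,
    AlgSp.IsAlgSpace.yon_obj V, hp₁, hq₁, comm, hv, hh⟩

end Groth.Agent.H28.RepComp
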