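import Mathlib
import Groth.Agent.H28.LocQCancel2
import Groth.Agent.H28.LocQSp

/-!
# `LocQ` read on algebraic-space charts
-/

set_option autoImplicit false
set_option linter.style.haveILetI false
set_option backward.isDefEq.respectTransparency false
set_option backward.isDefEq.respectTransparency.types false

namespace Groth.Agent.H28.RepComp

open CategoryTheory CategoryTheory.Limits FibCat AlgebraicGeometry Opposite Stk MorphismProperty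
open Groth.Agent.Helper22 Groth.Agent.Helper22.EquivComp Groth.Agent.Helper22.FpSq
open Groth.Agent.Helper22.FpEquiv Groth.Agent.H28.LiftFp
open Groth.Agent.H28.FpBase Groth.Agent.H28.PshDict Groth.Agent.H28.IsoCl
open Groth.Agent.H25.AS

universe w u

variable {S : Scheme.{u}} {𝒳 𝒴 𝒵 : AlgSt.Cat S}

/-- the 2-isomorphism of the composite chart square -/
def compChartIso {X : AlgSp.Sp S} {U₁ V₁ V' V₂ W₂ : Over S}
    (fst : X ⟶ (AlgSp.yon S).obj U₁) (snd : X ⟶ (AlgSp.yon S).obj V')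
    (h₁ : U₁ ⟶ V₁) (p₁ : V' ⟶ V₁) (p₂ : V' ⟶ V₂) (h₂ : V₂ ⟶ W₂)
    (cond : fst ≫ (AlgSp.yon S).map h₁ = snd ≫ (AlgSp.yon S).map p₁)
    (x₁ : FibCat.overCat U₁ ⥤ᵇ 𝒳) (y₁ : FibCat.overCat V₁ ⥤ᵇ 𝒴) (y₂ : FibCat.overCat V₂ ⥤ᵇ 𝒴)
    (z₂ : FibCat.overCat W₂ ⥤ᵇ 𝒵) (f : 𝒳 ⥤ᵇ 𝒴) (g : 𝒴 ⥤ᵇ 𝒵)
    (α₁ : BasedFunctor.comp x₁ f ≅ BasedFunctor.comp (AlgSt.overMap h₁) y₁)
    (α₂ : BasedFunctor.comp y₂ g ≅ BasedFunctor.comp (AlgSt.overMap h₂) z₂)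
    (β : BasedFunctor.comp (AlgSt.overMap p₁) y₁ ≅ BasedFunctor.comp (AlgSt.overMap p₂) y₂) :
    BasedFunctor.comp (BasedFunctor.comp (AlgSt.ofSpMap fst)
        (BasedFunctor.comp (AlgSt.toOverCat U₁) x₁)) (BasedFunctor.comp f g) ≅
      BasedFunctor.comp
        (AlgSt.ofSpMap (snd ≫ (AlgSp.yon S).map p₂ ≫ (AlgSp.yon S).map h₂))
        (BasedFunctor.comp (AlgSt.toOverCat W₂) z₂) :=
  (Iso.refl _ : _ ≅ BasedFunctor.comp (AlgSt.ofSpMap fst) (BasedFunctor.comp (AlgSt.toOverCat U₁)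
      (BasedFunctor.comp (BasedFunctor.comp x₁ f) g))) ≪≫
    whiskerLeftIso (AlgSt.ofSpMap fst)
      (whiskerLeftIso (AlgSt.toOverCat U₁) (whiskerRightIso α₁ g)) ≪≫
    (Iso.refl _ : BasedFunctor.comp (AlgSt.ofSpMap fst) (BasedFunctor.comp (AlgSt.toOverCat U₁)
        (BasedFunctor.comp (BasedFunctor.comp (AlgSt.overMap h₁) y₁) g)) ≅
      BasedFunctor.comp (BasedFunctor.comp (AlgSt.ofSpMap fst)
          (AlgSt.ofSpMap ((AlgSp.yon S).map h₁)))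
        (BasedFunctor.comp (AlgSt.toOverCat V₁) (BasedFunctor.comp y₁ g))) ≪≫
    whiskerRightIso
      ((Iso.refl _ : BasedFunctor.comp (AlgSt.ofSpMap fst)
          (AlgSt.ofSpMap ((AlgSp.yon S).map h₁)) ≅
          AlgSt.ofSpMap (fst ≫ (AlgSp.yon S).map h₁)) ≪≫
        eqToIso (congrArg AlgSt.ofSpMap cond) ≪≫
        (Iso.refl _ : AlgSt.ofSpMap (snd ≫ (AlgSp.yon S).map p₁) ≅
          BasedFunctor.comp (AlgSt.ofSpMap snd) (AlgSt.ofSpMap ((AlgSp.yon S).map p₁))))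
      (BasedFunctor.comp (AlgSt.toOverCat V₁) (BasedFunctor.comp y₁ g)) ≪≫
    (Iso.refl _ : BasedFunctor.comp (BasedFunctor.comp (AlgSt.ofSpMap snd)
          (AlgSt.ofSpMap ((AlgSp.yon S).map p₁)))
        (BasedFunctor.comp (AlgSt.toOverCat V₁) (BasedFunctor.comp y₁ g)) ≅
      BasedFunctor.comp (AlgSt.ofSpMap snd) (BasedFunctor.comp (AlgSt.toOverCat V')
        (BasedFunctor.comp (BasedFunctor.comp (AlgSt.overMap p₁) y₁) g))) ≪≫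
    whiskerLeftIso (AlgSt.ofSpMap snd)
      (whiskerLeftIso (AlgSt.toOverCat V') (whiskerRightIso β g)) ≪≫
    (Iso.refl _ : BasedFunctor.comp (AlgSt.ofSpMap snd) (BasedFunctor.comp (AlgSt.toOverCat V')
        (BasedFunctor.comp (BasedFunctor.comp (AlgSt.overMap p₂) y₂) g)) ≅
      BasedFunctor.comp (AlgSt.ofSpMap snd) (BasedFunctor.comp (AlgSt.toOverCat V')
        (BasedFunctor.comp (AlgSt.overMap p₂) (BasedFunctor.comp y₂ g)))) ≪≫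
    whiskerLeftIso (AlgSt.ofSpMap snd)
      (whiskerLeftIso (AlgSt.toOverCat V') (whiskerLeftIso (AlgSt.overMap p₂) α₂)) ≪≫
    (Iso.refl _ : BasedFunctor.comp (AlgSt.ofSpMap snd) (BasedFunctor.comp (AlgSt.toOverCat V')
        (BasedFunctor.comp (AlgSt.overMap p₂) (BasedFunctor.comp (AlgSt.overMap h₂) z₂))) ≅ _)

theorem locQ_comp_of_smoothLocal (P : MorphismProperty (AlgSp.Sp S))
    (hP : AlgSp.IsSmoothLocalST P) (hPc : CompP P)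
    (h𝒴 : AlgSt.IsAlgStack Scheme.fppfPrecoverage 𝒴) (f : 𝒳 ⥤ᵇ 𝒴) (g : 𝒴 ⥤ᵇ 𝒵)
    (hf : AlgSt.LocQ P f) (hg : AlgSt.LocQ P g) : AlgSt.LocQ P (BasedFunctor.comp f g) := by
  obtain ⟨U₁, V₁, x₁, y₁, h₁, α₁, hx₁₁, hx₁₂, hy₁₁, hh₁⟩ := hf
  obtain ⟨V₂, W₂, y₂, z₂, h₂, α₂, hy₂₁, hy₂₂, hz₂₁, hh₂⟩ := hg
  have h𝒫 : AlgSt.IsAlgStack Scheme.fppfPrecoverage (FibCat.fp y₁ y₂) :=
    isAlgStack_fp _ h𝒴.isStack h𝒴.diag (isAlgStack_overCat V₁) (isAlgStack_overCat V₂) y₁ y₂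
  obtain ⟨V', t, ht₁, ht₂⟩ := h𝒫.atlas
  have hV' := OverFib.isFibGrpd_over V'
  obtain ⟨p₁, ⟨ιp₁⟩⟩ := exists_overMap_iso (BasedFunctor.comp t (FibCat.fpFst y₁ y₂))
  obtain ⟨p₂, ⟨ιp₂⟩⟩ := exists_overMap_iso (BasedFunctor.comp t (FibCat.fpSnd y₁ y₂))
  have hsm := goodP_locP (S := S) etLoc_smooth
  have hp₁₁ : AlgSp.LocP @Smooth ((AlgSp.yon S).map p₁) :=
    prop_of_overMap hsm p₁ (repByAlgSpWith_of_iso _ ιp₁
      (repByAlgSpWith_comp_goodP hsm hV' h𝒫.isStack.1 t _ ht₁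
        (repByAlgSpWith_fpFst _ y₂ y₁ hy₂₁)))
  have hp₁₂ : AlgSp.IsSurjectiveMor ((AlgSp.yon S).map p₁) :=
    prop_of_overMap goodP_surj p₁ (repByAlgSpWith_of_iso _ ιp₁
      (repByAlgSpWith_comp_goodP goodP_surj hV' h𝒫.isStack.1 t _ ht₂
        (repByAlgSpWith_fpFst _ y₂ y₁ hy₂₂)))
  have hp₂₁ : AlgSp.LocP @Smooth ((AlgSp.yon S).map p₂) :=
    prop_of_overMap hsm p₂ (repByAlgSpWith_of_iso _ ιp₂
      (repByAlgSpWith_comp_goodP hsm hV' h𝒫.isStack.1 t _ ht₁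
        (repByAlgSpWith_fpSnd _ y₂ y₁ hy₁₁)))
  have sq := IsPullback.of_hasPullback ((AlgSp.yon S).map h₁) ((AlgSp.yon S).map p₁)
  have hU' : AlgSp.IsAlgSpace (pullback ((AlgSp.yon S).map h₁) ((AlgSp.yon S).map p₁)) :=
    isAlgSpace_of_isPullback (AlgSp.IsAlgSpace.yon_obj V₁).diag (AlgSp.IsAlgSpace.yon_obj U₁)
      (AlgSp.IsAlgSpace.yon_obj V') sq
  have hsnd : P (pullback.snd ((AlgSp.yon S).map h₁) ((AlgSp.yon S).map p₁)) :=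
    hP.baseChange (AlgSp.IsAlgSpace.yon_obj U₁) (AlgSp.IsAlgSpace.yon_obj V₁) hU'
      (AlgSp.IsAlgSpace.yon_obj V') _ _ _ _ sq hp₁₁ hh₁
  have hfst₁ : AlgSp.LocP @Smooth
      (pullback.fst ((AlgSp.yon S).map h₁) ((AlgSp.yon S).map p₁)) :=
    locP_of_isPullback etLoc_smooth (AlgSp.IsAlgSpace.yon_obj V') (AlgSp.IsAlgSpace.yon_obj V₁)
      (AlgSp.IsAlgSpace.yon_obj U₁) sq.flip hp₁₁
  have hfst₂ : AlgSp.IsSurjectiveMor
      (pullback.fst ((AlgSp.yon S).map h₁) ((AlgSp.yon S).map p₁)) :=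
    goodP_surj.baseChange (AlgSp.IsAlgSpace.yon_obj V') (AlgSp.IsAlgSpace.yon_obj V₁) hU'
      (AlgSp.IsAlgSpace.yon_obj U₁) _ _ _ _ sq.flip hp₁₂
  have hh' : P (pullback.snd ((AlgSp.yon S).map h₁) ((AlgSp.yon S).map p₁) ≫
      (AlgSp.yon S).map p₂ ≫ (AlgSp.yon S).map h₂) :=
    hPc hU' (AlgSp.IsAlgSpace.yon_obj V') (AlgSp.IsAlgSpace.yon_obj W₂) _ _ hsnd
      (hP.precomp (AlgSp.IsAlgSpace.yon_obj V') (AlgSp.IsAlgSpace.yon_obj V₂)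
        (AlgSp.IsAlgSpace.yon_obj W₂) _ _ hp₂₁ hh₂)
  have β : BasedFunctor.comp (AlgSt.overMap p₁) y₁ ≅ BasedFunctor.comp (AlgSt.overMap p₂) y₂ :=
    whiskerRightIso ιp₁.symm y₁ ≪≫
      (Iso.refl _ : BasedFunctor.comp (BasedFunctor.comp t (FibCat.fpFst y₁ y₂)) y₁ ≅
        BasedFunctor.comp t (BasedFunctor.comp (FibCat.fpFst y₁ y₂) y₁)) ≪≫
      whiskerLeftIso t (FibCat.fpIso y₁ y₂) ≪≫
      (Iso.refl _ : BasedFunctor.comp t (BasedFunctor.comp (FibCat.fpSnd y₁ y₂) y₂) ≅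
        BasedFunctor.comp (BasedFunctor.comp t (FibCat.fpSnd y₁ y₂)) y₂) ≪≫
      whiskerRightIso ιp₂ y₂
  have κ : BasedFunctor.comp
        (AlgSt.ofSpMap (pullback.fst ((AlgSp.yon S).map h₁) ((AlgSp.yon S).map p₁)))
        (AlgSt.ofSpMap ((AlgSp.yon S).map h₁)) ≅
      BasedFunctor.comp
        (AlgSt.ofSpMap (pullback.snd ((AlgSp.yon S).map h₁) ((AlgSp.yon S).map p₁)))
        (AlgSt.ofSpMap ((AlgSp.yon S).map p₁)) :=
    (Iso.refl _ : _ ≅ AlgSt.ofSpMap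
        (pullback.fst ((AlgSp.yon S).map h₁) ((AlgSp.yon S).map p₁) ≫ (AlgSp.yon S).map h₁)) ≪≫
      eqToIso (congrArg AlgSt.ofSpMap pullback.condition) ≪≫
      (Iso.refl _ : AlgSt.ofSpMap
        (pullback.snd ((AlgSp.yon S).map h₁) ((AlgSp.yon S).map p₁) ≫ (AlgSp.yon S).map p₁) ≅ _)
  refine locQ_of_spaceCharts P hP _ ⟨⟨_, hU'⟩, yonSpace W₂,
    BasedFunctor.comp
      (AlgSt.ofSpMap (pullback.fst ((AlgSp.yon S).map h₁) ((AlgSp.yon S).map p₁)))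
      (BasedFunctor.comp (AlgSt.toOverCat U₁) x₁),
    BasedFunctor.comp (AlgSt.toOverCat W₂) z₂,
    ObjectProperty.homMk (pullback.snd ((AlgSp.yon S).map h₁) ((AlgSp.yon S).map p₁) ≫
      (AlgSp.yon S).map p₂ ≫ (AlgSp.yon S).map h₂), ?_,
    repByAlgSpWith_comp_goodP hsm (Stk.isFibGrpd_ofPsh _) (Stk.isFibGrpd_ofPsh _) _ _
      ((repByAlgSpWith_ofSpMap_iff hsm.cancelIso hsm.baseChange hsm.descends hU'
        (AlgSp.IsAlgSpace.yon_obj U₁) _).2 hfst₁) (repByAlgSpWith_toOverCat_comp _ x₁ hx₁₁),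
    repByAlgSpWith_comp_goodP goodP_surj (Stk.isFibGrpd_ofPsh _) (Stk.isFibGrpd_ofPsh _) _ _
      ((repByAlgSpWith_ofSpMap_iff goodP_surj.cancelIso goodP_surj.baseChange goodP_surj.descends
        hU' (AlgSp.IsAlgSpace.yon_obj U₁) _).2 hfst₂) (repByAlgSpWith_toOverCat_comp _ x₁ hx₁₂),
    repByAlgSpWith_toOverCat_comp _ z₂ hz₂₁, hh'⟩
  exact compChartIso _ _ h₁ p₁ p₂ h₂ pullback.condition x₁ y₁ y₂ z₂ f g α₁ α₂ β

end Groth.Agent.H28.RepComp
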