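import Mathlib
import Groth.Agent.H28.LocQComp

/-!
# `LocQ` read on algebraic-space charts
-/

set_option autoImplicit false
set_option linter.style.haveILetI false
set_option backward.isDefEq.respectTransparency false
set_option backward.isDefEq.respectTransparency.types false

namespace Groth.Agent.H28.RepComp

open CategoryTheory CategoryTheory.Limits FibCat AlgebraicGeometry Opposite Stk MorphismProperty
open Groth.Agent.Helper22 Groth.Agent.Helper22.EquivComp Groth.Agent.Helper22.FpSq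
open Groth.Agent.Helper22.FpEquiv Groth.Agent.H28.LiftFp
open Groth.Agent.H28.FpBase Groth.Agent.H28.PshDict Groth.Agent.H28.IsoCl
open Groth.Agent.H25.AS

universe w u

variable {S : Scheme.{u}} {𝒳 𝒴 𝒵 : AlgSt.Cat S}

variable {𝒴' : AlgSt.Cat S}

theorem repByAlgSpWith_comp_mixed (h𝒳 : FibCat.IsFibGrpd 𝒳.p) (h𝒴 : FibCat.IsFibGrpd 𝒴.p)
    (P P₂ R : MorphismProperty (AlgSp.Sp S)) (hPiso : CancelIso P)
    (hPc : ∀ ⦃X Y Z : AlgSp.Sp S⦄, AlgSp.IsAlgSpace X → AlgSp.IsAlgSpace Y → AlgSp.IsAlgSpace Z →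
      ∀ (a : X ⟶ Y) (b : Y ⟶ Z), P a → P₂ b → R (a ≫ b))
    (hD : DescendsP P)
    (f : 𝒳 ⥤ᵇ 𝒴) (g : 𝒴 ⥤ᵇ 𝒵) (hf : AlgSt.RepByAlgSpWith P f)
    (hg : AlgSt.RepByAlgSpWith P₂ g) :
    AlgSt.RepByAlgSpWith R (BasedFunctor.comp f g) := by
  intro U z
  obtain ⟨G', e_g, he_g, hPγ⟩ := hg U z
  let y' : AlgSt.ofSp G'.obj ⥤ᵇ 𝒴 := BasedFunctor.comp e_g (FibCat.fpSnd z g)
  obtain ⟨W, w₀, Ew, hEw, ⟨κ⟩, hrep⟩ := boot P hPiso h𝒳 h𝒴 f hf G'.obj.obj y'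
  have hWP : AlgSp.IsAlgSpaceP W :=
    Groth.Agent.H28.RepBySp.isAlgSpaceP_of_repBySp w₀ hrep.repBySp
      ((AlgSp.isAlgSpaceP_obj_iff _).2 G'.property)
  obtain ⟨hWs, hWa⟩ := hWP
  let F' : AlgSp.Space S := ⟨⟨W, hWs⟩, hWa⟩
  let w : F'.obj ⟶ G'.obj := ObjectProperty.homMk w₀
  have hPw : P w := hD w hWa G'.property hrep
  obtain ⟨Q, ⟨σ₁⟩, ⟨σ₂⟩⟩ := id (isEquivOver_paste z g f)
  let pre : FibCat.fp y' f ⥤ᵇ FibCat.fp (FibCat.fpSnd z g) f := fpPre e_g (FibCat.fpSnd z g) f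
  have hpre : FibCat.IsEquivOver pre := isEquivOver_fpPre e_g (FibCat.fpSnd z g) f he_g
  let e : AlgSt.ofSp F'.obj ⥤ᵇ FibCat.fp z (BasedFunctor.comp f g) :=
    BasedFunctor.comp (BasedFunctor.comp Ew pre) Q
  have he : FibCat.IsEquivOver e :=
    isEquivOver_comp _ _ (isEquivOver_comp _ _ hEw hpre) ⟨_, ⟨σ₂⟩, ⟨σ₁⟩⟩
  refine ⟨F', e, he, ?_⟩
  have α1 : BasedFunctor.comp e (FibCat.fpFst z (BasedFunctor.comp f g)) ≅
      BasedFunctor.comp (BasedFunctor.comp Ew (FibCat.fpFst y' f))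
        (BasedFunctor.comp e_g (FibCat.fpFst z g)) :=
    whiskerLeftIso (BasedFunctor.comp Ew pre)
      (whiskerRightIso σ₂
        (BasedFunctor.comp (FibCat.fpFst (FibCat.fpSnd z g) f) (FibCat.fpFst z g)))
  have α2 : BasedFunctor.comp (BasedFunctor.comp Ew (FibCat.fpFst y' f))
        (BasedFunctor.comp e_g (FibCat.fpFst z g)) ≅
      BasedFunctor.comp (AlgSt.ofSpMap w) (BasedFunctor.comp e_g (FibCat.fpFst z g)) :=
    whiskerRightIso κ (BasedFunctor.comp e_g (FibCat.fpFst z g))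
  rw [spMapOfOver_congr (α1 ≪≫ α2).hom, spMapOfOver_ofSpMap_comp]
  exact hPc hWa G'.property (AlgSp.IsAlgSpace.yon_obj U) w _ hPw hPγ

theorem overMap_of_prop' {P : MorphismProperty (AlgSp.Sp S)} (hPb : BaseChangeP P) {T V : Over S}
    (q : T ⟶ V) (h : P ((AlgSp.yon S).map q)) : AlgSt.RepByAlgSpWith P (AlgSt.overMap q) := by
  have h2 : AlgSt.RepByAlgSpWith P (AlgSt.ofSpMap ((AlgSp.yon S).map q)) :=
    repByAlgSpWith_of_repBySpWith ((AlgSp.yon S).map q).hom P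
      (repBySpWith_of_P hPb (AlgSp.IsAlgSpace.yon_obj T) (AlgSp.IsAlgSpace.yon_obj V) _ h)
  have h1 : AlgSt.RepByAlgSpWith P (chartFun ((AlgSp.yon S).map q)) :=
    repByAlgSpWith_of_sq' P (AlgSt.ofSpMap ((AlgSp.yon S).map q))
      (chartFun ((AlgSp.yon S).map q)) (AlgSt.ofOverCat T) (BasedFunctor.id _)
      (isEquivOver_ofOverCat T) isEquivOver_id (Iso.refl _) h2
  exact repByAlgSpWith_of_sq P (AlgSt.overMap q) (chartFun ((AlgSp.yon S).map q))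
      (BasedFunctor.id _) (AlgSt.toOverCat V) isEquivOver_id
      (Groth.Agent.H28.DiagRep.isEquivOver_toOverCat V) (Iso.refl _) h1

theorem prop_of_overMap' {P : MorphismProperty (AlgSp.Sp S)} (hPb : BaseChangeP P) {T V : Over S}
    (q : T ⟶ V) (h : AlgSt.RepByAlgSpWith P (AlgSt.overMap q)) : P ((AlgSp.yon S).map q) := by
  have h1 : AlgSt.RepByAlgSpWith P (chartFun ((AlgSp.yon S).map q)) :=
    repByAlgSpWith_of_sq' P (AlgSt.overMap q) (chartFun ((AlgSp.yon S).map q))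
      (BasedFunctor.id _) (AlgSt.toOverCat V) isEquivOver_id
      (Groth.Agent.H28.DiagRep.isEquivOver_toOverCat V) (Iso.refl _) h
  have h2 : AlgSt.RepByAlgSpWith P (AlgSt.ofSpMap ((AlgSp.yon S).map q)) :=
    repByAlgSpWith_of_sq P (AlgSt.ofSpMap ((AlgSp.yon S).map q))
      (chartFun ((AlgSp.yon S).map q)) (AlgSt.ofOverCat T) (BasedFunctor.id _)
      (isEquivOver_ofOverCat T) isEquivOver_id (Iso.refl _) h1
  have h3 : AlgSp.RepBySpWith P ((AlgSp.yon S).map q).hom :=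
    repBySpWith_of_repByAlgSpWith ((AlgSp.yon S).map q).hom P (cancelIso_of_baseChange P hPb) h2
  obtain ⟨hs, -, hQ⟩ := h3 (𝟙 _) (𝟙 _) ((AlgSp.yon S).map q).hom (IsPullback.id_horiz _)
  exact hQ

theorem exists_omega (f : 𝒳 ⥤ᵇ 𝒴) (g : 𝒴' ⥤ᵇ 𝒴) {U V : Over S} (x : FibCat.overCat U ⥤ᵇ 𝒳)
    (y : FibCat.overCat V ⥤ᵇ 𝒴) (h : U ⟶ V)
    (α : BasedFunctor.comp x f ≅ BasedFunctor.comp (AlgSt.overMap h) y) :
    ∃ Ω : FibCat.fp (FibCat.fpSnd g y) (AlgSt.overMap h) ⥤ᵇ FibCat.fp (FibCat.fpSnd g f) x,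
      FibCat.IsEquivOver Ω ∧
      Nonempty (BasedFunctor.comp Ω
          (BasedFunctor.comp (FibCat.fpFst (FibCat.fpSnd g f) x) (FibCat.fpFst g f)) ≅
        BasedFunctor.comp (FibCat.fpFst (FibCat.fpSnd g y) (AlgSt.overMap h)) (FibCat.fpFst g y)) := by
  obtain ⟨Q, ⟨σ₁⟩, ⟨σ₂⟩⟩ := id (isEquivOver_paste g y (AlgSt.overMap h))
  let sq : FibCat.fp g (BasedFunctor.comp (AlgSt.overMap h) y) ⥤ᵇ
      FibCat.fp g (BasedFunctor.comp x f) :=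
    sqFun g (BasedFunctor.comp x f) g (BasedFunctor.comp (AlgSt.overMap h) y)
      (BasedFunctor.id _) (BasedFunctor.id _) (Iso.refl _) α.symm
  have hsq : FibCat.IsEquivOver sq :=
    isEquivOver_sqFun g (BasedFunctor.comp x f) g (BasedFunctor.comp (AlgSt.overMap h) y)
      (BasedFunctor.id _) (BasedFunctor.id _) (Iso.refl _) α.symm isEquivOver_id isEquivOver_id
  refine ⟨BasedFunctor.comp (BasedFunctor.comp Q sq) (paste g f x),
    isEquivOver_comp _ _ (isEquivOver_comp _ _ ⟨_, ⟨σ₂⟩, ⟨σ₁⟩⟩ hsq) (isEquivOver_paste g f x), ⟨?_⟩⟩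
  exact (Iso.refl _ : BasedFunctor.comp (BasedFunctor.comp (BasedFunctor.comp Q sq) (paste g f x))
        (BasedFunctor.comp (FibCat.fpFst (FibCat.fpSnd g f) x) (FibCat.fpFst g f)) ≅
      BasedFunctor.comp (BasedFunctor.comp Q (paste g y (AlgSt.overMap h)))
        (BasedFunctor.comp (FibCat.fpFst (FibCat.fpSnd g y) (AlgSt.overMap h))
          (FibCat.fpFst g y))) ≪≫
    whiskerRightIso σ₂ (BasedFunctor.comp (FibCat.fpFst (FibCat.fpSnd g y) (AlgSt.overMap h))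
      (FibCat.fpFst g y))

theorem locQ_fpFst_of_precomp (P : MorphismProperty (AlgSp.Sp S))
    (hpre : ∀ ⦃X Y Z : AlgSp.Sp S⦄, AlgSp.IsAlgSpace X → AlgSp.IsAlgSpace Y → AlgSp.IsAlgSpace Z →
      ∀ (a : X ⟶ Y) (b : Y ⟶ Z), AlgSp.LocP @Smooth a → P b → P (a ≫ b)) (hPb : BaseChangeP P)
    (h𝒳 : AlgSt.IsAlgStack Scheme.fppfPrecoverage 𝒳)
    (h𝒴 : AlgSt.IsAlgStack Scheme.fppfPrecoverage 𝒴)
    (h𝒴' : AlgSt.IsAlgStack Scheme.fppfPrecoverage 𝒴') (f : 𝒳 ⥤ᵇ 𝒴) (g : 𝒴' ⥤ᵇ 𝒴)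
    (hf : AlgSt.LocQ P f) : AlgSt.LocQ P (FibCat.fpFst g f) := by
  obtain ⟨U, V, x, y, h, α, hx₁, hx₂, hy₁, hh⟩ := hf
  have hsm := goodP_locP (S := S) etLoc_smooth
  have h𝒬 : AlgSt.IsAlgStack Scheme.fppfPrecoverage (FibCat.fp g f) :=
    isAlgStack_fp _ h𝒴.isStack h𝒴.diag h𝒴' h𝒳 g f
  have h𝒜 : AlgSt.IsAlgStack Scheme.fppfPrecoverage (FibCat.fp (FibCat.fpSnd g f) x) :=
    isAlgStack_fp _ h𝒳.isStack h𝒳.diag h𝒬 (isAlgStack_overCat U) (FibCat.fpSnd g f) x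
  have h𝒫 : AlgSt.IsAlgStack Scheme.fppfPrecoverage (FibCat.fp g y) :=
    isAlgStack_fp _ h𝒴.isStack h𝒴.diag h𝒴' (isAlgStack_overCat V) g y
  have h𝒜₂ : AlgSt.IsAlgStack Scheme.fppfPrecoverage
      (FibCat.fp (FibCat.fpSnd g y) (AlgSt.overMap h)) :=
    isAlgStack_fp _ (isAlgStack_overCat V).isStack (isAlgStack_overCat V).diag h𝒫
      (isAlgStack_overCat U) (FibCat.fpSnd g y) (AlgSt.overMap h)
  obtain ⟨V', v', hv'₁, hv'₂⟩ := h𝒫.atlas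
  have hV' := OverFib.isFibGrpd_over V'
  have hθ : AlgSt.RepByAlgSpWith P (FibCat.fpFst (FibCat.fpSnd g y) (AlgSt.overMap h)) :=
    repByAlgSpWith_fpFst P (AlgSt.overMap h) (FibCat.fpSnd g y) (overMap_of_prop' hPb h hh)
  have hℬ : AlgSt.IsAlgStack Scheme.fppfPrecoverage
      (FibCat.fp (FibCat.fpFst (FibCat.fpSnd g y) (AlgSt.overMap h)) v') :=
    isAlgStack_fp _ h𝒫.isStack h𝒫.diag h𝒜₂ (isAlgStack_overCat V')
      (FibCat.fpFst (FibCat.fpSnd g y) (AlgSt.overMap h)) v'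
  obtain ⟨T', τ', hτ'₁, hτ'₂⟩ := hℬ.atlas
  have hT' := OverFib.isFibGrpd_over T'
  obtain ⟨Ω, hΩ, ⟨ω⟩⟩ := exists_omega f g x y h α
  obtain ⟨b, ⟨ιb⟩⟩ := exists_overMap_iso (BasedFunctor.comp τ'
    (FibCat.fpSnd (FibCat.fpFst (FibCat.fpSnd g y) (AlgSt.overMap h)) v'))
  -- the property of `b`
  have hsndℬ : AlgSt.RepByAlgSpWith P
      (FibCat.fpSnd (FibCat.fpFst (FibCat.fpSnd g y) (AlgSt.overMap h)) v') :=
    repByAlgSpWith_fpSnd P v' (FibCat.fpFst (FibCat.fpSnd g y) (AlgSt.overMap h)) hθ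
  have hcomp : AlgSt.RepByAlgSpWith P (BasedFunctor.comp τ'
      (FibCat.fpSnd (FibCat.fpFst (FibCat.fpSnd g y) (AlgSt.overMap h)) v')) :=
    repByAlgSpWith_comp_mixed hT' hℬ.isStack.1 (AlgSp.LocP @Smooth) P P hsm.cancelIso
      hpre hsm.descends τ' _ hτ'₁ hsndℬ
  have hPb' : P ((AlgSp.yon S).map b) :=
    prop_of_overMap' hPb b (repByAlgSpWith_of_iso _ ιb hcomp)
  -- smooth surjective source chart
  have s2 : ∀ (P' : MorphismProperty (AlgSp.Sp S)), AlgSt.RepByAlgSpWith P' x →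
      AlgSt.RepByAlgSpWith P' (BasedFunctor.comp Ω (FibCat.fpFst (FibCat.fpSnd g f) x)) :=
    fun P' hx' => repByAlgSpWith_of_sq' P' (FibCat.fpFst (FibCat.fpSnd g f) x)
      (BasedFunctor.comp Ω (FibCat.fpFst (FibCat.fpSnd g f) x)) Ω (BasedFunctor.id _) hΩ
      isEquivOver_id (Iso.refl _) (repByAlgSpWith_fpFst P' x (FibCat.fpSnd g f) hx')
  refine ⟨T', V', BasedFunctor.comp τ' (BasedFunctor.comp
      (FibCat.fpFst (FibCat.fpFst (FibCat.fpSnd g y) (AlgSt.overMap h)) v')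
      (BasedFunctor.comp Ω (FibCat.fpFst (FibCat.fpSnd g f) x))),
    BasedFunctor.comp v' (FibCat.fpFst g y), b, ?_,
    repByAlgSpWith_comp_goodP hsm hT' hℬ.isStack.1 τ' _ hτ'₁
      (repByAlgSpWith_comp_goodP hsm hℬ.isStack.1 h𝒜₂.isStack.1 _ _
        (repByAlgSpWith_fpFst _ v' (FibCat.fpFst (FibCat.fpSnd g y) (AlgSt.overMap h)) hv'₁)
        (s2 _ hx₁)),
    repByAlgSpWith_comp_goodP goodP_surj hT' hℬ.isStack.1 τ' _ hτ'₂
      (repByAlgSpWith_comp_goodP goodP_surj hℬ.isStack.1 h𝒜₂.isStack.1 _ _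
        (repByAlgSpWith_fpFst _ v' (FibCat.fpFst (FibCat.fpSnd g y) (AlgSt.overMap h)) hv'₂)
        (s2 _ hx₂)),
    repByAlgSpWith_comp_goodP hsm hV' h𝒫.isStack.1 v' _ hv'₁ (repByAlgSpWith_fpFst _ y g hy₁),
    hPb'⟩
  exact (Iso.refl _ : _ ≅ BasedFunctor.comp τ' (BasedFunctor.comp
        (FibCat.fpFst (FibCat.fpFst (FibCat.fpSnd g y) (AlgSt.overMap h)) v')
        (BasedFunctor.comp Ω
          (BasedFunctor.comp (FibCat.fpFst (FibCat.fpSnd g f) x) (FibCat.fpFst g f))))) ≪≫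
    whiskerLeftIso τ' (whiskerLeftIso
      (FibCat.fpFst (FibCat.fpFst (FibCat.fpSnd g y) (AlgSt.overMap h)) v') ω) ≪≫
    (Iso.refl _ : BasedFunctor.comp τ' (BasedFunctor.comp
        (FibCat.fpFst (FibCat.fpFst (FibCat.fpSnd g y) (AlgSt.overMap h)) v')
        (BasedFunctor.comp (FibCat.fpFst (FibCat.fpSnd g y) (AlgSt.overMap h))
          (FibCat.fpFst g y))) ≅
      BasedFunctor.comp τ' (BasedFunctor.comp (BasedFunctor.comp
        (FibCat.fpFst (FibCat.fpFst (FibCat.fpSnd g y) (AlgSt.overMap h)) v')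
        (FibCat.fpFst (FibCat.fpSnd g y) (AlgSt.overMap h))) (FibCat.fpFst g y))) ≪≫
    whiskerLeftIso τ' (whiskerRightIso
      (FibCat.fpIso (FibCat.fpFst (FibCat.fpSnd g y) (AlgSt.overMap h)) v') (FibCat.fpFst g y)) ≪≫
    (Iso.refl _ : BasedFunctor.comp τ' (BasedFunctor.comp (BasedFunctor.comp
        (FibCat.fpSnd (FibCat.fpFst (FibCat.fpSnd g y) (AlgSt.overMap h)) v') v')
        (FibCat.fpFst g y)) ≅
      BasedFunctor.comp (BasedFunctor.comp τ'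
        (FibCat.fpSnd (FibCat.fpFst (FibCat.fpSnd g y) (AlgSt.overMap h)) v'))
        (BasedFunctor.comp v' (FibCat.fpFst g y))) ≪≫
    whiskerRightIso ιb (BasedFunctor.comp v' (FibCat.fpFst g y))

theorem locQ_fpFst_of_smoothLocal (P : MorphismProperty (AlgSp.Sp S))
    (hP : AlgSp.IsSmoothLocalST P) (hPb : BaseChangeP P)
    (h𝒳 : AlgSt.IsAlgStack Scheme.fppfPrecoverage 𝒳)
    (h𝒴 : AlgSt.IsAlgStack Scheme.fppfPrecoverage 𝒴)
    (h𝒴' : AlgSt.IsAlgStack Scheme.fppfPrecoverage 𝒴') (f : 𝒳 ⥤ᵇ 𝒴) (g : 𝒴' ⥤ᵇ 𝒴)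
    (hf : AlgSt.LocQ P f) : AlgSt.LocQ P (FibCat.fpFst g f) :=
  locQ_fpFst_of_precomp P (fun _ _ _ hX hY hZ a b ha hb => hP.precomp hX hY hZ a b ha hb) hPb
    h𝒳 h𝒴 h𝒴' f g hf

theorem locQ_lfp_diag (h𝒳 : AlgSt.IsAlgStack Scheme.fppfPrecoverage 𝒳)
    (h𝒴 : AlgSt.IsAlgStack Scheme.fppfPrecoverage 𝒴) (f : 𝒳 ⥤ᵇ 𝒴)
    (hf : AlgSt.LocQ (AlgSp.LocP @LocallyOfFiniteType) f) :
    AlgSt.LocQ (AlgSp.LocP @LocallyOfFinitePresentation) (FibCat.diag f) := by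
  have hlft := goodP_locP (S := S) etLoc_locallyOfFiniteType
  have h𝒬 : AlgSt.IsAlgStack Scheme.fppfPrecoverage (FibCat.fp f f) :=
    isAlgStack_fp _ h𝒴.isStack h𝒴.diag h𝒳 h𝒳 f f
  have hg : AlgSt.LocQ (AlgSp.LocP @LocallyOfFiniteType) (FibCat.fpFst f f) :=
    locQ_fpFst_of_precomp (AlgSp.LocP @LocallyOfFiniteType)
      (fun _ _ _ hX hY hZ a b ha hb => locP_comp etLoc_locallyOfFiniteType hX hY hZ a b
        (locP_mono smooth_le_lft _ ha) hb) hlft.baseChange h𝒳 h𝒴 h𝒳 f f hf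
  refine locQ_lfp_of_comp h𝒬 h𝒳 (FibCat.diag f) (FibCat.fpFst f f) ?_ hg
  obtain ⟨U, x, hx₁, hx₂⟩ := h𝒳.atlas
  obtain ⟨a, ⟨ι⟩⟩ := exists_overMap_iso (BasedFunctor.id (FibCat.overCat U))
  have ha : a = 𝟙 U := hom_eq_of_iso ι.symm a (𝟙 U) (overMap_obj_id a) rfl
  refine ⟨U, U, x, x, a,
    (Iso.refl _ : BasedFunctor.comp x (BasedFunctor.comp (FibCat.diag f) (FibCat.fpFst f f)) ≅
      BasedFunctor.comp (BasedFunctor.id _) x) ≪≫ whiskerRightIso ι x, hx₁, hx₂, hx₁, ?_⟩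
  rw [ha, CategoryTheory.Functor.map_id]
  exact locP_id (fun g (hg : Etale g) => (inferInstance : LocallyOfFinitePresentation g)) _

end Groth.Agent.H28.RepComp
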