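import Mathlib
import Groth.Agent.H28.LocQBase

/-!
# `LocQ` read on algebraic-space charts
-/

set_option autoImplicit false
set_option linter.style.haveILetI false
set_option backward.isDefEq.respectTransparency false
set_option backward.isDefEq.respectTransparency.types false

namespace Groth.Agent.H28.RepComp

open CategoryTheory CategoryTheory.Limits FibCat AlgebraicGeometry Opposite Stk MorphismProperty
open Groth.Agent.Helper22 Groth.Agent.Helper22.EquivComp Groth.Agent.Helper22.FpSq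
open Groth.Agent.Helper22.FpEquiv Groth.Agent.H28.LiftFp
open Groth.Agent.H28.FpBase Groth.Agent.H28.PshDict Groth.Agent.H28.IsoCl
open Groth.Agent.H25.AS

universe w u

variable {S : Scheme.{u}} {𝒳 𝒴 𝒵 : AlgSt.Cat S}

/-- the functor of the morphism of spaces attached to `Φ` -/
noncomputable def spMapOfOverIso {F : AlgSp.Sp S} {U : Over S}
    (Φ : AlgSt.ofSp F ⥤ᵇ FibCat.overCat U) :
    AlgSt.ofSpMap (AlgSt.spMapOfOver Φ) ≅ BasedFunctor.comp Φ (AlgSt.ofOverCat U) := by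
  have κ := ofPshMapIso (BasedFunctor.comp Φ (AlgSt.ofOverCat U))
  rw [← spMapOfOver_hom_eq Φ] at κ
  exact κ

theorem locQ_of_repByAlgSpWith_general (P : MorphismProperty (AlgSp.Sp S))
    (hP : AlgSp.IsSmoothLocalST P)
    (h𝒴 : AlgSt.IsAlgStack Scheme.fppfPrecoverage 𝒴) (f : 𝒳 ⥤ᵇ 𝒴)
    (hf : AlgSt.RepByAlgSpWith P f) : AlgSt.LocQ P f := by
  obtain ⟨V, y, hy₁, hy₂⟩ := h𝒴.atlas
  obtain ⟨F, e, he, hPF⟩ := hf V y
  have hx : ∀ (P' : MorphismProperty (AlgSp.Sp S)), AlgSt.RepByAlgSpWith P' y →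
      AlgSt.RepByAlgSpWith P' (BasedFunctor.comp e (FibCat.fpSnd y f)) :=
    fun P' hy' => repByAlgSpWith_of_sq' P' (FibCat.fpSnd y f)
      (BasedFunctor.comp e (FibCat.fpSnd y f)) e (BasedFunctor.id _) he isEquivOver_id
      (Iso.refl _) (repByAlgSpWith_fpSnd P' f y hy')
  refine locQ_of_spaceCharts P hP f ⟨F, yonSpace V, BasedFunctor.comp e (FibCat.fpSnd y f),
    BasedFunctor.comp (AlgSt.toOverCat V) y,
    ObjectProperty.homMk (AlgSt.spMapOfOver (BasedFunctor.comp e (FibCat.fpFst y f))), ?_,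
    hx _ hy₁, hx _ hy₂, repByAlgSpWith_toOverCat_comp _ y hy₁, hPF⟩
  exact (Iso.refl _ : BasedFunctor.comp (BasedFunctor.comp e (FibCat.fpSnd y f)) f ≅
      BasedFunctor.comp e (BasedFunctor.comp (FibCat.fpSnd y f) f)) ≪≫
    whiskerLeftIso e (FibCat.fpIso y f).symm ≪≫
    (Iso.refl _ : BasedFunctor.comp e (BasedFunctor.comp (FibCat.fpFst y f) y) ≅
      BasedFunctor.comp (BasedFunctor.comp (BasedFunctor.comp
        (BasedFunctor.comp e (FibCat.fpFst y f)) (AlgSt.ofOverCat V)) (AlgSt.toOverCat V)) y) ≪≫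
    whiskerRightIso (whiskerRightIso
      (spMapOfOverIso (BasedFunctor.comp e (FibCat.fpFst y f))).symm (AlgSt.toOverCat V)) y

theorem repByAlgSpWith_of_locQ (P : MorphismProperty (AlgSp.Sp S))
    (hP : AlgSp.IsSmoothLocalST P) (hPb : BaseChangeP P)
    (h𝒳 : AlgSt.IsAlgStack Scheme.fppfPrecoverage 𝒳)
    (h𝒴 : AlgSt.IsAlgStack Scheme.fppfPrecoverage 𝒴) (f : 𝒳 ⥤ᵇ 𝒴)
    (hf : AlgSt.RepByAlgSp1 f) (hL : AlgSt.LocQ P f) : AlgSt.RepByAlgSpWith P f := by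
  intro T t
  obtain ⟨F, e, he⟩ := hf T t
  refine ⟨F, e, he, ?_⟩
  obtain ⟨U₀, V₀, x₀, y₀, h₀, α₀, hx₀₁, hx₀₂, hy₀₁, hh₀⟩ :=
    locQ_fpFst_of_smoothLocal P hP hPb h𝒳 h𝒴 (isAlgStack_overCat T) f t hL
  obtain ⟨ē, ⟨σ₁⟩, ⟨σ₂⟩⟩ := id he
  have hē : FibCat.IsEquivOver ē := ⟨e, ⟨σ₂⟩, ⟨σ₁⟩⟩
  have hx : ∀ (P' : MorphismProperty (AlgSp.Sp S)), AlgSt.RepByAlgSpWith P' x₀ →
      AlgSt.RepByAlgSpWith P' (BasedFunctor.comp x₀ ē) :=
    fun P' hx' => repByAlgSpWith_of_sq P' (BasedFunctor.comp x₀ ē) x₀ (BasedFunctor.id _) ē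
      isEquivOver_id hē (Iso.refl _) hx'
  have hy : AlgSt.RepByAlgSpWith (AlgSp.LocP @Smooth)
      (BasedFunctor.comp y₀ (AlgSt.ofOverCat T)) :=
    repByAlgSpWith_of_sq _ (BasedFunctor.comp y₀ (AlgSt.ofOverCat T)) y₀ (BasedFunctor.id _)
      (AlgSt.ofOverCat T) isEquivOver_id (isEquivOver_ofOverCat T) (Iso.refl _) hy₀₁
  have hLΨ : AlgSt.LocQ P
      (AlgSt.ofSpMap (AlgSt.spMapOfOver (BasedFunctor.comp e (FibCat.fpFst t f)))) := by
    refine ⟨U₀, V₀, BasedFunctor.comp x₀ ē, BasedFunctor.comp y₀ (AlgSt.ofOverCat T), h₀, ?_,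
      hx _ hx₀₁, hx _ hx₀₂, hy, hh₀⟩
    exact whiskerLeftIso (BasedFunctor.comp x₀ ē)
        (spMapOfOverIso (BasedFunctor.comp e (FibCat.fpFst t f))) ≪≫
      (Iso.refl _ : BasedFunctor.comp (BasedFunctor.comp x₀ ē)
          (BasedFunctor.comp (BasedFunctor.comp e (FibCat.fpFst t f)) (AlgSt.ofOverCat T)) ≅
        BasedFunctor.comp x₀ (BasedFunctor.comp (BasedFunctor.comp ē e)
          (BasedFunctor.comp (FibCat.fpFst t f) (AlgSt.ofOverCat T)))) ≪≫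
      whiskerLeftIso x₀ (whiskerRightIso σ₂
        (BasedFunctor.comp (FibCat.fpFst t f) (AlgSt.ofOverCat T))) ≪≫
      (Iso.refl _ : BasedFunctor.comp x₀ (BasedFunctor.comp (BasedFunctor.id _)
          (BasedFunctor.comp (FibCat.fpFst t f) (AlgSt.ofOverCat T))) ≅
        BasedFunctor.comp (BasedFunctor.comp x₀ (FibCat.fpFst t f)) (AlgSt.ofOverCat T)) ≪≫
      whiskerRightIso α₀ (AlgSt.ofOverCat T) ≪≫
      (Iso.refl _ : BasedFunctor.comp (BasedFunctor.comp (AlgSt.overMap h₀) y₀)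
          (AlgSt.ofOverCat T) ≅
        BasedFunctor.comp (AlgSt.overMap h₀) (BasedFunctor.comp y₀ (AlgSt.ofOverCat T)))
  exact prop_of_locQ_ofSpMap P hP F (yonSpace T)
    (ObjectProperty.homMk (AlgSt.spMapOfOver (BasedFunctor.comp e (FibCat.fpFst t f)))) hLΨ

end Groth.Agent.H28.RepComp
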