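import Mathlib

/-!
# Base change of a square-zero thickening `Spec (A/I) → Spec A` is a square-zero thickening
-/

set_option autoImplicit false
universe u
open CategoryTheory Limits

namespace Groth.Agent.H28.MagnetNil

section Algebra

lemma ker_sq_eq_bot_of_isPushout {A : Type u} [CommRing A] (I : Ideal A) (hI : I ^ 2 = ⊥)
    {R AR : CommRingCat.{u}} {r : CommRingCat.of A ⟶ R} {a' : CommRingCat.of (A ⧸ I) ⟶ AR}
    {rA : R ⟶ AR} (H : IsPushout (CommRingCat.ofHom (Ideal.Quotient.mk I)) r a' rA) :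
    (RingHom.ker rA.hom) ^ 2 = ⊥ := by
  set J : Ideal R := I.map r.hom with hJ
  have h0 : ∀ x ∈ I, ((Ideal.Quotient.mk J).comp r.hom) x = 0 := by
    intro x hx
    rw [RingHom.comp_apply, Ideal.Quotient.eq_zero_iff_mem]
    exact Ideal.mem_map_of_mem _ hx
  let d : AR ⟶ CommRingCat.of (R ⧸ J) :=
    H.desc (CommRingCat.ofHom (Ideal.Quotient.lift I ((Ideal.Quotient.mk J).comp r.hom) h0))
      (CommRingCat.ofHom (Ideal.Quotient.mk J)) (by
        ext x
        simp)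
  have hd : rA ≫ d = CommRingCat.ofHom (Ideal.Quotient.mk J) := H.inr_desc _ _ _
  have hle : RingHom.ker rA.hom ≤ J := by
    intro x hx
    rw [RingHom.mem_ker] at hx
    have h1 := congrArg (fun k => k.hom x) hd
    simp only [CommRingCat.hom_comp, RingHom.comp_apply, CommRingCat.hom_ofHom] at h1
    rw [hx, map_zero] at h1
    exact Ideal.Quotient.eq_zero_iff_mem.mp h1.symm
  have h2 : J ^ 2 = ⊥ := by
    rw [hJ, ← Ideal.map_pow, hI, Ideal.map_bot]
  exact le_bot_iff.mp (h2 ▸ Ideal.pow_right_mono hle 2)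

lemma ker_sq_eq_bot_of_isPushout' {Z A R AR : CommRingCat.{u}} {a : Z ⟶ A}
    (ha : Function.Surjective a) (hI : RingHom.ker a.hom ^ 2 = ⊥)
    {r : Z ⟶ R} {a' : A ⟶ AR} {rA : R ⟶ AR} (H : IsPushout a r a' rA) :
    (RingHom.ker rA.hom) ^ 2 = ⊥ := by
  set J : Ideal R := (RingHom.ker a.hom).map r.hom with hJ
  have h0 : RingHom.ker a.hom ≤ RingHom.ker ((Ideal.Quotient.mk J).comp r.hom) := by
    intro x hx
    rw [RingHom.mem_ker, RingHom.comp_apply, Ideal.Quotient.eq_zero_iff_mem]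
    exact Ideal.mem_map_of_mem _ hx
  let d : AR ⟶ CommRingCat.of (R ⧸ J) :=
    H.desc (CommRingCat.ofHom (a.hom.liftOfSurjective ha ⟨(Ideal.Quotient.mk J).comp r.hom, h0⟩))
      (CommRingCat.ofHom (Ideal.Quotient.mk J)) (by
        ext x
        exact RingHom.liftOfSurjective_comp_apply a.hom ha
          ⟨(Ideal.Quotient.mk J).comp r.hom, h0⟩ x)
  have hd : rA ≫ d = CommRingCat.ofHom (Ideal.Quotient.mk J) := H.inr_desc _ _ _
  have hle : RingHom.ker rA.hom ≤ J := by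
    intro x hx
    rw [RingHom.mem_ker] at hx
    have h1 := congrArg (fun k => k.hom x) hd
    simp only [CommRingCat.hom_comp, RingHom.comp_apply, CommRingCat.hom_ofHom] at h1
    rw [hx, map_zero] at h1
    exact Ideal.Quotient.eq_zero_iff_mem.mp h1.symm
  have h2 : J ^ 2 = ⊥ := by
    rw [hJ, ← Ideal.map_pow, hI, Ideal.map_bot]
  exact le_bot_iff.mp (h2 ▸ Ideal.pow_right_mono hle 2)

end Algebra

section Geometric
open AlgebraicGeometry

lemma ker_sq_eq_bot_of_isPullback {A : Type u} [CommRing A] (I : Ideal A) (hI : I ^ 2 = ⊥)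
    {Z Z' : Scheme.{u}} {i : Z' ⟶ Z} {g : Z' ⟶ Spec (CommRingCat.of (A ⧸ I))}
    {π : Z ⟶ Spec (CommRingCat.of A)}
    (H : IsPullback g i (Spec.map (CommRingCat.ofHom (Ideal.Quotient.mk I))) π) :
    i.ker ^ 2 = ⊥ := by
  have hcl : IsClosedImmersion i :=
    MorphismProperty.of_isPullback (P := @IsClosedImmersion) H
      (IsClosedImmersion.spec_of_surjective _ Ideal.Quotient.mk_surjective)
  refine Scheme.IdealSheafData.ext_of_iSup_eq_top (fun V : Z.affineOpens ↦ V)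
    Z.isBasis_affineOpens.isOpenCover ?_
  intro V
  simp only [Scheme.IdealSheafData.ideal_pow, Pi.pow_apply, Scheme.Hom.ker_apply,
    Scheme.IdealSheafData.ideal_bot, Pi.bot_apply]
  have hUY : i ⁻¹ᵁ V.1 = g ⁻¹ᵁ ⊤ ⊓ i ⁻¹ᵁ V.1 := by simp
  have hUST : V.1 ≤ π ⁻¹ᵁ ⊤ := by simp
  have P := (isIso_pushoutSection_iff H hUST (US := ⊤) (UX := ⊤) (by simp) hUY).mp
    (isIso_pushoutSection_of_isAffineOpen H hUST _ hUY (isAffineOpen_top _) V.2
      (isAffineOpen_top _))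
  have P' : IsPushout (CommRingCat.ofHom (Ideal.Quotient.mk I))
      ((Scheme.ΓSpecIso (CommRingCat.of A)).inv ≫ π.appLE ⊤ V.1 hUST)
      ((Scheme.ΓSpecIso (CommRingCat.of (A ⧸ I))).inv ≫ g.appLE ⊤ (i ⁻¹ᵁ V.1) (by simp))
      (i.appLE V.1 (i ⁻¹ᵁ V.1) le_rfl) :=
    P.of_iso (Scheme.ΓSpecIso _) (Scheme.ΓSpecIso _) (Iso.refl _) (Iso.refl _)
      (Scheme.ΓSpecIso_naturality _) (by simp) (by simp) (by simp)
  rw [Scheme.Hom.app_eq_appLE]
  exact ker_sq_eq_bot_of_isPushout I hI P'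

lemma ker_sq_eq_bot_of_isPullback' {R S' : CommRingCat.{u}} (φ : R ⟶ S')
    (hφ : Function.Surjective φ) (hI : RingHom.ker φ.hom ^ 2 = ⊥)
    {Z Z' : Scheme.{u}} {i : Z' ⟶ Z} {g : Z' ⟶ Spec S'} {π : Z ⟶ Spec R}
    (H : IsPullback g i (Spec.map φ) π) :
    IsClosedImmersion i ∧ i.ker ^ 2 = ⊥ := by
  have hcl : IsClosedImmersion i :=
    MorphismProperty.of_isPullback (P := @IsClosedImmersion) H
      (IsClosedImmersion.spec_of_surjective _ hφ)
  refine ⟨hcl, ?_⟩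
  refine Scheme.IdealSheafData.ext_of_iSup_eq_top (fun V : Z.affineOpens ↦ V)
    Z.isBasis_affineOpens.isOpenCover ?_
  intro V
  simp only [Scheme.IdealSheafData.ideal_pow, Pi.pow_apply, Scheme.Hom.ker_apply,
    Scheme.IdealSheafData.ideal_bot, Pi.bot_apply]
  have hUY : i ⁻¹ᵁ V.1 = g ⁻¹ᵁ ⊤ ⊓ i ⁻¹ᵁ V.1 := by simp
  have hUST : V.1 ≤ π ⁻¹ᵁ ⊤ := by simp
  have P := (isIso_pushoutSection_iff H hUST (US := ⊤) (UX := ⊤) (by simp) hUY).mp
    (isIso_pushoutSection_of_isAffineOpen H hUST _ hUY (isAffineOpen_top _) V.2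
      (isAffineOpen_top _))
  have P' : IsPushout φ
      ((Scheme.ΓSpecIso R).inv ≫ π.appLE ⊤ V.1 hUST)
      ((Scheme.ΓSpecIso S').inv ≫ g.appLE ⊤ (i ⁻¹ᵁ V.1) (by simp))
      (i.appLE V.1 (i ⁻¹ᵁ V.1) le_rfl) :=
    P.of_iso (Scheme.ΓSpecIso _) (Scheme.ΓSpecIso _) (Iso.refl _) (Iso.refl _)
      (Scheme.ΓSpecIso_naturality _) (by simp) (by simp) (by simp)
  rw [Scheme.Hom.app_eq_appLE]
  exact ker_sq_eq_bot_of_isPushout' hφ hI P'

end Geometric

end Groth.Agent.H28.MagnetNil
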