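import Mathlib
import Groth.Prelude.Def_Magnet3
import Groth.Agent.H28.MagnetNil
import Groth.Agent.H28.CartPB

/-!
# Uniqueness of lifts of attractor points along square-zero thickenings
-/

set_option autoImplicit false
universe u
open CategoryTheory MonoidalCategory CartesianMonoidalCategory AlgebraicGeometry Opposite Limits

namespace Groth.Agent.H28.MagnetFU

lemma attr_lift_unique (S : Scheme.{u}) (M : Type) [AddCommMonoid M] (N : AddSubmonoid M)
    {X Y : Over S} (aX : Magnet.MonAct (Magnet.AMonS S M) X)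
    (aY : Magnet.MonAct (Magnet.AMonS S M) Y) (f : X ⟶ Y)
    (hf : Magnet.MonAct.IsEquivariant aX aY f) [FormallyUnramified f.left]
    {R S' : CommRingCat.{u}} (φ : R ⟶ S') (hφ : Function.Surjective φ)
    (hker : RingHom.ker φ.hom ^ 2 = ⊥) (str : Spec R ⟶ S)
    (l₁ l₂ : (Magnet.attr aX N).obj (op (Over.mk str)))
    (htop : (Magnet.attr aX N).map (Over.homMk (Spec.map φ) rfl :
        Over.mk (Spec.map φ ≫ str) ⟶ Over.mk str).op l₁ =
      (Magnet.attr aX N).map (Over.homMk (Spec.map φ) rfl :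
        Over.mk (Spec.map φ ≫ str) ⟶ Over.mk str).op l₂)
    (hbot : (Magnet.MonAct.eqvHom.postcomp (Magnet.subAct S M N) f hf).app _ l₁ =
      (Magnet.MonAct.eqvHom.postcomp (Magnet.subAct S M N) f hf).app _ l₂) :
    l₁ = l₂ := by
  apply Subtype.ext
  let T' : Over S := Over.mk str
  let T : Over S := Over.mk (Spec.map φ ≫ str)
  let t : T ⟶ T' := Over.homMk (Spec.map φ) rfl
  have htop' : (Magnet.AMonS S N ◁ t) ≫ l₁.1 = (Magnet.AMonS S N ◁ t) ≫ l₂.1 :=
    congrArg Subtype.val htop
  have hbot' : l₁.1 ≫ f = l₂.1 ≫ f := congrArg Subtype.val hbot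
  have sq : IsPullback (snd (Magnet.AMonS S N) T).left (Magnet.AMonS S N ◁ t).left
      (Spec.map φ) (snd (Magnet.AMonS S N) T').left :=
    ((Groth.Agent.H28.CartPB.isPullback_whiskerLeft (Magnet.AMonS S N) t).map (Over.forget _)).flip
  obtain ⟨hcl, hsq⟩ := Groth.Agent.H28.MagnetNil.ker_sq_eq_bot_of_isPullback' φ hφ hker sq
  have hnil : IsNilpotent (Magnet.AMonS S N ◁ t).left.ker := ⟨2, hsq⟩
  ext
  exact FormallyUnramified.hom_ext (Magnet.AMonS S N ◁ t).left hnil f.left
    (by rw [← Over.comp_left, htop', Over.comp_left])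
    (by rw [← Over.comp_left, hbot', Over.comp_left])

end Groth.Agent.H28.MagnetFU
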