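import Mathlib
import Groth.Prelude.Def_Magnet3

/-!
# Equivariant closed immersions: `Z^B = Z ×_X X^B`
-/

set_option autoImplicit false
universe u
open CategoryTheory MonoidalCategory CartesianMonoidalCategory MonObj AlgebraicGeometry Opposite Limits
open Magnet

namespace Groth.Agent.H28.MagnetPB

variable {S : Scheme.{u}} {A B X Z : Over S} [MonObj A]

/-- Let `ρ` be an action of `A` on `B`, `e` a point of `B` with orbit map `io : A ⟶ B` such that
`io ▷ T` is scheme-theoretically dominant for every `T`.  For an equivariant closed immersion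
`j : Z ⟶ X` the square `eqvHom ρ aZ → eqvHom ρ aX`, `Z → X` (evaluation at `e`) is cartesian. -/
theorem isPullback_postcomp_evalAt (ρ : MonAct A B) (e : 𝟙_ (Over S) ⟶ B) (io : A ⟶ B)
    (hio : ∀ (T : Over S) (g : T ⟶ A), lift g (toUnit T ≫ e) ≫ ρ.act = g ≫ io)
    (hSD : ∀ T : Over S, IsSchemeTheoreticallyDominant (io ▷ T).left)
    (aX : MonAct A X) (aZ : MonAct A Z) (j : Z ⟶ X) [IsClosedImmersion j.left]
    (hj : MonAct.IsEquivariant aZ aX j) :
    IsPullback (MonAct.eqvHom.postcomp ρ j hj) (MonAct.eqvHom.evalAt ρ aZ e)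
      (MonAct.eqvHom.evalAt ρ aX e) (yoneda.map j) := by
  have hmonol : Mono j.left := inferInstance
  have hmono : Mono j := Over.mono_of_mono_left j
  apply IsPullback.of_forall_isPullback_app
  intro T
  rw [Types.isPullback_iff]
  refine ⟨?_, ?_, ?_⟩
  · ext φ
    show lift (toUnit (unop T) ≫ e) (𝟙 (unop T)) ≫ (φ.1 ≫ j) =
      (lift (toUnit (unop T) ≫ e) (𝟙 (unop T)) ≫ φ.1) ≫ j
    rw [Category.assoc]
  · rintro φ₁ φ₂ ⟨h1, -⟩
    apply Subtype.ext
    have h2 : φ₁.1 ≫ j = φ₂.1 ≫ j := congrArg Subtype.val h1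
    exact (cancel_mono j).mp h2
  · intro χ z hχz
    have hχz' : lift (toUnit (unop T) ≫ e) (𝟙 (unop T)) ≫ χ.1 = z ≫ j := hχz
    have hχ := (MonAct.mem_eqvHom_iff χ.1).mp χ.2
    have hkey : (io ▷ unop T) ≫ χ.1 = ((A ◁ z) ≫ aZ.act) ≫ j := by
      apply Magnet.hom_ext_lift₂
      intro T' g t
      rw [lift_whiskerRight_assoc, ← hio, hχ, Category.assoc, lift_whiskerLeft_assoc,
        (MonAct.isEquivariant_iff aZ aX j).mp hj, Category.assoc, ← hχz']
      congr 2
      rw [← Category.assoc, comp_lift, Category.comp_id, ← Category.assoc,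
        toUnit_unique (t ≫ toUnit (unop T)) (toUnit T')]
    have hker : j.left.ker ≤ χ.1.left.ker := by
      have h1 : ((io ▷ unop T).left ≫ χ.1.left).ker = χ.1.left.ker := by
        rw [Scheme.Hom.ker_comp, (hSD (unop T)).ker_eq_bot, Scheme.IdealSheafData.map_bot]
      rw [← h1, ← Over.comp_left, hkey, Over.comp_left]
      exact Scheme.Hom.le_ker_comp _ _
    let cl : (B ⊗ unop T).left ⟶ Z.left := IsClosedImmersion.lift j.left χ.1.left hker
    have hcl : cl ≫ j.left = χ.1.left := IsClosedImmersion.lift_fac _ _ _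
    let φ : B ⊗ unop T ⟶ Z := Over.homMk cl (by
      rw [← Over.w j, ← Category.assoc, hcl, Over.w χ.1])
    have hφ : φ ≫ j = χ.1 := by
      ext
      exact hcl
    have hφeq : MonAct.IsEquivariant (ρ.prod (MonAct.trivial A (unop T))) aZ φ := by
      have h3 := χ.2
      unfold MonAct.IsEquivariant at h3 hj ⊢
      rw [← cancel_mono j, Category.assoc, hφ, h3, Category.assoc, hj, ← hφ,
        MonoidalCategory.whiskerLeft_comp, Category.assoc]
    refine ⟨⟨φ, hφeq⟩, Subtype.ext hφ, ?_⟩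
    show lift (toUnit (unop T) ≫ e) (𝟙 (unop T)) ≫ φ = z
    rw [← cancel_mono j, Category.assoc, hφ, hχz']

end Groth.Agent.H28.MagnetPB
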