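import Mathlib
import Groth.Prelude.Def_Magnet3

/-!
# Schematic dominance of `A(M) → A(N)` after arbitrary base change
-/

set_option autoImplicit false
universe u
open CategoryTheory Limits TensorProduct

namespace Groth.Agent.H28.MagnetSD

section Algebra

/-- In `CommRingCat`: if `AR = A ⊗_Z R`, `BR = B ⊗_Z R` and `φ : A → B` has a `Z`-linear retraction,
then `φ ⊗ R : AR → BR` is injective. -/
lemma injective_of_isPushout_of_retraction {Z A B R AR BR : CommRingCat.{u}}
    {a : Z ⟶ A} {b : Z ⟶ B} {r : Z ⟶ R} {a' : A ⟶ AR} {rA : R ⟶ AR} {b' : B ⟶ BR} {rB : R ⟶ BR}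
    (HA : IsPushout a r a' rA) (HB : IsPushout b r b' rB)
    (φ : A ⟶ B) (hφ : a ≫ φ = b) (φR : AR ⟶ BR) (h1 : a' ≫ φR = φ ≫ b') (h2 : rA ≫ φR = rB)
    (ρ : B →+ A) (hρ1 : ∀ z x, ρ (b z * x) = a z * ρ x) (hρ2 : ∀ x, ρ (φ x) = x) :
    Function.Injective φR := by
  algebraize [a.hom, b.hom, r.hom]
  let eA := (CommRingCat.isPushout_tensorProduct Z A R).isoIsPushout A R HA
  let eB := (CommRingCat.isPushout_tensorProduct Z B R).isoIsPushout B R HB
  let φ' : A →ₐ[Z] B :=
    { φ.hom with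
      commutes' := fun z => by
        have := congrArg (fun k => k.hom z) hφ
        simpa [RingHom.algebraMap_toAlgebra] using this }
  let ρ' : B →ₗ[Z] A :=
    { toFun := ρ
      map_add' := ρ.map_add
      map_smul' := fun z x => by
        simp only [Algebra.smul_def, RingHom.algebraMap_toAlgebra, RingHom.id_apply]
        exact hρ1 z x }
  let m : A ⊗[Z] R →ₐ[Z] B ⊗[Z] R := Algebra.TensorProduct.map φ' (AlgHom.id Z R)
  have eA_inl : CommRingCat.ofHom (S := A ⊗[Z] R) Algebra.TensorProduct.includeLeftRingHom ≫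
      eA.hom = a' := IsPushout.inl_isoIsPushout_hom _ _ _ _
  have eA_inr : CommRingCat.ofHom (S := A ⊗[Z] R) Algebra.TensorProduct.includeRight.toRingHom ≫
      eA.hom = rA := IsPushout.inr_isoIsPushout_hom _ _ _ _
  have eB_inl : CommRingCat.ofHom (S := B ⊗[Z] R) Algebra.TensorProduct.includeLeftRingHom ≫
      eB.hom = b' := IsPushout.inl_isoIsPushout_hom _ _ _ _
  have eB_inr : CommRingCat.ofHom (S := B ⊗[Z] R) Algebra.TensorProduct.includeRight.toRingHom ≫
      eB.hom = rB := IsPushout.inr_isoIsPushout_hom _ _ _ _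
  have hcomp : eA.hom ≫ φR = CommRingCat.ofHom m.toRingHom ≫ eB.hom := by
    apply (CommRingCat.isPushout_tensorProduct Z A R).hom_ext
    · rw [reassoc_of% eA_inl, h1]
      have : CommRingCat.ofHom (S := A ⊗[Z] R) Algebra.TensorProduct.includeLeftRingHom ≫
          CommRingCat.ofHom m.toRingHom =
          φ ≫ CommRingCat.ofHom (S := B ⊗[Z] R) Algebra.TensorProduct.includeLeftRingHom := by
        ext x
        simp [m, φ']
      rw [reassoc_of% this, eB_inl]
    · rw [reassoc_of% eA_inr, h2]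
      have : CommRingCat.ofHom (S := A ⊗[Z] R) Algebra.TensorProduct.includeRight.toRingHom ≫
          CommRingCat.ofHom m.toRingHom =
          CommRingCat.ofHom (S := B ⊗[Z] R) Algebra.TensorProduct.includeRight.toRingHom := by
        ext x
        simp [m]
      rw [reassoc_of% this, eB_inr]
  have hm : Function.Injective m := by
    have hleft : Function.LeftInverse (TensorProduct.map ρ' (LinearMap.id : R →ₗ[Z] R)) m := by
      intro x
      induction x using TensorProduct.induction_on with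
      | zero => simp
      | tmul x y =>
        simp only [m, Algebra.TensorProduct.map_tmul, TensorProduct.map_tmul, AlgHom.id_apply,
          LinearMap.id_apply]
        congr 1
        exact hρ2 x
      | add x y hx hy => simp only [map_add, hx, hy]
    exact hleft.injective
  have hφR : φR = eA.inv ≫ CommRingCat.ofHom m.toRingHom ≫ eB.hom := by
    rw [← hcomp, Iso.inv_hom_id_assoc]
  rw [hφR]
  intro x y hxy
  simp only [CommRingCat.hom_comp, RingHom.coe_comp, Function.comp_apply] at hxy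
  have h3 := (ConcreteCategory.bijective_of_isIso eB.hom).1 hxy
  have h4 := hm h3
  exact (ConcreteCategory.bijective_of_isIso eA.inv).1 h4

end Algebra

section Retraction

variable {N M : Type} [AddCommMonoid N] [AddCommMonoid M]

/-- The additive retraction of `R[N] → R[M]` for an injective `f : N → M`. -/
lemma exists_retraction (f : N →+ M) (hf : Function.Injective f) (R : Type*) [CommRing R] :
    ∃ ρ : MonoidAlgebra R (Multiplicative M) →+ MonoidAlgebra R (Multiplicative N),
      (∀ x, ρ (MonoidAlgebra.mapDomainBialgHom R (AddMonoidHom.toMultiplicative f) x) = x) ∧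
      ∀ (c : R) x, ρ (algebraMap R _ c * x) = algebraMap R _ c * ρ x := by
  have hf' : Function.Injective (AddMonoidHom.toMultiplicative f) := fun x y h => hf h
  refine ⟨MonoidAlgebra.comapDomainAddMonoidHom _ hf', ?_, ?_⟩
  · intro x
    induction x using MonoidAlgebra.induction_linear with
    | zero => simp
    | add x y hx hy => simp only [map_add, hx, hy]
    | single m r =>
      rw [MonoidAlgebra.mapDomainBialgHom_single]
      exact MonoidAlgebra.comapDomain_single_map _ hf' m r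
  · intro c x
    rw [← Algebra.smul_def, ← Algebra.smul_def]
    ext m
    simp
end Retraction

section Geometric
open AlgebraicGeometry

lemma isSchemeTheoreticallyDominant_of_retraction
    {Z₀ A₀ B₀ : CommRingCat.{u}} {α : Z₀ ⟶ A₀} {β : Z₀ ⟶ B₀} (φ₀ : A₀ ⟶ B₀) (hφ₀ : α ≫ φ₀ = β)
    (ρ : B₀ →+ A₀) (hρ1 : ∀ z x, ρ (β z * x) = α z * ρ x) (hρ2 : ∀ x, ρ (φ₀ x) = x)
    {W QN QM : Scheme.{u}} {w : W ⟶ Spec Z₀}
    {qN : QN ⟶ Spec A₀} {πN : QN ⟶ W} {qM : QM ⟶ Spec B₀} {πM : QM ⟶ W}
    (HN : IsPullback qN πN (Spec.map α) w) (HM : IsPullback qM πM (Spec.map β) w)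
    (p : QM ⟶ QN) (hp1 : p ≫ qN = qM ≫ Spec.map φ₀) (hp2 : p ≫ πN = πM) :
    IsSchemeTheoreticallyDominant p := by
  subst hp2
  have hπN : IsAffineHom πN :=
    MorphismProperty.of_isPullback (P := @IsAffineHom) HN inferInstance
  have hπM : IsAffineHom (p ≫ πN) :=
    MorphismProperty.of_isPullback (P := @IsAffineHom) HM inferInstance
  have : QuasiCompact p := QuasiCompact.of_comp p πN
  rw [isSchemeTheoreticallyDominant_iff]
  refine Scheme.IdealSheafData.ext_of_iSup_eq_top
    (fun V : W.affineOpens ↦ ⟨πN ⁻¹ᵁ V.1, V.2.preimage πN⟩)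
    (W.isBasis_affineOpens.isOpenCover.comap πN.base.hom) ?_
  intro V
  simp only [Scheme.Hom.ker_apply, Scheme.IdealSheafData.ideal_bot, Pi.bot_apply]
  rw [← RingHom.injective_iff_ker_eq_bot]
  have hUN : πN ⁻¹ᵁ V.1 = qN ⁻¹ᵁ ⊤ ⊓ πN ⁻¹ᵁ V.1 := by simp
  have hUM : p ⁻¹ᵁ πN ⁻¹ᵁ V.1 = qM ⁻¹ᵁ ⊤ ⊓ (p ≫ πN) ⁻¹ᵁ V.1 := by simp
  have hUST : V.1 ≤ w ⁻¹ᵁ ⊤ := by simp
  have PN := (isIso_pushoutSection_iff HN hUST (US := ⊤) (UX := ⊤) (by simp) hUN).mp
    (isIso_pushoutSection_of_isAffineOpen HN hUST _ hUN (isAffineOpen_top _) V.2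
      (isAffineOpen_top _))
  have PM := (isIso_pushoutSection_iff HM hUST (US := ⊤) (UX := ⊤) (by simp) hUM).mp
    (isIso_pushoutSection_of_isAffineOpen HM hUST _ hUM (isAffineOpen_top _) V.2
      (isAffineOpen_top _))
  have PN' : IsPushout α ((Scheme.ΓSpecIso Z₀).inv ≫ w.appLE ⊤ V.1 hUST)
      ((Scheme.ΓSpecIso A₀).inv ≫ qN.appLE ⊤ (πN ⁻¹ᵁ V.1) (by simp))
      (πN.appLE V.1 (πN ⁻¹ᵁ V.1) le_rfl) :=
    PN.of_iso (Scheme.ΓSpecIso Z₀) (Scheme.ΓSpecIso A₀) (Iso.refl _) (Iso.refl _)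
      (Scheme.ΓSpecIso_naturality α) (by simp) (by simp) (by simp)
  have PM' : IsPushout β ((Scheme.ΓSpecIso Z₀).inv ≫ w.appLE ⊤ V.1 hUST)
      ((Scheme.ΓSpecIso B₀).inv ≫ qM.appLE ⊤ (p ⁻¹ᵁ πN ⁻¹ᵁ V.1) (by simp))
      ((p ≫ πN).appLE V.1 (p ⁻¹ᵁ πN ⁻¹ᵁ V.1) le_rfl) :=
    PM.of_iso (Scheme.ΓSpecIso Z₀) (Scheme.ΓSpecIso B₀) (Iso.refl _) (Iso.refl _)
      (Scheme.ΓSpecIso_naturality β) (by simp) (by simp) (by simp)
  refine injective_of_isPushout_of_retraction PN' PM' φ₀ hφ₀ (p.app (πN ⁻¹ᵁ V.1)) ?_ ?_ ρ hρ1 hρ2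
  · rw [Category.assoc, Scheme.Hom.app_eq_appLE, Scheme.Hom.appLE_comp_appLE,
      Scheme.ΓSpecIso_inv_naturality_assoc]
    congr 1
    rw [show (Spec.map φ₀).appTop = (Spec.map φ₀).appLE ⊤ ⊤ (by simp) from
      Scheme.Hom.app_eq_appLE _, Scheme.Hom.appLE_comp_appLE]
    simp only [hp1]
  · rw [Scheme.Hom.app_eq_appLE, Scheme.Hom.appLE_comp_appLE]

end Geometric

section Application
open AlgebraicGeometry MonoidalCategory CartesianMonoidalCategory Magnet

variable {N M : Type} [AddCommMonoid N] [AddCommMonoid M]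

/-- The pullback square exhibiting `A(N)_S ⊗ W` as `Spec ℤ[N] ×_{Spec ℤ} W`. -/
lemma isPullback_AMonS_tensor (S : Scheme.{u}) (N : Type) [AddCommMonoid N] (W : Over S) :
    IsPullback ((fst (AMonS S N) W).left ≫
        pullback.fst (AMon (ULift.{u} ℤ) N).hom (Limits.IsTerminal.from specULiftZIsTerminal S))
      (snd (AMonS S N) W).left
      (Spec.map (CommRingCat.ofHom (algebraMap (ULift.{u} ℤ)
        (MonoidAlgebra (ULift.{u} ℤ) (Multiplicative N)))))
      (W.hom ≫ Limits.IsTerminal.from specULiftZIsTerminal S) := by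
  have h1 : IsPullback (fst (AMonS S N) W).left (snd (AMonS S N) W).left (AMonS S N).hom W.hom :=
    IsPullback.of_hasPullback _ _
  have h2 : IsPullback
      (pullback.fst (AMon (ULift.{u} ℤ) N).hom (Limits.IsTerminal.from specULiftZIsTerminal S))
      (AMonS S N).hom (AMon (ULift.{u} ℤ) N).hom
      (Limits.IsTerminal.from specULiftZIsTerminal S) :=
    IsPullback.of_hasPullback _ _
  exact h1.paste_horiz h2

lemma isSchemeTheoreticallyDominant_map_whiskerRight (S : Scheme.{u}) (f : N →+ M)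
    (hf : Function.Injective f) (W : Over S) :
    IsSchemeTheoreticallyDominant (AMonS.map S f ▷ W).left := by
  obtain ⟨ρ, hρ2, hρ1⟩ := exists_retraction f hf (ULift.{u} ℤ)
  refine isSchemeTheoreticallyDominant_of_retraction
    (α := CommRingCat.ofHom (algebraMap (ULift.{u} ℤ)
        (MonoidAlgebra (ULift.{u} ℤ) (Multiplicative N))))
    (β := CommRingCat.ofHom (algebraMap (ULift.{u} ℤ)
        (MonoidAlgebra (ULift.{u} ℤ) (Multiplicative M))))
    (CommRingCat.ofHom (MonoidAlgebra.mapDomainBialgHom (ULift.{u} ℤ)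
      (AddMonoidHom.toMultiplicative f)).toAlgHom.toRingHom) ?_ ρ ?_ ?_
    (isPullback_AMonS_tensor S N W) (isPullback_AMonS_tensor S M W) _ ?_ ?_
  · ext x
    simp
  · intro z x
    exact hρ1 z x
  · intro x
    exact hρ2 x
  · have h1 : (AMonS.map S f ▷ W).left ≫ (fst (AMonS S N) W).left =
        (fst (AMonS S M) W).left ≫ (AMonS.map S f).left := by
      rw [← Over.comp_left, whiskerRight_fst, Over.comp_left]
    have h2 : (AMonS.map S f).left ≫ pullback.fst (AMon (ULift.{u} ℤ) N).hom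
          (Limits.IsTerminal.from specULiftZIsTerminal S) =
        pullback.fst (AMon (ULift.{u} ℤ) M).hom _ ≫ (AMon.map (ULift.{u} ℤ) f).left := by
      exact pullback.lift_fst _ _ _
    have h3 : (AMonS.map S f ▷ W).left ≫ ((fst (AMonS S N) W).left ≫
          pullback.fst (AMon (ULift.{u} ℤ) N).hom
            (Limits.IsTerminal.from specULiftZIsTerminal S)) =
        ((fst (AMonS S M) W).left ≫ pullback.fst (AMon (ULift.{u} ℤ) M).hom _) ≫
          (AMon.map (ULift.{u} ℤ) f).left := by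
      rw [← Category.assoc, h1, Category.assoc, h2, Category.assoc]
    exact h3
  · rw [← Over.comp_left, whiskerRight_snd]

/-- Uniqueness: two maps out of `A(N)_S ⊗ W` to a separated `X` that agree after restriction
along `A(M)_S ⊗ W ⟶ A(N)_S ⊗ W` (for injective `N → M`) are equal. -/
lemma hom_ext_of_injective (S : Scheme.{u}) (f : N →+ M) (hf : Function.Injective f)
    (W : Over S) {X : Over S} [IsSeparated X.hom] (u v : AMonS S N ⊗ W ⟶ X)
    (h : (AMonS.map S f ▷ W) ≫ u = (AMonS.map S f ▷ W) ≫ v) : u = v := by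
  have hSD := isSchemeTheoreticallyDominant_map_whiskerRight S f hf W
  have hcl : IsClosedImmersion (equalizer.ι u v).left := inferInstance
  have hl : equalizer.lift (AMonS.map S f ▷ W) h ≫ equalizer.ι u v = AMonS.map S f ▷ W :=
    equalizer.lift_ι _ _
  have hker : (equalizer.ι u v).left.ker = ⊥ := by
    have h1 : (equalizer.ι u v).left.ker ≤
        ((equalizer.lift (AMonS.map S f ▷ W) h).left ≫ (equalizer.ι u v).left).ker :=
      Scheme.Hom.le_ker_comp _ _
    rw [← Over.comp_left, hl, (AMonS.map S f ▷ W).left.ker_eq_bot] at h1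
    exact le_bot_iff.mp h1
  have hiso : IsIso (equalizer.ι u v).left := IsClosedImmersion.isIso_iff_ker_eq_bot.mpr hker
  ext
  rw [← cancel_epi (equalizer.ι u v).left, ← Over.comp_left, ← Over.comp_left,
    equalizer.condition]

lemma AMon_map_id (R : Type u) [CommRing R] (N : Type) [AddCommMonoid N] :
    AMon.map R (AddMonoidHom.id N) = 𝟙 _ := by
  ext : 1
  rw [AMon.map_left, Over.id_left]
  have : AddMonoidHom.toMultiplicative (AddMonoidHom.id N) = MonoidHom.id _ := rfl
  rw [this, MonoidAlgebra.mapDomainBialgHom_id]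
  exact Spec.map_id _

lemma AMonS_map_id (S : Scheme.{u}) (N : Type) [AddCommMonoid N] :
    AMonS.map S (AddMonoidHom.id N) = 𝟙 _ := by
  rw [AMonS.map, AMon_map_id]
  exact CategoryTheory.Functor.map_id _ _

end Application

end Groth.Agent.H28.MagnetSD
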