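import Mathlib
import Groth.Prelude.Def_Magnet

set_option autoImplicit false
universe v₁ u₁

open CategoryTheory CategoryTheory.Limits MonoidalCategory CartesianMonoidalCategory MonObj Opposite

namespace Groth.Agent.H28.MagnetSheaf

open Magnet Magnet.MonAct

variable {C : Type u₁} [Category.{v₁} C] [CartesianMonoidalCategory C] (J : GrothendieckTopology C)

omit [CartesianMonoidalCategory C] in
theorem hom_ext_of_cover {X T : C} (hX : Presieve.IsSheaf J (yoneda.obj X)) (R : Sieve T)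
    (hR : R ∈ J T) (u v : T ⟶ X) (h : ∀ ⦃W : C⦄ (f : W ⟶ T), R f → f ≫ u = f ≫ v) : u = v := by
  apply (hX R hR).isSeparatedFor.ext
  intro W f hf
  exact h f hf

theorem glue_unique {B X T : C} (hX : Presieve.IsSheaf J (yoneda.obj X)) (R : Sieve T)
    (hR : R ∈ J T) (φ φ' : B ⊗ T ⟶ X)
    (h : ∀ ⦃W : C⦄ (f : W ⟶ T), R f → (B ◁ f) ≫ φ = (B ◁ f) ≫ φ') : φ = φ' := by
  apply hom_ext_of_cover J hX (R.pullback (snd B T)) (J.pullback_stable _ hR)
  intro W g hg
  have e : g = lift (g ≫ fst B T) (𝟙 W) ≫ (B ◁ (g ≫ snd B T)) := by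
    rw [lift_whiskerLeft, Category.id_comp, lift_comp_fst_snd]
  rw [e, Category.assoc, Category.assoc, h _ hg]

theorem exists_glue {B X T : C} (hX : Presieve.IsSheaf J (yoneda.obj X)) (R : Sieve T)
    (hR : R ∈ J T) (y : ∀ ⦃W : C⦄ (f : W ⟶ T), R f → (B ⊗ W ⟶ X))
    (hy : ∀ ⦃W W' : C⦄ (f : W ⟶ T) (hf : R f) (h : W' ⟶ W),
      y (h ≫ f) (R.downward_closed hf h) = (B ◁ h) ≫ y f hf) :
    ∃ φ : B ⊗ T ⟶ X, ∀ ⦃W : C⦄ (f : W ⟶ T) (hf : R f), (B ◁ f) ≫ φ = y f hf := by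
  have ycongr : ∀ ⦃W : C⦄ (f f' : W ⟶ T) (hf : R f) (hf' : R f'), f = f' → y f hf = y f' hf' := by
    intro W f f' hf hf' e
    subst e
    rfl
  have hR' : R.pullback (snd B T) ∈ J (B ⊗ T) := J.pullback_stable _ hR
  let z : Presieve.FamilyOfElements (yoneda.obj X) (R.pullback (snd B T)).arrows :=
    fun W g hg => lift (g ≫ fst B T) (𝟙 W) ≫ y (g ≫ snd B T) hg
  have hz : z.Compatible := by
    rw [Presieve.compatible_iff_sieveCompatible]
    intro W W' g h hg
    show lift ((h ≫ g) ≫ fst B T) (𝟙 W') ≫ y ((h ≫ g) ≫ snd B T) _ =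
      h ≫ lift (g ≫ fst B T) (𝟙 W) ≫ y (g ≫ snd B T) hg
    rw [ycongr ((h ≫ g) ≫ snd B T) (h ≫ g ≫ snd B T) _ (R.downward_closed hg h)
      (Category.assoc _ _ _), hy (g ≫ snd B T) hg h, lift_whiskerLeft_assoc, comp_lift_assoc]
    simp
  obtain ⟨φ, hφ, -⟩ := hX _ hR' z hz
  refine ⟨φ, fun W f hf => ?_⟩
  have hmem : (R.pullback (snd B T)) (B ◁ f) := by
    show R ((B ◁ f) ≫ snd B T)
    rw [whiskerLeft_snd]
    exact R.downward_closed hf _
  have h2 : (B ◁ f) ≫ φ = lift ((B ◁ f) ≫ fst B T) (𝟙 _) ≫ y ((B ◁ f) ≫ snd B T) hmem :=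
    hφ (B ◁ f) hmem
  rw [h2, ycongr _ (snd B W ≫ f) hmem (R.downward_closed hf _) (whiskerLeft_snd _ _), hy,
    whiskerLeft_fst, lift_whiskerLeft_assoc, Category.id_comp, lift_fst_snd, Category.id_comp]

theorem isSheaf_eqvHom {A B X : C} [MonObj A] (ρ : MonAct A B) (a : MonAct A X)
    (hX : Presieve.IsSheaf J (yoneda.obj X)) : Presieve.IsSheaf J (eqvHom ρ a) := by
  intro T R hR x hx
  have hx' := (Presieve.compatible_iff_sieveCompatible x).1 hx
  obtain ⟨φ, hφ⟩ := exists_glue J (B := B) hX R hR (fun W f hf => (x f hf).1) (by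
    intro W W' f hf h
    exact congrArg Subtype.val (hx' f h hf))
  have hφeq : IsEquivariant (ρ.prod (trivial A T)) a φ := by
    rw [mem_eqvHom_iff]
    intro T' g b t
    apply hom_ext_of_cover J hX (R.pullback t) (J.pullback_stable t hR)
    intro W h hh
    have h1 := (x (h ≫ t) hh).2
    rw [mem_eqvHom_iff] at h1
    have h2 := h1 W (h ≫ g) (h ≫ b) (𝟙 W)
    rw [← hφ (h ≫ t) hh] at h2
    simp only [lift_whiskerLeft_assoc, Category.id_comp] at h2
    simp only [comp_lift_assoc]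
    exact h2
  refine ⟨⟨φ, hφeq⟩, ?_, ?_⟩
  · intro W f hf
    apply Subtype.ext
    exact hφ f hf
  · intro ψ hψ
    apply Subtype.ext
    apply glue_unique J hX R hR
    intro W f hf
    rw [hφ f hf]
    exact congrArg Subtype.val (hψ f hf)

theorem isSheaf_fixedPsh {A X : C} [MonObj A] (a : MonAct A X)
    (hX : Presieve.IsSheaf J (yoneda.obj X)) : Presieve.IsSheaf J (fixedPsh a) := by
  intro T R hR x hx
  have hx' := (Presieve.compatible_iff_sieveCompatible x).1 hx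
  let z : Presieve.FamilyOfElements (yoneda.obj X) R.arrows := fun W f hf => (x f hf).1
  have hz : z.Compatible := by
    rw [Presieve.compatible_iff_sieveCompatible]
    intro W W' f h hf
    exact congrArg Subtype.val (hx' f h hf)
  obtain ⟨ξ, hξ, hξu⟩ := hX R hR z hz
  have hfix : ∀ (T' : C) (t : T' ⟶ T) (g : T' ⟶ A), lift g (t ≫ ξ) ≫ a.act = t ≫ ξ := by
    intro T' t g
    apply hom_ext_of_cover J hX (R.pullback t) (J.pullback_stable t hR)
    intro W h hh
    have h1 : (h ≫ t) ≫ ξ = (x (h ≫ t) hh).1 := hξ (h ≫ t) hh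
    have h2 := (x (h ≫ t) hh).2 W (𝟙 W) (h ≫ g)
    rw [Category.id_comp, ← h1] at h2
    rw [comp_lift_assoc, ← Category.assoc h t ξ, h2]
  refine ⟨⟨ξ, hfix⟩, ?_, ?_⟩
  · intro W f hf
    apply Subtype.ext
    exact hξ f hf
  · intro ψ hψ
    apply Subtype.ext
    apply hξu
    intro W f hf
    exact congrArg Subtype.val (hψ f hf)

end Groth.Agent.H28.MagnetSheaf
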