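import Mathlib

/-!
# Largest open of the target over which a morphism has a property local for a topology
given by a class `Q` of morphisms (Zariski, étale, smooth, fppf), and its compatibility with base
change along `Q`-morphisms.
-/

set_option autoImplicit false
universe u
open CategoryTheory CategoryTheory.Limits AlgebraicGeometry

namespace Groth.Agent.H28.MaxOpen

theorem restrict_iff (P : MorphismProperty Scheme.{u}) [P.RespectsIso] {X Y : Scheme.{u}}
    (f : X ⟶ Y) (U : Y.Opens) : P (f ∣_ U) ↔ P (pullback.snd f U.ι) := by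
  rw [← pullbackRestrictIsoRestrict_hom_morphismRestrict f U, P.cancel_left_of_respectsIso]

theorem bc_iff (P : MorphismProperty Scheme.{u}) [P.RespectsIso] {X Y Y' T : Scheme.{u}}
    (f : X ⟶ Y) (g : Y' ⟶ Y) (c : T ⟶ Y') :
    P (pullback.snd (pullback.snd f g) c) ↔ P (pullback.snd f (c ≫ g)) := by
  rw [← pullbackLeftPullbackSndIso_hom_snd f g c, P.cancel_left_of_respectsIso]

theorem restrict_iff' (P : MorphismProperty Scheme.{u}) [P.RespectsIso] {X Y Z : Scheme.{u}}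
    {F : X ⟶ Y} {U : Y.Opens} {a : Z ⟶ X} {b : Z ⟶ U.toScheme} (sq : IsPullback a b F U.ι) :
    P (F ∣_ U) ↔ P b := by
  rw [restrict_iff P, ← sq.isoPullback_hom_snd, P.cancel_left_of_respectsIso]

theorem restrict_iso (P : MorphismProperty Scheme.{u}) [P.RespectsIso] {X X' Y : Scheme.{u}}
    (e : X ≅ X') (F' : X' ⟶ Y) (U : Y.Opens) : P ((e.hom ≫ F') ∣_ U) ↔ P (F' ∣_ U) := by
  have h : IsPullback (pullback.fst (e.hom ≫ F') U.ι ≫ e.hom) (pullback.snd (e.hom ≫ F') U.ι)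
      F' U.ι :=
    (IsPullback.of_hasPullback (e.hom ≫ F') U.ι).of_iso (Iso.refl _) e (Iso.refl _) (Iso.refl _)
      (by simp) (by simp) (by simp) (by simp)
  rw [restrict_iff' P h, restrict_iff P]

theorem exists_maxOpen (P : MorphismProperty Scheme.{u}) [IsZariskiLocalAtTarget P]
    {X Y : Scheme.{u}} (F : X ⟶ Y) :
    ∃ W₁ : Y.Opens, P (F ∣_ W₁) ∧ ∀ W' : Y.Opens, P (F ∣_ W') → W' ≤ W₁ := by
  have hV : P (F ∣_ sSup {V' : Y.Opens | P (F ∣_ V')}) := by
    apply IsZariskiLocalAtTarget.of_forall_exists_morphismRestrict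
    intro x
    have hx : x.1 ∈ sSup {V' : Y.Opens | P (F ∣_ V')} := x.2
    obtain ⟨V', hV'S, hxV'⟩ : ∃ V' ∈ {V' : Y.Opens | P (F ∣_ V')}, x.1 ∈ V' :=
      TopologicalSpace.Opens.mem_sSup.mp hx
    refine ⟨(sSup {V' : Y.Opens | P (F ∣_ V')}).ι ⁻¹ᵁ V', hxV', ?_⟩
    rw [P.arrow_mk_iso_iff (morphismRestrictRestrict F _ _)]
    have heq : (sSup {V' : Y.Opens | P (F ∣_ V')}).ι ''ᵁ
        ((sSup {V' : Y.Opens | P (F ∣_ V')}).ι ⁻¹ᵁ V') = V' := by
      rw [Scheme.Hom.image_preimage_eq_opensRange_inf, Scheme.Opens.opensRange_ι]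
      exact inf_eq_right.mpr (le_sSup hV'S)
    rw [heq]
    exact hV'S
  exact ⟨_, hV, fun V' h => le_sSup h⟩

variable {Q : MorphismProperty Scheme.{u}} {P : MorphismProperty Scheme.{u}}

theorem bc_of_local [P.IsLocalAtTarget (Scheme.precoverage Q)] {X Y Y' : Scheme.{u}}
    (f : X ⟶ Y) (g : Y' ⟶ Y) (hg : Q g) (h1 : Q (𝟙 Y)) (hf : P f) : P (pullback.snd f g) := by
  let Z : Bool → Scheme.{u} := fun b => match b with | true => Y' | false => Y
  let φ : ∀ b, Z b ⟶ Y := fun b => match b with | true => g | false => 𝟙 Y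
  have hR : Presieve.ofArrows Z φ ∈ Scheme.precoverage Q Y := by
    rw [Scheme.ofArrows_mem_precoverage_iff]
    refine ⟨fun x => ⟨false, x, rfl⟩, fun b => ?_⟩
    cases b
    · exact h1
    · exact hg
  exact MorphismProperty.IsLocalAtTarget.pullbackSnd hR (Presieve.ofArrows.mk true) hf

theorem desc_of_local [P.IsLocalAtTarget (Scheme.precoverage Q)] {X Y Y' : Scheme.{u}}
    (f : X ⟶ Y) (g : Y' ⟶ Y) (hg : Q g) (hs : Function.Surjective g.base)
    (h : P (pullback.snd f g)) : P f := by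
  have hR : Presieve.singleton g ∈ Scheme.precoverage Q Y :=
    (Scheme.singleton_mem_precoverage_iff Q g).mpr ⟨hs, hg⟩
  refine MorphismProperty.IsLocalAtTarget.of_forall_pullbackSnd hR ?_
  rintro U k _ ⟨⟩
  exact h

theorem range_subset [P.IsLocalAtTarget (Scheme.precoverage Q)] [Q.IsStableUnderBaseChange]
    (hopen : ∀ {A B : Scheme.{u}} (k : A ⟶ B), Q k → IsOpenMap k.base)
    {X Y Y' : Scheme.{u}} (f : X ⟶ Y) (W : Y.Opens)
    (hmax : ∀ W₀ : Y.Opens, P (f ∣_ W₀) → W₀ ≤ W)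
    (g : Y' ⟶ Y) (hg : Q g) (h : P (pullback.snd f g)) : Set.range g.base ⊆ (W : Set Y) := by
  let W₀ : Y.Opens := ⟨Set.range g.base, (hopen g hg).isOpen_range⟩
  have hrange : Set.range g.base ⊆ Set.range W₀.ι.base := by
    rw [Scheme.Opens.range_ι]
    exact subset_rfl
  let t : Y' ⟶ W₀.toScheme := IsOpenImmersion.lift W₀.ι g hrange
  have ht : t ≫ W₀.ι = g := IsOpenImmersion.lift_fac _ _ _
  have hQt : Q t :=
    MorphismProperty.of_postcomp (W := Q) (W' := MorphismProperty.monomorphisms _) t W₀.ι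
      (inferInstance : Mono W₀.ι) (by rw [ht]; exact hg)
  have htsurj : Function.Surjective t.base := by
    intro z
    obtain ⟨w, hwz⟩ := z.2
    refine ⟨w, ?_⟩
    apply W₀.ι.isOpenEmbedding.injective
    have h3 := congrArg (fun φ : (Y' ⟶ Y) => φ.base w) ht
    simp only [Scheme.Hom.comp_base, TopCat.comp_app] at h3
    rw [h3]
    exact hwz
  rw [← ht, ← bc_iff P] at h
  have h2 : P (pullback.snd f W₀.ι) := desc_of_local _ t hQt htsurj h
  have h3 : W₀ ≤ W := hmax W₀ ((restrict_iff P f W₀).mpr h2)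
  exact fun y hy => h3 hy

theorem maxOpen_bc [P.IsLocalAtTarget (Scheme.precoverage Q)] [Q.IsStableUnderBaseChange]
    [Q.IsStableUnderComposition]
    (hopen : ∀ {A B : Scheme.{u}} (k : A ⟶ B), Q k → IsOpenMap k.base)
    (hoi : ∀ {A B : Scheme.{u}} (k : A ⟶ B) [IsOpenImmersion k], Q k)
    {X Y Y' : Scheme.{u}} (f : X ⟶ Y) (W : Y.Opens) (hW : P (f ∣_ W))
    (hmax : ∀ W₀ : Y.Opens, P (f ∣_ W₀) → W₀ ≤ W)
    (g : Y' ⟶ Y) (hg : Q g) (W' : Y'.Opens) (hW' : P (pullback.snd f g ∣_ W'))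
    (hmax' : ∀ W₀ : Y'.Opens, P (pullback.snd f g ∣_ W₀) → W₀ ≤ W') : W' = g ⁻¹ᵁ W := by
  apply le_antisymm
  · intro y hy
    have h1 : P (pullback.snd f (W'.ι ≫ g)) := by
      rw [← bc_iff P, ← restrict_iff P]
      exact hW'
    have h2 := range_subset hopen f W hmax (W'.ι ≫ g) (Q.comp_mem _ _ (hoi W'.ι) hg) h1
    have h3 : g.base y ∈ Set.range (W'.ι ≫ g).base := ⟨⟨y, hy⟩, by simp⟩
    exact h2 h3
  · apply hmax'
    rw [restrict_iff P, bc_iff P]
    have h1 : (g ⁻¹ᵁ W).ι ≫ g = (g ∣_ W) ≫ W.ι := (morphismRestrict_ι g W).symm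
    rw [h1, ← bc_iff P]
    have hQr : Q (g ∣_ W) := MorphismProperty.of_isPullback (isPullback_morphismRestrict g W).flip hg
    exact bc_of_local _ (g ∣_ W) hQr (hoi (𝟙 _)) ((restrict_iff P f W).mp hW)

/-- version for an arbitrary pullback square -/
theorem maxOpen_bc' [P.IsLocalAtTarget (Scheme.precoverage Q)] [Q.IsStableUnderBaseChange]
    [Q.IsStableUnderComposition]
    (hopen : ∀ {A B : Scheme.{u}} (k : A ⟶ B), Q k → IsOpenMap k.base)
    (hoi : ∀ {A B : Scheme.{u}} (k : A ⟶ B) [IsOpenImmersion k], Q k)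
    {X Y Y' X' : Scheme.{u}} {f : X ⟶ Y} {g : Y' ⟶ Y} {a : X' ⟶ X} {b : X' ⟶ Y'}
    (sq : IsPullback a b f g) (W : Y.Opens) (hW : P (f ∣_ W))
    (hmax : ∀ W₀ : Y.Opens, P (f ∣_ W₀) → W₀ ≤ W)
    (hg : Q g) (W' : Y'.Opens) (hW' : P (b ∣_ W'))
    (hmax' : ∀ W₀ : Y'.Opens, P (b ∣_ W₀) → W₀ ≤ W') : W' = g ⁻¹ᵁ W := by
  have hb : b = sq.isoPullback.hom ≫ pullback.snd f g := (sq.isoPullback_hom_snd).symm
  refine maxOpen_bc hopen hoi f W hW hmax g hg W' ?_ ?_
  · rw [← restrict_iso P sq.isoPullback, ← hb]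
    exact hW'
  · intro W₀ h
    apply hmax'
    rw [hb, restrict_iso P]
    exact h

end Groth.Agent.H28.MaxOpen
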