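import Mathlib
import Groth.Agent.H28.FpProdDiag

/-!
# The diagonal square of a composite `g ∘ i` with `i` fully faithful is 2-cartesian
-/

set_option autoImplicit false
set_option linter.style.haveILetI false
set_option backward.isDefEq.respectTransparency false
set_option backward.isDefEq.respectTransparency.types false

namespace Groth.Agent.H28.FpBase

open CategoryTheory CategoryTheory.Limits FibCat AlgebraicGeometry
open Groth.Agent.Helper22 Groth.Agent.Helper22.EquivComp Groth.Agent.Helper22.FpSq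
open Groth.Agent.H28.LiftFp

universe v u

section mono
variable {C : Type u} [Category.{v} C] {𝒳 𝒳' 𝒴 : BasedCategory.{v, max u v} C}
  (i : 𝒳 ⥤ᵇ 𝒳') (g : 𝒳' ⥤ᵇ 𝒴)

/-- `i × i : 𝒳 ×_𝒴 𝒳 ⟶ 𝒳' ×_𝒴 𝒳'` -/
def mB : FibCat.fp (BasedFunctor.comp i g) (BasedFunctor.comp i g) ⥤ᵇ FibCat.fp g g :=
  FibCat.fpLift
    (BasedFunctor.comp (FibCat.fpFst (BasedFunctor.comp i g) (BasedFunctor.comp i g)) i)
    (BasedFunctor.comp (FibCat.fpSnd (BasedFunctor.comp i g) (BasedFunctor.comp i g)) i)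
    (FibCat.fpIso (BasedFunctor.comp i g) (BasedFunctor.comp i g))

/-- the comparison functor of the square -/
def mL : 𝒳 ⥤ᵇ FibCat.fp (mB i g) (FibCat.diag g) :=
  FibCat.fpLift (FibCat.diag (BasedFunctor.comp i g)) i (Iso.refl _)

lemma isEquivOver_mL [i.toFunctor.Full] [i.toFunctor.Faithful] :
    FibCat.IsEquivOver (mL i g) := by
  haveI hfa : (mL i g).toFunctor.Faithful := by
    refine ⟨?_⟩
    intro X X' m m' h
    exact congrArg (fun k => k.hom.fst.hom.fst) h
  haveI hfu : (mL i g).toFunctor.Full := by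
    refine ⟨?_⟩
    intro X X' n
    have hw := n.hom.w
    have h1 : i.map n.hom.fst.hom.fst = n.hom.snd := by
      have h : i.map n.hom.fst.hom.fst ≫ 𝟙 _ = 𝟙 _ ≫ n.hom.snd :=
        congrArg (fun k => k.hom.fst) hw
      exact (Category.comp_id _).symm.trans (h.trans (Category.id_comp _))
    have h2 : i.map n.hom.fst.hom.snd = n.hom.snd := by
      have h : i.map n.hom.fst.hom.snd ≫ 𝟙 _ = 𝟙 _ ≫ n.hom.snd :=
        congrArg (fun k => k.hom.snd) hw
      exact (Category.comp_id _).symm.trans (h.trans (Category.id_comp _))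
    have h3 : n.hom.fst.hom.fst = n.hom.fst.hom.snd :=
      i.toFunctor.map_injective (h1.trans h2.symm)
    refine ⟨n.hom.fst.hom.fst, ?_⟩
    apply ObjectProperty.hom_ext
    apply CategoryTheory.Limits.CategoricalPullback.hom_ext
    · apply ObjectProperty.hom_ext
      apply CategoryTheory.Limits.CategoricalPullback.hom_ext
      · rfl
      · exact h3
    · exact h1
  apply FibLift.isEquivOver_of_ff
  intro η
  let W : (FibCat.fp (BasedFunctor.comp i g) (BasedFunctor.comp i g)).obj := η.obj.fst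
  let x₁ : 𝒳.obj := W.obj.fst
  let x₂ : 𝒳.obj := W.obj.snd
  let x' : 𝒳'.obj := η.obj.snd
  let k : (mB i g).obj W ≅ (FibCat.diag g).obj x' := η.obj.iso
  have hk : (FibCat.fp g g).p.IsHomLift (𝟙 (𝒳.p.obj x₁)) k.hom := η.property
  let k₁ : i.obj x₁ ≅ x' := (FibCat.fpFst g g).toFunctor.mapIso k
  let k₂ : i.obj x₂ ≅ x' := (FibCat.fpSnd g g).toFunctor.mapIso k
  have hkw : g.map k₁.hom ≫ 𝟙 _ = W.obj.iso.hom ≫ g.map k₂.hom := k.hom.hom.w
  have hkey : W.obj.iso.hom = g.map k₁.hom ≫ g.map k₂.inv :=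
    prod_key W.obj.iso (g.toFunctor.mapIso k₁) (g.toFunctor.mapIso k₂) hkw
  let φ' : i.obj x₁ ≅ i.obj x₂ := k₁ ≪≫ k₂.symm
  let φ : x₁ ≅ x₂ := i.toFunctor.preimageIso φ'
  have hφ : i.map φ.hom = k₁.hom ≫ k₂.inv := i.toFunctor.map_preimage φ'.hom
  have h5 : (BasedFunctor.comp i g).map φ.hom = g.map k₁.hom ≫ g.map k₂.inv := by
    show g.map (i.map φ.hom) = _
    rw [hφ]
    exact g.toFunctor.map_comp _ _
  have ha : (BasedFunctor.comp i g).map (𝟙 x₁) ≫ W.obj.iso.hom =
      𝟙 ((BasedFunctor.comp i g).obj x₁) ≫ (BasedFunctor.comp i g).map φ.hom := by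
    have e1 : (BasedFunctor.comp i g).map (𝟙 x₁) = 𝟙 _ :=
      (BasedFunctor.comp i g).toFunctor.map_id _
    rw [e1]
    exact (Category.id_comp _).trans (hkey.trans (h5.symm.trans (Category.id_comp _).symm))
  let a : (FibCat.diag (BasedFunctor.comp i g)).obj x₁ ≅ W := ObjectProperty.isoMk _
    (CategoryTheory.Limits.CategoricalPullback.mkIso (Iso.refl x₁) φ ha)
  let ee : (mL i g).obj x₁ ≅ η := ObjectProperty.isoMk _
    (CategoryTheory.Limits.CategoricalPullback.mkIso a k₁ (by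
      apply ObjectProperty.hom_ext
      apply CategoryTheory.Limits.CategoricalPullback.hom_ext
      · show i.map (𝟙 x₁) ≫ k₁.hom = 𝟙 _ ≫ k₁.hom
        rw [i.toFunctor.map_id]
      · show i.map φ.hom ≫ k₂.hom = 𝟙 _ ≫ k₁.hom
        rw [hφ, Category.assoc, Iso.inv_hom_id, Category.comp_id, Category.id_comp]))
  refine ⟨x₁, ee, ?_⟩
  refine (Groth.Agent.H13.fp_isHomLift_iff (mB i g) (FibCat.diag g) ee.hom _).2 ?_
  refine (Groth.Agent.H13.fp_isHomLift_iff (BasedFunctor.comp i g) (BasedFunctor.comp i g)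
    a.hom _).2 ?_
  exact IsHomLift.id rfl

end mono

end Groth.Agent.H28.FpBase
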