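import Mathlib

set_option autoImplicit false
open Polynomial

namespace Groth.Agent.H28.PLin
universe u
variable {k : Type u} [Field k] (p : ℕ) [hp : Fact p.Prime]

/-- the recursive additive polynomials -/
noncomputable def P (a : ℕ → k) : ℕ → k[X]
  | 0 => C (a 0) * X ^ p
  | (i+1) => (P a i) ^ p + C (a (i+1)) * X ^ p

lemma X_pow_dvd_P (a : ℕ → k) (i : ℕ) : (X : k[X]) ^ p ∣ P p a i := by
  induction i with
  | zero => exact dvd_mul_left _ _
  | succ i ih =>
    exact dvd_add (dvd_pow ih hp.out.ne_zero) (dvd_mul_left _ _)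

lemma P_ne_zero (a : ℕ → k) (i : ℕ) (h : ∃ j ≤ i, a j ≠ 0) : P p a i ≠ 0 := by
  have hp2 : 2 ≤ p := hp.out.two_le
  induction i with
  | zero =>
    obtain ⟨j, hj, hj'⟩ := h
    obtain rfl : j = 0 := by omega
    exact mul_ne_zero (C_ne_zero.mpr hj') (pow_ne_zero _ X_ne_zero)
  | succ i ih =>
    by_cases hPi : P p a i = 0
    · have ha : a (i+1) ≠ 0 := by
        obtain ⟨j, hj, hj'⟩ := h
        rcases Nat.lt_or_ge j (i+1) with hlt | hge
        · exact absurd hPi (ih ⟨j, by omega, hj'⟩)
        · obtain rfl : j = i + 1 := by omega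
          exact hj'
      show (P p a i) ^ p + C (a (i+1)) * X ^ p ≠ 0
      rw [hPi, zero_pow hp.out.ne_zero, zero_add]
      exact mul_ne_zero (C_ne_zero.mpr ha) (pow_ne_zero _ X_ne_zero)
    · show (P p a i) ^ p + C (a (i+1)) * X ^ p ≠ 0
      intro h0
      have h1 : (P p a i) ^ p = - (C (a (i+1)) * X ^ p) := eq_neg_of_add_eq_zero_left h0
      have h2 : p ≤ (P p a i).natDegree := by
        have := natDegree_le_of_dvd (X_pow_dvd_P p a i) hPi
        rwa [natDegree_X_pow] at this
      have h3 : ((P p a i) ^ p).natDegree = p * (P p a i).natDegree := natDegree_pow _ _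
      have h4 : (- (C (a (i+1)) * X ^ p) : k[X]).natDegree ≤ p := by
        rw [natDegree_neg]
        exact (natDegree_C_mul_le _ _).trans (by rw [natDegree_X_pow])
      rw [h1] at h3
      have : p * p ≤ p := by
        calc p * p ≤ p * (P p a i).natDegree := Nat.mul_le_mul_left p h2
          _ ≤ p := by rw [← h3]; exact h4
      nlinarith

lemma exists_root [IsAlgClosed k] (a : ℕ → k) (i : ℕ) (h : ∃ j ≤ i, a j ≠ 0) :
    ∃ y : k, y ≠ 0 ∧ (P p a i).eval y = y := by
  have hp2 : 2 ≤ p := hp.out.two_le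
  obtain ⟨G, hG⟩ := X_pow_dvd_P p a i
  have hG0 : G ≠ 0 := by
    rintro rfl
    exact P_ne_zero p a i h (by rw [hG, mul_zero])
  set R : k[X] := X ^ (p - 1) * G - 1 with hR
  have hR0 : R.eval 0 = -1 := by
    simp [hR, zero_pow (show p - 1 ≠ 0 by omega)]
  have hdeg : R.degree ≠ 0 := by
    intro hd
    have h1 := eq_C_of_degree_eq_zero hd
    rw [coeff_zero_eq_eval_zero, hR0] at h1
    have h2 : X ^ (p - 1) * G = 0 := by
      have : X ^ (p - 1) * G - 1 = C (-1 : k) := h1
      rw [map_neg, map_one] at this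
      linear_combination this
    exact hG0 ((mul_eq_zero.mp h2).resolve_left (pow_ne_zero _ X_ne_zero))
  obtain ⟨y, hy⟩ := IsAlgClosed.exists_root R hdeg
  have hy0 : y ≠ 0 := by
    rintro rfl
    rw [IsRoot.def, hR0] at hy
    norm_num at hy
  refine ⟨y, hy0, ?_⟩
  have h3 : y ^ (p - 1) * G.eval y = 1 := by
    have : R.eval y = 0 := hy
    simp only [hR, eval_sub, eval_mul, eval_pow, eval_X, eval_one] at this
    linear_combination this
  rw [hG, eval_mul, eval_pow, eval_X]
  calc y ^ p * G.eval y = y * (y ^ (p - 1) * G.eval y) := by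
        rw [← mul_assoc, ← pow_succ']
        congr 2
        omega
    _ = y := by rw [h3, mul_one]

section fixed

variable [CharP k p] {V : Type u} [AddCommGroup V] [Module k V]

/-- The algebraic identity: the constructed vector is fixed. -/
lemma fixed_of_root (F : V →ₛₗ[frobenius k p] V) (u : ℕ → V) (hu : ∀ i, F (u i) = u (i + 1))
    (a : ℕ → k) (m : ℕ) (hm : u (m + 1) = ∑ i ∈ Finset.range (m + 1), a i • u i)
    (y : k) (hy : (P p a m).eval y = y) :
    F (∑ i ∈ Finset.range (m + 1), (P p a i).eval y • u i) =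
      ∑ i ∈ Finset.range (m + 1), (P p a i).eval y • u i := by
  set c : ℕ → k := fun i => (P p a i).eval y with hc
  have hc0 : c 0 = a 0 * y ^ p := by simp [hc, P]
  have hcs : ∀ i, c (i + 1) = (c i) ^ p + a (i + 1) * y ^ p := by
    intro i; simp [hc, P]
  have hcm : c m = y := hy
  have hF : F (∑ i ∈ Finset.range (m + 1), c i • u i) =
      ∑ i ∈ Finset.range (m + 1), (c i) ^ p • u (i + 1) := by
    rw [map_sum]
    refine Finset.sum_congr rfl fun i _ => ?_
    rw [map_smulₛₗ, frobenius_def, hu]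
  change F (∑ i ∈ Finset.range (m + 1), c i • u i) = ∑ i ∈ Finset.range (m + 1), c i • u i
  rw [hF, Finset.sum_range_succ, hcm, hm, Finset.sum_range_succ' (fun i => c i • u i),
    Finset.sum_range_succ' (fun i => a i • u i), hc0]
  simp only [hcs, add_smul, Finset.sum_add_distrib, smul_add, Finset.smul_sum, smul_smul]
  have : ∀ i, (a (i + 1) * y ^ p) • u (i + 1) = (y ^ p * a (i + 1)) • u (i + 1) := by
    intro i; rw [mul_comm]
  simp only [this, mul_comm (y ^ p) (a 0)]
  abel

lemma exists_fixed_ne_zero [IsAlgClosed k] [FiniteDimensional k V] [Nontrivial V]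
    (F : V →ₛₗ[frobenius k p] V) (hinj : Function.Injective F) :
    ∃ x : V, x ≠ 0 ∧ F x = x := by
  classical
  obtain ⟨v, hv⟩ := exists_ne (0 : V)
  let u : ℕ → V := fun i => (F^[i]) v
  have hu : ∀ i, F (u i) = u (i + 1) := fun i => (Function.iterate_succ_apply' F i v).symm
  let S : ℕ → Submodule k V := fun m => Submodule.span k (u '' (Finset.range m : Set ℕ))
  have hex : ∃ m, u m ∈ S m := by
    have hmono : Monotone S := fun a b hab =>
      Submodule.span_mono (Set.image_mono (by simpa using Finset.range_mono hab))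
    obtain ⟨n, hn⟩ := monotone_stabilizes_iff_noetherian.mpr
      (inferInstance : IsNoetherian k V) ⟨S, hmono⟩
    refine ⟨n, ?_⟩
    have h1 : S n = S (n + 1) := hn (n + 1) (Nat.le_succ n)
    rw [h1]
    exact Submodule.subset_span ⟨n, by simp, rfl⟩
  have hm : u (Nat.find hex) ∈ S (Nat.find hex) := Nat.find_spec hex
  have hmin : ∀ j < Nat.find hex, u j ∉ S j := fun j hj => Nat.find_min hex hj
  have hm1 : Nat.find hex ≠ 0 := by
    intro h0
    rw [h0] at hm
    simp only [S, Finset.range_zero, Finset.coe_empty, Set.image_empty, Submodule.span_empty,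
      Submodule.mem_bot] at hm
    exact hv hm
  obtain ⟨m', hm'⟩ := Nat.exists_eq_succ_of_ne_zero hm1
  rw [hm'] at hm hmin
  obtain ⟨a, ha⟩ := (Submodule.mem_span_image_finset_iff_exists_fun' k).mp hm
  have hne : ∃ j ≤ m', a j ≠ 0 := by
    by_contra hcon
    push Not at hcon
    have h0 : u (m' + 1) = 0 := by
      rw [← ha]
      apply Finset.sum_eq_zero
      intro i hi
      rw [hcon i (by simpa [Nat.lt_succ_iff] using hi), zero_smul]
    have hinj' : Function.Injective (F^[m' + 1]) := hinj.iterate _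
    exact hv (hinj' (h0.trans (Function.iterate_fixed (map_zero F) _).symm))
  obtain ⟨y, hy0, hy⟩ := exists_root p a m' hne
  refine ⟨∑ i ∈ Finset.range (m' + 1), (P p a i).eval y • u i, ?_,
    fixed_of_root p F u hu a m' ha.symm y hy⟩
  intro hx
  rw [Finset.sum_range_succ, hy] at hx
  apply hmin m' (Nat.lt_succ_self m')
  have h1 : y • u m' = -(∑ i ∈ Finset.range m', (P p a i).eval y • u i) :=
    eq_neg_of_add_eq_zero_right hx
  have h2 : u m' = y⁻¹ • (-(∑ i ∈ Finset.range m', (P p a i).eval y • u i)) := by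
    rw [← h1, smul_smul, inv_mul_cancel₀ hy0, one_smul]
  rw [h2]
  apply Submodule.smul_mem
  apply Submodule.neg_mem
  apply Submodule.sum_mem
  intro i hi
  exact Submodule.smul_mem _ _ (Submodule.subset_span ⟨i, by simpa using hi, rfl⟩)

end fixed

end Groth.Agent.H28.PLin
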