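import Groth.Agent.H28.PLin

set_option autoImplicit false
open Polynomial

namespace Groth.Agent.H28.PLin
universe u
variable {k : Type u} [Field k] (p : ℕ) [hp : Fact p.Prime] [CharP k p]
  {V : Type u} [AddCommGroup V] [Module k V] (F : V →ₛₗ[frobenius k p] V)

lemma iterate_add (m : ℕ) (v w : V) : (F^[m]) (v + w) = (F^[m]) v + (F^[m]) w := by
  induction m generalizing v w with
  | zero => rfl
  | succ m ih => rw [Function.iterate_succ_apply, Function.iterate_succ_apply,
      Function.iterate_succ_apply, map_add, ih]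

lemma iterate_zero' (m : ℕ) : (F^[m]) (0 : V) = 0 := Function.iterate_fixed (map_zero F) m

lemma iterate_smul (m : ℕ) (a : k) (v : V) : (F^[m]) (a • v) = a ^ (p ^ m) • (F^[m]) v := by
  induction m generalizing a v with
  | zero => simp
  | succ m ih =>
    rw [Function.iterate_succ_apply, Function.iterate_succ_apply, map_smulₛₗ, frobenius_def, ih,
      ← pow_mul, pow_succ']

lemma iterate_sum {ι : Type*} (s : Finset ι) (m : ℕ) (f : ι → V) :
    (F^[m]) (∑ i ∈ s, f i) = ∑ i ∈ s, (F^[m]) (f i) := by
  classical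
  induction s using Finset.induction_on with
  | empty => simp [iterate_zero' p F m]
  | insert a s ha ih => rw [Finset.sum_insert ha, Finset.sum_insert ha, iterate_add, ih]

/-- the span of fixed vectors -/
def W0 : Submodule k V := Submodule.span k {v : V | F v = v}

/-- the nilpotent part -/
def N : Submodule k V where
  carrier := {v : V | ∃ m : ℕ, (F^[m]) v = 0}
  zero_mem' := ⟨0, rfl⟩
  add_mem' := by
    rintro v w ⟨m, hm⟩ ⟨m', hm'⟩
    refine ⟨m + m', ?_⟩
    have h1 : (F^[m + m']) v = 0 := by
      rw [add_comm, Function.iterate_add_apply, hm, iterate_zero']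
    have h2 : (F^[m + m']) w = 0 := by
      rw [Function.iterate_add_apply, hm', iterate_zero']
    rw [iterate_add, h1, h2, add_zero]
  smul_mem' := by
    rintro a v ⟨m, hm⟩
    exact ⟨m, by rw [iterate_smul, hm, smul_zero]⟩

lemma mem_N {v : V} : v ∈ N p F ↔ ∃ m : ℕ, (F^[m]) v = 0 := Iff.rfl

lemma F_mem_N {v : V} (h : v ∈ N p F) : F v ∈ N p F := by
  obtain ⟨m, hm⟩ := h
  exact ⟨m, by rw [← Function.iterate_succ_apply, Function.iterate_succ_apply', hm, map_zero]⟩

lemma mem_N_of_F_mem {v : V} (h : F v ∈ N p F) : v ∈ N p F := by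
  obtain ⟨m, hm⟩ := h
  exact ⟨m + 1, by rw [Function.iterate_succ_apply]; exact hm⟩

lemma exists_sub_N {n : V} (h : n ∈ N p F) : ∃ n' ∈ N p F, F n' - n' = n := by
  obtain ⟨m, hm⟩ := h
  refine ⟨-∑ i ∈ Finset.range m, (F^[i]) n, ?_, ?_⟩
  · apply Submodule.neg_mem
    apply Submodule.sum_mem
    intro i _
    exact ⟨m, by rw [← Function.iterate_add_apply, add_comm, Function.iterate_add_apply, hm,
      iterate_zero']⟩
  · rw [map_neg, map_sum]
    have : ∀ i, F ((F^[i]) n) = (F^[i + 1]) n := fun i =>
      (Function.iterate_succ_apply' F i n).symm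
    simp only [this]
    rw [neg_sub_neg, ← Finset.sum_sub_distrib]
    have h2 := Finset.sum_range_sub (fun i => (F^[i]) n) m
    have h3 : ∑ i ∈ Finset.range m, ((F^[i]) n - (F^[i + 1]) n) =
        -∑ i ∈ Finset.range m, ((F^[i + 1]) n - (F^[i]) n) := by
      rw [← Finset.sum_neg_distrib]; simp
    rw [h3, h2, hm]
    simp

variable [IsAlgClosed k]

lemma F_mem_W0 {x : V} (h : x ∈ W0 p F) : F x ∈ W0 p F := by
  induction h using Submodule.closure_induction with
  | zero => rw [map_zero]; exact Submodule.zero_mem _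
  | add x y _ _ hx hy => rw [map_add]; exact Submodule.add_mem _ hx hy
  | smul_mem r x hx =>
    rw [map_smulₛₗ]
    have hx' : F x = x := hx
    rw [hx']
    exact Submodule.smul_mem _ _ (Submodule.subset_span hx)

lemma exists_preimage_W0 {x : V} (h : x ∈ W0 p F) : ∃ w ∈ W0 p F, F w = x := by
  induction h using Submodule.closure_induction with
  | zero => exact ⟨0, Submodule.zero_mem _, map_zero F⟩
  | add x y _ _ hx hy =>
    obtain ⟨w, hw, rfl⟩ := hx
    obtain ⟨w', hw', rfl⟩ := hy
    exact ⟨w + w', Submodule.add_mem _ hw hw', map_add F w w'⟩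
  | smul_mem r x hx =>
    obtain ⟨d, hd⟩ := IsAlgClosed.exists_pow_nat_eq r hp.out.pos
    have hx' : F x = x := hx
    refine ⟨d • x, Submodule.smul_mem _ _ (Submodule.subset_span hx), ?_⟩
    rw [map_smulₛₗ, frobenius_def, hd, hx']

lemma exists_sub_W0 {x : V} (h : x ∈ W0 p F) : ∃ w ∈ W0 p F, F w - w = x := by
  induction h using Submodule.closure_induction with
  | zero => exact ⟨0, Submodule.zero_mem _, by simp⟩
  | add x y _ _ hx hy =>
    obtain ⟨w, hw, rfl⟩ := hx
    obtain ⟨w', hw', rfl⟩ := hy
    exact ⟨w + w', Submodule.add_mem _ hw hw', by rw [map_add]; abel⟩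
  | smul_mem r x hx =>
    have hx' : F x = x := hx
    have hdeg : (X ^ p - X - C r : k[X]).degree ≠ 0 := by
      have h1 : (X ^ p - X - C r : k[X]).degree = p := by
        have hp2 : 2 ≤ p := hp.out.two_le
        rw [sub_sub, degree_sub_eq_left_of_degree_lt, degree_X_pow]
        rw [degree_X_pow, degree_X_add_C]
        exact_mod_cast hp2
      rw [h1]
      exact_mod_cast hp.out.ne_zero
    obtain ⟨d, hd⟩ := IsAlgClosed.exists_root _ hdeg
    have hd' : d ^ p - d = r := by
      have : (X ^ p - X - C r : k[X]).eval d = 0 := hd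
      simp only [eval_sub, eval_pow, eval_X, eval_C] at this
      linear_combination this
    refine ⟨d • x, Submodule.smul_mem _ _ (Submodule.subset_span hx), ?_⟩
    rw [map_smulₛₗ, frobenius_def, hx', ← sub_smul, hd']

omit [IsAlgClosed k] in
lemma disjoint_W0_N [FiniteDimensional k V] : Disjoint (W0 p F) (N p F) := by
  classical
  rw [Submodule.disjoint_def]
  intro x hx0 hxN
  obtain ⟨b, hbsub, hbspan, hbli⟩ := exists_linearIndependent k {v : V | F v = v}
  have hfin : b.Finite := hbli.setFinite
  haveI := hfin.fintype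
  have hx0' : x ∈ Submodule.span k (Set.range (Subtype.val : b → V)) := by
    rw [Subtype.range_coe, hbspan]; exact hx0
  obtain ⟨c, hc⟩ := (Submodule.mem_span_range_iff_exists_fun k).mp hx0'
  obtain ⟨m, hm⟩ := hxN
  have hfix : ∀ e : b, (F^[m]) (e : V) = e := fun e => Function.iterate_fixed (hbsub e.2) m
  rw [← hc, iterate_sum] at hm
  simp only [iterate_smul, hfix] at hm
  have h0 := (Fintype.linearIndependent_iff.mp hbli) (fun e => c e ^ p ^ m) hm
  have hc0 : ∀ e, c e = 0 := fun e => eq_zero_of_pow_eq_zero (h0 e)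
  rw [← hc]
  simp [hc0]

lemma codisjoint_W0_N [FiniteDimensional k V] : Codisjoint (W0 p F) (N p F) := by
  rw [codisjoint_iff]
  by_contra hne
  set Pm : Submodule k V := W0 p F ⊔ N p F with hPm
  have hstab : Pm ≤ Pm.comap F := by
    intro x hx
    obtain ⟨w, hw, n, hn, rfl⟩ := Submodule.mem_sup.mp hx
    rw [Submodule.mem_comap, map_add]
    exact Submodule.add_mem _ (Submodule.mem_sup_left (F_mem_W0 p F hw))
      (Submodule.mem_sup_right (F_mem_N p F hn))
  let Fq : (V ⧸ Pm) →ₛₗ[frobenius k p] (V ⧸ Pm) := Pm.mapQ Pm F hstab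
  have hFq : ∀ v : V, Fq (Submodule.Quotient.mk v) = Submodule.Quotient.mk (F v) := fun v => rfl
  have hnt : Nontrivial (V ⧸ Pm) := Submodule.Quotient.nontrivial_iff.mpr hne
  have hinj : Function.Injective Fq := by
    rw [injective_iff_map_eq_zero]
    intro q hq
    obtain ⟨v, rfl⟩ := Submodule.Quotient.mk_surjective _ q
    rw [hFq, Submodule.Quotient.mk_eq_zero] at hq
    rw [Submodule.Quotient.mk_eq_zero]
    obtain ⟨w, hw, n, hn, hwn⟩ := Submodule.mem_sup.mp hq
    obtain ⟨w', hw', rfl⟩ := exists_preimage_W0 p F hw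
    have h1 : F (v - w') ∈ N p F := by
      rw [map_sub, ← hwn, add_sub_cancel_left]; exact hn
    have h2 := mem_N_of_F_mem p F h1
    have : v = w' + (v - w') := by abel
    rw [this]
    exact Submodule.add_mem _ (Submodule.mem_sup_left hw') (Submodule.mem_sup_right h2)
  obtain ⟨q, hq0, hq⟩ := exists_fixed_ne_zero p Fq hinj
  obtain ⟨v, rfl⟩ := Submodule.Quotient.mk_surjective _ q
  apply hq0
  rw [Submodule.Quotient.mk_eq_zero]
  rw [hFq, Submodule.Quotient.eq] at hq
  obtain ⟨w, hw, n, hn, hwn⟩ := Submodule.mem_sup.mp hq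
  obtain ⟨w', hw', hw'eq⟩ := exists_sub_W0 p F hw
  obtain ⟨n', hn', hn'eq⟩ := exists_sub_N p F hn
  have hfix : F (v - w' - n') = v - w' - n' := by
    rw [map_sub, map_sub]
    have e1 : F w' = w + w' := by rw [← hw'eq]; abel
    have e2 : F n' = n + n' := by rw [← hn'eq]; abel
    have e3 : F v = w + n + v := by rw [hwn]; abel
    rw [e1, e2, e3]; abel
  have hv' : v - w' - n' ∈ W0 p F := Submodule.subset_span hfix
  have : v = (v - w' - n') + w' + n' := by abel
  rw [this]
  exact Submodule.add_mem _ (Submodule.add_mem _ (Submodule.mem_sup_left hv')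
    (Submodule.mem_sup_left hw')) (Submodule.mem_sup_right hn')

omit [IsAlgClosed k] in
lemma frob_fixed (x : k) (hx : x ^ p = x) : ∃ c : ℤ, x = (c : k) := by
  have h1 : x ∈ (⊥ : Subfield k) := (Subfield.mem_bot_iff_pow_eq_self k p).mpr hx
  obtain ⟨n, hn⟩ := (mem_bot_iff_intCast p k).mp h1
  exact ⟨n, hn.symm⟩

omit [IsAlgClosed k] in
lemma linIndep_fixed (s : Finset V) (hs : ∀ v ∈ s, F v = v)
    (hZ : ∀ c : s → ℤ, (∑ v : s, c v • (v : V)) = 0 → ∀ v : s, (p : ℤ) ∣ c v) :
    LinearIndependent k (fun v : s => (v : V)) := by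
  classical
  rw [Fintype.linearIndependent_iff]
  have key : ∀ n : ℕ, ∀ g : s → k, (Finset.univ.filter (fun v => g v ≠ 0)).card ≤ n →
      ∑ v, g v • (v : V) = 0 → ∀ v, g v = 0 := by
    intro n
    induction n with
    | zero =>
      intro g hcard _ v
      by_contra hv
      have : v ∈ Finset.univ.filter (fun v => g v ≠ 0) := by simp [hv]
      have := Finset.card_pos.mpr ⟨v, this⟩
      omega
    | succ n ih =>
      intro g hcard hsum
      by_contra hcon
      push Not at hcon
      obtain ⟨v0, hv0⟩ := hcon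
      set h : s → k := fun v => g v / g v0 with hh
      have hsumh : ∑ v, h v • (v : V) = 0 := by
        have : ∑ v, h v • (v : V) = (g v0)⁻¹ • ∑ v, g v • (v : V) := by
          rw [Finset.smul_sum]
          refine Finset.sum_congr rfl fun v _ => ?_
          rw [smul_smul]
          simp only [hh, div_eq_inv_mul]
        rw [this, hsum, smul_zero]
      have hFsum : ∑ v, (h v) ^ p • (v : V) = 0 := by
        have := congrArg F hsumh
        rw [map_sum, map_zero] at this
        rw [← this]
        refine Finset.sum_congr rfl fun v _ => ?_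
        rw [map_smulₛₗ, frobenius_def, hs v v.2]
      set g' : s → k := fun v => (h v) ^ p - h v with hg'
      have hsum' : ∑ v, g' v • (v : V) = 0 := by
        simp only [hg', sub_smul, Finset.sum_sub_distrib, hFsum, hsumh, sub_zero]
      have hsub : Finset.univ.filter (fun v => g' v ≠ 0) ⊆
          (Finset.univ.filter (fun v => g v ≠ 0)).erase v0 := by
        intro v hv
        simp only [Finset.mem_filter, Finset.mem_univ, true_and] at hv
        simp only [Finset.mem_erase, Finset.mem_filter, Finset.mem_univ, true_and]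
        constructor
        · rintro rfl
          apply hv
          simp [hg', hh, div_self hv0]
        · intro hgv
          apply hv
          simp [hg', hh, hgv, hp.out.ne_zero]
      have hcard' : (Finset.univ.filter (fun v => g' v ≠ 0)).card ≤ n := by
        have h1 := Finset.card_le_card hsub
        have h2 : v0 ∈ Finset.univ.filter (fun v => g v ≠ 0) := by simp [hv0]
        rw [Finset.card_erase_of_mem h2] at h1
        omega
      have hg'0 := ih g' hcard' hsum'
      have hfix : ∀ v, (h v) ^ p = h v := fun v => sub_eq_zero.mp (hg'0 v)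
      choose c hc using fun v => frob_fixed p (h v) (hfix v)
      have hsumc : ∑ v : s, c v • (v : V) = 0 := by
        rw [← hsumh]
        refine Finset.sum_congr rfl fun v _ => ?_
        rw [hc v, Int.cast_smul_eq_zsmul]
      have hdiv := hZ c hsumc v0
      have : h v0 = 0 := by
        rw [hc v0]
        exact (CharP.intCast_eq_zero_iff k p _).mpr hdiv
      rw [hh] at this
      simp only [div_self hv0] at this
      exact one_ne_zero this
  intro g hg
  exact key _ g le_rfl hg

end Groth.Agent.H28.PLin
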