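import Mathlib

set_option autoImplicit false
open MvPolynomial
universe u

namespace Groth.Agent.H28.PlanePts

variable (k : Type u) [Field k]

lemma finrank_homog (d : ℕ) :
    Module.finrank k (MvPolynomial.homogeneousSubmodule (Fin 3) k d) = Nat.choose (d + 2) 2 := by
  have hset : {e : Fin 3 →₀ ℕ | e.degree = d} =
      ((Finset.univ : Finset (Fin 3)).finsuppAntidiag d : Set (Fin 3 →₀ ℕ)) := by
    ext e
    simp [Finset.mem_finsuppAntidiag, Finsupp.degree_eq_sum]
  rw [MvPolynomial.homogeneousSubmodule_eq_finsupp_supported, hset,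
    LinearEquiv.finrank_eq (AddMonoidAlgebra.supportedEquivFinsupp _),
    Module.finrank_finsupp_self]
  simp only [Finset.coe_sort_coe, Fintype.card_coe]
  rw [Finset.card_finsuppAntidiag_nat_eq_choose]
  simp only [Finset.card_univ, Fintype.card_fin]
  rw [show 3 + d - 1 = d + 2 by omega, ← Nat.choose_symm_of_eq_add (by omega : d + 2 = 2 + d)]

instance (d : ℕ) : Module.Finite k (MvPolynomial.homogeneousSubmodule (Fin 3) k d) :=
  Module.Finite.iff_fg.mpr (MvPolynomial.homogeneousSubmodule_fg (Fin 3) k d)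

variable {k}

/-- the linear form attached to a functional -/
noncomputable def linForm (f : (Fin 3 → k) →ₗ[k] k) : MvPolynomial (Fin 3) k :=
  ∑ i, C (f (Pi.single i 1)) * X i

lemma linForm_isHomogeneous (f : (Fin 3 → k) →ₗ[k] k) : (linForm f).IsHomogeneous 1 := by
  unfold linForm
  apply IsHomogeneous.sum
  intro i _
  have := (isHomogeneous_C (Fin 3) (f (Pi.single i 1))).mul (isHomogeneous_X k i)
  simpa using this

lemma aeval_linForm (f : (Fin 3 → k) →ₗ[k] k) (u : Fin 3 → k) :
    aeval u (linForm f) = f u := by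
  unfold linForm
  simp only [map_sum, map_mul, aeval_C, aeval_X, Algebra.algebraMap_self, RingHom.id_apply]
  rw [LinearMap.pi_apply_eq_sum_univ f u]
  refine Finset.sum_congr rfl fun i _ => ?_
  have : (Pi.single i 1 : Fin 3 → k) = fun j => if i = j then 1 else 0 := by
    ext j; simp [Pi.single_apply, eq_comm]
  rw [this, smul_eq_mul, mul_comm]

/-- separating functional -/
lemma exists_sep {v w : Fin 3 → k} (h : LinearIndependent k ![v, w]) :
    ∃ f : (Fin 3 → k) →ₗ[k] k, f w = 0 ∧ f v ≠ 0 := by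
  have hv : v ∉ Submodule.span k {w} := by
    intro hmem
    rw [Submodule.mem_span_singleton] at hmem
    obtain ⟨c, hc⟩ := hmem
    have := (LinearIndependent.pair_iff.mp h) 1 (-c) (by simp [← hc])
    simpa using this.1
  obtain ⟨f, hf1, hf2⟩ := Submodule.exists_le_ker_of_notMem hv
  exact ⟨f, hf2 (Submodule.subset_span rfl), hf1⟩

lemma exists_form (v : Fin 3 → k) (S : Finset (Fin 3 → k))
    (hS : ∀ w ∈ S, LinearIndependent k ![v, w]) :
    ∃ g : MvPolynomial (Fin 3) k, g.IsHomogeneous S.card ∧ aeval v g ≠ 0 ∧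
      ∀ w ∈ S, aeval w g = 0 := by
  classical
  induction S using Finset.induction_on with
  | empty =>
    exact ⟨1, by simpa using isHomogeneous_one (Fin 3) k, by simp, by simp⟩
  | insert a S ha ih =>
    obtain ⟨g, hg1, hg2, hg3⟩ := ih (fun w hw => hS w (Finset.mem_insert_of_mem hw))
    obtain ⟨f, hf1, hf2⟩ := exists_sep (hS a (Finset.mem_insert_self a S))
    refine ⟨g * linForm f, ?_, ?_, ?_⟩
    · rw [Finset.card_insert_of_notMem ha]
      exact hg1.mul (linForm_isHomogeneous f)
    · rw [map_mul, aeval_linForm]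
      exact mul_ne_zero hg2 hf2
    · intro w hw
      rw [map_mul, aeval_linForm]
      rcases Finset.mem_insert.mp hw with rfl | hw
      · rw [hf1, mul_zero]
      · rw [hg3 w hw, zero_mul]

lemma finrank_vanishing (d : ℕ) (Λ : Finset (Fin 3 → k))
    (hsep : ∀ v ∈ Λ, ∃ g : MvPolynomial (Fin 3) k, g.IsHomogeneous d ∧ aeval v g ≠ 0 ∧
      ∀ w ∈ Λ, w ≠ v → aeval w g = 0) :
    Module.finrank k ↥(MvPolynomial.homogeneousSubmodule (Fin 3) k d ⊓
      ⨅ v ∈ Λ, LinearMap.ker (MvPolynomial.aeval v).toLinearMap) + Λ.card =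
      Nat.choose (d + 2) 2 := by
  classical
  set H := MvPolynomial.homogeneousSubmodule (Fin 3) k d with hH
  set K := H ⊓ ⨅ v ∈ Λ, LinearMap.ker (MvPolynomial.aeval v).toLinearMap with hK
  let ev : H →ₗ[k] (Λ → k) :=
    LinearMap.pi (fun v => (MvPolynomial.aeval (v : Fin 3 → k)).toLinearMap ∘ₗ H.subtype)
  have hev : ∀ (f : H) (v : Λ), ev f v = aeval (v : Fin 3 → k) (f : MvPolynomial (Fin 3) k) :=
    fun f v => rfl
  have hsurj : Function.Surjective ev := by
    intro t
    have h' : ∀ v : Λ, ∃ g : MvPolynomial (Fin 3) k, g.IsHomogeneous d ∧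
        aeval (v : Fin 3 → k) g ≠ 0 ∧ ∀ w ∈ Λ, w ≠ v → aeval w g = 0 := fun v => hsep v v.2
    choose g hg1 hg2 hg3 using h'
    refine ⟨∑ v : Λ, (t v * (aeval (v : Fin 3 → k) (g v))⁻¹) • (⟨g v, hg1 v⟩ : H), ?_⟩
    ext w
    rw [hev]
    simp only [Submodule.coe_sum, Submodule.coe_smul, map_sum, map_smul, smul_eq_mul]
    rw [Finset.sum_eq_single w]
    · rw [mul_assoc, inv_mul_cancel₀ (hg2 w), mul_one]
    · intro v _ hvw
      rw [hg3 v w w.2 (fun h => hvw (Subtype.ext h.symm)), mul_zero]
    · intro h; exact absurd (Finset.mem_univ w) h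
  have hker : LinearMap.ker ev = Submodule.comap H.subtype K := by
    ext f
    simp only [LinearMap.mem_ker, Submodule.mem_comap, Submodule.subtype_apply, hK,
      Submodule.mem_inf, Submodule.mem_iInf, AlgHom.toLinearMap_apply]
    constructor
    · intro h
      refine ⟨f.2, fun v hv => ?_⟩
      have := congr_fun h ⟨v, hv⟩
      rwa [hev] at this
    · intro h
      ext v
      rw [hev]
      exact h.2 v v.2
  have hle : K ≤ H := inf_le_left
  have h1 : Module.finrank k K = Module.finrank k (LinearMap.ker ev) := by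
    rw [hker]
    exact (LinearEquiv.finrank_eq (Submodule.comapSubtypeEquivOfLe hle)).symm
  have h2 := LinearMap.finrank_range_add_finrank_ker ev
  have h3 : Module.finrank k H = Nat.choose (d + 2) 2 := finrank_homog k d
  rw [LinearMap.range_eq_top.mpr hsurj, finrank_top, Module.finrank_pi, h3,
    Fintype.card_coe] at h2
  rw [h1]
  omega

end Groth.Agent.H28.PlanePts
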