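import Groth.Agent.H28.PlanePts

set_option autoImplicit false
open MvPolynomial
universe u

namespace Groth.Agent.H28.PlanePts

variable {k : Type u} [Field k]

lemma linIndep_of_not_prop {v w : Fin 3 → k} (hw : w ≠ 0) (h : ∀ c : k, v ≠ c • w) :
    LinearIndependent k ![v, w] := by
  rw [LinearIndependent.pair_iff]
  intro s t hst
  by_cases hs : s = 0
  · subst hs
    rw [zero_smul, zero_add] at hst
    exact ⟨rfl, (smul_eq_zero.mp hst).resolve_right hw⟩
  · exfalso
    apply h (-(s⁻¹ * t))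
    have : s • v = -(t • w) := eq_neg_of_add_eq_zero_left hst
    calc v = s⁻¹ • (s • v) := by rw [smul_smul, inv_mul_cancel₀ hs, one_smul]
      _ = s⁻¹ • (-(t • w)) := by rw [this]
      _ = (-(s⁻¹ * t)) • w := by rw [smul_neg, smul_smul, neg_smul]

lemma half (n : ℕ) (hn : 3 ≤ n) (Λ Λ' : Finset (Fin 3 → k)) (hcard' : Λ'.card = n)
    (h0' : ∀ v ∈ Λ', v ≠ 0)
    (hline' : ¬ ∃ ℓ : (Fin 3 → k) →ₗ[k] k, ℓ ≠ 0 ∧ ∀ v ∈ Λ', ℓ v = 0)
    (hle : (MvPolynomial.homogeneousSubmodule (Fin 3) k (n - 1) ⊓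
        ⨅ v ∈ Λ', LinearMap.ker (MvPolynomial.aeval v).toLinearMap) ≤
      ⨅ v ∈ Λ, LinearMap.ker (MvPolynomial.aeval v).toLinearMap) :
    ∀ v ∈ Λ, ∃ w ∈ Λ', ∃ c : k, v = c • w := by
  classical
  intro v hv
  by_contra hcon
  push Not at hcon
  have hind : ∀ w ∈ Λ', LinearIndependent k ![v, w] :=
    fun w hw => linIndep_of_not_prop (h0' w hw) (hcon w hw)
  -- Step A
  have hA : ∃ w₁ ∈ Λ', ∃ w₂ ∈ Λ', w₁ ≠ w₂ ∧ v ∉ Submodule.span k {w₁, w₂} := by
    by_contra hA
    push Not at hA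
    apply hline'
    have hne : Λ'.Nonempty := Finset.card_pos.mp (by omega)
    obtain ⟨w₁, hw₁⟩ := hne
    have hlt : Submodule.span k {v, w₁} < ⊤ := by
      rw [lt_top_iff_ne_top]
      intro htop
      have h1 : Module.finrank k (Submodule.span k ({v, w₁} : Set (Fin 3 → k))) ≤ 2 := by
        have := finrank_span_finset_le_card (R := k) ({v, w₁} : Finset (Fin 3 → k))
        have h2 : ({v, w₁} : Finset (Fin 3 → k)).card ≤ 2 := Finset.card_le_two
        rw [Set.finrank, Finset.coe_insert, Finset.coe_singleton] at this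
        omega
      rw [htop, finrank_top, Module.finrank_pi] at h1
      simp at h1
    obtain ⟨ℓ, hℓ0, hℓ⟩ := Submodule.exists_le_ker_of_lt_top _ hlt
    refine ⟨ℓ, hℓ0, fun w hw => ?_⟩
    have hv0 : ℓ v = 0 := hℓ (Submodule.subset_span (by simp))
    have hw10 : ℓ w₁ = 0 := hℓ (Submodule.subset_span (by simp))
    by_cases hww : w₁ = w
    · rw [← hww]; exact hw10
    · have hmem := hA w₁ hw₁ w hw hww
      rw [Submodule.mem_span_pair] at hmem
      obtain ⟨a, b, hab⟩ := hmem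
      have hb : b ≠ 0 := by
        rintro rfl
        rw [zero_smul, add_zero] at hab
        exact hcon w₁ hw₁ a hab.symm
      have : ℓ (b • w) = 0 := by
        have : b • w = v - a • w₁ := by rw [← hab]; abel
        rw [this, map_sub, map_smul, hv0, hw10, smul_zero, sub_zero]
      rw [map_smul, smul_eq_mul] at this
      exact (mul_eq_zero.mp this).resolve_left hb
  obtain ⟨w₁, hw₁, w₂, hw₂, hne, hvn⟩ := hA
  obtain ⟨f, hf1, hf2⟩ := Submodule.exists_le_ker_of_notMem hvn
  have hfw₁ : f w₁ = 0 := hf2 (Submodule.subset_span (by simp))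
  have hfw₂ : f w₂ = 0 := hf2 (Submodule.subset_span (by simp))
  obtain ⟨g, hg1, hg2, hg3⟩ := exists_form v ((Λ'.erase w₁).erase w₂)
    (fun w hw => hind w (Finset.mem_of_mem_erase (Finset.mem_of_mem_erase hw)))
  have hcard2 : ((Λ'.erase w₁).erase w₂).card = n - 2 := by
    rw [Finset.card_erase_of_mem (Finset.mem_erase.mpr ⟨hne.symm, hw₂⟩),
      Finset.card_erase_of_mem hw₁, hcard']
    omega
  rw [hcard2] at hg1
  have hmem : g * linForm f ∈ MvPolynomial.homogeneousSubmodule (Fin 3) k (n - 1) ⊓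
        ⨅ v ∈ Λ', LinearMap.ker (MvPolynomial.aeval v).toLinearMap := by
    rw [Submodule.mem_inf]
    refine ⟨?_, ?_⟩
    · have := hg1.mul (linForm_isHomogeneous f)
      rwa [show n - 2 + 1 = n - 1 by omega] at this
    · simp only [Submodule.mem_iInf, LinearMap.mem_ker, AlgHom.toLinearMap_apply]
      intro w hw
      rw [map_mul, aeval_linForm]
      by_cases h1 : w = w₁
      · rw [h1, hfw₁, mul_zero]
      by_cases h2 : w = w₂
      · rw [h2, hfw₂, mul_zero]
      · rw [hg3 w (Finset.mem_erase.mpr ⟨h2, Finset.mem_erase.mpr ⟨h1, hw⟩⟩), zero_mul]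
  have := hle hmem
  simp only [Submodule.mem_iInf, LinearMap.mem_ker, AlgHom.toLinearMap_apply] at this
  have hv0 := this v hv
  rw [map_mul, aeval_linForm] at hv0
  exact (mul_ne_zero hg2 hf1) hv0

end Groth.Agent.H28.PlanePts
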