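import Mathlib

/-!
# Finite projective resolutions and projective dimension (helper28)
-/

set_option autoImplicit false
universe v u

open CategoryTheory CategoryTheory.Limits

namespace Groth.Agent.H28.ProjRes

variable {C : Type u} [Category.{v} C] [Abelian C]

section splice

/-- the augmentation map of a projective resolution, with a clean type -/
noncomputable def π₀ {K : C} (Q : ProjectiveResolution K) : Q.complex.X 0 ⟶ K := Q.π.f 0

lemma d_comp_π₀ {K : C} (Q : ProjectiveResolution K) : Q.complex.d 1 0 ≫ π₀ Q = 0 :=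
  Q.complex_d_comp_π_f_zero

lemma exact₀' {K : C} (Q : ProjectiveResolution K) :
    (ShortComplex.mk (Q.complex.d 1 0) (π₀ Q) (d_comp_π₀ Q)).Exact := Q.exact₀

instance epi_π₀ {K : C} (Q : ProjectiveResolution K) : Epi (π₀ Q) :=
  ((ShortComplex.exact_and_epi_g_iff_g_is_cokernel
    (ShortComplex.mk (Q.complex.d 1 0) (π₀ Q) (d_comp_π₀ Q))).2 ⟨Q.isColimitCokernelCofork⟩).2

variable {K P₀ M : C} (i : K ⟶ P₀) (p : P₀ ⟶ M) (w : i ≫ p = 0)
  (Q : ProjectiveResolution K)

lemma d_comp_π₀_comp : Q.complex.d 1 0 ≫ π₀ Q ≫ i = 0 := by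
  rw [← Category.assoc, d_comp_π₀, zero_comp]

/-- the spliced complex -/
noncomputable def spliceComplex : ChainComplex C ℕ :=
  Q.complex.augment (π₀ Q ≫ i) (d_comp_π₀_comp i Q)

lemma spliceComplex_d_1_0 : (spliceComplex i Q).d 1 0 = π₀ Q ≫ i := rfl

lemma spliceComplex_exactAt_succ [Mono i] (n : ℕ) : (spliceComplex i Q).ExactAt (n + 1) := by
  rw [HomologicalComplex.exactAt_iff' _ (n + 1 + 1) (n + 1) n (by simp) (by simp)]
  cases n with
  | zero =>
    let φ : ShortComplex.mk (Q.complex.d 1 0) (π₀ Q) (d_comp_π₀ Q) ⟶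
        (spliceComplex i Q).sc' (0 + 1 + 1) (0 + 1) 0 :=
      { τ₁ := 𝟙 _
        τ₂ := 𝟙 _
        τ₃ := i
        comm₁₂ := (Category.id_comp (Q.complex.d 1 0)).trans (Category.comp_id _).symm
        comm₂₃ := (Category.id_comp (π₀ Q ≫ i)) }
    have h1 : Epi φ.τ₁ := (inferInstance : Epi (𝟙 (Q.complex.X 1)))
    have h2 : IsIso φ.τ₂ := (inferInstance : IsIso (𝟙 (Q.complex.X 0)))
    have h3 : Mono φ.τ₃ := (inferInstance : Mono i)
    exact (ShortComplex.exact_iff_of_epi_of_isIso_of_mono φ).1 (exact₀' Q)
  | succ n =>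
    exact Q.exact_succ n

include w in
lemma π₀_comp_comp : (π₀ Q ≫ i) ≫ p = 0 := by
  rw [Category.assoc, w, comp_zero]

lemma splice_exact₀ (hS : (ShortComplex.mk i p w).ShortExact) :
    (ShortComplex.mk (π₀ Q ≫ i) p (π₀_comp_comp i p w Q)).Exact ∧ Epi p := by
  have hepi : Epi p := hS.epi_g
  refine ⟨?_, hepi⟩
  let φ : ShortComplex.mk (π₀ Q ≫ i) p (π₀_comp_comp i p w Q) ⟶
      ShortComplex.mk i p w :=
    { τ₁ := π₀ Q
      τ₂ := 𝟙 _
      τ₃ := 𝟙 _
      comm₁₂ := (Category.comp_id _).symm
      comm₂₃ := (Category.id_comp _).trans (Category.comp_id _).symm }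
  have h1 : Epi φ.τ₁ := (inferInstance : Epi (π₀ Q))
  have h2 : IsIso φ.τ₂ := (inferInstance : IsIso (𝟙 P₀))
  have h3 : Mono φ.τ₃ := (inferInstance : Mono (𝟙 M))
  exact (ShortComplex.exact_iff_of_epi_of_isIso_of_mono φ).2 hS.exact

set_option backward.defeqAttrib.useBackward true in
set_option backward.isDefEq.respectTransparency false in
/-- Splicing a projective resolution of the kernel with a projective cover. -/
noncomputable def splice [Projective P₀] (hS : (ShortComplex.mk i p w).ShortExact) :
    ProjectiveResolution M where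
  complex := spliceComplex i Q
  projective := by
    rintro (_ | n)
    · exact (inferInstance : Projective P₀)
    · exact (inferInstance : Projective (Q.complex.X n))
  π := (ChainComplex.toSingle₀Equiv _ _).symm ⟨p, π₀_comp_comp i p w Q⟩
  quasiIso := ⟨fun n => by
    have : Mono i := hS.mono_f
    cases n with
    | zero =>
      rw [ChainComplex.quasiIsoAt₀_iff, ShortComplex.quasiIso_iff_of_zeros']
      · dsimp
        refine (ShortComplex.exact_and_epi_g_iff_of_iso ?_).2 (splice_exact₀ i p w Q hS)
        exact ShortComplex.isoMk (Iso.refl _) (Iso.refl _) (Iso.refl _)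
          (by simp [spliceComplex]) (by simp)
      all_goals rfl
    | succ n =>
      rw [quasiIsoAt_iff_exactAt']
      · exact spliceComplex_exactAt_succ i Q n
      · exact ChainComplex.exactAt_succ_single_obj _ _⟩

lemma splice_complex_X_succ [Projective P₀] (hS : (ShortComplex.mk i p w).ShortExact) (n : ℕ) :
    (splice i p w Q hS).complex.X (n + 1) = Q.complex.X n := rfl

end splice

section main

lemma hasProjectiveDimensionLT_of_resolution {M : C} (P : ProjectiveResolution M) (d : ℕ)
    (hP : ∀ i, d ≤ i → IsZero (P.complex.X i)) : HasProjectiveDimensionLT M d := by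
  let := HasExt.standard C
  rw [hasProjectiveDimensionLT_iff]
  intro i hi Y e
  obtain ⟨f, hf, rfl⟩ := P.extMk_surjective e (i + 1) rfl
  have h0 : f = 0 := (hP i hi).eq_of_src _ _
  subst h0
  exact P.extMk_zero _ _

lemma exists_resolution_of_hasProjectiveDimensionLT [EnoughProjectives C] :
    ∀ (d : ℕ) (M : C), HasProjectiveDimensionLT M (d + 1) →
      ∃ P : ProjectiveResolution M, ∀ i : ℕ, d < i → IsZero (P.complex.X i)
  | 0, M, h => by
    have : Projective M := projective_iff_hasProjectiveDimensionLT_one.2 h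
    refine ⟨ProjectiveResolution.self M, fun i hi => ?_⟩
    obtain ⟨j, rfl⟩ : ∃ j, i = j + 1 := ⟨i - 1, by omega⟩
    exact HomologicalComplex.isZero_single_obj_X _ _ _ _ (by simp)
  | d + 1, M, h => by
    have hS : (ShortComplex.mk (kernel.ι (Projective.π M)) (Projective.π M)
        (kernel.condition _)).ShortExact :=
      { exact := ShortComplex.exact_of_f_is_kernel _ (kernelIsKernel _)
        mono_f := (inferInstance : Mono (kernel.ι (Projective.π M)))
        epi_g := (inferInstance : Epi (Projective.π M)) }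
    have hK : HasProjectiveDimensionLT (kernel (Projective.π M)) (d + 1) :=
      (hS.hasProjectiveDimensionLT_X₃_iff d
        (inferInstance : Projective (Projective.over M))).1 h
    obtain ⟨Q, hQ⟩ := exists_resolution_of_hasProjectiveDimensionLT d _ hK
    refine ⟨splice _ _ _ Q hS, fun i hi => ?_⟩
    obtain ⟨j, rfl⟩ : ∃ j, i = j + 1 := ⟨i - 1, by omega⟩
    exact hQ j (by omega)

lemma isZero_leftDerived_obj_of_resolution {D : Type*} [Category D] [Abelian D]
    (F : C ⥤ D) [F.Additive] [HasProjectiveResolutions C]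
    {M : C} (P : ProjectiveResolution M) (i : ℕ)
    (hP : IsZero (P.complex.X i)) : IsZero ((F.leftDerived i).obj M) := by
  refine IsZero.of_iso ?_ (P.isoLeftDerivedObj F i)
  apply HomologicalComplex.ExactAt.isZero_homology
  apply HomologicalComplex.ExactAt.of_isZero
  exact F.map_isZero hP

lemma isZero_leftDerived_one_of_shortExact {D : Type*} [Category D] [Abelian D]
    (F : C ⥤ D) [F.Additive] [HasProjectiveResolutions C]
    {K P₀ M : C} (i : K ⟶ P₀) (p : P₀ ⟶ M) (w : i ≫ p = 0)
    (hS : (ShortComplex.mk i p w).ShortExact) [Projective P₀] [Projective K]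
    (hmono : Mono (F.map i)) : IsZero ((F.leftDerived 1).obj M) := by
  let P := splice i p w (ProjectiveResolution.self K) hS
  refine IsZero.of_iso ?_ (P.isoLeftDerivedObj F 1)
  apply HomologicalComplex.ExactAt.isZero_homology
  rw [HomologicalComplex.exactAt_iff' _ 2 1 0 (by simp) (by simp)]
  have hf : (((F.mapHomologicalComplex (ComplexShape.down ℕ)).obj P.complex).sc' 2 1 0).f = 0 := by
    have h0 : P.complex.d 2 1 = 0 :=
      (HomologicalComplex.isZero_single_obj_X (ComplexShape.down ℕ) 0 K 1 (by simp)).eq_of_src _ _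
    change F.map (P.complex.d 2 1) = 0
    rw [h0, F.map_zero]
  rw [ShortComplex.exact_iff_mono _ hf]
  have hg : P.complex.d 1 0 = i := by
    change π₀ (ProjectiveResolution.self K) ≫ i = i
    exact Category.id_comp i
  change Mono (F.map (P.complex.d 1 0))
  rw [hg]
  exact hmono

end main

end Groth.Agent.H28.ProjRes
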