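import Mathlib

/-!
# fpqc descent of quasi-finite ring maps and locally quasi-finite morphisms
-/

set_option autoImplicit false
set_option linter.style.haveILetI false

open TensorProduct

namespace Groth.Agent.H28.QFDesc

universe u

theorem quasiFinite_of_faithfullyFlat_baseChange {R S T : Type u} [CommRing R] [CommRing S]
    [CommRing T] [Algebra R S] [Algebra R T] [Module.FaithfullyFlat R S]
    [Algebra.QuasiFinite S (S ⊗[R] T)] : Algebra.QuasiFinite R T := by
  refine ⟨fun P hP => ?_⟩
  obtain ⟨Q, hQ, hQP⟩ := Ideal.exists_isPrime_liesOver_of_faithfullyFlat (B := S) P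
  let φ : P.ResidueField →+* Q.ResidueField :=
    Ideal.ResidueField.map P Q (algebraMap R S) hQP.over
  letI : Algebra P.ResidueField Q.ResidueField := φ.toAlgebra
  haveI : IsScalarTower R P.ResidueField Q.ResidueField :=
    IsScalarTower.of_algebraMap_eq (fun r => by
      rw [RingHom.algebraMap_toAlgebra]
      simp only [φ, Ideal.ResidueField.map_algebraMap]
      exact IsScalarTower.algebraMap_apply R S Q.ResidueField r)
  have h1 : Algebra.QuasiFinite Q.ResidueField (Q.ResidueField ⊗[S] (S ⊗[R] T)) := inferInstance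
  have h2 : Module.Finite Q.ResidueField (Q.ResidueField ⊗[S] (S ⊗[R] T)) :=
    Algebra.QuasiFinite.iff_of_isArtinianRing.mp h1
  have e1 : Q.ResidueField ⊗[S] (S ⊗[R] T) ≃ₗ[Q.ResidueField] Q.ResidueField ⊗[R] T :=
    TensorProduct.AlgebraTensorModule.cancelBaseChange R S Q.ResidueField Q.ResidueField T
  have e2 : Q.ResidueField ⊗[P.ResidueField] (P.ResidueField ⊗[R] T) ≃ₗ[Q.ResidueField]
      Q.ResidueField ⊗[R] T :=
    TensorProduct.AlgebraTensorModule.cancelBaseChange R P.ResidueField Q.ResidueField
      Q.ResidueField T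
  haveI h3 : Module.Finite Q.ResidueField
      (Q.ResidueField ⊗[P.ResidueField] (P.ResidueField ⊗[R] T)) :=
    Module.Finite.equiv (e1.trans e2.symm)
  exact Module.Finite.of_finite_tensorProduct_of_faithfullyFlat Q.ResidueField

theorem quasiFinite_codescendsAlong_faithfullyFlat :
    RingHom.CodescendsAlong RingHom.QuasiFinite RingHom.FaithfullyFlat := by
  refine .mk _ RingHom.QuasiFinite.respectsIso (fun R S T _ _ _ _ _ h h' => ?_)
  rw [RingHom.quasiFinite_algebraMap] at h' ⊢
  rw [RingHom.faithfullyFlat_algebraMap_iff] at h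
  exact quasiFinite_of_faithfullyFlat_baseChange (S := S)

open AlgebraicGeometry CategoryTheory MorphismProperty in
instance descendsAlong_locallyQuasiFinite :
    MorphismProperty.DescendsAlong @LocallyQuasiFinite
      (@Surjective ⊓ @Flat ⊓ @QuasiCompact) :=
  HasRingHomProperty.descendsAlong_flat quasiFinite_codescendsAlong_faithfullyFlat

end Groth.Agent.H28.QFDesc
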