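import Mathlib
import Groth.Agent.H28.QcMore

/-!
# Fibre products of quasi-compact quasi-separated algebraic stacks
-/

set_option autoImplicit false
set_option linter.style.haveILetI false
set_option backward.isDefEq.respectTransparency false
set_option backward.isDefEq.respectTransparency.types false

namespace Groth.Agent.H28.RepComp

open CategoryTheory CategoryTheory.Limits FibCat AlgebraicGeometry Opposite Stk MorphismProperty
open Groth.Agent.Helper22 Groth.Agent.Helper22.EquivComp Groth.Agent.Helper22.FpSq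
open Groth.Agent.Helper22.FpEquiv Groth.Agent.H28.LiftFp
open Groth.Agent.H28.FpBase Groth.Agent.H28.PshDict Groth.Agent.H28.IsoCl
open Groth.Agent.H25.AS

universe u

variable {S : Scheme.{u}} {𝒳 𝒴 𝒵 : AlgSt.Cat S}

/-- a morphism between stacks quasi-separated over the base is quasi-separated -/
theorem isQuasiSeparatedMor_of_over (b : 𝒵 ⥤ᵇ 𝒴) (h𝒵 : AlgSt.IsQuasiSeparatedOver 𝒵)
    (h𝒴 : AlgSt.IsQuasiSeparatedOver 𝒴) : AlgSt.IsQuasiSeparatedMor b := by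
  have h1 : AlgSt.IsQuasiSeparatedMor (BasedFunctor.comp b (FibCat.toSelf 𝒴)) := by
    rw [toSelf_comp b]
    exact h𝒵
  have h2 : AlgSt.RepByAlgSpWith AlgSp.IsQuasiSeparatedMor (FibCat.diag (FibCat.toSelf 𝒴)) :=
    repByAlgSpWith_mono (fun _ _ _ h => h.2) _ h𝒴
  exact isQuasiSeparatedMor_of_comp' b (FibCat.toSelf 𝒴) h1 h2

theorem qcqs_fp [QuasiSeparatedSpace ↥S]
    (h𝒳 : AlgSt.IsAlgStack Scheme.fppfPrecoverage 𝒳)
    (h𝒴 : AlgSt.IsAlgStack Scheme.fppfPrecoverage 𝒴)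
    (h𝒵 : AlgSt.IsAlgStack Scheme.fppfPrecoverage 𝒵) (a : 𝒳 ⥤ᵇ 𝒴) (b : 𝒵 ⥤ᵇ 𝒴)
    (hq𝒳 : AlgSt.IsQuasiCompact 𝒳) (hs𝒳 : AlgSt.IsQuasiSeparatedOver 𝒳)
    (hs𝒴 : AlgSt.IsQuasiSeparatedOver 𝒴)
    (hq𝒵 : AlgSt.IsQuasiCompact 𝒵) (hs𝒵 : AlgSt.IsQuasiSeparatedOver 𝒵) :
    AlgSt.IsQuasiCompact (FibCat.fp a b) ∧ AlgSt.IsQuasiSeparatedOver (FibCat.fp a b) := by
  refine ⟨?_, ?_⟩
  · exact isQuasiCompactMor_of_qc_of_qs h𝒵 h𝒴 b hq𝒵 hs𝒴 𝒳 h𝒳 hq𝒳 a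
  · have hb : AlgSt.IsQuasiSeparatedMor b := isQuasiSeparatedMor_of_over b hs𝒵 hs𝒴
    have h1 : AlgSt.IsQuasiSeparatedMor (FibCat.fpFst a b) :=
      repByAlgSpWith_diag_fpFst _ b a hb
    have h2 : AlgSt.IsQuasiSeparatedMor
        (BasedFunctor.comp (FibCat.fpFst a b) (FibCat.toSelf 𝒳)) :=
      isQuasiSeparatedMor_comp'
        (Groth.Agent.S6401.result a b h𝒳.isStack.1 h𝒵.isStack.1 h𝒴.isStack.1) h𝒳.isStack.1
        (FibCat.fpFst a b) (FibCat.toSelf 𝒳) h1 hs𝒳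
    rw [toSelf_comp] at h2
    exact h2

end Groth.Agent.H28.RepComp
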