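import Mathlib
import Groth.Agent.H28.FlatComp

set_option autoImplicit false
universe v u
open CategoryTheory CategoryTheory.Limits MonoidalCategory CartesianMonoidalCategory AlgebraicGeometry

namespace Groth.Agent.H28.QuotCov

/-- A flat local homomorphism of local rings is injective. -/
theorem injective_of_flat_of_isLocalHom {B C : Type u} [CommRing B] [CommRing C]
    [IsLocalRing B] [IsLocalRing C] (ψ : B →+* C) [IsLocalHom ψ] (hψ : ψ.Flat) :
    Function.Injective ψ := by
  algebraize [ψ]
  have : IsLocalHom (algebraMap B C) := ‹IsLocalHom ψ›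
  have : Module.FaithfullyFlat B C := Module.FaithfullyFlat.of_flat_of_isLocalHom
  exact FaithfulSMul.algebraMap_injective B C

/-- If `r ≫ p` is flat and surjective and the middle scheme is reduced, then the target is
reduced. -/
theorem isReduced_of_flat_surjective_factor {Z G G'' : Scheme.{u}} (r : Z ⟶ G) (p : G ⟶ G'')
    [Flat (r ≫ p)] [Surjective (r ≫ p)] [IsReduced G] : IsReduced G'' := by
  apply +allowSynthFailures isReduced_of_isReduced_stalk
  intro y
  obtain ⟨z, rfl⟩ := (r ≫ p).surjective y
  have h1 : ((r ≫ p).stalkMap z).hom.Flat := Flat.stalkMap (r ≫ p) z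
  have hcomp : (r ≫ p).stalkMap z = p.stalkMap (r z) ≫ r.stalkMap z :=
    Scheme.Hom.stalkMap_comp r p z
  have h1' : (p.stalkMap (r z) ≫ r.stalkMap z).hom.Flat := hcomp ▸ h1
  have h2 : Function.Injective (p.stalkMap (r z) ≫ r.stalkMap z).hom :=
    injective_of_flat_of_isLocalHom _ h1'
  have h3 : Function.Injective (p.stalkMap (r z)).hom := by
    rw [CommRingCat.hom_comp, RingHom.coe_comp] at h2
    exact Function.Injective.of_comp h2
  exact isReduced_of_injective _ h3

variable {C : Type u} [Category.{v} C] [CartesianMonoidalCategory C]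

/-- `G'` is the fibre of `fst : G ⊗ G' ⟶ G` over a point `e` of `G`. -/
lemma isPullback_unit_fst (G G' : C) (e : 𝟙_ C ⟶ G) :
    IsPullback (lift (toUnit G' ≫ e) (𝟙 G')) (toUnit G') (fst G G') e := by
  refine ⟨⟨by simp⟩, ⟨PullbackCone.IsLimit.mk _ (fun s => s.fst ≫ snd G G') ?_ ?_ ?_⟩⟩
  · intro s
    apply CartesianMonoidalCategory.hom_ext
    · simp only [Category.assoc, comp_lift, lift_fst]
      rw [s.condition, ← Category.assoc, ← Category.assoc]
      congr 1
      exact toUnit_unique _ _
    · simp
  · intro s
    exact toUnit_unique _ _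
  · intro s m h1 h2
    rw [← h1, Category.assoc, lift_snd, Category.comp_id]

end Groth.Agent.H28.QuotCov
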