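import Mathlib
import Groth.Agent.H28.RepBySp1

set_option autoImplicit false
universe u

open CategoryTheory CategoryTheory.Limits AlgebraicGeometry Opposite

namespace Groth.Agent.H28.RepBySp

open AlgSp

/-- a pullback square from existence and uniqueness of lifts. -/
theorem isPullback_mk {C : Type*} [Category C] {P X Y Z : C} {fst : P ⟶ X} {snd : P ⟶ Y}
    {f : X ⟶ Z} {g : Y ⟶ Z} (w : fst ≫ f = snd ≫ g)
    (h : ∀ {W : C} (u : W ⟶ X) (v : W ⟶ Y), u ≫ f = v ≫ g →
      ∃ m : W ⟶ P, m ≫ fst = u ∧ m ≫ snd = v)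
    (hu : ∀ {W : C} (m m' : W ⟶ P), m ≫ fst = m' ≫ fst → m ≫ snd = m' ≫ snd → m = m') :
    IsPullback fst snd f g :=
  IsPullback.of_isLimit (PullbackCone.IsLimit.mk w
    (fun s => (h s.fst s.snd s.condition).choose)
    (fun s => (h s.fst s.snd s.condition).choose_spec.1)
    (fun s => (h s.fst s.snd s.condition).choose_spec.2)
    (fun s _ h1 h2 => hu _ _ (h1.trans (h s.fst s.snd s.condition).choose_spec.1.symm)
      (h2.trans (h s.fst s.snd s.condition).choose_spec.2.symm)))

variable {S : Scheme.{u}}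

/-- (K4) composition. -/
theorem comp {F G H : PSp S} {a : F ⟶ G} {b : G ⟶ H} (ha : RepBySp a) (hb : RepBySp b) :
    RepBySp (a ≫ b) := by
  intro U ξ P fst snd sq
  have sqb := IsPullback.of_hasPullback b ξ
  have hG' : IsAlgSpaceP (pullback b ξ) := hb ξ _ _ sqb
  let ℓ : P ⟶ pullback b ξ := pullback.lift (fst ≫ a) snd (by rw [Category.assoc]; exact sq.w)
  have top : IsPullback fst ℓ a (pullback.fst b ξ) := by
    refine IsPullback.of_bot ?_ ?_ sqb
    · have : ℓ ≫ pullback.snd b ξ = snd := pullback.lift_snd _ _ _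
      rw [this]
      exact sq
    · exact (pullback.lift_fst _ _ _).symm
  exact isAlgSpaceP_of_repBySp ℓ (of_isPullback top.flip ha) hG'

/-- (K5) the diagonal. -/
theorem diagonal {F G : PSp S} {a : F ⟶ G} (ha : RepBySp a) : RepBySp (pullback.diagonal a) := by
  intro U ξ P p1 p2 sq
  have hx : (ξ ≫ pullback.fst a a) ≫ a = (ξ ≫ pullback.snd a a) ≫ a := by
    simp only [Category.assoc, pullback.condition]
  have sqE := IsPullback.of_hasPullback a ((ξ ≫ pullback.fst a a) ≫ a)
  have hE : IsAlgSpaceP (pullback a ((ξ ≫ pullback.fst a a) ≫ a)) := ha _ _ _ sqE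
  let s1 : (pyon S).obj U ⟶ pullback a ((ξ ≫ pullback.fst a a) ≫ a) :=
    pullback.lift (ξ ≫ pullback.fst a a) (𝟙 _) (by simp)
  let s2 : (pyon S).obj U ⟶ pullback a ((ξ ≫ pullback.fst a a) ≫ a) :=
    pullback.lift (ξ ≫ pullback.snd a a) (𝟙 _) (by rw [Category.id_comp]; exact hx.symm)
  have hs1 : RepBySp s1 := repBySp_of_isAlgSpaceP hE s1
  have hp1 : p1 = p2 ≫ ξ ≫ pullback.fst a a := by
    have h2 := congrArg (· ≫ pullback.fst a a) sq.w
    simpa using h2
  have hp1' : p1 = p2 ≫ ξ ≫ pullback.snd a a := by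
    have h2 := congrArg (· ≫ pullback.snd a a) sq.w
    simpa using h2
  have key : IsPullback p2 p2 s1 s2 := by
    refine isPullback_mk ?_ ?_ ?_
    · apply pullback.hom_ext
      · simp only [Category.assoc, s1, s2, pullback.lift_fst]
        rw [← hp1, ← hp1']
      · simp only [Category.assoc, s1, s2, pullback.lift_snd]
    · intro W u v huv
      have h1 : u = v := by
        have := congrArg (· ≫ pullback.snd a ((ξ ≫ pullback.fst a a) ≫ a)) huv
        simpa [s1, s2, pullback.lift_snd] using this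
      have h2 : u ≫ ξ ≫ pullback.fst a a = v ≫ ξ ≫ pullback.snd a a := by
        have := congrArg (· ≫ pullback.fst a ((ξ ≫ pullback.fst a a) ≫ a)) huv
        simpa [s1, s2, pullback.lift_fst] using this
      subst h1
      refine ⟨sq.lift (u ≫ ξ ≫ pullback.fst a a) u ?_, sq.lift_snd _ _ _, sq.lift_snd _ _ _⟩
      apply pullback.hom_ext
      · simp
      · simp only [Category.assoc, pullback.diagonal_snd, Category.comp_id]
        exact h2
    · intro W m m' h1 _
      apply sq.hom_ext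
      · rw [hp1, reassoc_of% h1]
      · exact h1
  exact hs1 s2 p2 p2 key

/-- (K7) cancellation. -/
theorem of_comp_of_diagonal {F G H : PSp S} {a : F ⟶ G} {b : G ⟶ H}
    (hΔ : RepBySp (pullback.diagonal b)) (hab : RepBySp (a ≫ b)) : RepBySp a := by
  intro U ξ P p1 p2 sq
  have sqQ := IsPullback.of_hasPullback (a ≫ b) (ξ ≫ b)
  have hQ : IsAlgSpaceP (pullback (a ≫ b) (ξ ≫ b)) := hab _ _ _ sqQ
  let ℓ : P ⟶ pullback (a ≫ b) (ξ ≫ b) :=
    pullback.lift p1 p2 (by rw [← Category.assoc, sq.w, Category.assoc])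
  let θ : pullback (a ≫ b) (ξ ≫ b) ⟶ pullback b b :=
    pullback.lift (pullback.fst _ _ ≫ a) (pullback.snd _ _ ≫ ξ)
      (by simp only [Category.assoc]; exact pullback.condition)
  have hℓ1 : ℓ ≫ pullback.fst (a ≫ b) (ξ ≫ b) = p1 := pullback.lift_fst _ _ _
  have hℓ2 : ℓ ≫ pullback.snd (a ≫ b) (ξ ≫ b) = p2 := pullback.lift_snd _ _ _
  have hθ1 : θ ≫ pullback.fst b b = pullback.fst _ _ ≫ a := pullback.lift_fst _ _ _
  have hθ2 : θ ≫ pullback.snd b b = pullback.snd _ _ ≫ ξ := pullback.lift_snd _ _ _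
  have key : IsPullback ℓ (p1 ≫ a) θ (pullback.diagonal b) := by
    refine isPullback_mk ?_ ?_ ?_
    · apply pullback.hom_ext
      · simp only [Category.assoc, hθ1, pullback.diagonal_fst, Category.comp_id]
        rw [reassoc_of% hℓ1]
      · simp only [Category.assoc, hθ2, pullback.diagonal_snd, Category.comp_id]
        rw [reassoc_of% hℓ2, sq.w]
    · intro W u v huv
      have h1 : u ≫ pullback.fst (a ≫ b) (ξ ≫ b) ≫ a = v := by
        have := congrArg (· ≫ pullback.fst b b) huv
        simpa [hθ1] using this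
      have h2 : u ≫ pullback.snd (a ≫ b) (ξ ≫ b) ≫ ξ = v := by
        have := congrArg (· ≫ pullback.snd b b) huv
        simpa [hθ2] using this
      refine ⟨sq.lift (u ≫ pullback.fst _ _) (u ≫ pullback.snd _ _) ?_, ?_, ?_⟩
      · simp only [Category.assoc]
        rw [h1, h2]
      · apply pullback.hom_ext
        · rw [Category.assoc, hℓ1, sq.lift_fst]
        · rw [Category.assoc, hℓ2, sq.lift_snd]
      · rw [← Category.assoc, sq.lift_fst, Category.assoc, h1]
    · intro W m m' h1 _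
      apply sq.hom_ext
      · rw [← hℓ1, ← Category.assoc, h1, Category.assoc]
      · rw [← hℓ2, ← Category.assoc, h1, Category.assoc]
  exact isAlgSpaceP_of_repBySp ℓ (of_isPullback key hΔ) hQ

/-- `a × id` is a base change of `a`. -/
theorem isPullback_prod_map_id {C : Type*} [Category C] [HasBinaryProducts C] {F₁ G₁ F₂ : C}
    (a₁ : F₁ ⟶ G₁) :
    IsPullback (prod.map a₁ (𝟙 F₂)) prod.fst prod.fst a₁ := by
  refine isPullback_mk (by simp) ?_ ?_
  · intro W u v huv
    refine ⟨prod.lift v (u ≫ prod.snd), ?_, by simp [prod.lift_fst]⟩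
    apply Limits.prod.hom_ext
    · simp [huv, prod.lift_fst]
    · simp [prod.lift_snd]
  · intro W m m' h1 h2
    apply Limits.prod.hom_ext
    · exact h2
    · have := congrArg (· ≫ prod.snd) h1
      simpa using this

/-- `id × a` is a base change of `a`. -/
theorem isPullback_prod_id_map {C : Type*} [Category C] [HasBinaryProducts C] {G₁ F₂ G₂ : C}
    (a₂ : F₂ ⟶ G₂) :
    IsPullback (prod.map (𝟙 G₁) a₂) prod.snd prod.snd a₂ := by
  refine isPullback_mk (by simp) ?_ ?_
  · intro W u v huv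
    refine ⟨prod.lift (u ≫ prod.fst) v, ?_, by simp [prod.lift_snd]⟩
    apply Limits.prod.hom_ext
    · simp [prod.lift_fst]
    · simp [huv, prod.lift_snd]
  · intro W m m' h1 h2
    apply Limits.prod.hom_ext
    · have := congrArg (· ≫ prod.fst) h1
      simpa using this
    · exact h2

/-- (K6) products. -/
theorem prod_map {F₁ G₁ F₂ G₂ : PSp S} {a₁ : F₁ ⟶ G₁} {a₂ : F₂ ⟶ G₂} (h₁ : RepBySp a₁)
    (h₂ : RepBySp a₂) : RepBySp (prod.map a₁ a₂) := by
  have e : prod.map a₁ a₂ = prod.map a₁ (𝟙 F₂) ≫ prod.map (𝟙 G₁) a₂ := by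
    simp [prod.map_map]
  rw [e]
  exact comp (of_isPullback (isPullback_prod_map_id a₁) h₁)
    (of_isPullback (isPullback_prod_id_map a₂) h₂)

end Groth.Agent.H28.RepBySp
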