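import Mathlib
import Groth.Agent.H28.RepBySp2

set_option autoImplicit false
universe u

open CategoryTheory CategoryTheory.Limits AlgebraicGeometry Opposite

namespace Groth.Agent.H28.RepBySp

open AlgSp

variable {S : Scheme.{u}}

/-- `h_{T × U}` is the product of `h_T` and `h_U`. -/
noncomputable def prodIsLimit (T U : Over S) :
    IsLimit (BinaryFan.mk ((pyon S).map (prod.fst : T ⨯ U ⟶ T))
      ((pyon S).map (prod.snd : T ⨯ U ⟶ U))) :=
  (isLimitMapConeBinaryFanEquiv (pyon S) prod.fst prod.snd)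
    (isLimitOfPreserves (pyon S) (prodIsProd T U))

theorem exists_prod_lift (T U : Over S) {X : PSp S} (u : X ⟶ (pyon S).obj T)
    (v : X ⟶ (pyon S).obj U) :
    ∃ m : X ⟶ (pyon S).obj (T ⨯ U),
      m ≫ (pyon S).map prod.fst = u ∧ m ≫ (pyon S).map prod.snd = v :=
  ⟨(BinaryFan.IsLimit.lift' (prodIsLimit T U) u v).1,
    (BinaryFan.IsLimit.lift' (prodIsLimit T U) u v).2.1,
    (BinaryFan.IsLimit.lift' (prodIsLimit T U) u v).2.2⟩

theorem prod_hom_ext (T U : Over S) {X : PSp S} {m m' : X ⟶ (pyon S).obj (T ⨯ U)}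
    (h1 : m ≫ (pyon S).map prod.fst = m' ≫ (pyon S).map prod.fst)
    (h2 : m ≫ (pyon S).map prod.snd = m' ≫ (pyon S).map prod.snd) : m = m' :=
  BinaryFan.IsLimit.hom_ext (prodIsLimit T U) h1 h2

/-- (K8) the diagonal criterion. -/
theorem diag_iff (F : PSp S) :
    RepBySp (Limits.diag F) ↔ ∀ (T : Over S) (ξ : (pyon S).obj T ⟶ F), RepBySp ξ := by
  have hdf : Limits.diag F ≫ prod.fst = 𝟙 F := prod.lift_fst _ _
  have hds : Limits.diag F ≫ prod.snd = 𝟙 F := prod.lift_snd _ _
  constructor
  · intro hd T ξ U η P p1 p2 sq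
    obtain ⟨κ, hκ1, hκ2⟩ := exists_prod_lift T U p1 p2
    have hζ1 : prod.lift ((pyon S).map (prod.fst : T ⨯ U ⟶ T) ≫ ξ)
        ((pyon S).map (prod.snd : T ⨯ U ⟶ U) ≫ η) ≫ prod.fst =
        (pyon S).map prod.fst ≫ ξ := prod.lift_fst _ _
    have hζ2 : prod.lift ((pyon S).map (prod.fst : T ⨯ U ⟶ T) ≫ ξ)
        ((pyon S).map (prod.snd : T ⨯ U ⟶ U) ≫ η) ≫ prod.snd =
        (pyon S).map prod.snd ≫ η := prod.lift_snd _ _
    have key : IsPullback (p1 ≫ ξ) κ (Limits.diag F)
        (prod.lift ((pyon S).map (prod.fst : T ⨯ U ⟶ T) ≫ ξ)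
          ((pyon S).map (prod.snd : T ⨯ U ⟶ U) ≫ η)) := by
      refine isPullback_mk ?_ ?_ ?_
      · apply Limits.prod.hom_ext
        · simp only [Category.assoc]
          rw [hdf, hζ1, Category.comp_id, reassoc_of% hκ1]
        · simp only [Category.assoc]
          rw [hds, hζ2, Category.comp_id, reassoc_of% hκ2, sq.w]
      · intro W u v huv
        have h1 : u = v ≫ (pyon S).map prod.fst ≫ ξ := by
          have := congrArg (· ≫ prod.fst) huv
          simpa only [Category.assoc, hdf, hζ1, Category.comp_id] using this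
        have h2 : u = v ≫ (pyon S).map prod.snd ≫ η := by
          have := congrArg (· ≫ prod.snd) huv
          simpa only [Category.assoc, hds, hζ2, Category.comp_id] using this
        refine ⟨sq.lift (v ≫ (pyon S).map prod.fst) (v ≫ (pyon S).map prod.snd)
          (by simp only [Category.assoc]; rw [← h1, ← h2]), ?_, ?_⟩
        · rw [← Category.assoc, sq.lift_fst, Category.assoc, ← h1]
        · apply prod_hom_ext T U
          · rw [Category.assoc, hκ1, sq.lift_fst]
          · rw [Category.assoc, hκ2, sq.lift_snd]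
      · intro W m m' _ h2
        apply sq.hom_ext
        · rw [← hκ1, ← Category.assoc, h2, Category.assoc]
        · rw [← hκ2, ← Category.assoc, h2, Category.assoc]
    exact hd _ (p1 ≫ ξ) κ key
  · intro h U ζ P p1 p2 sq
    have hp1 : p1 = p2 ≫ ζ ≫ prod.fst := by
      have := congrArg (· ≫ prod.fst) sq.w
      simpa only [Category.assoc, hdf, Category.comp_id] using this
    have hp1' : p1 = p2 ≫ ζ ≫ prod.snd := by
      have := congrArg (· ≫ prod.snd) sq.w
      simpa only [Category.assoc, hds, Category.comp_id] using this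
    have sqE := IsPullback.of_hasPullback (ζ ≫ prod.fst) (ζ ≫ prod.snd)
    have hE : IsAlgSpaceP (pullback (ζ ≫ prod.fst) (ζ ≫ prod.snd)) :=
      h U (ζ ≫ prod.fst) (ζ ≫ prod.snd) _ _ sqE
    obtain ⟨ε, hε1, hε2⟩ := exists_prod_lift U U
      (pullback.fst (ζ ≫ prod.fst) (ζ ≫ prod.snd)) (pullback.snd (ζ ≫ prod.fst) (ζ ≫ prod.snd))
    have hδ1 : (pyon S).map (Limits.diag U) ≫ (pyon S).map prod.fst = 𝟙 _ := by
      rw [← Functor.map_comp]
      have : Limits.diag U ≫ prod.fst = 𝟙 U := prod.lift_fst _ _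
      rw [this]
      exact (pyon S).map_id U
    have hδ2 : (pyon S).map (Limits.diag U) ≫ (pyon S).map prod.snd = 𝟙 _ := by
      rw [← Functor.map_comp]
      have : Limits.diag U ≫ prod.snd = 𝟙 U := prod.lift_snd _ _
      rw [this]
      exact (pyon S).map_id U
    let d : P ⟶ pullback (ζ ≫ prod.fst) (ζ ≫ prod.snd) :=
      pullback.lift p2 p2 (by rw [← hp1, ← hp1'])
    have hd1 : d ≫ pullback.fst (ζ ≫ prod.fst) (ζ ≫ prod.snd) = p2 := pullback.lift_fst _ _ _
    have hd2 : d ≫ pullback.snd (ζ ≫ prod.fst) (ζ ≫ prod.snd) = p2 := pullback.lift_snd _ _ _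
    have key : IsPullback d p2 ε ((pyon S).map (Limits.diag U)) := by
      refine isPullback_mk ?_ ?_ ?_
      · apply prod_hom_ext U U
        · rw [Category.assoc, hε1, hd1, Category.assoc, hδ1, Category.comp_id]
        · rw [Category.assoc, hε2, hd2, Category.assoc, hδ2, Category.comp_id]
      · intro W u v huv
        have h1 : u ≫ pullback.fst (ζ ≫ prod.fst) (ζ ≫ prod.snd) = v := by
          have := congrArg (· ≫ (pyon S).map prod.fst) huv
          simpa only [Category.assoc, hε1, hδ1, Category.comp_id] using this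
        have h2 : u ≫ pullback.snd (ζ ≫ prod.fst) (ζ ≫ prod.snd) = v := by
          have := congrArg (· ≫ (pyon S).map prod.snd) huv
          simpa only [Category.assoc, hε2, hδ2, Category.comp_id] using this
        have h3 : v ≫ ζ ≫ prod.fst = v ≫ ζ ≫ prod.snd := by
          rw [← h1, Category.assoc, pullback.condition, ← Category.assoc, h2, h1]
        refine ⟨sq.lift (v ≫ ζ ≫ prod.fst) v ?_, ?_, sq.lift_snd _ _ _⟩
        · apply Limits.prod.hom_ext
          · rw [Category.assoc, hdf, Category.comp_id, Category.assoc]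
          · rw [Category.assoc, hds, Category.comp_id, Category.assoc]
            exact h3
        · apply pullback.hom_ext
          · rw [Category.assoc, hd1, sq.lift_snd, h1]
          · rw [Category.assoc, hd2, sq.lift_snd, h2]
      · intro W m m' _ h2
        apply sq.hom_ext
        · rw [hp1, reassoc_of% h2]
        · exact h2
    exact isAlgSpaceP_of_repBySp d (of_isPullback key (repBySp_pyon_map (Limits.diag U))) hE

end Groth.Agent.H28.RepBySp
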