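import Mathlib

/-!
# The shear automorphism of `C ⊗ A` for a commutative Hopf algebra `A`, and characteristic
polynomials of multiplication on `C ⊗ A`.
-/

set_option autoImplicit false
universe u v w
open scoped TensorProduct
open Coalgebra

namespace Groth.Agent.H28.Shear

section shear

variable {k : Type u} [CommRing k] {A : Type v} [CommRing A] [HopfAlgebra k A]
  {C : Type w} [CommRing C] [Algebra k C]

/-- `c ⊗ a ↦ Σ c u(a₁) ⊗ a₂` -/
noncomputable def shearHom (u : A →ₐ[k] C) : C ⊗[k] A →ₐ[C] C ⊗[k] A :=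
  Algebra.TensorProduct.lift (Algebra.ofId C (C ⊗[k] A))
    ((Algebra.TensorProduct.map u (AlgHom.id k A)).comp (Bialgebra.comulAlgHom k A))
    (fun _ _ => Commute.all _ _)

theorem shearHom_tmul (u : A →ₐ[k] C) (c : C) (a : A) :
    shearHom u (c ⊗ₜ[k] a) =
      (c ⊗ₜ[k] (1 : A)) * Algebra.TensorProduct.map u (AlgHom.id k A) (comul (R := k) a) := by
  simp [shearHom, Algebra.ofId_apply, Algebra.TensorProduct.algebraMap_apply]

theorem shearHom_tmul_repr (u : A →ₐ[k] C) (c : C) (a : A) {ι : Type*} (𝓡 : Coalgebra.Repr k a ι) :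
    shearHom u (c ⊗ₜ[k] a) = ∑ i ∈ 𝓡.index, (c * u (𝓡.left i)) ⊗ₜ[k] 𝓡.right i := by
  rw [shearHom_tmul, ← 𝓡.eq, map_sum, Finset.mul_sum]
  refine Finset.sum_congr rfl fun i _ => ?_
  simp

theorem shearHom_comp_antipode (u : A →ₐ[k] C) (a : A) :
    shearHom (u.comp (HopfAlgebra.antipodeAlgHom k A)) (shearHom u ((1 : C) ⊗ₜ[k] a)) =
      (1 : C) ⊗ₜ[k] a := by
  classical
  let 𝓡 := ℛ k a
  let 𝓡l := fun i => ℛ k (𝓡.left i)
  let 𝓡r := fun i => ℛ k (𝓡.right i)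
  let Ψ : A ⊗[k] (A ⊗[k] A) →ₗ[k] C ⊗[k] A :=
    TensorProduct.map (u.toLinearMap ∘ₗ LinearMap.mul' k A ∘ₗ
      TensorProduct.map LinearMap.id (HopfAlgebra.antipode k)) LinearMap.id ∘ₗ
      (TensorProduct.assoc k A A A).symm.toLinearMap
  have hΨ : ∀ x y z : A, Ψ (x ⊗ₜ[k] (y ⊗ₜ[k] z)) = u (x * HopfAlgebra.antipode k y) ⊗ₜ[k] z := by
    intro x y z
    simp [Ψ]
  rw [shearHom_tmul_repr u 1 a 𝓡, map_sum]
  have h1 : ∀ i ∈ 𝓡.index,
      shearHom (u.comp (HopfAlgebra.antipodeAlgHom k A)) ((1 * u (𝓡.left i)) ⊗ₜ[k] 𝓡.right i) =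
        ∑ j ∈ (𝓡r i).index, Ψ (𝓡.left i ⊗ₜ[k] ((𝓡r i).left j ⊗ₜ[k] (𝓡r i).right j)) := by
    intro i _
    rw [shearHom_tmul_repr _ _ _ (𝓡r i)]
    refine Finset.sum_congr rfl fun j _ => ?_
    rw [hΨ, one_mul, map_mul]
    rfl
  rw [Finset.sum_congr rfl h1]
  simp_rw [← map_sum]
  rw [← Coalgebra.sum_tmul_tmul_eq 𝓡 𝓡l 𝓡r]
  simp_rw [map_sum, hΨ]
  have h2 : ∀ i ∈ 𝓡.index,
      ∑ j ∈ (𝓡l i).index, u ((𝓡l i).left j * HopfAlgebra.antipode k ((𝓡l i).right j)) ⊗ₜ[k] 𝓡.right i =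
        (1 : C) ⊗ₜ[k] (counit (R := k) (𝓡.left i) • 𝓡.right i) := by
    intro i _
    rw [← TensorProduct.sum_tmul, ← map_sum, HopfAlgebra.sum_mul_antipode_eq_algebraMap_counit,
      AlgHom.commutes, Algebra.algebraMap_eq_smul_one, TensorProduct.smul_tmul]
  rw [Finset.sum_congr rfl h2, ← TensorProduct.tmul_sum, Coalgebra.sum_counit_smul]

theorem shearHom_antipode_comp (u : A →ₐ[k] C) (a : A) :
    shearHom u (shearHom (u.comp (HopfAlgebra.antipodeAlgHom k A)) ((1 : C) ⊗ₜ[k] a)) =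
      (1 : C) ⊗ₜ[k] a := by
  classical
  let 𝓡 := ℛ k a
  let 𝓡l := fun i => ℛ k (𝓡.left i)
  let 𝓡r := fun i => ℛ k (𝓡.right i)
  let Ψ : A ⊗[k] (A ⊗[k] A) →ₗ[k] C ⊗[k] A :=
    TensorProduct.map (u.toLinearMap ∘ₗ LinearMap.mul' k A ∘ₗ
      TensorProduct.map (HopfAlgebra.antipode k) LinearMap.id) LinearMap.id ∘ₗ
      (TensorProduct.assoc k A A A).symm.toLinearMap
  have hΨ : ∀ x y z : A, Ψ (x ⊗ₜ[k] (y ⊗ₜ[k] z)) = u (HopfAlgebra.antipode k x * y) ⊗ₜ[k] z := by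
    intro x y z
    simp [Ψ]
  rw [shearHom_tmul_repr _ 1 a 𝓡, map_sum]
  have h1 : ∀ i ∈ 𝓡.index,
      shearHom u ((1 * (u.comp (HopfAlgebra.antipodeAlgHom k A)) (𝓡.left i)) ⊗ₜ[k] 𝓡.right i) =
        ∑ j ∈ (𝓡r i).index, Ψ (𝓡.left i ⊗ₜ[k] ((𝓡r i).left j ⊗ₜ[k] (𝓡r i).right j)) := by
    intro i _
    rw [shearHom_tmul_repr _ _ _ (𝓡r i)]
    refine Finset.sum_congr rfl fun j _ => ?_
    rw [hΨ, one_mul, map_mul]
    rfl
  rw [Finset.sum_congr rfl h1]
  simp_rw [← map_sum]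
  rw [← Coalgebra.sum_tmul_tmul_eq 𝓡 𝓡l 𝓡r]
  simp_rw [map_sum, hΨ]
  have h2 : ∀ i ∈ 𝓡.index,
      ∑ j ∈ (𝓡l i).index, u (HopfAlgebra.antipode k ((𝓡l i).left j) * (𝓡l i).right j) ⊗ₜ[k] 𝓡.right i =
        (1 : C) ⊗ₜ[k] (counit (R := k) (𝓡.left i) • 𝓡.right i) := by
    intro i _
    rw [← TensorProduct.sum_tmul, ← map_sum, HopfAlgebra.sum_antipode_mul_eq_algebraMap_counit,
      AlgHom.commutes, Algebra.algebraMap_eq_smul_one, TensorProduct.smul_tmul]
  rw [Finset.sum_congr rfl h2, ← TensorProduct.tmul_sum, Coalgebra.sum_counit_smul]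

/-- the shear automorphism -/
noncomputable def shearEquiv (u : A →ₐ[k] C) : C ⊗[k] A ≃ₐ[C] C ⊗[k] A :=
  AlgEquiv.ofAlgHom (shearHom u) (shearHom (u.comp (HopfAlgebra.antipodeAlgHom k A)))
    (by
      apply Algebra.TensorProduct.ext
      · ext
      · ext a
        exact shearHom_antipode_comp u a)
    (by
      apply Algebra.TensorProduct.ext
      · ext
      · ext a
        exact shearHom_comp_antipode u a)

@[simp] theorem shearEquiv_apply (u : A →ₐ[k] C) (x : C ⊗[k] A) :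
    shearEquiv u x = shearHom u x := rfl

end shear

section chi

variable {k : Type u} [Field k] {A : Type v} [CommRing A] [Algebra k A] [Module.Finite k A]
  (C : Type w) [CommRing C] [Algebra k C]

/-- characteristic polynomial of multiplication by `x` on `C ⊗ A` over `C` -/
noncomputable def chi (x : C ⊗[k] A) : Polynomial C := (Algebra.lmul C (C ⊗[k] A) x).charpoly

theorem chi_monic (x : C ⊗[k] A) : (chi C x).Monic := LinearMap.charpoly_monic _

theorem aeval_chi (x : C ⊗[k] A) : Polynomial.aeval x (chi C x) = 0 :=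
  Algebra.aeval_self_charpoly_lmul x

variable {C}

theorem chi_map {C' : Type*} [CommRing C'] [Algebra k C'] (φ : C →ₐ[k] C') (x : C ⊗[k] A) :
    chi C' (Algebra.TensorProduct.map φ (AlgHom.id k A) x) = (chi C x).map φ.toRingHom := by
  classical
  let b := Module.finBasis k A
  rw [chi, chi, ← LinearMap.charpoly_toMatrix _ (Algebra.TensorProduct.basis C b),
    ← LinearMap.charpoly_toMatrix _ (Algebra.TensorProduct.basis C' b), ← Matrix.charpoly_map]
  congr 1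
  ext i j
  rw [← Algebra.leftMulMatrix_apply, ← Algebra.leftMulMatrix_apply, Matrix.map_apply,
    Algebra.leftMulMatrix_eq_repr_mul, Algebra.leftMulMatrix_eq_repr_mul]
  have key : ∀ y : C ⊗[k] A, (Algebra.TensorProduct.basis C' b).repr
      (Algebra.TensorProduct.map φ (AlgHom.id k A) y) i =
        φ ((Algebra.TensorProduct.basis C b).repr y i) := by
    intro y
    induction y using TensorProduct.induction_on with
    | zero => simp
    | tmul c a => simp [Algebra.TensorProduct.basis_repr_tmul]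
    | add y z hy hz => simp [hy, hz]
  show _ = φ _
  have h1 : Algebra.TensorProduct.map φ (AlgHom.id k A) (x * Algebra.TensorProduct.basis C b j) =
      Algebra.TensorProduct.map φ (AlgHom.id k A) x * Algebra.TensorProduct.basis C' b j := by
    simp [Algebra.TensorProduct.basis_apply]
  rw [← key, h1]

theorem chi_algEquiv (τ : C ⊗[k] A ≃ₐ[C] C ⊗[k] A) (x : C ⊗[k] A) : chi C (τ x) = chi C x := by
  rw [chi, chi, ← LinearEquiv.charpoly_conj τ.toLinearEquiv (Algebra.lmul C (C ⊗[k] A) x)]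
  congr 1
  apply LinearMap.ext
  intro y
  simp [LinearEquiv.conj_apply]

end chi

end Groth.Agent.H28.Shear
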