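import Mathlib

/-!
# Quasi-sobriety descends along open continuous surjections from locally Noetherian quasi-sober spaces
-/

set_option autoImplicit false
set_option linter.style.haveILetI false

namespace Groth.Agent.H28.SoberDesc

open TopologicalSpace

theorem quasiSober_of_open_surj {X Y : Type*} [TopologicalSpace X] [TopologicalSpace Y]
    (f : X → Y) (hc : Continuous f) (ho : IsOpenMap f) (hs : Function.Surjective f)
    (hX : ∀ x : X, ∃ W : Set X, IsOpen W ∧ x ∈ W ∧ NoetherianSpace W ∧ QuasiSober W) :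
    QuasiSober Y := by
  refine ⟨fun {T} hirr hcl => ?_⟩
  obtain ⟨t, ht⟩ := hirr.nonempty
  obtain ⟨u, rfl⟩ := hs t
  obtain ⟨W, hWo, huW, hWN, hWS⟩ := hX u
  haveI := hWN
  haveI := hWS
  let g : W → Y := fun w => f w.1
  have hg : Continuous g := hc.comp continuous_subtype_val
  have hZ : IsClosed (g ⁻¹' T) := hcl.preimage hg
  obtain ⟨𝒮, hfin, hclosed, hirr', hZeq⟩ :=
    NoetherianSpace.exists_finite_set_isClosed_irreducible hZ
  have himg : T ∩ f '' W = g '' (g ⁻¹' T) := by
    ext y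
    constructor
    · rintro ⟨hyT, a, haW, rfl⟩
      exact ⟨⟨a, haW⟩, hyT, rfl⟩
    · rintro ⟨a, haZ, rfl⟩
      exact ⟨haZ, a.1, a.2, rfl⟩
  have hsub : T ⊆ closure (T ∩ f '' W) :=
    subset_closure_inter_of_isPreirreducible_of_isOpen hirr.isPreirreducible (ho W hWo)
      ⟨f u, ht, u, huW, rfl⟩
  let F : Set W → Set Y := fun C => closure (g '' C)
  have hcov : T ⊆ ⋃₀ ↑(hfin.image F).toFinset := by
    intro y hy
    have h1 := hsub hy
    rw [himg, hZeq, Set.image_sUnion, (hfin.image _).closure_sUnion] at h1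
    obtain ⟨s, ⟨C, hC, rfl⟩, hyC⟩ := Set.mem_iUnion₂.1 h1
    refine ⟨F C, ?_, hyC⟩
    simp only [Set.Finite.coe_toFinset]
    exact ⟨C, hC, rfl⟩
  obtain ⟨z, hz, hTz⟩ := (isIrreducible_iff_sUnion_isClosed.1 hirr) (hfin.image F).toFinset
    (by
      intro z hz
      simp only [Set.Finite.mem_toFinset, Set.mem_image] at hz
      obtain ⟨C, -, rfl⟩ := hz
      exact isClosed_closure) hcov
  simp only [Set.Finite.mem_toFinset, Set.mem_image] at hz
  obtain ⟨C, hC, rfl⟩ := hz
  obtain ⟨ξ, hξ⟩ := QuasiSober.sober (hirr' C hC) (hclosed C hC)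
  refine ⟨g ξ, ?_⟩
  have h2 : IsGenericPoint (g ξ) (closure (g '' C)) := hξ.image hg
  have h3 : closure (g '' C) = T := by
    apply le_antisymm
    · apply hcl.closure_subset_iff.2
      rintro _ ⟨a, haC, rfl⟩
      have : a ∈ g ⁻¹' T := by
        rw [hZeq]
        exact ⟨C, hC, haC⟩
      exact this
    · exact hTz
  rw [← h3]
  exact h2

end Groth.Agent.H28.SoberDesc
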