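import Mathlib.CategoryTheory.Monoidal.Cartesian.Mon
import Mathlib.CategoryTheory.Monoidal.Cartesian.Over
import Mathlib.AlgebraicGeometry.Pullbacks

set_option autoImplicit false
universe v u
open CategoryTheory MonoidalCategory CartesianMonoidalCategory MonObj

namespace Groth.Agent.H28.UnitsRep

variable {C : Type u} [Category.{v} C] [CartesianMonoidalCategory C]

/-- `(x, y) ↦ (x y, y x)` -/
def φ (M : C) [MonObj M] : M ⊗ M ⟶ M ⊗ M := lift μ[M] (lift (snd M M) (fst M M) ≫ μ[M])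

/-- `* ↦ (1, 1)` -/
def υ (M : C) [MonObj M] : 𝟙_ C ⟶ M ⊗ M := lift η[M] η[M]

theorem hpt (M : C) [MonObj M] {T : C} (p : T ⟶ M ⊗ M) :
    p ≫ φ M = toUnit T ≫ υ M ↔
      (p ≫ fst M M) * (p ≫ snd M M) = 1 ∧ (p ≫ snd M M) * (p ≫ fst M M) = 1 := by
  have e1 : p ≫ φ M =
      lift ((p ≫ fst M M) * (p ≫ snd M M)) ((p ≫ snd M M) * (p ≫ fst M M)) := by
    show p ≫ lift μ[M] (lift (snd M M) (fst M M) ≫ μ[M]) = _
    rw [comp_lift, ← Category.assoc p, comp_lift, Hom.mul_def, Hom.mul_def, lift_comp_fst_snd]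
  have e2 : toUnit T ≫ υ M = lift 1 1 := by
    show toUnit T ≫ lift η[M] η[M] = _
    rw [comp_lift, ← Hom.one_def]
  rw [e1, e2]
  constructor
  · intro h
    refine ⟨?_, ?_⟩
    · have := congrArg (fun q => q ≫ fst M M) h
      simpa using this
    · have := congrArg (fun q => q ≫ snd M M) h
      simpa using this
  · rintro ⟨h1, h2⟩
    rw [h1, h2]

variable [Limits.HasPullbacks C]

theorem hcond (M : C) [MonObj M] {T : C} (g : T ⟶ Limits.pullback (φ M) (υ M)) :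
    (g ≫ Limits.pullback.fst (φ M) (υ M)) ≫ φ M = toUnit T ≫ υ M := by
  rw [Category.assoc, Limits.pullback.condition, ← Category.assoc]
  congr 1
  exact toUnit_unique _ _

/-- the inclusion of the units into `M` -/
noncomputable def incl (M : C) [MonObj M] : Limits.pullback (φ M) (υ M) ⟶ M :=
  Limits.pullback.fst (φ M) (υ M) ≫ fst M M

instance mono_incl (M : C) [MonObj M] : Mono (incl M) := by
  constructor
  intro T g₁ g₂ h
  have c1 := (hpt M _).mp (hcond M g₁)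
  have c2 := (hpt M _).mp (hcond M g₂)
  have hx : (g₁ ≫ Limits.pullback.fst (φ M) (υ M)) ≫ fst M M =
      (g₂ ≫ Limits.pullback.fst (φ M) (υ M)) ≫ fst M M := by
    simpa [incl] using h
  have hy : (g₁ ≫ Limits.pullback.fst (φ M) (υ M)) ≫ snd M M =
      (g₂ ≫ Limits.pullback.fst (φ M) (υ M)) ≫ snd M M := by
    calc (g₁ ≫ Limits.pullback.fst (φ M) (υ M)) ≫ snd M M
        = ((g₁ ≫ Limits.pullback.fst (φ M) (υ M)) ≫ snd M M) *
            (((g₂ ≫ Limits.pullback.fst (φ M) (υ M)) ≫ fst M M) *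
              ((g₂ ≫ Limits.pullback.fst (φ M) (υ M)) ≫ snd M M)) := by rw [c2.1, _root_.mul_one]
      _ = (((g₁ ≫ Limits.pullback.fst (φ M) (υ M)) ≫ snd M M) *
            ((g₁ ≫ Limits.pullback.fst (φ M) (υ M)) ≫ fst M M)) *
              ((g₂ ≫ Limits.pullback.fst (φ M) (υ M)) ≫ snd M M) := by rw [← hx, _root_.mul_assoc]
      _ = (g₂ ≫ Limits.pullback.fst (φ M) (υ M)) ≫ snd M M := by rw [c1.2, _root_.one_mul]
  apply Limits.pullback.hom_ext
  · apply CartesianMonoidalCategory.hom_ext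
    · exact hx
    · exact hy
  · exact toUnit_unique _ _

theorem factors_iff (M : C) [MonObj M] {T : C} (m : T ⟶ M) :
    (∃ g : T ⟶ Limits.pullback (φ M) (υ M), g ≫ incl M = m) ↔ IsUnit m := by
  constructor
  · rintro ⟨g, rfl⟩
    have c := (hpt M _).mp (hcond M g)
    refine ⟨⟨(g ≫ Limits.pullback.fst (φ M) (υ M)) ≫ fst M M,
      (g ≫ Limits.pullback.fst (φ M) (υ M)) ≫ snd M M, c.1, c.2⟩, ?_⟩
    simp [incl]
  · rintro ⟨u, rfl⟩
    refine ⟨Limits.pullback.lift (lift (u : T ⟶ M) ((u⁻¹ : (T ⟶ M)ˣ) : T ⟶ M)) (toUnit T) ?_, ?_⟩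
    · rw [hpt]
      simp
    · rw [incl, ← Category.assoc, Limits.pullback.lift_fst, lift_fst]

/-- any representing mono is isomorphic to the canonical one -/
theorem exists_iso_of_rep (M G : C) [MonObj M] (i : G ⟶ M) [Mono i]
    (hi : ∀ (T : C) (m : T ⟶ M), (∃ g : T ⟶ G, g ≫ i = m) ↔ IsUnit m) :
    ∃ e : G ≅ Limits.pullback (φ M) (υ M), e.hom ≫ incl M = i := by
  obtain ⟨a, ha⟩ := (hi _ (incl M)).mpr ((factors_iff M (incl M)).mp ⟨𝟙 _, Category.id_comp _⟩)
  obtain ⟨b, hb⟩ := (factors_iff M i).mpr ((hi _ i).mp ⟨𝟙 _, Category.id_comp _⟩)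
  refine ⟨⟨b, a, ?_, ?_⟩, hb⟩
  · rw [← cancel_mono i, Category.assoc, ha, hb, Category.id_comp]
  · rw [← cancel_mono (incl M), Category.assoc, hb, ha, Category.id_comp]

end Groth.Agent.H28.UnitsRep
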