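import Mathlib
import Groth.Agent.H28.LocQSp
import Groth.Prelude.Def_W4stkstmodspWNA

/-!
# Affine over well-nigh affine is well-nigh affine
-/

set_option autoImplicit false
set_option linter.style.haveILetI false
set_option backward.isDefEq.respectTransparency false
set_option backward.isDefEq.respectTransparency.types false

namespace Groth.Agent.H28.RepComp

open CategoryTheory CategoryTheory.Limits FibCat AlgebraicGeometry Opposite Stk MorphismProperty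
open Groth.Agent.Helper22 Groth.Agent.Helper22.EquivComp Groth.Agent.Helper22.FpSq
open Groth.Agent.Helper22.FpEquiv Groth.Agent.H28.LiftFp
open Groth.Agent.H28.FpBase Groth.Agent.H28.PshDict Groth.Agent.H28.IsoCl
open Groth.Agent.H25.AS

universe w u

variable {S : Scheme.{u}} {𝒳 𝒴 𝒵 : AlgSt.Cat S}

theorem isEquivOver_ofSpMap_iso {F G : AlgSp.Sp S} (e : F ≅ G) :
    FibCat.IsEquivOver (AlgSt.ofSpMap e.hom) := by
  have e1 : BasedFunctor.comp (AlgSt.ofSpMap e.hom) (AlgSt.ofSpMap e.inv) ≅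
      AlgSt.ofSpMap (e.hom ≫ e.inv) := Iso.refl _
  have e2 : BasedFunctor.comp (AlgSt.ofSpMap e.inv) (AlgSt.ofSpMap e.hom) ≅
      AlgSt.ofSpMap (e.inv ≫ e.hom) := Iso.refl _
  have e3 : AlgSt.ofSpMap (𝟙 F) ≅ BasedFunctor.id (AlgSt.ofSp F) := Iso.refl _
  have e4 : AlgSt.ofSpMap (𝟙 G) ≅ BasedFunctor.id (AlgSt.ofSp G) := Iso.refl _
  exact ⟨AlgSt.ofSpMap e.inv, ⟨e1 ≪≫ eqToIso (by rw [e.hom_inv_id]) ≪≫ e3⟩,
    ⟨e2 ≪≫ eqToIso (by rw [e.inv_hom_id]) ≪≫ e4⟩⟩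

theorem isWellNighAffine_of_affine {𝒳' : AlgSt.Cat S} (hw : AlgSt.IsWellNighAffine 𝒳)
    (f : 𝒳' ⥤ᵇ 𝒳) (hf : AlgSt.RepByAlgSpWith AlgSp.IsAffineMor f) :
    AlgSt.IsWellNighAffine 𝒳' := by
  obtain ⟨U, x, hU, hx⟩ := hw
  obtain ⟨F, e, he, ha⟩ := hf U x
  obtain ⟨W, i, fst, sq, hW⟩ := ha hU (𝟙 _)
  haveI : IsIso fst := sq.isIso_fst_of_isIso
  have hE1 : FibCat.IsEquivOver (AlgSt.ofSpMap fst) := isEquivOver_ofSpMap_iso (asIso fst)
  have hE2 : FibCat.IsEquivOver (chartFun fst) :=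
    isEquivOver_comp _ _ (isEquivOver_ofOverCat W) hE1
  have hE : FibCat.IsEquivOver (BasedFunctor.comp (chartFun fst) e) :=
    isEquivOver_comp _ _ hE2 he
  refine ⟨W, BasedFunctor.comp (BasedFunctor.comp (chartFun fst) e) (FibCat.fpSnd x f), hW, ?_⟩
  exact repByAlgSpWith_of_sq' _ (FibCat.fpSnd x f) _ (BasedFunctor.comp (chartFun fst) e)
    (BasedFunctor.id _) hE isEquivOver_id (Iso.refl _) (repByAlgSpWith_fpSnd _ f x hx)

end Groth.Agent.H28.RepComp
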